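/-
Blocks with a prescribed defect group from classes separated by `p`-elements, after Robinson.
-/
import Cfsg.Agent.Lib.Blocks.Induced
import Cfsg.Agent.Lib.Blocks.Section
import Cfsg.Agent.Lib.Blocks.Heights
import Cfsg.Agent.Lib.Blocks.Misc
import Cfsg.Agent.Lib.Char.PiPart

set_option linter.unusedSectionVars false
set_option linter.style.haveILetI false
set_option maxHeartbeats 800000

namespace Cfsg.Agent.BrauerPairs

open Cfsg Cfsg.Agent.Blocks Cfsg.Agent.Char MonoidAlgebra
open scoped ComplexConjugate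

universe u

variable {G : Type u} [Group G] [Fintype G] {p : ℕ} {M : Ideal AlgInt} [M.IsPrime]

/-- Some minor of the right factor is a unit when the product is a unit. -/
theorem exists_det_comp_ne_zero {k ι : Type*} [CommRing k] [Fintype ι] {r : ℕ}
    (U : Matrix (Fin r) ι k) (W : Matrix ι (Fin r) k) (h : (U * W).det ≠ 0) :
    ∃ s : Fin r → ι, (Matrix.of fun i j => W (s i) j).det ≠ 0 := by
  classical
  by_contra hne
  push Not at hne
  refine h ?_
  have e : (U * W).det = Matrix.detRowAlternating (fun i => ∑ l : ι, U i l • W l) := by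
    refine congrArg Matrix.detRowAlternating (funext fun i => funext fun j => ?_)
    simp [Matrix.mul_apply]
  rw [e, ← AlternatingMap.coe_multilinearMap, MultilinearMap.map_sum]
  refine Finset.sum_eq_zero fun s _ => ?_
  rw [MultilinearMap.map_smul_univ]
  exact smul_eq_zero_of_right _ (hne s)

/-- The indicator of the `p`-elements has local coefficients. -/
theorem exists_indicator_expansion (hM : IsPModular p M) :
    ∃ c : IrrCharacter G → ℂ, (∀ χ, MemLocalRing M (c χ)) ∧
      ∀ g : G, ((∃ k, orderOf g = p ^ k) → ∑ χ : IrrCharacter G, c χ * (χ : G → ℂ) g = 1) ∧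
        ((¬ ∃ k, orderOf g = p ^ k) → ∑ χ : IrrCharacter G, c χ * (χ : G → ℂ) g = 0) := by
  classical
  set m := p ^ (Nat.card G).factorization p with hm
  set n := ordPrime p G with hn
  have hmn : Nat.card G = m * n := (Nat.ordProj_mul_ordCompl_eq_self _ _).symm
  have hcop : Nat.Coprime m n :=
    ((hM.1.coprime_iff_not_dvd.2 (not_dvd_ordPrime hM.1)).pow_left _)
  let θ : G → ℂ := fun g => if g ^ m = 1 then (n : ℂ) else 0
  have hx : ∀ x : G, x ^ (n * m) = 1 := fun x => by rw [mul_comm, ← hmn, pow_card_eq_one']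
  have hiff : ∀ x : G, IsConj (x ^ hallExp hcop.symm) 1 ↔ x ^ m = 1 := fun x => by
    rw [isConj_one_left, hallExp_eq_one_iff hcop.symm (hx x)]
  have hθc : IsClassFunction G θ := fun a b => by
    simp only [θ, conj_pow, mul_inv_eq_one, mul_eq_left]
  refine ⟨fun χ => classInner θ (χ : G → ℂ) * (n : ℂ)⁻¹, fun χ => ?_, fun g => ?_⟩
  · refine mem_locRing.1 ((locRing M).mul_mem (mem_locRing_of_isIntegral
      (isIntegral_classInner_hallClass hmn hcop 1 θ (fun x h => if_pos ((hiff x).1 h))
        (fun x h => if_neg fun e => h ((hiff x).2 e)) (irr_isCharacter χ))) (inv_ordPrime_mem hM))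
  · have h := congrFun (classFunction_eq_sum hθc) g
    simp only [Finset.sum_apply, Pi.smul_apply, smul_eq_mul] at h
    have e : ∑ χ : IrrCharacter G, classInner θ (χ : G → ℂ) * (n : ℂ)⁻¹ * (χ : G → ℂ) g =
        θ g * (n : ℂ)⁻¹ := by
      rw [h, Finset.sum_mul]
      exact Finset.sum_congr rfl fun χ _ => by ring
    have hpk : (∃ k, orderOf g = p ^ k) ↔ g ^ m = 1 := by
      refine ⟨fun ⟨k, hk⟩ => ?_, fun hg => ?_⟩
      · rw [← orderOf_dvd_iff_pow_eq_one, hk, hm]
        refine pow_dvd_pow p ?_
        exact (hM.1.pow_dvd_iff_le_factorization Nat.card_pos.ne').1 (hk ▸ orderOf_dvd_natCard g)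
      · obtain ⟨k, -, hk⟩ := (Nat.dvd_prime_pow hM.1).1 (orderOf_dvd_of_pow_eq_one hg)
        exact ⟨k, hk⟩
    refine ⟨fun hg => ?_, fun hg => ?_⟩ <;> rw [e] <;> simp only [θ]
    · rw [if_pos (hpk.1 hg)]
      exact mul_inv_cancel₀ (Nat.cast_ne_zero.2 ordPrime_ne_zero)
    · rw [if_neg fun h => hg (hpk.2 h), zero_mul]

/-- An invariant set times a fixed element, averaged. -/
theorem sum_mul_invariant (χ : IrrCharacter G) (T : Finset G)
    (hT : ∀ u t : G, t ∈ T → u * t * u⁻¹ ∈ T) (g : G) :
    ∑ t ∈ T, (χ : G → ℂ) (g * t) =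
      (χ : G → ℂ) g * ((∑ t ∈ T, (χ : G → ℂ) t) / (χ : G → ℂ) 1) := by
  classical
  have hG : (Nat.card G : ℂ) ≠ 0 := Nat.cast_ne_zero.2 Nat.card_pos.ne'
  refine mul_left_cancel₀ hG ?_
  have h1 : ∀ u : G, ∑ t ∈ T, (χ : G → ℂ) (g * t) = ∑ t ∈ T, (χ : G → ℂ) (u⁻¹ * t * u * g) := by
    intro u
    refine Finset.sum_bij (fun t _ => u * t * u⁻¹) (fun t ht => hT u t ht)
      (fun a _ b _ e => by simpa using e) (fun t ht => ⟨u⁻¹ * t * u, ?_, by group⟩) fun t _ => ?_
    · have := hT u⁻¹ t ht
      rwa [inv_inv] at this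
    · rw [show u⁻¹ * (u * t * u⁻¹) * u * g = t * g by group, ← irr_conj_invariant χ (g * t) t]
      congr 1
      group
  calc (Nat.card G : ℂ) * ∑ t ∈ T, (χ : G → ℂ) (g * t)
      = ∑ u : G, ∑ t ∈ T, (χ : G → ℂ) (u⁻¹ * t * u * g) := by
        rw [← Finset.sum_congr rfl fun u _ => h1 u, Finset.sum_const, Finset.card_univ,
          nsmul_eq_mul, Nat.card_eq_fintype_card]
    _ = _ := by
        rw [Finset.sum_comm, Finset.sum_congr rfl fun t _ => irr_sum_conj_mul χ t g,
          Finset.sum_div, Finset.mul_sum, Finset.mul_sum]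
        exact Finset.sum_congr rfl fun t _ => by ring

/-- The block of `G` under a block of the centraliser of a `p`-subgroup, with its bound. -/
theorem exists_block_over_centralizer (hM : IsPModular p M) {D : Subgroup G} (hD : IsPGroup p D)
    {C : Subgroup G} (hC : C = Subgroup.centralizer (D : Set G)) [Fintype C] (ξ : IrrCharacter C) :
    ∃ χ : IrrCharacter G,
      (∀ g : G, MemLocalIdeal M (inducedCentralChar C
        (ξ : C → ℂ) g - centralChar (χ : G → ℂ) g)) ∧
      ∀ B : Set (IrrCharacter G), IsPBlock M B → χ ∈ B →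
        ∃ c : G, c ∈ C ∧ ¬ MemLocalIdeal M (blockCoeff B c) := by
  classical
  haveI := Fact.mk hM.1
  haveI : CharP (resField M) p := resField_charP hM
  have hN : C ≤ Subgroup.normalizer (D : Set G) := by
    intro c hc
    rw [hC] at hc
    refine Subgroup.mem_normalizer_iff.2 fun n => ⟨fun hn => ?_, fun hn => ?_⟩
    · rwa [← (Subgroup.mem_centralizer_iff.1 hc n hn), mul_inv_cancel_right]
    · have h := Subgroup.mem_centralizer_iff.1 (inv_mem hc) _ hn
      have e : c * n * c⁻¹ = n := by
        have : c⁻¹ * (c * n * c⁻¹) * c = c * n * c⁻¹ := by rw [← h, inv_mul_cancel_right]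
        simpa [mul_assoc] using this.symm
      rwa [e] at hn
  have hpush : ∀ x : MonoidAlgebra (locRing M) G, pushElt D C x = restrictElt C x := fun x =>
    gaExt fun h => by rw [coeff_pushElt, if_pos (hC.le h.2), coeff_restrictElt]
  obtain ⟨B, hB, hcong⟩ := exists_block_of_functional (M := M)
    (fun x : MonoidAlgebra (locRing M) G => omegaR ξ (pushElt D C x))
    (fun x hx => omegaR_memLocalRing ξ (IsClassElt.pushElt hN hx))
    (fun x y => by rw [pushElt_add, omegaR_add])
    (fun c x => by rw [pushElt_smul, omegaR_smul])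
    (by rw [pushElt_one, omegaR_one])
    (fun x y hx hy => by
      rw [← omegaR_mul ξ (IsClassElt.pushElt hN hx) (IsClassElt.pushElt hN hy), ← omegaR_sub]
      refine omegaR_mem_of_resG_eq_zero ξ (IsClassElt.sub (IsClassElt.pushElt hN
        (IsClassElt.mul hx hy)) (IsClassElt.mul (IsClassElt.pushElt hN hx)
        (IsClassElt.pushElt hN hy))) ?_
      have hxr : IsClassElt (resG x) := IsClassElt.map hx _
      have hyr : IsClassElt (resG y) := IsClassElt.map hy _
      rw [map_sub, map_mul, resG_pushElt, resG_pushElt, resG_pushElt, map_mul,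
        pushElt_mul hD hC.ge hxr hyr, sub_self])
    (fun x hx h => omegaR_mem_of_resG_eq_zero ξ (IsClassElt.pushElt hN hx) (by
      rw [resG_pushElt, h]
      exact gaExt fun k => by simp [coeff_pushElt]))
  obtain ⟨χ, hχ⟩ := isPBlock_nonempty hB
  refine ⟨χ, fun g => ?_, fun B' hB' hχ' => ?_⟩
  · have h := hcong χ hχ _ (isClassElt_classSum g)
    rwa [omegaR_classSum, hpush, ← inducedCentralChar_eq] at h
  · obtain rfl : B' = B := isPBlock_eq_of_mem hB' hB hχ' hχ
    by_contra hne
    push Not at hne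
    have he := isClassElt_blockEltR (M := M) B'
    have h0 : MemLocalIdeal M (omegaR ξ (pushElt D C (blockEltR M B'))) := by
      refine omegaR_mem_of_resG_eq_zero ξ (IsClassElt.pushElt hN he) (gaExt fun h => ?_)
      rw [coeff_resG, coeff_pushElt, if_pos (hC.le h.2), res_eq_zero_iff.2]
      · simp
      · rw [coeff_blockEltR hB']
        exact hne h h.2
    have h1 := hcong χ hχ _ he
    rw [omegaR_blockEltR hB', if_pos hχ] at h1
    exact not_memLocalIdeal_one (M := M) (by simpa using MemLocalIdeal.sub h0 h1)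

/-- Robinson: separated classes give blocks with the given defect group. -/
theorem exists_blocks_of_separated (hM : IsPModular p M) [Fact p.Prime] (D : Subgroup G) {r : ℕ}
    (x : Fin r → G) (hx : ∀ i j : Fin r, IsConj (x i) (x j) → i = j)
    (S : ∀ i, Sylow p (Subgroup.centralizer ({x i} : Set G)))
    (hD : ∀ i, sylowImage (S i) = D)
    (hsep : ∀ i j : Fin r, ∀ g h : G, IsConj (x i) g → IsConj (x j) h →
      ∀ k : ℕ, 0 < k → orderOf (g * h⁻¹) ≠ p ^ k) :
    ∃ B : Fin r → Set (IrrCharacter G), Function.Injective B ∧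
      (∀ i, IsPBlock M (B i) ∧ IsDefectGroup p M (B i) D) ∧
      ∀ χ : Fin r → IrrCharacter G,
        (∀ i, χ i ∈ B i ∧ blockHeight p (B i) (χ i : G → ℂ) = 0) →
        ¬ MemLocalIdeal M (Matrix.det (Matrix.of fun i j : Fin r => (χ i : G → ℂ) (x j))) := by
  classical
  rcases isEmpty_or_nonempty (Fin r) with hr | ⟨⟨i₀⟩⟩
  · exact ⟨fun i => isEmptyElim i, fun i => isEmptyElim i, fun i => isEmptyElim i, fun χ _ => by
      rw [Matrix.det_isEmpty]; exact not_memLocalIdeal_one⟩
  have hDp : IsPGroup p D := hD i₀ ▸ isPGroup_sylowImage _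
  obtain ⟨C, hC⟩ : ∃ C : Subgroup G, C = Subgroup.centralizer (D : Set G) := ⟨_, rfl⟩
  haveI : Fintype C := Fintype.ofFinite _
  have hxC : ∀ i, x i ∈ C := fun i => hC.ge (mem_centralizer_of_le (hD i ▸ sylowImage_le (S i)))
  obtain ⟨c, hc, hexp⟩ := exists_indicator_expansion (G := C) hM
  choose ψ hψ hψD using fun ξ : IrrCharacter C => exists_block_over_centralizer hM hDp hC ξ
  let U : Matrix (Fin r) (IrrCharacter C) (locRing M) := Matrix.of fun i ξ =>
    ⟨c ξ * (ξ : C → ℂ) ⟨x i, hxC i⟩⁻¹,
      mem_locRing.2 ((locRing M).mul_mem (hc ξ) (irr_memLocalRing ξ _))⟩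
  let W : Matrix (IrrCharacter C) (Fin r) (locRing M) := Matrix.of fun ξ j =>
    ⟨centralChar (ψ ξ : G → ℂ) (x j), centralChar_memLocalRing _ _⟩
  have hUW : (U * W).map (res M) = 1 := by
    refine Matrix.ext fun i j => ?_
    set T := Finset.univ.filter fun t : C => IsConj (x j) (t : G) with hT
    have hTinv : ∀ u t : C, t ∈ T → u * t * u⁻¹ ∈ T := fun u t ht =>
      Finset.mem_filter.2 ⟨Finset.mem_univ _, (Finset.mem_filter.1 ht).2.trans
        (isConj_iff.2 ⟨(u : G), rfl⟩)⟩
    set g : C := ⟨x i, hxC i⟩⁻¹ with hg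
    have hind : ∀ ξ : IrrCharacter C, inducedCentralChar C (ξ : C → ℂ) (x j) =
        (∑ t ∈ T, (ξ : C → ℂ) t) / (ξ : C → ℂ) 1 := fun ξ => by
      rw [inducedCentralChar, finsum_mem_eq_finite_toFinset_sum _ (Set.toFinite _),
        Finset.sum_div]
      exact Finset.sum_congr (by ext; simp [T]) fun _ _ => rfl
    have hdelta : ∀ t ∈ T, (∃ k, orderOf (g * t) = p ^ k) → i = j ∧
        (t : G) = x i := by
      intro t ht hpow
      have ht' := (Finset.mem_filter.1 ht).2
      obtain ⟨k, hk⟩ := hpow
      have ho : orderOf ((t : G) * (x i)⁻¹) = p ^ k := by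
        rw [← hk, ← Subgroup.orderOf_coe, hg]
        rw [← MulEquiv.orderOf_eq (MulAut.conj (t : G))
          (((⟨x i, hxC i⟩⁻¹ * t : C)) : G)]
        congr 1
        simp [mul_assoc]
      rcases Nat.eq_zero_or_pos k with rfl | hk0
      · rw [pow_zero, orderOf_eq_one_iff, mul_inv_eq_one] at ho
        exact ⟨hx i j (ho ▸ ht').symm, ho⟩
      · exact absurd ho (hsep j i _ _ ht' (IsConj.refl _) k hk0)
    have hsum : ∑ ξ : IrrCharacter C, c ξ * (ξ : C → ℂ) g *
        inducedCentralChar C (ξ : C → ℂ) (x j) = if i = j then 1 else 0 := by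
      calc ∑ ξ : IrrCharacter C, c ξ * (ξ : C → ℂ) g * inducedCentralChar C (ξ : C → ℂ) (x j)
          = ∑ t ∈ T, ∑ ξ : IrrCharacter C, c ξ * (ξ : C → ℂ) (g * t) := by
            rw [Finset.sum_comm]
            refine Finset.sum_congr rfl fun ξ _ => ?_
            rw [← Finset.mul_sum, sum_mul_invariant ξ T hTinv g, hind, mul_assoc]
        _ = ∑ t ∈ T, if (∃ k, orderOf (g * t) = p ^ k) then (1 : ℂ) else 0 :=
            Finset.sum_congr rfl fun t _ => by
              split_ifs with h
              · exact (hexp _).1 h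
              · exact (hexp _).2 h
        _ = _ := by
            split_ifs with hij
            · subst hij
              rw [Finset.sum_eq_single ⟨x i, hxC i⟩]
              · rw [if_pos]
                exact ⟨0, by rw [hg, inv_mul_cancel, orderOf_one, pow_zero]⟩
              · intro t ht hne
                exact if_neg fun h => hne (Subtype.ext (hdelta t ht h).2)
              · intro h
                exfalso
                apply h
                rw [hT, Finset.mem_filter]
                exact ⟨Finset.mem_univ _, IsConj.refl (x i)⟩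
            · exact Finset.sum_eq_zero fun t ht => if_neg fun h => hij (hdelta t ht h).1
    have hcongr : MemLocalIdeal M (((U * W) i j : ℂ) - if i = j then 1 else 0) := by
      rw [← hsum, Matrix.mul_apply, AddSubmonoidClass.coe_finset_sum, ← Finset.sum_sub_distrib]
      refine memLocalIdeal_sum _ _ fun ξ _ => ?_
      have := MemLocalIdeal.mul_left
        (mem_locRing.1 ((locRing M).mul_mem (hc ξ) (irr_memLocalRing ξ g)))
        (MemLocalIdeal.neg (hψ ξ (x j)))
      rw [neg_sub, mul_sub] at this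
      exact this
    rw [Matrix.map_apply, Matrix.one_apply, ← map_one (res M), ← map_zero (res M),
      ← apply_ite (res M), res_eq_res_iff]
    split_ifs with hij <;> simpa [hij] using hcongr
  have hdet : ((U.map (res M)) * (W.map (res M))).det ≠ 0 := by
    rw [← Matrix.map_mul, hUW, Matrix.det_one]
    exact one_ne_zero
  obtain ⟨s, hs⟩ := exists_det_comp_ne_zero _ _ hdet
  let B : Fin r → Set (IrrCharacter G) := fun i => blockOf M (ψ (s i) : G → ℂ)
  have hB : ∀ i, IsPBlock M (B i) := fun i => isPBlock_blockOf _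
  have hω : ∀ i, ∀ χ ∈ B i, ∀ j, MemLocalIdeal M
      (centralChar (χ : G → ℂ) (x j) - centralChar (ψ (s i) : G → ℂ) (x j)) := fun i χ hχ j =>
    isPBlock_sameBlock (hB i) hχ (self_mem_blockOf _) _
  have hdef : ∀ i, IsDefectGroup p M (B i) D := by
    intro i
    obtain ⟨j, hj⟩ : ∃ j, ¬ MemLocalIdeal M (centralChar (ψ (s i) : G → ℂ) (x j)) := by
      by_contra hne
      push Not at hne
      refine hs (Matrix.det_eq_zero_of_row_eq_zero i fun j => ?_)
      simp only [Matrix.of_apply, Matrix.map_apply, W]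
      exact res_eq_zero_iff.2 (hne j)
    obtain ⟨g, hg⟩ := exists_defectClass (hB i)
    obtain ⟨P⟩ : Nonempty (Sylow p (Subgroup.centralizer ({g} : Set G))) := inferInstance
    obtain ⟨e, he, heu⟩ := hψD (s i) _ (hB i) (self_mem_blockOf _)
    obtain ⟨y, hy⟩ := exists_conj_le_of_coeff hM (hB i) hg heu P hDp (hC.le he)
    obtain ⟨z, hz, hzP⟩ := exists_conj_centralizing_defect hM (hB i) hg (self_mem_blockOf _) hj P
    obtain ⟨w, hw⟩ := exists_conj_le_sylowImage hz (isPGroup_sylowImage P) hzP (S j)
    rw [hD j] at hw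
    have h1 := Subgroup.card_le_of_le hw
    rw [Subgroup.card_map_of_injective (MulAut.conj w).injective] at h1
    have h2 : D = (sylowImage P).map (MulAut.conj y).toMonoidHom :=
      Subgroup.eq_of_le_of_card_ge hy
        (by rwa [Subgroup.card_map_of_injective (MulAut.conj y).injective])
    rw [h2]
    exact IsDefectGroup.map_conj ⟨g, hg, P, rfl⟩ y
  refine ⟨B, fun a b hab => ?_, fun i => ⟨hB i, hdef i⟩, fun χ hχ => ?_⟩
  · by_contra hne
    refine hs (Matrix.det_zero_of_row_eq hne (funext fun j => ?_))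
    simp only [Matrix.of_apply, Matrix.map_apply, W, res_eq_res_iff]
    exact hω b _ (hab ▸ self_mem_blockOf _) j
  · set d := classExp p (x i₀) with hd
    have hcardD : ∀ j, classExp p (x j) = d := fun j => by
      have h1 := card_sylowImage (S j)
      have h2 := card_sylowImage (S i₀)
      rw [hD j] at h1
      rw [hD i₀, h1] at h2
      exact Nat.pow_right_injective hM.1.two_le h2
    set e := (Nat.card G).factorization p - d with he
    let a : Fin r → ℂ := fun i => (charDegree (χ i : G → ℂ) : ℂ) / ((p ^ e : ℕ) : ℂ)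
    let b : Fin r → ℂ := fun j => ((p ^ e : ℕ) : ℂ) /
      ((Subgroup.centralizer ({x j} : Set G)).index : ℂ)
    have hea : ∀ i, (charDegree (χ i : G → ℂ)).factorization p = e := fun i => by
      have h1 := (blockHeight_eq_zero_iff hM (hB i) (hχ i).1).1 (hχ i).2
      have hdB := card_defectGroup hM (hB i) (hdef i)
      rw [h1, he]
      congr 1
      rw [← hD i₀, card_sylowImage] at hdB
      exact (Nat.pow_right_injective hM.1.two_le hdB).symm
    have heb : ∀ j, ((Subgroup.centralizer ({x j} : Set G)).index).factorization p = e := fun j => by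
      rw [index_centralizer_factorization]
      show _ - classExp p (x j) = e
      rw [hcardD]
    have hp0 : p ^ e ≠ 0 := pow_ne_zero _ hM.1.ne_zero
    have hfp : (p ^ e).factorization p = e := by
      rw [hM.1.factorization_pow, Finsupp.single_eq_same]
    have ha : ∀ i, MemLocalRing M (a i) ∧ ¬ MemLocalIdeal M (a i) := fun i =>
      ⟨memLocalRing_natDiv hM (le_of_eq (by rw [hfp, hea i])),
        not_memLocalIdeal_natDiv hM hp0 (charDegree_pos _).ne' (le_of_eq (by rw [hfp, hea i]))⟩
    have hb : ∀ j, MemLocalRing M (b j) ∧ ¬ MemLocalIdeal M (b j) := fun j =>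
      ⟨memLocalRing_natDiv hM (le_of_eq (by rw [hfp, heb j])),
        not_memLocalIdeal_natDiv hM Subgroup.index_ne_zero_of_finite hp0
          (le_of_eq (by rw [hfp, heb j]))⟩
    have hent : ∀ i j, (χ i : G → ℂ) (x j) = a i * centralChar (χ i : G → ℂ) (x j) * b j := by
      intro i j
      have h0 : (charDegree (χ i : G → ℂ) : ℂ) ≠ 0 := Nat.cast_ne_zero.2 (charDegree_pos _).ne'
      have h1 : ((Subgroup.centralizer ({x j} : Set G)).index : ℂ) ≠ 0 :=
        Nat.cast_ne_zero.2 Subgroup.index_ne_zero_of_finite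
      have h2 : ((p ^ e : ℕ) : ℂ) ≠ 0 := Nat.cast_ne_zero.2 hp0
      simp only [a, b, centralChar, irr_one_eq_charDegree (χ i)]
      field_simp
    let A : Matrix (Fin r) (Fin r) (locRing M) := Matrix.of fun i j =>
      ⟨centralChar (χ i : G → ℂ) (x j), centralChar_memLocalRing _ _⟩
    have hA : A.map (res M) = Matrix.of fun i j => (W.map (res M)) (s i) j := by
      refine Matrix.ext fun i j => ?_
      simp only [Matrix.of_apply, Matrix.map_apply, A, W, res_eq_res_iff]
      exact hω i _ (hχ i).1 j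
    have hAu : ¬ MemLocalIdeal M ((A.det : locRing M) : ℂ) := fun h => by
      refine hs ?_
      rw [← hA, ← RingHom.mapMatrix_apply, ← RingHom.map_det, res_eq_zero_iff]
      exact h
    let a' : Fin r → locRing M := fun i => ⟨a i, (ha i).1⟩
    let b' : Fin r → locRing M := fun i => ⟨b i, (hb i).1⟩
    have key : (Matrix.of fun i j : Fin r => (χ i : G → ℂ) (x j)).det =
        (((∏ i, a' i) * A.det * ∏ j, b' j : locRing M) : ℂ) := by
      have e1 : (Matrix.of fun i j : Fin r => (χ i : G → ℂ) (x j)) =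
          (Matrix.diagonal a' * A * Matrix.diagonal b').map (Subring.subtype (locRing M)) := by
        refine Matrix.ext fun i j => ?_
        simp only [Matrix.of_apply, Matrix.map_apply, Matrix.mul_diagonal, Matrix.diagonal_mul]
        exact hent i j
      rw [e1, ← RingHom.mapMatrix_apply, ← RingHom.map_det, Matrix.det_mul, Matrix.det_mul,
        Matrix.det_diagonal, Matrix.det_diagonal]
      rfl
    rw [key]
    intro h
    rw [← res_eq_zero_iff, map_mul, map_mul, map_prod, map_prod, mul_eq_zero, mul_eq_zero,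
      Finset.prod_eq_zero_iff, Finset.prod_eq_zero_iff] at h
    rcases h with (⟨i, -, hi⟩ | h) | ⟨j, -, hj⟩
    · exact (ha i).2 (res_eq_zero_iff.1 hi)
    · exact hAu (res_eq_zero_iff.1 h)
    · exact (hb j).2 (res_eq_zero_iff.1 hj)

end Cfsg.Agent.BrauerPairs
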