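/-
Suzuki's orthogonality relations for the principal block on a set of p-elements.
-/
import Cfsg.Agent.Lib.Blocks.SecondMain
import Cfsg.Agent.Lib.Char.Complete
import Cfsg.Agent.Lib.Char.Induction
import Cfsg.Agent.Lib.BrauerPairs.SeparatedClasses

set_option linter.unusedSectionVars false
set_option linter.style.haveILetI false

namespace Cfsg.Agent.BrauerPairs

open Cfsg Cfsg.Agent.Blocks Cfsg.Agent.Char
open scoped ComplexConjugate

universe u

variable {G : Type u} [Group G] [Fintype G] {p : ℕ} {M : Ideal AlgInt} [M.IsPrime]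

/-- The sum of the squares of the degrees over a set of characters. -/
noncomputable def degSq (B : Set (IrrCharacter G)) : ℕ :=
  ∑ᶠ χ ∈ B, charDegree (χ : G → ℂ) ^ 2

theorem blockPair_one_one (B : Set (IrrCharacter G)) : blockPair B 1 1 = (degSq B : ℂ) := by
  classical
  rw [degSq, finsum_mem_eq_finite_toFinset_sum _ (Set.toFinite B), Nat.cast_sum]
  unfold blockPair
  refine Finset.sum_congr (by ext; simp) fun χ _ => ?_
  rw [conj_irr_one, irr_one_eq_charDegree, Nat.cast_pow, sq]

theorem isPPart_self (hp : p.Prime) {x : G} (hx : ∃ k, orderOf x = p ^ k) : IsPPart p x x :=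
  ⟨1, by simp, by simp, hx, by simp [hp.ne_one]⟩

/-- The principal block on two `p`-elements. -/
theorem blockPair_principal_pElements (hM : IsPModular p M) {y x : G}
    (hy : ∃ k, orderOf y = p ^ k) (hx : ∃ k, orderOf x = p ^ k)
    [Fintype (Subgroup.centralizer ({y} : Set G))] [Decidable (IsConj y x)] :
    blockPair (principalBlock M G) y⁻¹ x⁻¹ =
      if IsConj y x then
        (degSq (principalBlock M (Subgroup.centralizer ({y} : Set G))) : ℂ) else 0 := by
  classical
  have e : blockPair (principalBlock M G) y⁻¹ x⁻¹ =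
      conj (blockPair (principalBlock M G) y x) := by
    unfold blockPair
    rw [map_sum]
    exact Finset.sum_congr rfl fun χ _ => by rw [irr_inv, irr_inv, map_mul]
  rw [e]
  split_ifs with h
  · obtain ⟨c, rfl⟩ := isConj_iff.1 h
    have h1 := sum_normSq_section_principal hM hy (C := Subgroup.centralizer ({y} : Set G)) rfl
      (y := 1) (by simpa using hM.1.ne_one)
    rw [OneMemClass.coe_one, mul_one, blockPair_one_one] at h1
    have h2 : blockPair (principalBlock M G) y (c * y * c⁻¹) =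
        blockPair (principalBlock M G) y y := by
      unfold blockPair
      exact Finset.sum_congr rfl fun χ _ => by rw [irr_conj_invariant χ y c]
    rw [h2, h1, map_natCast]
  · rw [blockPair_eq_zero_of_pPart hM (isPBlock_principalBlock M G) (isPPart_self hM.1 hy)
      (isPPart_self hM.1 hx) h, map_zero]

/-- Suzuki's inner products. -/
theorem suzuki_inner (hM : IsPModular p M) (P N : Subgroup G) [Fintype P] [Fintype N]
    (hP : IsPGroup p P) (hNN : N ≤ Subgroup.normalizer (P : Set G)) (U : Set G)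
    (hUP : U ⊆ (P : Set G))
    (hfus : ∀ u ∈ U, ∀ g : G, g * u * g⁻¹ ∈ (P : Set G) →
      ∃ n ∈ N, n * u * n⁻¹ = g * u * g⁻¹) (w : ℂ)
    (hw : ∀ y ∈ U, (degSq (principalBlock M (Subgroup.centralizer ({y} : Set G))) : ℂ) =
      w * Nat.card ↥(N ⊓ Subgroup.centralizer ({y} : Set G)))
    (θ η : P → ℂ) (hθU : ∀ y : P, (y : G) ∉ U → θ y = 0)
    [DecidablePred (· ∈ principalBlock M G)] :
    ∑ χ ∈ Finset.univ.filter (· ∈ principalBlock M G),
        ((Nat.card P : ℂ)⁻¹ * ∑ y : P, (χ : G → ℂ) (y : G) * θ y⁻¹) *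
          conj ((Nat.card P : ℂ)⁻¹ * ∑ y : P, (χ : G → ℂ) (y : G) * η y⁻¹) =
      w / (Nat.card P : ℂ) ^ 2 *
        ∑ y : P, θ y * conj (∑ n : N, extendByZero P η ((n : G) * (y : G) * (n : G)⁻¹)) := by
  classical
  haveI : Fact p.Prime := ⟨hM.1⟩
  have hpel : ∀ y : P, ∃ k, orderOf (y : G) = p ^ k := fun y => by
    obtain ⟨k, hk⟩ := IsPGroup.iff_orderOf.1 hP y
    exact ⟨k, by rw [Subgroup.orderOf_coe, hk]⟩
  calc ∑ χ ∈ Finset.univ.filter (· ∈ principalBlock M G),
        ((Nat.card P : ℂ)⁻¹ * ∑ y : P, (χ : G → ℂ) (y : G) * θ y⁻¹) *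
          conj ((Nat.card P : ℂ)⁻¹ * ∑ y : P, (χ : G → ℂ) (y : G) * η y⁻¹)
      = ((Nat.card P : ℂ) ^ 2)⁻¹ * ∑ y : P, ∑ x : P,
          θ y⁻¹ * conj (η x⁻¹) * blockPair (principalBlock M G) (y : G) (x : G) := by
        unfold blockPair
        simp only [map_mul, map_inv₀, map_natCast, map_sum, Finset.mul_sum, Finset.sum_mul]
        rw [Finset.sum_comm]
        conv_rhs => rw [Finset.sum_comm]
        refine Finset.sum_congr rfl fun y _ => ?_
        rw [Finset.sum_comm]
        refine Finset.sum_congr rfl fun x _ => ?_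
        exact Finset.sum_congr (by congr) fun χ _ => by ring
    _ = ((Nat.card P : ℂ) ^ 2)⁻¹ * ∑ y : P, ∑ x : P,
          θ y * conj (η x) * blockPair (principalBlock M G) (y : G)⁻¹ (x : G)⁻¹ := by
        congr 1
        refine Fintype.sum_equiv (Equiv.inv P) _ _ fun y => ?_
        refine Fintype.sum_equiv (Equiv.inv P) _ _ fun x => ?_
        simp
    _ = _ := by
        rw [div_eq_inv_mul, mul_assoc, Finset.mul_sum (a := w)]
        congr 1
        refine Finset.sum_congr rfl fun y _ => ?_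
        by_cases hy : (y : G) ∈ U
        swap
        · simp [hθU y hy]
        haveI : Fintype (Subgroup.centralizer ({(y : G)} : Set G)) := Fintype.ofFinite _
        have hfib : ∑ n : N, extendByZero P η ((n : G) * (y : G) * (n : G)⁻¹) =
            ∑ x : P, if IsConj (y : G) (x : G) then
              (Nat.card ↥(N ⊓ Subgroup.centralizer ({(y : G)} : Set G)) : ℂ) * η x else 0 := by
          have hmem : ∀ n : N, (n : G) * (y : G) * (n : G)⁻¹ ∈ P := fun n =>
            (Subgroup.mem_normalizer_iff.1 (hNN n.2) _).1 y.2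
          rw [← Finset.sum_fiberwise Finset.univ (fun n : N => (⟨_, hmem n⟩ : P))]
          refine Finset.sum_congr rfl fun x _ => ?_
          rw [Finset.sum_congr rfl (g := fun _ => η x) fun n hn => by
            rw [← (Finset.mem_filter.1 hn).2]
            exact Subtype.val_injective.extend_apply η 0 (⟨_, hmem n⟩ : P), Finset.sum_const,
            nsmul_eq_mul]
          split_ifs with h
          · obtain ⟨g, hg⟩ := isConj_iff.1 h
            obtain ⟨n₀, hn₀, hn₀y⟩ := hfus _ hy g (hg.symm ▸ x.2)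
            congr 2
            rw [Nat.card_eq_fintype_card, ← Finset.card_univ]
            refine Finset.card_bij' (fun n hn => (⟨n₀⁻¹ * (n : G), ?_⟩ :
                ↥(N ⊓ Subgroup.centralizer ({(y : G)} : Set G))))
              (fun d _ => (⟨n₀ * (d : G), mul_mem hn₀ d.2.1⟩ : N)) (fun _ _ => Finset.mem_univ _)
              (fun d _ => ?_) (fun n _ => Subtype.ext (by simp)) (fun d _ => Subtype.ext (by simp))
            · refine ⟨mul_mem (N.inv_mem hn₀) n.2, Subgroup.mem_centralizer_iff.2 fun q hq => ?_⟩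
              rw [Set.mem_singleton_iff.1 hq]
              have h1 : (n : G) * (y : G) * (n : G)⁻¹ = n₀ * (y : G) * n₀⁻¹ := by
                rw [hn₀y, hg]
                exact congrArg Subtype.val (Finset.mem_filter.1 hn).2
              calc (y : G) * (n₀⁻¹ * (n : G))
                  = n₀⁻¹ * (n₀ * (y : G) * n₀⁻¹) * (n : G) := by group
                _ = n₀⁻¹ * ((n : G) * (y : G) * (n : G)⁻¹) * (n : G) := by rw [h1]
                _ = n₀⁻¹ * (n : G) * (y : G) := by group
            · refine Finset.mem_filter.2 ⟨Finset.mem_univ _, Subtype.ext ?_⟩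
              have h1 := Subgroup.mem_centralizer_iff.1 d.2.2 (y : G) rfl
              show n₀ * (d : G) * (y : G) * (n₀ * (d : G))⁻¹ = (x : G)
              rw [← hg, ← hn₀y, mul_assoc n₀ (d : G), ← h1]
              group
          · rw [mul_eq_zero, Nat.cast_eq_zero, Finset.card_eq_zero, Finset.filter_eq_empty_iff]
            exact Or.inl fun n _ e => h (isConj_iff.2 ⟨(n : G), congrArg Subtype.val e⟩)
        rw [hfib, map_sum, Finset.mul_sum, Finset.mul_sum]
        refine Finset.sum_congr rfl fun x _ => ?_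
        rw [blockPair_principal_pElements hM (hpel y) (hpel x)]
        split_ifs with h
        · rw [hw _ hy, map_mul, map_natCast]; ring
        · simp

/-- Three vanishing sums force equality when one sign occurs only once. -/
theorem eq_of_three_sums {ι : Type*} (s : Finset ι) (a d e : ι → ℝ) (hd : ∀ i ∈ s, 0 < d i)
    (h1 : ∑ i ∈ s, a i * e i ^ 2 / d i = 0) (h2 : ∑ i ∈ s, a i * d i = 0)
    (h3 : ∑ i ∈ s, a i * e i = 0) {i₀ : ι} (hi₀ : i₀ ∈ s) (ha₀ : a i₀ ≠ 0)
    (he₀ : e i₀ = d i₀) [DecidablePred fun i => 0 < a i]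
    (hcard : (s.filter fun i => 0 < a i).card ≤ 1) : ∀ i ∈ s, a i ≠ 0 → e i = d i := by
  classical
  obtain ⟨ψ, hψs, hψ⟩ : ∃ ψ ∈ s, 0 < a ψ := by
    by_contra hne
    push Not at hne
    have hz := (Finset.sum_eq_zero_iff_of_nonpos fun i hi =>
      mul_nonpos_of_nonpos_of_nonneg (hne i hi) (hd i hi).le).1 h2 i₀ hi₀
    exact ha₀ ((mul_eq_zero.1 hz).resolve_right (hd i₀ hi₀).ne')
  have huniq : ∀ i ∈ s, i ≠ ψ → a i ≤ 0 := fun i hi hne => not_lt.1 fun hlt =>
    hne (Finset.card_le_one.1 hcard i (Finset.mem_filter.2 ⟨hi, hlt⟩) ψ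
      (Finset.mem_filter.2 ⟨hψs, hψ⟩))
  set r := e ψ / d ψ with hr
  have hsum : ∑ i ∈ s, a i * (e i - r * d i) ^ 2 / d i = 0 := by
    rw [Finset.sum_congr rfl (g := fun i => a i * e i ^ 2 / d i +
      (r ^ 2 * (a i * d i) - 2 * r * (a i * e i))) fun i hi => by
        have := (hd i hi).ne'
        field_simp
        ring, Finset.sum_add_distrib, Finset.sum_sub_distrib, ← Finset.mul_sum, ← Finset.mul_sum,
      h1, h2, h3]
    ring
  have hle : ∀ i ∈ s, a i * (e i - r * d i) ^ 2 / d i ≤ 0 := fun i hi => by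
    by_cases hne : i = ψ
    · subst hne
      rw [hr, div_mul_cancel₀ _ (hd _ hi).ne', sub_self]
      simp
    · exact div_nonpos_of_nonpos_of_nonneg
        (mul_nonpos_of_nonpos_of_nonneg (huniq i hi hne) (sq_nonneg _)) (hd i hi).le
  have hzero := (Finset.sum_eq_zero_iff_of_nonpos hle).1 hsum
  have hval : ∀ i ∈ s, a i ≠ 0 → e i = r * d i := fun i hi ha => by
    have h := hzero i hi
    rw [div_eq_zero_iff, or_iff_left (hd i hi).ne', mul_eq_zero, or_iff_right ha,
      sq_eq_zero_iff, sub_eq_zero] at h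
    exact h
  have hr1 : r = 1 := by
    have h := hval i₀ hi₀ ha₀
    rw [he₀] at h
    exact mul_right_cancel₀ (hd i₀ hi₀).ne' (by rw [one_mul]; exact h.symm)
  exact fun i hi ha => by rw [hval i hi ha, hr1, one_mul]

/-- The squares of the values at an involution vanish on the sections it cannot invert. -/
theorem blockPart_sq_section {t : G} (ht : t * t = 1) (hM : IsPModular 2 M) {y : G}
    (hy : ∃ k, orderOf y = 2 ^ k) (hinv : ∀ g : G, (g * t * g⁻¹) * y * (g * t * g⁻¹)⁻¹ ≠ y⁻¹)
    {B : Set (IrrCharacter G)} (hB : IsPBlock M B) [DecidablePred (· ∈ B)] :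
    ∑ χ ∈ Finset.univ.filter (· ∈ B),
      (χ : G → ℂ) t ^ 2 / (χ : G → ℂ) 1 * (χ : G → ℂ) y = 0 := by
  classical
  let F : G → ℂ := ∑ χ : IrrCharacter G, ((χ : G → ℂ) t ^ 2 / (χ : G → ℂ) 1) • (χ : G → ℂ)
  have hcoef : ∀ ψ : IrrCharacter G, classInner F (ψ : G → ℂ) =
      (ψ : G → ℂ) t ^ 2 / (ψ : G → ℂ) 1 := fun ψ => by
    simp only [F]
    rw [classInner_sum_left, Finset.sum_eq_single ψ, classInner_smul_left,
      classInner_self_irr ψ.2, mul_one]
    · intro χ _ hne
      rw [classInner_smul_left, classInner_irr_of_ne χ.2 ψ.2 fun h => hne (Subtype.ext h), mul_zero]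
    · exact fun h => absurd (Finset.mem_univ ψ) h
  have hgoal : ∑ χ ∈ Finset.univ.filter (· ∈ B),
      (χ : G → ℂ) t ^ 2 / (χ : G → ℂ) 1 * (χ : G → ℂ) y = blockPart B F y := by
    rw [blockPart_eq_sum]
    exact Finset.sum_congr rfl fun χ _ => by rw [hcoef]
  rw [hgoal, blockPart_eq_pair, Finset.sum_eq_zero, mul_zero]
  intro g _
  obtain ⟨a, ha⟩ := exists_isPPart (p := 2) Nat.prime_two g
  by_cases hya : IsConj y a
  swap
  · rw [blockPair_eq_zero_of_pPart hM hB (isPPart_self Nat.prime_two hy) ha hya, mul_zero]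
  refine mul_eq_zero_of_left ?_ _
  set T := classFinset t with hT
  have hTinv : ∀ u v : G, v ∈ T → u * v * u⁻¹ ∈ T := fun u v hv =>
    mem_classFinset.2 ((mem_classFinset.1 hv).trans (isConj_iff.2 ⟨u, rfl⟩))
  have hti : t⁻¹ = t := inv_eq_of_mul_eq_one_right ht
  have hTne : (T.card : ℂ) ≠ 0 :=
    Nat.cast_ne_zero.2 (Finset.card_pos.2 ⟨t, mem_classFinset.2 (IsConj.refl t)⟩).ne'
  refine (mul_eq_zero.1 (?_ : (T.card : ℂ) * F g = 0)).resolve_left hTne
  calc (T.card : ℂ) * F g
      = ∑ u ∈ T, ∑ χ : IrrCharacter G, (χ : G → ℂ) (g * u) * conj ((χ : G → ℂ) t) := by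
        rw [Finset.sum_comm]
        simp only [F, Finset.sum_apply, Pi.smul_apply, smul_eq_mul, Finset.mul_sum]
        refine Finset.sum_congr rfl fun χ _ => ?_
        rw [← Finset.sum_mul, sum_mul_invariant χ T hTinv g, ← irr_inv, hti,
          Finset.sum_congr rfl fun v hv => (show (χ : G → ℂ) v = (χ : G → ℂ) t by
            obtain ⟨c, rfl⟩ := isConj_iff.1 (mem_classFinset.1 hv)
            exact irr_conj_invariant χ t c), Finset.sum_const, nsmul_eq_mul]
        ring
    _ = 0 := Finset.sum_eq_zero fun u hu => column_orth_of_not_isConj fun hc => ?_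
  obtain ⟨c, hcu⟩ := isConj_iff.1 (mem_classFinset.1 hu)
  obtain ⟨d, hd⟩ := isConj_iff.1 hc.symm
  have huu : u * u = 1 := by
    rw [← hcu, show c * t * c⁻¹ * (c * t * c⁻¹) = c * (t * t) * c⁻¹ by group, ht, mul_one,
      mul_inv_cancel]
  have hgu : g * u * (g * u) = 1 := by
    rw [← hd, show d * t * d⁻¹ * (d * t * d⁻¹) = d * (t * t) * d⁻¹ by group, ht, mul_one,
      mul_inv_cancel]
  have hug : u * g * u⁻¹ = g⁻¹ := by
    rw [inv_eq_of_mul_eq_one_right huu]
    refine eq_inv_of_mul_eq_one_right ?_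
    rw [← mul_assoc, ← mul_assoc, mul_assoc, hgu]
  have h1 : IsPPart 2 (u * g * u⁻¹) (u * a * u⁻¹) := IsPPart.conj ha u
  rw [hug] at h1
  have hua : u * a * u⁻¹ = a⁻¹ := isPPart_unique Nat.prime_two h1 (IsPPart.inv ha)
  obtain ⟨k, hk⟩ := isConj_iff.1 hya
  refine hinv (k⁻¹ * c) ?_
  calc k⁻¹ * c * t * (k⁻¹ * c)⁻¹ * y * (k⁻¹ * c * t * (k⁻¹ * c)⁻¹)⁻¹
      = k⁻¹ * ((c * t * c⁻¹) * (k * y * k⁻¹) * (c * t * c⁻¹)⁻¹) * k := by group
    _ = k⁻¹ * (u * a * u⁻¹) * k := by rw [hcu, hk]
    _ = y⁻¹ := by rw [hua, ← hk]; group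

end Cfsg.Agent.BrauerPairs
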