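/-
Primitive idempotents of the centres of subgroup algebras inside one group algebra, their
central functionals, truncation to centralisers, conjugation and augmentation.
-/
import Cfsg.Agent.Lib.Blocks.GroupRing
import Mathlib.RingTheory.Nilpotent.Basic
import Mathlib.Tactic.Abel

set_option linter.unusedSectionVars false
set_option linter.style.haveILetI false

namespace Cfsg.Agent.BrauerPairs

open MonoidAlgebra Cfsg.Agent.Blocks

variable {G : Type*} [Group G] [Fintype G] {k : Type*} [Field k]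

/-! ## Central elements of the algebra of a subgroup -/

/-- Supported on `H` and invariant under conjugation by `H`. -/
structure InZ (H : Subgroup G) (y : MonoidAlgebra k G) : Prop where
  supp : ∀ g, g ∉ H → y.coeff g = 0
  inv : IsInvElt H y

namespace InZ

variable {H : Subgroup G} {x y : MonoidAlgebra k G}

protected theorem zero (H : Subgroup G) : InZ H (0 : MonoidAlgebra k G) :=
  ⟨fun _ _ => by simp, fun _ _ _ => by simp⟩

protected theorem one (H : Subgroup G) : InZ H (1 : MonoidAlgebra k G) := by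
  classical
  refine ⟨fun g hg => ?_, fun u _ g => IsClassElt.one g u⟩
  have : (1 : G) ≠ g := fun h => hg (h ▸ H.one_mem)
  simp [MonoidAlgebra.one_def, Finsupp.single_apply, this]

protected theorem add (hx : InZ H x) (hy : InZ H y) : InZ H (x + y) :=
  ⟨fun g hg => by simp [hx.supp g hg, hy.supp g hg],
    fun u hu g => by simp [hx.inv u hu g, hy.inv u hu g]⟩

protected theorem smul (hx : InZ H x) (c : k) : InZ H (c • x) :=
  ⟨fun g hg => by simp [hx.supp g hg], fun u hu g => by simp [hx.inv u hu g]⟩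

protected theorem sub (hx : InZ H x) (hy : InZ H y) : InZ H (x - y) :=
  ⟨fun g hg => by simp [hx.supp g hg, hy.supp g hg],
    fun u hu g => by simp [hx.inv u hu g, hy.inv u hu g]⟩

protected theorem sum {ι : Type*} (s : Finset ι) (f : ι → MonoidAlgebra k G)
    (h : ∀ i ∈ s, InZ H (f i)) : InZ H (∑ i ∈ s, f i) :=
  Finset.sum_induction f (InZ H) (fun _ _ => InZ.add) (InZ.zero H) h

end InZ

theorem isInvElt_mul {P : Subgroup G} {x y : MonoidAlgebra k G} (hx : IsInvElt P x)
    (hy : IsInvElt P y) : IsInvElt P (x * y) := fun u hu g => by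
  rw [coeff_mul_univ, coeff_mul_univ]
  symm
  refine Fintype.sum_equiv (MulAut.conj u).toEquiv _ _ fun a => ?_
  simp only [MulEquiv.toEquiv_eq_coe, MulEquiv.coe_toEquiv, MulAut.conj_apply]
  rw [hx u hu a, show (u * a * u⁻¹)⁻¹ * (u * g * u⁻¹) = u * (a⁻¹ * g) * u⁻¹ by group,
    hy u hu (a⁻¹ * g)]

theorem InZ.mul {H : Subgroup G} {x y : MonoidAlgebra k G} (hx : InZ H x) (hy : InZ H y) :
    InZ H (x * y) := by
  refine ⟨fun g hg => ?_, isInvElt_mul hx.inv hy.inv⟩
  rw [coeff_mul_univ]
  refine Finset.sum_eq_zero fun a _ => ?_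
  by_cases ha : a ∈ H
  · rw [hy.supp _ (fun h => hg (by simpa using mul_mem ha h)), mul_zero]
  · rw [hx.supp a ha, zero_mul]

theorem InZ.comm {H : Subgroup G} {x y : MonoidAlgebra k G} (hx : InZ H x)
    (hy : ∀ g, g ∉ H → y.coeff g = 0) : x * y = y * x := by
  refine gaExt fun g => ?_
  rw [coeff_mul_univ, coeff_mul_univ]
  refine Fintype.sum_equiv ((Equiv.inv G).trans (Equiv.mulRight g)) _ _ fun a => ?_
  simp only [Equiv.trans_apply, Equiv.inv_apply, Equiv.coe_mulRight]
  rw [mul_comm]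
  by_cases hb : a⁻¹ * g ∈ H
  · have h := hx.inv _ hb a
    have e : a⁻¹ * g * a * (a⁻¹ * g)⁻¹ = (a⁻¹ * g)⁻¹⁻¹ * (a * (a⁻¹ * g)⁻¹) := by group
    have e2 : (a⁻¹ * g)⁻¹ * g = g⁻¹ * a * g := by group
    rw [e2]
    have h' := hx.inv _ (inv_mem hb) a
    rw [show (a⁻¹ * g)⁻¹ * a * (a⁻¹ * g)⁻¹⁻¹ = g⁻¹ * a * g by group] at h'
    rw [h']
  · rw [hy _ hb, zero_mul, zero_mul]

theorem InZ.pow {H : Subgroup G} {x : MonoidAlgebra k G} (hx : InZ H x) (n : ℕ) :
    InZ H (x ^ n) := by
  induction n with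
  | zero => rw [pow_zero]; exact InZ.one H
  | succ n ih => rw [pow_succ]; exact ih.mul hx

/-! ## Primitive idempotents -/

/-- A primitive idempotent of the centre of the algebra of `H`. -/
structure IsBlk (H : Subgroup G) (z : MonoidAlgebra k G) : Prop where
  inZ : InZ H z
  idem : z * z = z
  ne_zero : z ≠ 0
  prim : ∀ y, InZ H y → y * y = y → y * z = 0 ∨ y * z = z

theorem IsBlk.eq_of_mul_ne_zero {H : Subgroup G} {z z' : MonoidAlgebra k G} (h : IsBlk H z)
    (h' : IsBlk H z') (hne : z * z' ≠ 0) : z = z' := by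
  have h1 := (h'.prim z h.inZ h.idem).resolve_left hne
  have h2 := (h.prim z' h'.inZ h'.idem).resolve_left (by rwa [h'.inZ.comm h.inZ.supp])
  rw [h'.inZ.comm h.inZ.supp, h1] at h2
  exact h2.symm

theorem IsBlk.mul_eq_zero {H : Subgroup G} {z z' : MonoidAlgebra k G} (h : IsBlk H z)
    (h' : IsBlk H z') (hne : z ≠ z') : z * z' = 0 :=
  not_not.1 fun h0 => hne (h.eq_of_mul_ne_zero h' h0)

/-- The centres of all subgroup algebras split into blocks with scalar central functionals. -/
class SplitCenter (k : Type*) [Field k] (G : Type*) [Group G] [Fintype G] : Prop where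
  exists_blocks : ∀ H : Subgroup G, ∃ s : Finset (MonoidAlgebra k G),
    (∀ z ∈ s, IsBlk H z ∧ ∀ y, InZ H y → ∃ c : k, IsNilpotent ((y - c • 1) * z)) ∧
      ∑ z ∈ s, z = 1

variable [SplitCenter k G]

/-- The blocks of the subgroup `H`. -/
noncomputable def blks (k : Type*) [Field k] {G : Type*} [Group G] [Fintype G] [SplitCenter k G]
    (H : Subgroup G) : Finset (MonoidAlgebra k G) :=
  (SplitCenter.exists_blocks (k := k) H).choose

theorem sum_blks (H : Subgroup G) : ∑ z ∈ blks k H, z = (1 : MonoidAlgebra k G) :=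
  (SplitCenter.exists_blocks (k := k) H).choose_spec.2

theorem isBlk_of_mem {H : Subgroup G} {z : MonoidAlgebra k G} (h : z ∈ blks k H) : IsBlk H z :=
  ((SplitCenter.exists_blocks (k := k) H).choose_spec.1 z h).1

theorem exists_block_mul_ne_zero {H : Subgroup G} {y : MonoidAlgebra k G} (hy : y ≠ 0) :
    ∃ z ∈ blks k H, y * z ≠ 0 := by
  by_contra hc
  push Not at hc
  apply hy
  rw [← mul_one y, ← sum_blks (k := k) H, Finset.mul_sum, Finset.sum_eq_zero hc]

theorem mem_blks {H : Subgroup G} {z : MonoidAlgebra k G} : z ∈ blks k H ↔ IsBlk H z := by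
  refine ⟨isBlk_of_mem, fun h => ?_⟩
  obtain ⟨b, hb, hne⟩ := exists_block_mul_ne_zero (H := H) h.ne_zero
  exact h.eq_of_mul_ne_zero (isBlk_of_mem hb) hne ▸ hb

/-- A nonzero central idempotent lies above some block. -/
theorem exists_blk_mul_eq {H : Subgroup G} {y : MonoidAlgebra k G} (hy : InZ H y)
    (hyy : y * y = y) (hne : y ≠ 0) : ∃ z, IsBlk H z ∧ y * z = z := by
  obtain ⟨z, hz, h⟩ := exists_block_mul_ne_zero (H := H) hne
  exact ⟨z, isBlk_of_mem hz, ((isBlk_of_mem hz).prim y hy hyy).resolve_left h⟩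

/-! ## Central functionals -/

/-- The central functional of a block. -/
noncomputable def lam (z y : MonoidAlgebra k G) : k := by
  classical exact if h : ∃ c : k, IsNilpotent ((y - c • 1) * z) then h.choose else 0

theorem exists_lam {H : Subgroup G} {z y : MonoidAlgebra k G} (hz : IsBlk H z) (hy : InZ H y) :
    ∃ c : k, IsNilpotent ((y - c • 1) * z) :=
  ((SplitCenter.exists_blocks (k := k) H).choose_spec.1 z (mem_blks.2 hz)).2 y hy

theorem lam_spec {H : Subgroup G} {z y : MonoidAlgebra k G} (hz : IsBlk H z) (hy : InZ H y) :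
    IsNilpotent ((y - lam z y • 1) * z) := by
  rw [lam, dif_pos (exists_lam hz hy)]
  exact (exists_lam hz hy).choose_spec

theorem lam_eq {H : Subgroup G} {z y : MonoidAlgebra k G} (hz : IsBlk H z) (hy : InZ H y) {c : k}
    (h : IsNilpotent ((y - c • 1) * z)) : lam z y = c := by
  have hi : ∀ d : k, InZ H ((y - d • 1) * z) := fun d =>
    (hy.sub ((InZ.one H).smul d)).mul hz.inZ
  have h1 := Commute.isNilpotent_sub ((hi c).comm (hi (lam z y)).supp) h (lam_spec hz hy)
  rw [← sub_mul, sub_sub_sub_cancel_left, ← sub_smul, smul_mul_assoc, one_mul] at h1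
  by_contra hne
  obtain ⟨n, hn⟩ := h1
  have hzn : ∀ m : ℕ, z ^ (m + 1) = z := fun m => by
    induction m with
    | zero => rw [pow_one]
    | succ m ih => rw [pow_succ, ih, hz.idem]
  have : ((lam z y - c) • z) ^ (n + 1) = 0 := by rw [pow_succ, hn, zero_mul]
  rw [smul_pow, hzn, smul_eq_zero] at this
  rcases this with h0 | h0
  · exact hne (sub_eq_zero.1 ((pow_eq_zero_iff (Nat.succ_ne_zero n)).1 h0))
  · exact hz.ne_zero h0

theorem lam_eq_one {H : Subgroup G} {z y : MonoidAlgebra k G} (hz : IsBlk H z) (hy : InZ H y)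
    (h : y * z = z) : lam z y = 1 :=
  lam_eq hz hy (by rw [one_smul, sub_mul, one_mul, h, sub_self]; exact IsNilpotent.zero)

theorem lam_eq_zero {H : Subgroup G} {z y : MonoidAlgebra k G} (hz : IsBlk H z) (hy : InZ H y)
    (h : y * z = 0) : lam z y = 0 :=
  lam_eq hz hy (by rw [zero_smul, sub_zero, h]; exact IsNilpotent.zero)

theorem lam_add {H : Subgroup G} {z x y : MonoidAlgebra k G} (hz : IsBlk H z) (hx : InZ H x)
    (hy : InZ H y) : lam z (x + y) = lam z x + lam z y := by
  refine lam_eq hz (hx.add hy) ?_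
  rw [show x + y - (lam z x + lam z y) • (1 : MonoidAlgebra k G) =
    (x - lam z x • 1) + (y - lam z y • 1) by rw [add_smul]; abel, add_mul]
  have hi : ∀ (w : MonoidAlgebra k G) (d : k), InZ H w → InZ H ((w - d • 1) * z) := fun w d hw =>
    (hw.sub ((InZ.one H).smul d)).mul hz.inZ
  exact Commute.isNilpotent_add ((hi x _ hx).comm (hi y _ hy).supp) (lam_spec hz hx)
    (lam_spec hz hy)

theorem lam_smul {H : Subgroup G} {z x : MonoidAlgebra k G} (hz : IsBlk H z) (hx : InZ H x)
    (a : k) : lam z (a • x) = a * lam z x := by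
  refine lam_eq hz (hx.smul a) ?_
  rw [mul_smul, ← smul_sub, smul_mul_assoc]
  exact (lam_spec hz hx).smul a

/-! ## Class sums relative to a subgroup -/

/-- The sum of the conjugates of `t` under `N`. -/
noncomputable def classSumIn (k : Type*) [Field k] {G : Type*} [Group G] [Fintype G]
    (N : Subgroup G) (t : G) : MonoidAlgebra k G :=
  gaOfFun (Set.indicator {x | ∃ n ∈ N, n * t * n⁻¹ = x} 1)

theorem coeff_classSumIn_pos {N : Subgroup G} {t x : G} (h : ∃ n ∈ N, n * t * n⁻¹ = x) :
    (classSumIn k N t).coeff x = 1 := by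
  rw [classSumIn, coeff_gaOfFun, Set.indicator_of_mem (by exact h), Pi.one_apply]

theorem coeff_classSumIn_neg {N : Subgroup G} {t x : G} (h : ¬ ∃ n ∈ N, n * t * n⁻¹ = x) :
    (classSumIn k N t).coeff x = 0 := by
  rw [classSumIn, coeff_gaOfFun, Set.indicator_of_notMem (by exact h)]

theorem isInvElt_classSumIn (N : Subgroup G) (t : G) : IsInvElt N (classSumIn k N t) := by
  intro u hu x
  by_cases h : ∃ n ∈ N, n * t * n⁻¹ = x
  · obtain ⟨n, hn, rfl⟩ := h
    rw [coeff_classSumIn_pos ⟨n, hn, rfl⟩, coeff_classSumIn_pos ⟨u * n, mul_mem hu hn, by group⟩]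
  · rw [coeff_classSumIn_neg h, coeff_classSumIn_neg]
    rintro ⟨n, hn, hnx⟩
    refine h ⟨u⁻¹ * n, mul_mem (inv_mem hu) hn, ?_⟩
    calc u⁻¹ * n * t * (u⁻¹ * n)⁻¹ = u⁻¹ * (n * t * n⁻¹) * u := by group
      _ = x := by rw [hnx]; group

/-- Peeling off the classes in the support of an `N`-invariant element. -/
theorem invElt_induction {N : Subgroup G} {Q : MonoidAlgebra k G → Prop} (h0 : Q 0)
    (hstep : ∀ (y : MonoidAlgebra k G) (t : G), IsInvElt N y → y.coeff t ≠ 0 →
      (∀ x, (y - y.coeff t • classSumIn k N t).coeff x ≠ 0 → y.coeff x ≠ 0) →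
      Q (y - y.coeff t • classSumIn k N t) → Q y) :
    ∀ y, IsInvElt N y → Q y := by
  classical
  suffices h : ∀ (n : ℕ) (y : MonoidAlgebra k G), IsInvElt N y →
      (Finset.univ.filter fun x => y.coeff x ≠ 0).card ≤ n → Q y from
    fun y hy => h _ y hy le_rfl
  intro n
  induction n with
  | zero =>
    intro y _ hc
    convert h0
    refine gaExt fun x => ?_
    by_contra hx
    have hne : (Finset.univ.filter fun x => y.coeff x ≠ 0).Nonempty := ⟨x, by simpa using hx⟩
    have := Finset.card_pos.2 hne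
    omega
  | succ n ih =>
    intro y hy hc
    by_cases hzero : y = 0
    · exact hzero ▸ h0
    obtain ⟨t, ht⟩ : ∃ t, y.coeff t ≠ 0 := by
      by_contra hh
      push Not at hh
      exact hzero (gaExt fun x => by simp [hh x])
    have hval : ∀ x, (∃ n ∈ N, n * t * n⁻¹ = x) → y.coeff x = y.coeff t := by
      rintro _ ⟨m, hm, rfl⟩
      exact hy m hm t
    have hsub : ∀ x, (y - y.coeff t • classSumIn k N t).coeff x ≠ 0 → y.coeff x ≠ 0 := by
      intro x hx h
      apply hx
      by_cases hh : ∃ n ∈ N, n * t * n⁻¹ = x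
      · simp [coeff_classSumIn_pos hh, h, ← hval x hh]
      · simp [coeff_classSumIn_neg hh, h]
    refine hstep y t hy ht hsub (ih _ (fun u hu x => ?_) ?_)
    · simp [hy u hu x, isInvElt_classSumIn N t u hu x]
    · have hlt : (Finset.univ.filter fun x => (y - y.coeff t • classSumIn k N t).coeff x ≠ 0).card <
          (Finset.univ.filter fun x => y.coeff x ≠ 0).card := by
        refine Finset.card_lt_card ((Finset.ssubset_iff_of_subset fun x hx => ?_).2
          ⟨t, Finset.mem_filter.2 ⟨Finset.mem_univ _, ht⟩, ?_⟩)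
        · simp only [Finset.mem_filter, Finset.mem_univ, true_and] at hx ⊢
          exact hsub x hx
        · have h1 : (classSumIn k N t).coeff t = 1 :=
            coeff_classSumIn_pos ⟨1, N.one_mem, by group⟩
          intro hmem
          exact (Finset.mem_filter.1 hmem).2 (by simp [h1])
      omega

theorem inZ_classSumIn {H N : Subgroup G} (hHN : H ≤ N) (hN : N ≤ Subgroup.normalizer (H : Set G))
    {t : G} (ht : t ∈ H) : InZ H (classSumIn k N t) := by
  refine ⟨fun x hx => coeff_classSumIn_neg ?_, fun u hu => isInvElt_classSumIn N t u (hHN hu)⟩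
  rintro ⟨n, hn, rfl⟩
  exact hx ((Subgroup.mem_normalizer_iff.1 (hN hn) t).1 ht)

/-- A block takes a nonzero value on some class in the support of an invariant element with
nonzero value. -/
theorem exists_class_lam_ne_zero {H N : Subgroup G} (hHN : H ≤ N)
    (hN : N ≤ Subgroup.normalizer (H : Set G)) {z y : MonoidAlgebra k G} (hz : IsBlk H z)
    (hy : IsInvElt N y) (hs : ∀ g, g ∉ H → y.coeff g = 0) (hl : lam z y ≠ 0) :
    ∃ t, y.coeff t ≠ 0 ∧ lam z (classSumIn k N t) ≠ 0 := by
  revert hs hl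
  refine invElt_induction (N := N) (Q := fun y => (∀ g, g ∉ H → y.coeff g = 0) → lam z y ≠ 0 →
    ∃ t, y.coeff t ≠ 0 ∧ lam z (classSumIn k N t) ≠ 0) ?_ ?_ y hy
  · intro _ hl
    exact absurd (lam_eq_zero hz (InZ.zero H) (zero_mul z)) hl
  · intro y t hy ht hsub ih hs hl
    by_cases h0 : lam z (classSumIn k N t) = 0
    · have htH : t ∈ H := not_not.1 fun h => ht (hs t h)
      have hcl : InZ H (classSumIn k N t) := inZ_classSumIn hHN hN htH
      have hyH : InZ H y := ⟨hs, fun u hu => hy u (hHN hu)⟩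
      have hy' : InZ H (y - y.coeff t • classSumIn k N t) := hyH.sub (hcl.smul _)
      have := lam_add hz hy' (hcl.smul (y.coeff t))
      rw [sub_add_cancel, lam_smul hz hcl, h0, mul_zero, add_zero] at this
      obtain ⟨t', h1, h2⟩ := ih hy'.supp (this ▸ hl)
      exact ⟨t', hsub t' h1, h2⟩
    · exact ⟨t, ht, h0⟩

/-! ## Conjugation -/

/-- Conjugation by `x` on the group algebra. -/
noncomputable def cj (x : G) : MonoidAlgebra k G ≃ₐ[k] MonoidAlgebra k G :=
  MonoidAlgebra.domCongr k k (MulAut.conj x)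

theorem coeff_cj (x g : G) (y : MonoidAlgebra k G) :
    (cj x y).coeff g = y.coeff (x⁻¹ * g * x) := by
  simp [cj]

theorem cj_cj (x x' : G) (y : MonoidAlgebra k G) : cj x (cj x' y) = cj (x * x') y :=
  gaExt fun g => by simp only [coeff_cj, mul_inv_rev, mul_assoc]

theorem cj_one (y : MonoidAlgebra k G) : cj 1 y = y := gaExt fun g => by simp [coeff_cj]

theorem cj_inv_cj (x : G) (y : MonoidAlgebra k G) : cj x⁻¹ (cj x y) = y := by
  rw [cj_cj, inv_mul_cancel, cj_one]

theorem cj_cj_inv (x : G) (y : MonoidAlgebra k G) : cj x (cj x⁻¹ y) = y := by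
  rw [cj_cj, mul_inv_cancel, cj_one]

theorem isInvElt_iff_cj {P : Subgroup G} {y : MonoidAlgebra k G} :
    IsInvElt P y ↔ ∀ u ∈ P, cj u y = y := by
  refine ⟨fun h u hu => gaExt fun g => ?_, fun h u hu g => ?_⟩
  · rw [coeff_cj]
    simpa using h _ (inv_mem hu) g
  · conv_lhs => rw [← h u hu, coeff_cj]
    group

/-- The conjugate of a subgroup. -/
abbrev cjS (x : G) (H : Subgroup G) : Subgroup G := H.map (MulAut.conj x).toMonoidHom

theorem mem_cjS {x g : G} {H : Subgroup G} : g ∈ cjS x H ↔ x⁻¹ * g * x ∈ H := by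
  simp only [cjS, Subgroup.mem_map, MulEquiv.coe_toMonoidHom, MulAut.conj_apply]
  constructor
  · rintro ⟨h, hh, rfl⟩
    convert hh using 1
    group
  · intro h
    exact ⟨_, h, by group⟩

theorem cjS_cjS (x y : G) (H : Subgroup G) : cjS x (cjS y H) = cjS (x * y) H := by
  ext g
  simp only [mem_cjS, mul_inv_rev, mul_assoc]

theorem cjS_one (H : Subgroup G) : cjS 1 H = H := by ext g; simp [mem_cjS]

theorem cjS_inv_cjS (x : G) (H : Subgroup G) : cjS x⁻¹ (cjS x H) = H := by
  rw [cjS_cjS, inv_mul_cancel, cjS_one]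

theorem cjS_eq_of_mem_normalizer {x : G} {H : Subgroup G}
    (hx : x ∈ Subgroup.normalizer (H : Set G)) : cjS x H = H := by
  ext g
  rw [mem_cjS]
  have := Subgroup.mem_normalizer_iff.1 hx (x⁻¹ * g * x)
  rw [this]
  group

theorem cjS_centralizer (x : G) (P : Subgroup G) :
    cjS x (Subgroup.centralizer (P : Set G)) = Subgroup.centralizer (cjS x P : Set G) := by
  ext g
  simp only [mem_cjS, Subgroup.mem_centralizer_iff, SetLike.mem_coe]
  constructor
  · intro h u hu
    have h1 := h _ hu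
    calc u * g = x * ((x⁻¹ * u * x) * (x⁻¹ * g * x)) * x⁻¹ := by group
      _ = x * ((x⁻¹ * g * x) * (x⁻¹ * u * x)) * x⁻¹ := by rw [h1]
      _ = g * u := by group
  · intro h u hu
    have h1 := h (x * u * x⁻¹) (by convert hu using 1; group)
    calc u * (x⁻¹ * g * x) = x⁻¹ * ((x * u * x⁻¹) * g) * x := by group
      _ = x⁻¹ * (g * (x * u * x⁻¹)) * x := by rw [h1]
      _ = x⁻¹ * g * x * u := by group

theorem InZ.cj {H : Subgroup G} {y : MonoidAlgebra k G} (hy : InZ H y) (x : G) :
    InZ (cjS x H) (Cfsg.Agent.BrauerPairs.cj x y) := by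
  refine ⟨fun g hg => ?_, fun u hu g => ?_⟩
  · rw [coeff_cj]
    exact hy.supp _ fun h => hg (mem_cjS.2 h)
  · rw [coeff_cj, coeff_cj, ← hy.inv _ (mem_cjS.1 hu) (x⁻¹ * g * x)]
    group

theorem IsBlk.cj {H : Subgroup G} {z : MonoidAlgebra k G} (hz : IsBlk H z) (x : G) :
    IsBlk (cjS x H) (Cfsg.Agent.BrauerPairs.cj x z) := by
  refine ⟨hz.inZ.cj x, by rw [← map_mul, hz.idem],
    fun h => hz.ne_zero ((Cfsg.Agent.BrauerPairs.cj x).injective (by rw [h, map_zero])),
    fun y hy hyy => ?_⟩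
  have h1 := hy.cj x⁻¹
  rw [cjS_inv_cjS] at h1
  rcases hz.prim _ h1 (by rw [← map_mul, hyy]) with h | h <;> [left; right] <;>
  · have := congrArg (Cfsg.Agent.BrauerPairs.cj x) h
    simpa [map_mul, cj_cj_inv] using this

theorem cj_classSumIn_self {N : Subgroup G} {n : G} (hn : n ∈ N) (t : G) :
    cj n (classSumIn k N t) = classSumIn k N t :=
  (isInvElt_iff_cj.1 (isInvElt_classSumIn N t)) n hn

/-! ## Augmentation -/

/-- The augmentation. -/
noncomputable def aug : MonoidAlgebra k G →ₐ[k] k := MonoidAlgebra.lift k k G 1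

theorem aug_eq_sum (y : MonoidAlgebra k G) : aug y = ∑ g, y.coeff g := by
  conv_lhs => rw [← MonoidAlgebra.sum_coeff_single y]
  rw [Finsupp.sum_fintype _ _ (by simp), map_sum]
  simp [aug]

theorem aug_cj (x : G) (y : MonoidAlgebra k G) : aug (cj x y) = aug y := by
  rw [aug_eq_sum, aug_eq_sum]
  exact Fintype.sum_equiv (MulAut.conj x⁻¹).toEquiv _ _ fun g => by simp [coeff_cj]

theorem aug_lam {H : Subgroup G} {z y : MonoidAlgebra k G} (hz : IsBlk H z) (hy : InZ H y)
    (h1 : aug z = 1) : lam z y = aug y := by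
  have := (lam_spec hz hy).map aug
  rw [map_mul, h1, mul_one, map_sub, map_smul, map_one, smul_eq_mul, mul_one,
    isNilpotent_iff_eq_zero, sub_eq_zero] at this
  exact this.symm

/-! ## Truncation -/

variable {p : ℕ} [Fact p.Prime] [CharP k p]

theorem coeff_brTrunc_pos {P : Subgroup G} {y : MonoidAlgebra k G} {g : G}
    (hg : g ∈ Subgroup.centralizer (P : Set G)) : (brTrunc P y).coeff g = y.coeff g := by
  classical rw [coeff_brTrunc, if_pos hg]

theorem coeff_brTrunc_neg {P : Subgroup G} {y : MonoidAlgebra k G} {g : G}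
    (hg : g ∉ Subgroup.centralizer (P : Set G)) : (brTrunc P y).coeff g = 0 := by
  classical rw [coeff_brTrunc, if_neg hg]

theorem brTrunc_zero (P : Subgroup G) : brTrunc P (0 : MonoidAlgebra k G) = 0 := by
  classical
  exact gaExt fun g => by simp [coeff_brTrunc]

theorem brTrunc_sum (P : Subgroup G) {ι : Type*} (s : Finset ι) (f : ι → MonoidAlgebra k G) :
    brTrunc P (∑ i ∈ s, f i) = ∑ i ∈ s, brTrunc P (f i) :=
  map_sum (AddMonoidHom.mk' (brTrunc P) (brTrunc_add P)) f s

theorem brTrunc_sub (P : Subgroup G) (x y : MonoidAlgebra k G) :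
    brTrunc P (x - y) = brTrunc P x - brTrunc P y :=
  map_sub (AddMonoidHom.mk' (brTrunc P) (brTrunc_add P)) x y

theorem brTrunc_brTrunc {P R : Subgroup G} (h : R ≤ P) (y : MonoidAlgebra k G) :
    brTrunc P (brTrunc R y) = brTrunc P y := by
  refine gaExt fun g => ?_
  by_cases hg : g ∈ Subgroup.centralizer (P : Set G)
  · rw [coeff_brTrunc_pos hg, coeff_brTrunc_pos hg,
      coeff_brTrunc_pos (Subgroup.centralizer_le h hg)]
  · rw [coeff_brTrunc_neg hg, coeff_brTrunc_neg hg]

theorem brTrunc_eq_self {P : Subgroup G} {y : MonoidAlgebra k G}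
    (h : ∀ g, g ∉ Subgroup.centralizer (P : Set G) → y.coeff g = 0) : brTrunc P y = y := by
  refine gaExt fun g => ?_
  by_cases hg : g ∈ Subgroup.centralizer (P : Set G)
  · rw [coeff_brTrunc_pos hg]
  · rw [coeff_brTrunc_neg hg, h g hg]

theorem mem_centralizer_conj_iff {Q : Subgroup G} {u g : G}
    (hu : u ∈ Subgroup.normalizer (Q : Set G)) :
    u * g * u⁻¹ ∈ Subgroup.centralizer (Q : Set G) ↔ g ∈ Subgroup.centralizer (Q : Set G) := by
  conv_lhs => rw [← cjS_eq_of_mem_normalizer hu, ← cjS_centralizer, mem_cjS]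
  simp [mul_assoc]

theorem normalizer_le_normalizer_centralizer (Q : Subgroup G) :
    Subgroup.normalizer (Q : Set G) ≤
      Subgroup.normalizer (Subgroup.centralizer (Q : Set G) : Set G) :=
  fun _ hu => Subgroup.mem_normalizer_iff.2 fun _ => (mem_centralizer_conj_iff hu).symm

theorem isInvElt_brTrunc {N Q : Subgroup G} (hN : N ≤ Subgroup.normalizer (Q : Set G))
    {y : MonoidAlgebra k G} (hy : IsInvElt N y) : IsInvElt N (brTrunc Q y) := by
  intro u hu g
  by_cases hg : g ∈ Subgroup.centralizer (Q : Set G)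
  · rw [coeff_brTrunc_pos hg, coeff_brTrunc_pos ((mem_centralizer_conj_iff (hN hu)).2 hg),
      hy u hu g]
  · rw [coeff_brTrunc_neg hg,
      coeff_brTrunc_neg fun h => hg ((mem_centralizer_conj_iff (hN hu)).1 h)]

theorem InZ.brTrunc {X : Subgroup G} {y : MonoidAlgebra k G} (hy : InZ X y) (P : Subgroup G) :
    InZ (X ⊓ Subgroup.centralizer (P : Set G)) (Cfsg.Agent.Blocks.brTrunc P y) := by
  refine ⟨fun g hg => ?_, fun u hu => isInvElt_brTrunc (N := X ⊓ Subgroup.centralizer (P : Set G))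
    (fun v hv => Subgroup.centralizer_le_normalizer _ hv.2)
    (fun v hv => hy.inv v hv.1) u hu⟩
  by_cases hgP : g ∈ Subgroup.centralizer (P : Set G)
  · rw [coeff_brTrunc_pos hgP, hy.supp g fun h => hg ⟨h, hgP⟩]
  · rw [coeff_brTrunc_neg hgP]

theorem cj_brTrunc (x : G) (P : Subgroup G) (y : MonoidAlgebra k G) :
    cj x (brTrunc P y) = brTrunc (cjS x P) (cj x y) := by
  refine gaExt fun g => ?_
  have e : g ∈ Subgroup.centralizer (cjS x P : Set G) ↔
      x⁻¹ * g * x ∈ Subgroup.centralizer (P : Set G) := by rw [← cjS_centralizer, mem_cjS]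
  rw [coeff_cj]
  by_cases h : x⁻¹ * g * x ∈ Subgroup.centralizer (P : Set G)
  · rw [coeff_brTrunc_pos h, coeff_brTrunc_pos (e.2 h), coeff_cj]
  · rw [coeff_brTrunc_neg h, coeff_brTrunc_neg fun hh => h (e.1 hh)]

theorem aug_brTrunc {P : Subgroup G} (hP : IsPGroup p P) {y : MonoidAlgebra k G}
    (hy : IsInvElt P y) : aug (brTrunc P y) = aug y := by
  classical
  let _ : MulAction P G := MulAction.compHom G (ConjAct.toConjAct.toMonoidHom.comp P.subtype)
  have hsmul : ∀ (u : P) (a : G), u • a = (u : G) * a * (u : G)⁻¹ := fun u a =>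
    ConjAct.smul_def (ConjAct.toConjAct (u : G)) a
  rw [aug_eq_sum, aug_eq_sum,
    sum_eq_sum_fixed (p := p) hP (fun a => y.coeff a) fun u a => by rw [hsmul]; exact hy u u.2 a,
    Finset.sum_filter]
  refine Finset.sum_congr rfl fun a _ => ?_
  have hfix : a ∈ MulAction.fixedPoints P G ↔ a ∈ Subgroup.centralizer (P : Set G) := by
    simp only [MulAction.mem_fixedPoints, Subgroup.mem_centralizer_iff, hsmul, Subtype.forall,
      mul_inv_eq_iff_eq_mul]
    rfl
  rw [coeff_brTrunc]
  exact if_congr hfix.symm rfl rfl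

theorem brTrunc_pow_inv {P : Subgroup G} (hP : IsPGroup p P) {x : MonoidAlgebra k G}
    (hx : IsInvElt P x) (n : ℕ) : brTrunc P (x ^ n) = brTrunc P x ^ n := by
  have hpow : ∀ m : ℕ, IsInvElt P (x ^ m) := fun m => by
    induction m with
    | zero => rw [pow_zero]; exact IsClassElt.isInvElt IsClassElt.one P
    | succ m ih => rw [pow_succ]; exact isInvElt_mul ih hx
  induction n with
  | zero => simpa using brTrunc_one P
  | succ n ih => rw [pow_succ, brTrunc_mul hP (hpow n) hx, ih, pow_succ]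

theorem isNilpotent_brTrunc {P : Subgroup G} (hP : IsPGroup p P) {x : MonoidAlgebra k G}
    (hx : IsInvElt P x) (h : IsNilpotent x) : IsNilpotent (brTrunc P x) := by
  obtain ⟨n, hn⟩ := h
  exact ⟨n, by rw [← brTrunc_pow_inv hP hx, hn, brTrunc_zero]⟩

/-- Central functionals commute with truncation along a Brauer pair. -/
theorem lam_brTrunc {X P : Subgroup G} (hP : IsPGroup p P) (hPX : P ≤ X)
    {B e y : MonoidAlgebra k G} (hB : IsBlk X B)
    (he : IsBlk (X ⊓ Subgroup.centralizer (P : Set G)) e)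
    (hBe : brTrunc P B * e = e) (hy : InZ X y) : lam e (brTrunc P y) = lam B y := by
  have hinv : ∀ {w : MonoidAlgebra k G}, InZ X w → IsInvElt P w := fun hw u hu => hw.inv u (hPX hu)
  refine lam_eq he (hy.brTrunc P) ?_
  have hw : InZ X (y - lam B y • 1) := hy.sub ((InZ.one X).smul _)
  have h1 := isNilpotent_brTrunc hP (hinv (hw.mul hB.inZ)) (lam_spec hB hy)
  rw [brTrunc_mul hP (hinv hw) (hinv hB.inZ), brTrunc_sub, brTrunc_smul, brTrunc_one] at h1
  have hz : InZ (X ⊓ Subgroup.centralizer (P : Set G))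
      ((brTrunc P y - lam B y • 1) * brTrunc P B) :=
    (((hy.brTrunc P).sub ((InZ.one _).smul _))).mul (hB.inZ.brTrunc P)
  have h2 : IsNilpotent ((brTrunc P y - lam B y • 1) * brTrunc P B * e) :=
    Commute.isNilpotent_mul_right (hz.comm he.inZ.supp) h1
  rwa [mul_assoc, hBe] at h2

end Cfsg.Agent.BrauerPairs
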