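/-
Blocks of characters as primitive central idempotents over the residue field.
-/
import Cfsg.Agent.Lib.BrauerPairs.Alg
import Cfsg.Agent.Lib.Blocks.Block
import Mathlib.Algebra.MonoidAlgebra.MapDomain

set_option linter.unusedSectionVars false
set_option linter.style.haveILetI false

namespace Cfsg.Agent.BrauerPairs

open Cfsg MonoidAlgebra Cfsg.Agent.Blocks

universe u

variable {G : Type u} [Group G]

/-! ## Subgroup algebras -/

section Emb

variable {R : Type*} [CommRing R]

/-- The algebra of a subgroup inside the group algebra. -/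
noncomputable def emb (H : Subgroup G) : MonoidAlgebra R H →+* MonoidAlgebra R G :=
  mapDomainRingHom R H.subtype

theorem coeff_emb_mem (H : Subgroup G) (x : MonoidAlgebra R H) {g : G} (hg : g ∈ H) :
    (emb H x).coeff g = x.coeff ⟨g, hg⟩ :=
  Finsupp.mapDomain_apply Subtype.val_injective x.coeff ⟨g, hg⟩

theorem coeff_emb_coe (H : Subgroup G) (x : MonoidAlgebra R H) (h : H) :
    (emb H x).coeff (h : G) = x.coeff h := coeff_emb_mem H x h.2

theorem coeff_emb_notMem (H : Subgroup G) (x : MonoidAlgebra R H) {g : G} (hg : g ∉ H) :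
    (emb H x).coeff g = 0 :=
  Finsupp.mapDomain_notin_range x.coeff g (by rintro ⟨h, rfl⟩; exact hg h.2)

theorem emb_injective (H : Subgroup G) : Function.Injective (emb (R := R) H) :=
  MonoidAlgebra.mapDomain_injective Subtype.val_injective

/-- Restriction of coefficients to a subgroup. -/
noncomputable def restr [Finite G] (H : Subgroup G) (y : MonoidAlgebra R G) : MonoidAlgebra R H :=
  gaOfFun fun h : H => y.coeff (h : G)

theorem emb_restr [Fintype G] {H : Subgroup G} {y : MonoidAlgebra R G}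
    (hy : ∀ g, g ∉ H → y.coeff g = 0) : emb H (restr H y) = y := by
  refine gaExt fun g => ?_
  by_cases hg : g ∈ H
  · rw [coeff_emb_mem H _ hg]; rfl
  · rw [coeff_emb_notMem H _ hg, hy g hg]

theorem restr_emb [Fintype G] (H : Subgroup G) (x : MonoidAlgebra R H) :
    restr H (emb H x) = x :=
  gaExt fun h => coeff_emb_coe H x h

theorem emb_smul (H : Subgroup G) (c : R) (x : MonoidAlgebra R H) :
    emb H (c • x) = c • emb H x := by
  refine gaExt fun g => ?_
  by_cases hg : g ∈ H
  · simp [coeff_emb_mem H _ hg]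
  · simp [coeff_emb_notMem H _ hg]

theorem brTrunc_eq_emb_restr [Fintype G] (P : Subgroup G) (y : MonoidAlgebra R G) :
    brTrunc P y = emb (Subgroup.centralizer (P : Set G))
      (restr (Subgroup.centralizer (P : Set G)) y) := by
  classical
  refine gaExt fun g => ?_
  rw [coeff_brTrunc]
  by_cases hg : g ∈ Subgroup.centralizer (P : Set G)
  · rw [if_pos hg, coeff_emb_mem _ _ hg]; rfl
  · rw [if_neg hg, coeff_emb_notMem _ _ hg]

theorem isClassElt_restr [Fintype G] {H : Subgroup G} {y : MonoidAlgebra R G}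
    (hy : IsInvElt H y) : IsClassElt (restr H y) := fun a b => hy (b : G) b.2 (a : G)

end Emb

section Field

variable [Fintype G] {k : Type*} [Field k]

theorem InZ.isClassElt_restr {H : Subgroup G} {y : MonoidAlgebra k G} (hy : InZ H y) :
    IsClassElt (restr H y) := Cfsg.Agent.BrauerPairs.isClassElt_restr hy.inv

theorem inZ_emb {H : Subgroup G} {x : MonoidAlgebra k H} (hx : IsClassElt x) :
    InZ H (emb H x) := by
  refine ⟨fun g hg => coeff_emb_notMem H x hg, fun u hu g => ?_⟩
  by_cases hg : g ∈ H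
  · rw [coeff_emb_mem H x hg, coeff_emb_mem H x (mul_mem (mul_mem hu hg) (inv_mem hu))]
    exact hx ⟨g, hg⟩ ⟨u, hu⟩
  · rw [coeff_emb_notMem H x hg, coeff_emb_notMem H x]
    intro h
    exact hg (by simpa [mul_assoc] using mul_mem (mul_mem (inv_mem hu) h) hu)

end Field

/-! ## Central characters over the residue field -/

variable [Fintype G] {M : Ideal AlgInt} [M.IsPrime]

instance finite_conjClasses' : Finite (ConjClasses G) :=
  Finite.of_surjective _ ConjClasses.mk_surjective

/-- A lift to the local ring. -/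
noncomputable def liftR (z : MonoidAlgebra (resField M) G) : MonoidAlgebra (locRing M) G :=
  gaOfFun fun g => Function.surjInv res_surjective (z.coeff g)

theorem resG_liftR (z : MonoidAlgebra (resField M) G) : resG (liftR z) = z :=
  gaExt fun g => by simp [liftR, Function.surjInv_eq res_surjective]

theorem isClassElt_liftR {z : MonoidAlgebra (resField M) G} (hz : IsClassElt z) :
    IsClassElt (liftR z) := fun g h => by
  simp only [liftR, coeff_gaOfFun, hz g h]

/-- The central character modulo the local ideal. -/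
noncomputable def omegaK (χ : IrrCharacter G) (z : MonoidAlgebra (resField M) G) : resField M :=
  ∑ᶠ C : ConjClasses G, z.coeff C.out *
    res M ⟨centralChar (χ : G → ℂ) C.out, centralChar_memLocalRing χ C.out⟩

theorem omegaK_resG (χ : IrrCharacter G) {x : MonoidAlgebra (locRing M) G} (hx : IsClassElt x) :
    omegaK χ (resG x) = res M ⟨omegaR χ x, omegaR_memLocalRing χ hx⟩ := by
  haveI : Fintype (ConjClasses G) := Fintype.ofFinite _
  rw [omegaK, finsum_eq_sum_of_fintype]
  simp only [coeff_resG, ← map_mul, ← map_sum]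
  refine congrArg _ (Subtype.ext ?_)
  rw [AddSubmonoidClass.coe_finset_sum]
  exact (omegaR_eq_sum χ hx).symm

theorem omegaK_eq (χ : IrrCharacter G) {z : MonoidAlgebra (resField M) G} (hz : IsClassElt z) :
    omegaK χ z = res M ⟨omegaR χ (liftR z), omegaR_memLocalRing χ (isClassElt_liftR hz)⟩ := by
  rw [← omegaK_resG χ (isClassElt_liftR hz), resG_liftR]

theorem omegaK_mul (χ : IrrCharacter G) {x y : MonoidAlgebra (resField M) G} (hx : IsClassElt x)
    (hy : IsClassElt y) : omegaK χ (x * y) = omegaK χ x * omegaK χ y := by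
  conv_lhs => rw [← resG_liftR x, ← resG_liftR y, ← map_mul]
  rw [omegaK_resG χ (IsClassElt.mul (isClassElt_liftR hx) (isClassElt_liftR hy)), omegaK_eq χ hx,
    omegaK_eq χ hy, ← map_mul]
  exact congrArg _ (Subtype.ext (omegaR_mul χ (isClassElt_liftR hx) (isClassElt_liftR hy)))

theorem omegaK_sub (χ : IrrCharacter G) (x y : MonoidAlgebra (resField M) G) :
    omegaK χ (x - y) = omegaK χ x - omegaK χ y := by
  haveI : Fintype (ConjClasses G) := Fintype.ofFinite _
  simp [omegaK, finsum_eq_sum_of_fintype, sub_mul, Finset.sum_sub_distrib]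

theorem omegaK_smul (χ : IrrCharacter G) (c : resField M) (x : MonoidAlgebra (resField M) G) :
    omegaK χ (c • x) = c * omegaK χ x := by
  haveI : Fintype (ConjClasses G) := Fintype.ofFinite _
  simp [omegaK, finsum_eq_sum_of_fintype, Finset.mul_sum, mul_assoc]

theorem omegaK_one (χ : IrrCharacter G) :
    omegaK χ (1 : MonoidAlgebra (resField M) G) = 1 := by
  rw [← map_one (resG (M := M) (G := G)), omegaK_resG χ IsClassElt.one, ← map_one (res M)]
  exact congrArg _ (Subtype.ext (omegaR_one χ))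

theorem omegaK_congr {χ ψ : IrrCharacter G} (h : SameBlock M (χ : G → ℂ) (ψ : G → ℂ))
    {z : MonoidAlgebra (resField M) G} (hz : IsClassElt z) : omegaK χ z = omegaK ψ z := by
  rw [omegaK_eq χ hz, omegaK_eq ψ hz, res_eq_res_iff]
  exact omegaR_congr h (isClassElt_liftR hz)

theorem isNilpotent_of_omegaK {z : MonoidAlgebra (resField M) G} (hz : IsClassElt z)
    (h : ∀ χ : IrrCharacter G, omegaK χ z = 0) : IsNilpotent z := by
  rw [← resG_liftR z]
  refine isNilpotent_resG (isClassElt_liftR hz) fun χ => ?_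
  have := h χ
  rw [omegaK_eq χ hz, res_eq_zero_iff] at this
  exact this

theorem classIdem_ext {x y : MonoidAlgebra (resField M) G} (hx : IsClassElt x) (hy : IsClassElt y)
    (hxx : x * x = x) (hyy : y * y = y)
    (h : ∀ χ : IrrCharacter G, omegaK χ x = omegaK χ y) : x = y := by
  obtain ⟨n, hn⟩ := isNilpotent_of_omegaK (IsClassElt.sub hx hy)
    fun χ => by rw [omegaK_sub, h, sub_self]
  have hc : x * y = y * x := IsClassElt.comm hx y
  have h3 : (x - y) * (x - y) * (x - y) = x - y := by
    have e1 : (x - y) * (x - y) = x + y - 2 * (x * y) := by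
      rw [sub_mul, mul_sub, mul_sub, hxx, hyy, ← hc, two_mul]; abel
    rw [e1, sub_mul, add_mul, mul_sub, mul_sub, hxx, hyy, ← hc, two_mul, add_mul]
    have a1 : x * y * x = x * y := by rw [hc, mul_assoc, hxx]
    have a2 : x * y * y = x * y := by rw [mul_assoc, hyy]
    simp only [mul_sub, a1, a2]
    abel
  have : ∀ m : ℕ, (x - y) ^ (2 * m + 1) = x - y := fun m => by
    induction m with
    | zero => rw [mul_zero, zero_add, pow_one]
    | succ m ih => rw [show 2 * (m + 1) + 1 = 2 + (2 * m + 1) by omega, pow_add, ih, pow_two, h3]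
  rw [← sub_eq_zero, ← this n]
  exact pow_eq_zero_of_le (by omega) hn

/-- The block idempotent over the residue field. -/
noncomputable def Ek (M : Ideal AlgInt) [M.IsPrime] (B : Set (IrrCharacter G)) :
    MonoidAlgebra (resField M) G := resG (blockEltR M B)

theorem isClassElt_Ek (B : Set (IrrCharacter G)) : IsClassElt (Ek M B) :=
  IsClassElt.map (isClassElt_blockEltR B) _

theorem Ek_idem {B : Set (IrrCharacter G)} (hB : IsPBlock M B) : Ek M B * Ek M B = Ek M B := by
  rw [Ek, ← map_mul, blockEltR_idem hB]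

theorem omegaK_Ek_mem {B : Set (IrrCharacter G)} (hB : IsPBlock M B) {χ : IrrCharacter G}
    (hχ : χ ∈ B) : omegaK χ (Ek M B) = 1 := by
  classical
  rw [Ek, omegaK_resG χ (isClassElt_blockEltR B), ← map_one (res M)]
  refine congrArg _ (Subtype.ext ?_)
  simp [omegaR_blockEltR hB, hχ]

theorem omegaK_Ek_notMem {B : Set (IrrCharacter G)} (hB : IsPBlock M B) {χ : IrrCharacter G}
    (hχ : χ ∉ B) : omegaK χ (Ek M B) = 0 := by
  classical
  rw [Ek, omegaK_resG χ (isClassElt_blockEltR B), ← map_zero (res M)]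
  refine congrArg _ (Subtype.ext ?_)
  simp [omegaR_blockEltR hB, hχ]

theorem Ek_prim {B : Set (IrrCharacter G)} (hB : IsPBlock M B) {x : MonoidAlgebra (resField M) G}
    (hx : IsClassElt x) (hxx : x * x = x) : x * Ek M B = 0 ∨ x * Ek M B = Ek M B := by
  obtain ⟨ψ, hψ⟩ := isPBlock_nonempty hB
  have hE := isClassElt_Ek (M := M) B
  have hidem : (x * Ek M B) * (x * Ek M B) = x * Ek M B := by
    rw [mul_assoc, ← mul_assoc (Ek M B) x, ← IsClassElt.comm hx, mul_assoc, Ek_idem hB,
      ← mul_assoc, hxx]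
  have hval : ∀ χ, χ ∈ B → omegaK χ x = omegaK ψ x := fun χ hχ =>
    omegaK_congr (isPBlock_sameBlock hB hχ hψ) hx
  have h01 : omegaK ψ x * omegaK ψ x = omegaK ψ x := by rw [← omegaK_mul ψ hx hx, hxx]
  rcases eq_or_ne (omegaK ψ x) 0 with h0 | h0
  · left
    refine classIdem_ext (IsClassElt.mul hx hE) IsClassElt.zero hidem (mul_zero 0) fun χ => ?_
    rw [omegaK_mul χ hx hE, show omegaK χ (0 : MonoidAlgebra (resField M) G) = 0 by
      rw [← zero_smul (resField M) (0 : MonoidAlgebra (resField M) G), omegaK_smul, zero_mul]]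
    by_cases hχ : χ ∈ B
    · rw [hval χ hχ, h0, zero_mul]
    · rw [omegaK_Ek_notMem hB hχ, mul_zero]
  · right
    refine classIdem_ext (IsClassElt.mul hx hE) hE hidem (Ek_idem hB) fun χ => ?_
    rw [omegaK_mul χ hx hE]
    by_cases hχ : χ ∈ B
    · rw [hval χ hχ, mul_left_cancel₀ h0 (h01.trans (mul_one _).symm), one_mul]
    · rw [omegaK_Ek_notMem hB hχ, mul_zero]

theorem exists_scalar {B : Set (IrrCharacter G)} (hB : IsPBlock M B)
    {x : MonoidAlgebra (resField M) G} (hx : IsClassElt x) :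
    ∃ c : resField M, IsNilpotent ((x - c • 1) * Ek M B) := by
  obtain ⟨ψ, hψ⟩ := isPBlock_nonempty hB
  have h1 : IsClassElt (x - omegaK ψ x • (1 : MonoidAlgebra (resField M) G)) :=
    IsClassElt.sub hx (IsClassElt.smul IsClassElt.one _)
  refine ⟨omegaK ψ x, isNilpotent_of_omegaK (IsClassElt.mul h1 (isClassElt_Ek B)) fun χ => ?_⟩
  rw [omegaK_mul χ h1 (isClassElt_Ek B), omegaK_sub, omegaK_smul, omegaK_one, mul_one]
  by_cases hχ : χ ∈ B
  · rw [omegaK_congr (isPBlock_sameBlock hB hχ hψ) hx, sub_self, zero_mul]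
  · rw [omegaK_Ek_notMem hB hχ, mul_zero]

theorem Ek_ne_zero {B : Set (IrrCharacter G)} (hB : IsPBlock M B) : Ek M B ≠ 0 := by
  obtain ⟨ψ, hψ⟩ := isPBlock_nonempty hB
  intro h
  have := omegaK_Ek_mem hB hψ
  rw [h, ← zero_smul (resField M) (0 : MonoidAlgebra (resField M) G), omegaK_smul, zero_mul] at this
  exact zero_ne_one this

theorem Ek_injective {B B' : Set (IrrCharacter G)} (hB : IsPBlock M B) (hB' : IsPBlock M B')
    (h : Ek M B = Ek M B') : B = B' := by
  obtain ⟨ψ, hψ⟩ := isPBlock_nonempty hB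
  refine isPBlock_eq_of_mem hB hB' hψ ?_
  by_contra hne
  have := omegaK_Ek_mem hB hψ
  rw [h, omegaK_Ek_notMem hB' hne] at this
  exact zero_ne_one this

/-- A class idempotent acting as one on a member of `B` is above `Ek B`. -/
theorem mul_Ek_eq_iff {B : Set (IrrCharacter G)} (hB : IsPBlock M B)
    {x : MonoidAlgebra (resField M) G} (hx : IsClassElt x) (hxx : x * x = x) :
    x * Ek M B = Ek M B ↔ ∀ ξ ∈ B, omegaK ξ x = 1 := by
  constructor
  · intro h ξ hξ
    have := congrArg (omegaK ξ) h
    rwa [omegaK_mul ξ hx (isClassElt_Ek B), omegaK_Ek_mem hB hξ, mul_one] at this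
  · intro h
    obtain ⟨ψ, hψ⟩ := isPBlock_nonempty hB
    refine (Ek_prim hB hx hxx).resolve_left fun h0 => ?_
    have := congrArg (omegaK ψ) h0
    rw [omegaK_mul ψ hx (isClassElt_Ek B), omegaK_Ek_mem hB hψ, mul_one, h ψ hψ,
      ← zero_smul (resField M) (0 : MonoidAlgebra (resField M) G), omegaK_smul, zero_mul] at this
    exact one_ne_zero this

/-- The idempotent of a block of a subgroup, inside the group algebra. -/
noncomputable def zB (M : Ideal AlgInt) [M.IsPrime] (H : Subgroup G) [Fintype H]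
    (b : Set (IrrCharacter H)) : MonoidAlgebra (resField M) G := emb H (Ek M b)

theorem isBlk_zB (H : Subgroup G) [Fintype H] {b : Set (IrrCharacter H)} (hb : IsPBlock M b) :
    IsBlk H (zB M H b) := by
  refine ⟨inZ_emb (isClassElt_Ek b), by rw [zB, ← map_mul, Ek_idem hb], fun h => ?_,
    fun y hy hyy => ?_⟩
  · exact Ek_ne_zero hb (emb_injective H (by rw [map_zero]; exact h))
  · have hxx : restr H y * restr H y = restr H y :=
      emb_injective H (by rw [map_mul, emb_restr hy.supp, hyy])
    have e : y * zB M H b = emb H (restr H y * Ek M b) := by rw [map_mul, emb_restr hy.supp]; rfl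
    rcases Ek_prim hb hy.isClassElt_restr hxx with h | h
    · left; rw [e, h, map_zero]
    · right; rw [e, h]; rfl

theorem zB_injective (H : Subgroup G) [Fintype H] {b b' : Set (IrrCharacter H)}
    (hb : IsPBlock M b) (hb' : IsPBlock M b') (h : zB M H b = zB M H b') : b = b' :=
  Ek_injective hb hb' (emb_injective H h)

theorem sum_zB (H : Subgroup G) [Fintype H] :
    ∑ b ∈ blocks M H, zB M H b = 1 := by
  simp only [zB, Ek, ← map_sum, sum_blockEltR, map_one]

instance splitCenter : SplitCenter (resField M) G := ⟨fun H => by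
  classical
  refine ⟨(blocks M H).image (zB M H), fun z hz => ?_, ?_⟩
  · obtain ⟨b, hb, rfl⟩ := Finset.mem_image.1 hz
    refine ⟨isBlk_zB H (mem_blocks.1 hb), fun y hy => ?_⟩
    obtain ⟨c, hc⟩ := exists_scalar (mem_blocks.1 hb) hy.isClassElt_restr
    refine ⟨c, ?_⟩
    have := hc.map (emb (R := resField M) H)
    rwa [map_mul, map_sub, emb_restr hy.supp, emb_smul, map_one] at this
  · rw [Finset.sum_image fun b hb b' hb' h =>
      zB_injective H (mem_blocks.1 hb) (mem_blocks.1 hb') h, sum_zB]⟩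

theorem exists_eq_zB {H : Subgroup G} [Fintype H] {z : MonoidAlgebra (resField M) G}
    (hz : IsBlk H z) : ∃ b : Set (IrrCharacter H), IsPBlock M b ∧ zB M H b = z := by
  obtain ⟨b, hb, hne⟩ : ∃ b ∈ blocks M H, z * zB M H b ≠ 0 := by
    by_contra hc
    push Not at hc
    apply hz.ne_zero
    rw [← mul_one z, ← sum_zB (M := M) H, Finset.mul_sum, Finset.sum_eq_zero hc]
  exact ⟨b, mem_blocks.1 hb,
    (hz.eq_of_mul_ne_zero (isBlk_zB H (mem_blocks.1 hb)) hne).symm⟩

theorem isClassElt_iff_inZ_top {k : Type*} [Field k] {y : MonoidAlgebra k G} :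
    InZ ⊤ y ↔ IsClassElt y :=
  ⟨fun h g u => h.inv u (Subgroup.mem_top u) g,
    fun h => ⟨fun g hg => absurd (Subgroup.mem_top g) hg, fun u _ g => h g u⟩⟩

theorem isBlk_Ek {B : Set (IrrCharacter G)} (hB : IsPBlock M B) :
    IsBlk (⊤ : Subgroup G) (Ek M B) :=
  ⟨isClassElt_iff_inZ_top.2 (isClassElt_Ek B), Ek_idem hB, Ek_ne_zero hB,
    fun _ hy hyy => Ek_prim hB (isClassElt_iff_inZ_top.1 hy) hyy⟩

theorem exists_eq_Ek {z : MonoidAlgebra (resField M) G} (hz : IsBlk (⊤ : Subgroup G) z) :
    ∃ B : Set (IrrCharacter G), IsPBlock M B ∧ Ek M B = z := by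
  have hsum : ∑ B ∈ blocks M G, Ek M B = 1 := by
    simp only [Ek, ← map_sum, sum_blockEltR, map_one]
  obtain ⟨b, hb, hne⟩ : ∃ b ∈ blocks M G, z * Ek M b ≠ 0 := by
    by_contra hc
    push Not at hc
    apply hz.ne_zero
    rw [← mul_one z, ← hsum, Finset.mul_sum, Finset.sum_eq_zero hc]
  exact ⟨b, mem_blocks.1 hb,
    (hz.eq_of_mul_ne_zero (isBlk_Ek (mem_blocks.1 hb)) hne).symm⟩

theorem lam_Ek {B : Set (IrrCharacter G)} (hB : IsPBlock M B) {χ : IrrCharacter G} (hχ : χ ∈ B)
    {y : MonoidAlgebra (resField M) G} (hy : IsClassElt y) :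
    lam (Ek M B) y = omegaK χ y := by
  refine lam_eq (isBlk_Ek hB) (isClassElt_iff_inZ_top.2 hy) ?_
  have h1 : IsClassElt (y - omegaK χ y • (1 : MonoidAlgebra (resField M) G)) :=
    IsClassElt.sub hy (IsClassElt.smul IsClassElt.one _)
  refine isNilpotent_of_omegaK (IsClassElt.mul h1 (isClassElt_Ek B)) fun ψ => ?_
  rw [omegaK_mul ψ h1 (isClassElt_Ek B), omegaK_sub, omegaK_smul, omegaK_one, mul_one]
  by_cases hψ : ψ ∈ B
  · rw [omegaK_congr (isPBlock_sameBlock hB hψ hχ) hy, sub_self, zero_mul]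
  · rw [omegaK_Ek_notMem hB hψ, mul_zero]

end Cfsg.Agent.BrauerPairs
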