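import Cfsg.Agent.Lib.BrauerPairs.RegularSpan
import Cfsg.Agent.Lib.Blocks.Heights

/-!
Blocks with one Brauer character: the Cartan invariant is the order of a defect group.
-/

set_option linter.unusedSectionVars false
set_option linter.style.haveILetI false

namespace Cfsg.Agent.BrauerPairs

open Cfsg Cfsg.Agent.Blocks Cfsg.Agent.Char

universe u

/-- A greatest common divisor with its Bezout coefficients. -/
theorem exists_gcd_coeffs {ι : Type*} [Fintype ι] (f : ι → ℕ) (i₀ : ι) (h : 0 < f i₀) :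
    ∃ g : ℕ, 0 < g ∧ (∀ i, g ∣ f i) ∧ ∃ n : ι → ℤ, ∑ i, n i * (f i : ℤ) = g := by
  classical
  set I := Ideal.span (Set.range fun i => (f i : ℤ)) with hI
  obtain ⟨g, hg⟩ := (IsPrincipalIdealRing.principal I).principal
  have hdvd : ∀ i, g.natAbs ∣ f i := fun i => by
    have h1 : (f i : ℤ) ∈ I := Ideal.subset_span ⟨i, rfl⟩
    rw [hg, Submodule.mem_span_singleton] at h1
    obtain ⟨c, hc⟩ := h1
    exact ⟨c.natAbs, by rw [mul_comm, ← Int.natAbs_mul, ← smul_eq_mul, hc, Int.natAbs_natCast]⟩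
  refine ⟨g.natAbs, Nat.pos_of_dvd_of_pos (hdvd i₀) h, hdvd, ?_⟩
  have h2 : (g.natAbs : ℤ) ∈ I := by
    rw [hg, Submodule.mem_span_singleton]
    exact ⟨g.sign, by rw [smul_eq_mul, Int.sign_mul_self_eq_abs, Int.natCast_natAbs]⟩
  exact Ideal.mem_span_range_iff_exists_fun.1 h2

variable {G : Type u} [Group G] [Fintype G] {p : ℕ} {M : Ideal AlgInt} [M.IsPrime]

theorem exists_proportional {B : Set (IrrCharacter G)} (hl : blockRank p B = 1) (hp : p ≠ 1)
    {φ χ : IrrCharacter G} (hφ : φ ∈ B) (hχ : χ ∈ B) {x : G} (hx : IsPRegular p x) :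
    (φ : G → ℂ) x * (χ : G → ℂ) 1 = (χ : G → ℂ) x * (φ : G → ℂ) 1 := by
  classical
  have h1r : IsPRegular p (1 : G) := by simp [IsPRegular, hp]
  set S := Submodule.span ℂ ((fun χ : IrrCharacter G => pRegularPart p (χ : G → ℂ)) '' B) with hS
  have hmem : ∀ ψ ∈ B, pRegularPart p (ψ : G → ℂ) ∈ S := fun ψ hψ =>
    Submodule.subset_span ⟨ψ, hψ, rfl⟩
  have hne : (⟨_, hmem χ hχ⟩ : S) ≠ 0 := fun h => irr_one_ne_zero χ (by
    have := congrFun (congrArg Subtype.val h) 1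
    simpa [pRegularPart, h1r] using this)
  obtain ⟨c, hc⟩ := (finrank_eq_one_iff_of_nonzero' _ hne).1 hl ⟨_, hmem φ hφ⟩
  have hc' : ∀ y, c * pRegularPart p (χ : G → ℂ) y = pRegularPart p (φ : G → ℂ) y := fun y =>
    congrFun (congrArg Subtype.val hc) y
  have e1 := hc' 1
  have e2 := hc' x
  simp only [pRegularPart, if_pos h1r, if_pos hx] at e1 e2
  rw [← e1, ← e2]; ring

theorem exists_cartan_rank_one (hM : IsPModular p M) {B : Set (IrrCharacter G)}
    (hB : IsPBlock M B) (hl : blockRank p B = 1) :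
    ∃ φ : G → ℂ, ∃ d : IrrCharacter G → ℕ,
      (∃ n : IrrCharacter G → ℤ, ∀ x : G, IsPRegular p x →
        φ x = ∑ᶠ ψ ∈ B, (n ψ : ℂ) * (ψ : G → ℂ) x) ∧
      (∀ χ ∈ B, ∀ x : G, IsPRegular p x → (χ : G → ℂ) x = (d χ : ℂ) * φ x) ∧
      ∑ᶠ χ ∈ B, d χ ^ 2 = p ^ blockDefect p B := by
  classical
  haveI : Fact p.Prime := ⟨hM.1⟩
  obtain ⟨χ₀, hχ₀, h0⟩ := exists_heightZero hM hB
  haveI : Fintype B := Fintype.ofFinite _
  obtain ⟨g, hgpos, hgd, n, hn⟩ := exists_gcd_coeffs (fun φ : B => charDegree ((φ : IrrCharacter G) : G → ℂ))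
    ⟨χ₀, hχ₀⟩ (charDegree_pos χ₀)
  let e : IrrCharacter G → ℕ := fun φ => charDegree (φ : G → ℂ) / g
  have he : ∀ φ ∈ B, g * e φ = charDegree (φ : G → ℂ) := fun φ hφ =>
    Nat.mul_div_cancel' (hgd ⟨φ, hφ⟩)
  have hgC : (g : ℂ) ≠ 0 := Nat.cast_ne_zero.2 hgpos.ne'
  let v : G → ℂ := fun x => ∑ φ : B, (n φ : ℂ) * ((φ : IrrCharacter G) : G → ℂ) x
  have hv : ∀ χ ∈ B, ∀ x, IsPRegular p x → (χ : G → ℂ) x = (e χ : ℂ) * v x := by
    intro χ hχ x hx
    refine mul_left_cancel₀ hgC ?_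
    have h1 : (g : ℂ) * (e χ : ℂ) = (χ : G → ℂ) 1 := by
      rw [irr_one_eq_charDegree, ← he χ hχ, Nat.cast_mul]
    rw [← mul_assoc, h1]
    have h2 : (g : ℂ) = ∑ φ : B, (n φ : ℂ) * ((φ : IrrCharacter G) : G → ℂ) 1 := by
      simp only [irr_one_eq_charDegree]
      exact_mod_cast hn.symm
    rw [h2, Finset.sum_mul, Finset.mul_sum]
    refine Finset.sum_congr rfl fun φ _ => ?_
    rw [mul_assoc, mul_comm ((φ : IrrCharacter G).1 1), ← exists_proportional hl hM.1.ne_one φ.2 hχ hx]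
    ring
  have hesum : ∑ φ : B, n φ * (e φ : ℤ) = 1 := by
    refine mul_left_cancel₀ (Nat.cast_ne_zero.2 hgpos.ne' : (g : ℤ) ≠ 0) ?_
    rw [mul_one, Finset.mul_sum]
    refine Eq.trans (Finset.sum_congr rfl fun φ _ => ?_) hn
    rw [← he φ φ.2, Nat.cast_mul]; ring
  -- the inner products of regular restrictions
  obtain ⟨r, hr, hsymm, -⟩ := exists_gram hM hB
  set a := (Nat.card G).factorization p with ha
  set d := blockDefect p B with hd
  have hpe : ((p : ℂ) ^ (a - d)) ≠ 0 := pow_ne_zero _ (Nat.cast_ne_zero.2 hM.1.ne_zero)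
  have hcross : ∀ φ ∈ B, ∀ η ∈ B, ∀ φ' ∈ B, ∀ η' ∈ B,
      r φ η * (e φ' * e η' : ℤ) = r φ' η' * (e φ * e η : ℤ) := by
    intro φ hφ η hη φ' hφ' η' hη'
    have key : (((p : ℤ) ^ (a - d) * r φ η : ℤ) : ℂ) * (e φ' * e η') =
        (((p : ℤ) ^ (a - d) * r φ' η' : ℤ) : ℂ) * (e φ * e η) := by
      rw [← hr φ η hη, ← hr φ' η' hη', classInner_regTr hM.1, classInner_regTr hM.1, div_mul_eq_mul_div,
        div_mul_eq_mul_div, Finset.sum_mul, Finset.sum_mul]
      refine congrArg (· / _) (Finset.sum_congr rfl fun x hx => ?_)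
      have hx' : IsPRegular p x := (Finset.mem_filter.1 hx).2
      rw [hv φ hφ x hx', hv η hη x hx', hv φ' hφ' x hx', hv η' hη' x hx']
      simp only [map_mul, map_natCast]
      ring
    push_cast at key
    simp only [mul_assoc] at key
    have := mul_left_cancel₀ hpe key
    exact_mod_cast this
  obtain ⟨T, hT⟩ : ∃ T : ℤ, ∀ φ ∈ B, ∀ η ∈ B, r φ η = T * (e φ * e η : ℤ) := by
    refine ⟨∑ φ : B, ∑ η : B, n φ * n η * r φ η, fun φ hφ η hη => ?_⟩
    rw [Finset.sum_mul]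
    calc r φ η = (∑ φ' : B, n φ' * (e φ' : ℤ)) * (∑ η' : B, n η' * (e η' : ℤ)) * r φ η := by
          rw [hesum]; ring
      _ = _ := by
        rw [Finset.sum_mul_sum, Finset.sum_mul]
        refine Finset.sum_congr rfl fun φ' _ => ?_
        rw [Finset.sum_mul, Finset.sum_mul]
        refine Finset.sum_congr rfl fun η' _ => ?_
        have := hcross φ hφ η hη φ' φ'.2 η' η'.2
        linear_combination (n φ' * n η') * this
  obtain ⟨r', hr', hpos, hsum⟩ := exists_row hM hB hχ₀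
  have hrr : ∀ η ∈ B, r' η = T * (e χ₀ * e η : ℤ) := fun η hη => by
    have h1 := (hr' η).symm.trans (hr χ₀ η hη)
    push_cast at h1
    have h2 : (r' η : ℂ) = (r χ₀ η : ℂ) := mul_left_cancel₀ hpe h1
    rw [← hT χ₀ hχ₀ η hη]
    exact_mod_cast h2
  -- the scalar is a unit
  have hTp : ¬ (p : ℤ) ∣ T := fun hdiv => by
    obtain ⟨m, hm, hm0, hv'⟩ := (blockHeight_zero_iff_mult hM hB hχ₀ hχ₀).1 h0
    have h1 : m = (p : ℤ) ^ (a - d) * r χ₀ χ₀ := by exact_mod_cast hm.symm.trans (hr χ₀ χ₀ hχ₀)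
    have h2 : (p : ℤ) ^ (a - d + 1) ∣ m := by
      rw [h1, pow_succ, hT χ₀ hχ₀ χ₀ hχ₀]
      exact mul_dvd_mul_left _ (hdiv.mul_right _)
    have h3 : (charDegree (χ₀ : G → ℂ)).factorization p = a - d := by
      have h4 := degExp_ge hM hB hχ₀
      have h5 := h0
      rw [blockHeight, sInf_degExp_eq' hM hB] at h5
      omega
    have h6 := (padicValInt_dvd_iff _ m).1 h2
    omega
  have hTpos : 0 < T := by
    have h1 := hrr χ₀ hχ₀ ▸ hpos
    exact pos_of_mul_pos_left h1 (by positivity)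
  have he0 : (e χ₀ : ℤ) ≠ 0 := by
    intro h
    have := he χ₀ hχ₀
    rw [show e χ₀ = 0 by exact_mod_cast h, mul_zero] at this
    exact (charDegree_pos χ₀).ne this
  have hTS : T * ∑ φ ∈ Finset.univ.filter (· ∈ B), (e φ : ℤ) ^ 2 = (p : ℤ) ^ d := by
    rw [Finset.sum_congr rfl fun φ hφ => by rw [hrr φ (Finset.mem_filter.1 hφ).2], hrr χ₀ hχ₀] at hsum
    refine mul_left_cancel₀ (mul_ne_zero hTpos.ne' (pow_ne_zero 2 he0)) ?_
    rw [Finset.mul_sum, Finset.mul_sum]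
    refine Eq.trans (Finset.sum_congr rfl fun φ _ => ?_) (hsum.trans (by ring))
    ring
  have hT1 : T = 1 := by
    have h1 : T.natAbs ∣ p ^ d := by
      have := Int.natAbs_dvd_natAbs.2 (Dvd.intro _ hTS)
      simpa [Int.natAbs_pow] using this
    obtain ⟨k, -, hk⟩ := (Nat.dvd_prime_pow hM.1).1 h1
    rcases k with _ | k
    · rw [pow_zero] at hk; omega
    · exact absurd (Int.natCast_dvd.2 ⟨p ^ k, by rw [hk, pow_succ']⟩) hTp
  refine ⟨v, e, ⟨fun φ => if h : φ ∈ B then n ⟨φ, h⟩ else 0, fun x _ => ?_⟩, hv, ?_⟩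
  · rw [finsum_mem_eq_finite_toFinset_sum _ (Set.toFinite B)]
    refine (Eq.trans (b := ∑ φ : B, _) (Finset.sum_subtype _ (fun φ => (Set.Finite.mem_toFinset _)) _) ?_).symm
    exact Finset.sum_congr rfl fun φ _ => by simp
  · rw [hT1, one_mul] at hTS
    rw [finsum_mem_eq_finite_toFinset_sum _ (Set.toFinite B),
      show (Set.toFinite B).toFinset = Finset.univ.filter (· ∈ B) by ext; simp]
    exact_mod_cast hTS

end Cfsg.Agent.BrauerPairs
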