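/-
Alperin-Broué theory of Brauer pairs, formulated with primitive central idempotents inside one
group algebra.
-/
import Cfsg.Agent.Lib.BrauerPairs.Alg
import Cfsg.Agent.Lib.Transfer.Fusion
import Mathlib.GroupTheory.Sylow
import Mathlib.Logic.Relation

set_option linter.unusedSectionVars false
set_option linter.style.haveILetI false

namespace Cfsg.Agent.BrauerPairs

open MonoidAlgebra Cfsg.Agent.Blocks

variable {G : Type*} [Group G] [Fintype G] {k : Type*} [Field k] [SplitCenter k G]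
variable {p : ℕ} [Fact p.Prime] [CharP k p] {X : Subgroup G}

/-! ## Sylow subgroups inside a subgroup -/

/-- `Q` is a maximal `p`-subgroup of `K`. -/
structure IsSylowIn (p : ℕ) (Q K : Subgroup G) : Prop where
  le : Q ≤ K
  pgroup : IsPGroup p Q
  max : ∀ R : Subgroup G, Q ≤ R → R ≤ K → IsPGroup p R → R = Q

theorem cjS_mono (x : G) {A B : Subgroup G} (h : A ≤ B) : cjS x A ≤ cjS x B := Subgroup.map_mono h

theorem card_cjS (x : G) (A : Subgroup G) : Nat.card (cjS x A) = Nat.card A :=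
  Subgroup.card_map_of_injective (MulAut.conj x).injective

theorem isPGroup_cjS {A : Subgroup G} (h : IsPGroup p A) (x : G) : IsPGroup p (cjS x A) := h.map _

theorem cjS_inf (x : G) (A B : Subgroup G) : cjS x (A ⊓ B) = cjS x A ⊓ cjS x B := by
  ext g
  rw [Subgroup.mem_inf, mem_cjS, mem_cjS, mem_cjS, Subgroup.mem_inf]

theorem cjS_self {x : G} {A : Subgroup G} (hx : x ∈ A) : cjS x A = A :=
  cjS_eq_of_mem_normalizer (Subgroup.le_normalizer hx)

theorem mem_normalizer_of_cjS_eq {x : G} {A : Subgroup G} (h : cjS x A = A) :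
    x ∈ Subgroup.normalizer (A : Set G) :=
  Subgroup.mem_normalizer_iff.2 fun g => by
    conv_rhs => rw [← h, mem_cjS]
    group

theorem cjS_centralizer_singleton (x t : G) :
    cjS x (Subgroup.centralizer ({t} : Set G)) = Subgroup.centralizer ({x * t * x⁻¹} : Set G) := by
  ext g
  simp only [mem_cjS, Subgroup.mem_centralizer_singleton_iff]
  constructor
  · intro h
    calc g * (x * t * x⁻¹) = x * (x⁻¹ * g * x * t) * x⁻¹ := by group
      _ = x * (t * (x⁻¹ * g * x)) * x⁻¹ := by rw [h]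
      _ = x * t * x⁻¹ * g := by group
  · intro h
    calc x⁻¹ * g * x * t = x⁻¹ * (g * (x * t * x⁻¹)) * x := by group
      _ = x⁻¹ * (x * t * x⁻¹ * g) * x := by rw [h]
      _ = t * (x⁻¹ * g * x) := by group

theorem le_centralizer_singleton_iff {Q : Subgroup G} {t : G} :
    Q ≤ Subgroup.centralizer ({t} : Set G) ↔ t ∈ Subgroup.centralizer (Q : Set G) := by
  constructor
  · intro h
    exact Subgroup.mem_centralizer_iff.2 fun u hu => Subgroup.mem_centralizer_singleton_iff.1 (h hu)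
  · intro h u hu
    exact Subgroup.mem_centralizer_singleton_iff.2 (Subgroup.mem_centralizer_iff.1 h u hu)

theorem IsSylowIn.exists_conj {Q K : Subgroup G} (h : IsSylowIn p Q K) {R : Subgroup G}
    (hR : R ≤ K) (hRp : IsPGroup p R) : ∃ c ∈ K, R ≤ cjS c Q := by
  have hQ' : IsPGroup p (Q.subgroupOf K) := h.pgroup.comap_of_injective _ Subtype.val_injective
  obtain ⟨S, hS⟩ := hQ'.exists_le_sylow
  obtain ⟨T, hT⟩ := (hRp.comap_of_injective _ Subtype.val_injective :
    IsPGroup p (R.subgroupOf K)).exists_le_sylow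
  obtain ⟨c, hc⟩ := MulAction.exists_smul_eq K S T
  have hSQ : (S : Subgroup K).map K.subtype = Q := by
    refine h.max _ ?_ (Subgroup.map_subtype_le _) (S.isPGroup'.map _)
    conv_lhs => rw [← Subgroup.map_subgroupOf_eq_of_le h.le]
    exact Subgroup.map_mono hS
  refine ⟨c, c.2, fun u hu => ?_⟩
  have hu' : (⟨u, hR hu⟩ : K) ∈ (T : Subgroup K) := hT hu
  rw [← hc, Sylow.coe_subgroup_smul] at hu'
  obtain ⟨s, hs, hsu⟩ := hu'
  have hsQ : (s : G) ∈ Q := hSQ ▸ ⟨s, hs, rfl⟩
  refine ⟨s, hsQ, ?_⟩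
  have := congrArg Subtype.val hsu
  simpa using this

theorem IsSylowIn.card_le {Q K : Subgroup G} (h : IsSylowIn p Q K) {R : Subgroup G}
    (hR : R ≤ K) (hRp : IsPGroup p R) : Nat.card R ≤ Nat.card Q := by
  obtain ⟨c, -, hc⟩ := h.exists_conj hR hRp
  exact (Subgroup.card_le_of_le hc).trans (card_cjS c Q).le

theorem exists_isSylowIn (p : ℕ) (K : Subgroup G) : ∃ Q, IsSylowIn p Q K := by
  obtain ⟨S⟩ : Nonempty (Sylow p K) := inferInstance
  refine ⟨(S : Subgroup K).map K.subtype, Subgroup.map_subtype_le _, S.isPGroup'.map _,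
    fun R hSR hRK hR => ?_⟩
  have h1 := S.is_maximal' (hR.comap_of_injective _ Subtype.val_injective :
    IsPGroup p (R.subgroupOf K)) fun u hu => hSR ⟨u, hu, rfl⟩
  rw [← h1]
  exact (Subgroup.map_subgroupOf_eq_of_le hRK).symm

theorem IsSylowIn.cjS' {Q K : Subgroup G} (h : IsSylowIn p Q K) (x : G) :
    IsSylowIn p (cjS x Q) (cjS x K) := by
  refine ⟨cjS_mono x h.le, isPGroup_cjS h.pgroup x, fun R hQR hRK hR => ?_⟩
  have h1 := h.max (cjS x⁻¹ R) (by simpa [cjS_inv_cjS] using cjS_mono x⁻¹ hQR)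
    (by simpa [cjS_inv_cjS] using cjS_mono x⁻¹ hRK) (isPGroup_cjS hR _)
  rw [← h1, cjS_cjS, mul_inv_cancel, cjS_one]

/-! ## Pairs -/

/-- A subgroup together with an element of the group algebra. -/
abbrev Pr (k G : Type*) [Field k] [Group G] := Subgroup G × MonoidAlgebra k G

/-- A Brauer pair in `X`. -/
structure IsPair (p : ℕ) (X : Subgroup G) (a : Pr k G) : Prop where
  pgroup : IsPGroup p a.1
  le : a.1 ≤ X
  blk : IsBlk (X ⊓ Subgroup.centralizer (a.1 : Set G)) a.2

/-- A Brauer pair of the block `B` of `X`. -/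
structure IsPairOf (p : ℕ) (X : Subgroup G) (B : MonoidAlgebra k G) (a : Pr k G) : Prop where
  pair : IsPair p X a
  blk : IsBlk X B
  occ : brTrunc a.1 B * a.2 = a.2

/-- Normal inclusion of Brauer pairs. -/
structure NSub (p : ℕ) (X : Subgroup G) (a b : Pr k G) : Prop where
  left : IsPair p X a
  right : IsPair p X b
  le : a.1 ≤ b.1
  normal : b.1 ≤ Subgroup.normalizer (a.1 : Set G)
  inv : IsInvElt b.1 a.2
  occ : brTrunc b.1 a.2 * b.2 = b.2

/-- Inclusion of Brauer pairs. -/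
def SubLE (p : ℕ) (X : Subgroup G) : Pr k G → Pr k G → Prop :=
  Relation.ReflTransGen (NSub p X)

/-- No proper normal extension. -/
def NoExt (p : ℕ) (X : Subgroup G) (a : Pr k G) : Prop := ∀ b, NSub p X a b → b.1 = a.1

/-- The conjugate of a pair. -/
noncomputable abbrev cjP (x : G) (a : Pr k G) : Pr k G := (cjS x a.1, cj x a.2)

/-- `D` is a defect group of the block `B` of `X`. -/
def IsDefGrp (p : ℕ) (X : Subgroup G) (B : MonoidAlgebra k G) (D : Subgroup G) : Prop :=
  ∃ t ∈ X, B.coeff t ≠ 0 ∧ lam B (classSumIn k X t) ≠ 0 ∧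
    IsSylowIn p D (X ⊓ Subgroup.centralizer ({t} : Set G))

theorem cjP_cjP (x y : G) (a : Pr k G) : cjP x (cjP y a) = cjP (x * y) a :=
  Prod.ext (cjS_cjS x y a.1) (cj_cj x y a.2)

theorem cjP_one (a : Pr k G) : cjP 1 a = a := Prod.ext (cjS_one a.1) (cj_one a.2)

theorem InZ.isInvElt {y : MonoidAlgebra k G} (hy : InZ X y) {P : Subgroup G} (hP : P ≤ X) :
    IsInvElt P y := fun u hu => hy.inv u (hP hu)

theorem isInvElt_cj {P : Subgroup G} {y : MonoidAlgebra k G} (h : IsInvElt P y) (x : G) :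
    IsInvElt (cjS x P) (cj x y) := fun u hu g => by
  rw [coeff_cj, coeff_cj, ← h _ (mem_cjS.1 hu) (x⁻¹ * g * x)]
  group

theorem cj_eq_of_inZ {y : MonoidAlgebra k G} (hy : InZ X y) {x : G} (hx : x ∈ X) : cj x y = y :=
  (isInvElt_iff_cj.1 hy.inv) x hx

theorem centralizer_anti {P Q : Subgroup G} (h : Q ≤ P) :
    X ⊓ Subgroup.centralizer (P : Set G) ≤ X ⊓ Subgroup.centralizer (Q : Set G) :=
  inf_le_inf_left X (Subgroup.centralizer_le h)

theorem cjS_inf_centralizer {x : G} (hx : x ∈ X) (P : Subgroup G) :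
    cjS x (X ⊓ Subgroup.centralizer (P : Set G)) =
      X ⊓ Subgroup.centralizer (cjS x P : Set G) := by
  rw [cjS_inf, cjS_self hx, cjS_centralizer]

theorem IsPair.cj' {a : Pr k G} (h : IsPair p X a) {x : G} (hx : x ∈ X) :
    IsPair p X (cjP x a) :=
  ⟨isPGroup_cjS h.pgroup x, by simpa [cjS_self hx] using cjS_mono x h.le,
    by simpa [cjS_inf_centralizer hx] using h.blk.cj x⟩

theorem IsPairOf.cj' {B : MonoidAlgebra k G} {a : Pr k G} (h : IsPairOf p X B a) {x : G}
    (hx : x ∈ X) : IsPairOf p X B (cjP x a) := by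
  refine ⟨h.pair.cj' hx, h.blk, ?_⟩
  conv_lhs => rw [← cj_eq_of_inZ h.blk.inZ hx, ← cj_brTrunc, ← map_mul, h.occ]

theorem NSub.cj' {a b : Pr k G} (h : NSub p X a b) {x : G} (hx : x ∈ X) :
    NSub p X (cjP x a) (cjP x b) := by
  refine ⟨h.left.cj' hx, h.right.cj' hx, cjS_mono x h.le, fun v hv => ?_, isInvElt_cj h.inv x, ?_⟩
  · refine mem_normalizer_of_cjS_eq ?_
    have h1 := cjS_eq_of_mem_normalizer (h.normal (mem_cjS.1 hv))
    conv_lhs => rw [cjS_cjS, show v * x = x * (x⁻¹ * v * x) by group, ← cjS_cjS, h1]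
  · show brTrunc (cjS x b.1) (cj x a.2) * cj x b.2 = cj x b.2
    rw [← cj_brTrunc, ← map_mul, h.occ]

theorem SubLE.cj' {a b : Pr k G} (h : SubLE p X a b) {x : G} (hx : x ∈ X) :
    SubLE p X (cjP x a) (cjP x b) :=
  by
    induction h with
    | refl => exact Relation.ReflTransGen.refl
    | tail _ h2 ih => exact ih.tail (h2.cj' hx)

theorem SubLE.le {a b : Pr k G} (h : SubLE p X a b) : a.1 ≤ b.1 := by
  induction h with
  | refl => exact le_rfl
  | tail _ h2 ih => exact ih.trans h2.le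

theorem SubLE.left {a b : Pr k G} (h : SubLE p X a b) (hb : IsPair p X b) : IsPair p X a := by
  induction h using Relation.ReflTransGen.head_induction_on with
  | refl => exact hb
  | head h1 _ _ => exact h1.left

/-! ## Uniqueness -/

theorem exists_unique_of_sum_eq_one {ι : Type*} (s : Finset ι) (f : ι → MonoidAlgebra k G)
    {H : Subgroup G} (hf : ∀ i ∈ s, InZ H (f i)) (hid : ∀ i ∈ s, f i * f i = f i)
    (horth : ∀ i ∈ s, ∀ j ∈ s, i ≠ j → f i * f j = 0) (hsum : ∑ i ∈ s, f i = 1)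
    {z : MonoidAlgebra k G} (hz : IsBlk H z) : ∃! i, i ∈ s ∧ f i * z = z := by
  obtain ⟨i, hi, hne⟩ : ∃ i ∈ s, f i * z ≠ 0 := by
    by_contra hc
    push Not at hc
    apply hz.ne_zero
    rw [← one_mul z, ← hsum, Finset.sum_mul, Finset.sum_eq_zero hc]
  have hiz := (hz.prim _ (hf i hi) (hid i hi)).resolve_left hne
  refine ⟨i, ⟨hi, hiz⟩, fun j hj => ?_⟩
  by_contra hne'
  apply hz.ne_zero
  rw [← hj.2, ← hiz, ← mul_assoc, horth j hj.1 i hi hne', zero_mul]

theorem existsUnique_pairOf {a : Pr k G} (ha : IsPair p X a) : ∃! B, IsPairOf p X B a := by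
  have hinv : ∀ B : MonoidAlgebra k G, B ∈ blks k X → IsInvElt a.1 B := fun B hB =>
    (isBlk_of_mem hB).inZ.isInvElt ha.le
  obtain ⟨B, ⟨hB, hBe⟩, huni⟩ := exists_unique_of_sum_eq_one (blks k X) (brTrunc a.1)
    (fun B hB => (isBlk_of_mem hB).inZ.brTrunc a.1)
    (fun B hB => by rw [← brTrunc_mul ha.pgroup (hinv B hB) (hinv B hB), (isBlk_of_mem hB).idem])
    (fun B hB B' hB' hne => by
      rw [← brTrunc_mul ha.pgroup (hinv B hB) (hinv B' hB'),
        (isBlk_of_mem hB).mul_eq_zero (isBlk_of_mem hB') hne, brTrunc_zero])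
    (by rw [← brTrunc_sum, sum_blks, brTrunc_one]) ha.blk
  exact ⟨B, ⟨ha, isBlk_of_mem hB, hBe⟩, fun B' h' => huni B' ⟨mem_blks.2 h'.blk, h'.occ⟩⟩

theorem IsPairOf.unique {B B' : MonoidAlgebra k G} {a : Pr k G} (h : IsPairOf p X B a)
    (h' : IsPairOf p X B' a) : B = B' :=
  (existsUnique_pairOf h.pair).unique h h'

theorem mem_normalizer_inf_centralizer {Q : Subgroup G} {u : G} (huX : u ∈ X)
    (hu : u ∈ Subgroup.normalizer (Q : Set G)) :
    u ∈ Subgroup.normalizer ((X ⊓ Subgroup.centralizer (Q : Set G) : Subgroup G) : Set G) :=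
  mem_normalizer_of_cjS_eq (by rw [cjS_inf_centralizer huX, cjS_eq_of_mem_normalizer hu])

theorem cj_mem_blks {Q : Subgroup G} {u : G} (huX : u ∈ X)
    (hu : u ∈ Subgroup.normalizer (Q : Set G)) {z : MonoidAlgebra k G}
    (hz : z ∈ blks k (X ⊓ Subgroup.centralizer (Q : Set G))) :
    cj u z ∈ blks k (X ⊓ Subgroup.centralizer (Q : Set G)) := by
  have := (isBlk_of_mem hz).cj u
  rw [cjS_inf_centralizer huX, cjS_eq_of_mem_normalizer hu] at this
  exact mem_blks.2 this

/-- Truncation of a sum over a stable set only sees the fixed members. -/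
theorem brTrunc_sum_fixed {P : Subgroup G} (hP : IsPGroup p P) (s : Finset (MonoidAlgebra k G))
    (hs : ∀ u ∈ P, ∀ z ∈ s, cj u z ∈ s) [DecidablePred fun z : MonoidAlgebra k G => IsInvElt P z] :
    brTrunc P (∑ z ∈ s, z) = ∑ z ∈ s.filter (fun z => IsInvElt P z), brTrunc P z := by
  classical
  rw [← brTrunc_sum]
  refine gaExt fun g => ?_
  by_cases hg : g ∈ Subgroup.centralizer (P : Set G)
  · rw [coeff_brTrunc_pos hg, coeff_brTrunc_pos hg, MonoidAlgebra.coeff_sum,
      MonoidAlgebra.coeff_sum, Finset.sum_apply', Finset.sum_apply', Finset.sum_filter,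
      ← Finset.sum_coe_sort s, ← Finset.sum_coe_sort s]
    let _ : SMul P s := ⟨fun u z => ⟨cj (u : G) z.1, hs u u.2 z.1 z.2⟩⟩
    let _ : MulAction P s :=
      { one_smul := fun z => Subtype.ext (cj_one z.1)
        mul_smul := fun u v z => Subtype.ext (cj_cj (u : G) v z.1).symm }
    rw [sum_eq_sum_fixed (p := p) hP (fun z : s => z.1.coeff g) fun u z => ?_, Finset.sum_filter]
    · refine Finset.sum_congr rfl fun z _ => if_congr ?_ rfl rfl
      rw [isInvElt_iff_cj]
      exact ⟨fun h u hu => congrArg Subtype.val (h ⟨u, hu⟩),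
        fun h u => Subtype.ext (h u u.2)⟩
    · show (cj (u : G) z.1).coeff g = z.1.coeff g
      rw [coeff_cj]
      congr 1
      rw [mul_assoc, ← Subgroup.mem_centralizer_iff.1 hg (u : G) u.2, inv_mul_cancel_left]
  · rw [coeff_brTrunc_neg hg, coeff_brTrunc_neg hg]

theorem inZ_brTrunc_sub {P Q : Subgroup G} (h : Q ≤ P) {y : MonoidAlgebra k G}
    (hy : InZ (X ⊓ Subgroup.centralizer (Q : Set G)) y) :
    InZ (X ⊓ Subgroup.centralizer (P : Set G)) (brTrunc P y) := by
  have := hy.brTrunc P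
  rwa [inf_assoc, inf_eq_right.2 (Subgroup.centralizer_le h)] at this

theorem existsUnique_nsub {b : Pr k G} (hb : IsPair p X b) {Q : Subgroup G} (hQ : Q ≤ b.1)
    (hN : b.1 ≤ Subgroup.normalizer (Q : Set G)) : ∃! f, NSub p X (Q, f) b := by
  classical
  set s := (blks k (X ⊓ Subgroup.centralizer (Q : Set G))).filter (fun z => IsInvElt b.1 z)
  have hmem : ∀ z ∈ s, IsBlk (X ⊓ Subgroup.centralizer (Q : Set G)) z ∧ IsInvElt b.1 z :=
    fun z hz => ⟨isBlk_of_mem (Finset.mem_filter.1 hz).1, (Finset.mem_filter.1 hz).2⟩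
  obtain ⟨f, ⟨hf, hfe⟩, huni⟩ := exists_unique_of_sum_eq_one s (brTrunc b.1)
    (fun z hz => inZ_brTrunc_sub hQ (hmem z hz).1.inZ)
    (fun z hz => by rw [← brTrunc_mul hb.pgroup (hmem z hz).2 (hmem z hz).2, (hmem z hz).1.idem])
    (fun z hz z' hz' hne => by
      rw [← brTrunc_mul hb.pgroup (hmem z hz).2 (hmem z' hz').2,
        (hmem z hz).1.mul_eq_zero (hmem z' hz').1 hne, brTrunc_zero])
    (by rw [← brTrunc_sum_fixed hb.pgroup _ (fun u hu z hz => cj_mem_blks (hb.le hu) (hN hu) hz),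
      sum_blks, brTrunc_one]) hb.blk
  refine ⟨f, ⟨⟨hb.pgroup.to_le hQ, hQ.trans hb.le, (hmem f hf).1⟩, hb, hQ, hN, (hmem f hf).2, hfe⟩,
    fun f' h' => huni f' ⟨Finset.mem_filter.2 ⟨mem_blks.2 h'.left.blk, h'.inv⟩, h'.occ⟩⟩

theorem NSub.pairOf_right {B : MonoidAlgebra k G} {a b : Pr k G} (h : NSub p X a b)
    (ha : IsPairOf p X B a) : IsPairOf p X B b := by
  refine ⟨h.right, ha.blk, ?_⟩
  have hBinv := ha.blk.inZ.isInvElt h.right.le
  have h1 := congrArg (brTrunc b.1) ha.occ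
  rw [brTrunc_mul h.right.pgroup (isInvElt_brTrunc h.normal hBinv) h.inv,
    brTrunc_brTrunc h.le] at h1
  rw [← h.occ, ← mul_assoc, h1]

theorem NSub.pairOf_iff {B : MonoidAlgebra k G} {a b : Pr k G} (h : NSub p X a b) :
    IsPairOf p X B a ↔ IsPairOf p X B b := by
  refine ⟨h.pairOf_right, fun hb => ?_⟩
  obtain ⟨B', hB', -⟩ := existsUnique_pairOf h.left
  exact (h.pairOf_right hB').unique hb ▸ hB'

theorem SubLE.pairOf_iff {B : MonoidAlgebra k G} {a b : Pr k G} (h : SubLE p X a b) :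
    IsPairOf p X B a ↔ IsPairOf p X B b := by
  induction h with
  | refl => rfl
  | tail _ h2 ih => exact ih.trans h2.pairOf_iff

theorem NSub.eq_of_same {a b : Pr k G} (h : NSub p X a b) (he : a.1 = b.1) : a = b := by
  obtain ⟨A, f⟩ := a
  obtain ⟨A', e⟩ := b
  obtain rfl : A = A' := he
  have h1 : f * e = e := by
    have := h.occ
    rwa [brTrunc_eq_self fun g hg => h.left.blk.inZ.supp g fun hh => hg hh.2] at this
  obtain rfl : f = e :=
    h.left.blk.eq_of_mul_ne_zero h.right.blk (by show f * e ≠ 0; rw [h1]; exact h.right.blk.ne_zero)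
  rfl

theorem SubLE.tail_cases {a b : Pr k G} (h : SubLE p X a b) :
    a = b ∨ ∃ c, SubLE p X a c ∧ NSub p X c b ∧ c.1 < b.1 := by
  induction h with
  | refl => exact Or.inl rfl
  | @tail c d h1 h2 ih =>
    rcases eq_or_lt_of_le h2.le with he | hlt
    · obtain rfl := h2.eq_of_same he
      exact ih
    · exact Or.inr ⟨c, h1, h2, hlt⟩

theorem exists_normal_between {P Q : Subgroup G} (hP : IsPGroup p P) (h : Q < P) :
    ∃ R, Q ≤ R ∧ R < P ∧ P ≤ Subgroup.normalizer (R : Set G) := by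
  classical
  have hne : (Finset.univ.filter fun R : Subgroup G => Q ≤ R ∧ R < P).Nonempty :=
    ⟨Q, Finset.mem_filter.2 ⟨Finset.mem_univ _, le_rfl, h⟩⟩
  obtain ⟨R, hR, hmax⟩ := Finset.exists_max_image _ (fun R : Subgroup G => Nat.card R) hne
  simp only [Finset.mem_filter, Finset.mem_univ, true_and] at hR hmax
  refine ⟨R, hR.1, hR.2, ?_⟩
  haveI : Finite P := inferInstance
  have h1 := Fusion.lt_inf_normalizer hP.isNilpotent hR.2
  by_contra hc
  have h2 : P ⊓ Subgroup.normalizer (R : Set G) < P := inf_lt_left.2 hc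
  have h3 := hmax _ ⟨hR.1.trans h1.le, h2⟩
  exact h1.ne (Subgroup.eq_of_le_of_card_ge h1.le h3)

/-- Two normal steps inside a normalizing group compose. -/
theorem NSub.trans_normal {a b c : Pr k G} (h1 : NSub p X a b) (h2 : NSub p X b c)
    (hN : c.1 ≤ Subgroup.normalizer (a.1 : Set G)) : NSub p X a c := by
  have hinv : IsInvElt c.1 a.2 := by
    rw [isInvElt_iff_cj]
    intro u hu
    have h := h1.cj' (h2.right.le hu)
    have eb : cjP u b = b :=
      Prod.ext (cjS_eq_of_mem_normalizer (h2.normal hu)) ((isInvElt_iff_cj.1 h2.inv) u hu)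
    rw [eb, cjP, cjS_eq_of_mem_normalizer (hN hu)] at h
    exact (existsUnique_nsub h1.right h1.le h1.normal).unique h h1
  refine ⟨h1.left, h2.right, h1.le.trans h2.le, hN, hinv, ?_⟩
  have e := congrArg (brTrunc c.1) h1.occ
  rw [brTrunc_mul h2.right.pgroup (isInvElt_brTrunc h2.normal hinv) h2.inv,
    brTrunc_brTrunc h2.le] at e
  rw [← h2.occ, ← mul_assoc, e]

theorem existsUnique_subLE : ∀ (n : ℕ) (b : Pr k G), Nat.card b.1 = n → IsPair p X b →
    ∀ Q ≤ b.1, ∃! f, SubLE p X (Q, f) b := by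
  intro n
  induction n using Nat.strong_induction_on with
  | _ n ih =>
    intro b hn hb Q hQ
    have hcard : ∀ R : Subgroup G, R < b.1 → Nat.card R < n := fun R hR => by
      refine hn ▸ lt_of_le_of_ne (Subgroup.card_le_of_le hR.le) fun he => hR.ne ?_
      exact Subgroup.eq_of_le_of_card_ge hR.le he.ge
    rcases eq_or_lt_of_le hQ with rfl | hlt
    · refine ⟨b.2, Relation.ReflTransGen.refl, fun f hf => ?_⟩
      rcases hf.tail_cases with h | ⟨c, h1, -, h3⟩
      · exact congrArg Prod.snd h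
      · exact absurd (h1.le.trans_lt h3) (lt_irrefl _)
    · obtain ⟨R, hQR, hR, hRN⟩ := exists_normal_between hb.pgroup hlt
      obtain ⟨h, hh, -⟩ := existsUnique_nsub hb hR.le hRN
      obtain ⟨f, hf, -⟩ := ih _ (hcard R hR) (R, h) rfl hh.left Q hQR
      refine ⟨f, hf.tail hh, fun f' hf' => ?_⟩
      rcases hf'.tail_cases with heq | ⟨⟨R', h'⟩, h1, h2, h3⟩
      · exact absurd (congrArg Prod.fst heq) hlt.ne
      have hfirst := existsUnique_nsub hb (inf_le_left.trans hR.le : R ⊓ R' ≤ b.1)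
        (fun u hu => mem_normalizer_of_cjS_eq (by
          rw [cjS_inf, cjS_eq_of_mem_normalizer (hRN hu), cjS_eq_of_mem_normalizer (h2.normal hu)]))
      obtain ⟨s, hs, hsu⟩ := hfirst
      obtain ⟨fs, hfs, -⟩ := ih _ (hcard _ (inf_le_left.trans_lt hR)) (R ⊓ R', s) rfl hs.left Q
        (le_inf hQR h1.le)
      have key : ∀ (R₀ : Subgroup G) (h₀ g : MonoidAlgebra k G), NSub p X (R₀, h₀) b → R₀ < b.1 →
          R ⊓ R' ≤ R₀ → SubLE p X (Q, g) (R₀, h₀) → g = fs := by
        intro R₀ h₀ g hn₀ hlt₀ hle₀ hg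
        obtain ⟨s₀, hs₀, -⟩ := existsUnique_nsub hn₀.left hle₀ (hlt₀.le.trans hs.normal)
        have : s₀ = s := hsu _ (hs₀.trans_normal hn₀ hs.normal)
        subst this
        exact (ih _ (hcard R₀ hlt₀) (R₀, h₀) rfl hn₀.left Q hg.le).unique hg (hfs.tail hs₀)
      rw [key R' h' f' h2 h3 inf_le_right h1, key R h f hh hR inf_le_left hf]

theorem existsUnique_below {b : Pr k G} (hb : IsPair p X b) {Q : Subgroup G} (hQ : Q ≤ b.1) :
    ∃! f, SubLE p X (Q, f) b := existsUnique_subLE _ b rfl hb Q hQ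

end Cfsg.Agent.BrauerPairs
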