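/-
Maximal Brauer pairs: defect groups, conjugacy, principal blocks.
-/
import Cfsg.Agent.Lib.BrauerPairs.Pairs

set_option linter.unusedSectionVars false
set_option linter.style.haveILetI false

namespace Cfsg.Agent.BrauerPairs

open MonoidAlgebra Cfsg.Agent.Blocks

variable {G : Type*} [Group G] [Fintype G] {k : Type*} [Field k] [SplitCenter k G]
variable {p : ℕ} [Fact p.Prime] [CharP k p] {X : Subgroup G}

/-! ## Orbit sums -/

theorem mem_normalizer_of_mem_inf {Q : Subgroup G} {u : G}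
    (hu : u ∈ X ⊓ Subgroup.normalizer (Q : Set G)) :
    u ∈ Subgroup.normalizer ((X ⊓ Subgroup.centralizer (Q : Set G) : Subgroup G) : Set G) :=
  mem_normalizer_inf_centralizer hu.1 hu.2

theorem inf_centralizer_le_inf_normalizer (Q : Subgroup G) :
    X ⊓ Subgroup.centralizer (Q : Set G) ≤ X ⊓ Subgroup.normalizer (Q : Set G) :=
  inf_le_inf_left X (Subgroup.centralizer_le_normalizer _)

open Classical in
/-- The conjugates of a block of `X ⊓ C(Q)` under `X ⊓ N(Q)`. -/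
noncomputable def orbitBlks (X : Subgroup G) (a : Pr k G) : Finset (MonoidAlgebra k G) :=
  (blks k (X ⊓ Subgroup.centralizer (a.1 : Set G))).filter
    fun f => ∃ n ∈ X ⊓ Subgroup.normalizer (a.1 : Set G), cj n a.2 = f

theorem mem_orbitBlks {a : Pr k G} (ha : IsPair p X a) {f : MonoidAlgebra k G} :
    f ∈ orbitBlks X a ↔ ∃ n ∈ X ⊓ Subgroup.normalizer (a.1 : Set G), cj n a.2 = f := by
  classical
  simp only [orbitBlks, Finset.mem_filter, and_iff_right_iff_imp]
  rintro ⟨n, hn, rfl⟩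
  exact cj_mem_blks hn.1 hn.2 (mem_blks.2 ha.blk)

theorem orbitBlks_isBlk {a : Pr k G} {f : MonoidAlgebra k G} (hf : f ∈ orbitBlks X a) :
    IsBlk (X ⊓ Subgroup.centralizer (a.1 : Set G)) f := by
  classical
  exact isBlk_of_mem (Finset.mem_filter.1 hf).1

theorem cj_mem_orbitBlks {a : Pr k G} (ha : IsPair p X a) {f : MonoidAlgebra k G}
    (hf : f ∈ orbitBlks X a) {u : G} (hu : u ∈ X ⊓ Subgroup.normalizer (a.1 : Set G)) :
    cj u f ∈ orbitBlks X a := by
  obtain ⟨n, hn, rfl⟩ := (mem_orbitBlks ha).1 hf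
  exact (mem_orbitBlks ha).2 ⟨u * n, mul_mem hu hn, (cj_cj u n a.2).symm⟩

/-- The sum of the conjugates of a block. -/
noncomputable def orbitSum (X : Subgroup G) (a : Pr k G) : MonoidAlgebra k G :=
  ∑ f ∈ orbitBlks X a, f

theorem inZ_orbitSum (a : Pr k G) :
    InZ (X ⊓ Subgroup.centralizer (a.1 : Set G)) (orbitSum X a) :=
  InZ.sum _ _ fun _ hf => (orbitBlks_isBlk hf).inZ

theorem isInvElt_orbitSum {a : Pr k G} (ha : IsPair p X a) :
    IsInvElt (X ⊓ Subgroup.normalizer (a.1 : Set G)) (orbitSum X a) := by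
  rw [isInvElt_iff_cj]
  intro u hu
  rw [orbitSum, map_sum]
  refine Finset.sum_nbij' (cj u) (cj u⁻¹) (fun f hf => cj_mem_orbitBlks ha hf hu)
    (fun f hf => cj_mem_orbitBlks ha hf (inv_mem hu)) (fun f _ => cj_inv_cj u f)
    (fun f _ => cj_cj_inv u f) (fun _ _ => rfl)

theorem self_mem_orbitBlks {a : Pr k G} (ha : IsPair p X a) : a.2 ∈ orbitBlks X a :=
  (mem_orbitBlks ha).2 ⟨1, one_mem _, cj_one _⟩

theorem orbitSum_mul_self {a : Pr k G} (ha : IsPair p X a) : orbitSum X a * a.2 = a.2 := by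
  rw [orbitSum, Finset.sum_mul, Finset.sum_eq_single_of_mem a.2 (self_mem_orbitBlks ha)]
  · exact ha.blk.idem
  · intro f hf hne
    exact (orbitBlks_isBlk hf).mul_eq_zero ha.blk hne

/-! ## Pairs without proper normal extension -/

theorem exists_nsub_of_coeff {a : Pr k G} (ha : IsPair p X a) {P : Subgroup G}
    (hP : IsPGroup p P) (hQP : a.1 ≤ P) (hPN : P ≤ X ⊓ Subgroup.normalizer (a.1 : Set G)) {t : G}
    (htP : t ∈ Subgroup.centralizer (P : Set G)) (ht : (orbitSum X a).coeff t ≠ 0) :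
    ∃ b, NSub p X a b ∧ Nat.card b.1 = Nat.card P := by
  classical
  have hfix := brTrunc_sum_fixed (k := k) hP (orbitBlks X a)
    fun u hu f hf => cj_mem_orbitBlks ha hf (hPN hu)
  obtain ⟨f, hf, hfne⟩ : ∃ f ∈ (orbitBlks X a).filter (fun f => IsInvElt P f),
      brTrunc P f ≠ 0 := by
    by_contra hc
    push Not at hc
    rw [Finset.sum_eq_zero hc] at hfix
    apply ht
    rw [← coeff_brTrunc_pos htP, orbitSum, hfix]
    simp
  obtain ⟨hfO, hfinv⟩ := Finset.mem_filter.1 hf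
  have hfb := orbitBlks_isBlk hfO
  obtain ⟨e', he', hocc⟩ := exists_blk_mul_eq (inZ_brTrunc_sub hQP hfb.inZ)
    (by rw [← brTrunc_mul hP hfinv hfinv, hfb.idem]) hfne
  obtain ⟨n, hn, rfl⟩ := (mem_orbitBlks ha).1 hfO
  have h : NSub p X (a.1, cj n a.2) (P, e') :=
    ⟨⟨ha.pgroup, ha.le, hfb⟩, ⟨hP, hPN.trans inf_le_left, he'⟩, hQP,
      hPN.trans inf_le_right, hfinv, hocc⟩
  have h' := h.cj' (inv_mem hn.1 : n⁻¹ ∈ X)
  have hn' : n⁻¹ ∈ Subgroup.normalizer (a.1 : Set G) := inv_mem hn.2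
  simp only [cjP, cjS_eq_of_mem_normalizer hn', cj_inv_cj] at h'
  exact ⟨_, h', card_cjS n⁻¹ P⟩

theorem NoExt.isSylowIn {a : Pr k G} (hno : NoExt p X a) (ha : IsPair p X a) {t : G}
    (ht : (orbitSum X a).coeff t ≠ 0) :
    IsSylowIn p a.1 (X ⊓ Subgroup.centralizer ({t} : Set G)) := by
  have htH : t ∈ X ⊓ Subgroup.centralizer (a.1 : Set G) :=
    not_not.1 fun h => ht ((inZ_orbitSum a).supp t h)
  refine ⟨le_inf ha.le (le_centralizer_singleton_iff.2 htH.2), ha.pgroup, fun R hQR hRK hR => ?_⟩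
  by_contra hne
  have hlt := Fusion.lt_inf_normalizer hR.isNilpotent (lt_of_le_of_ne hQR (Ne.symm hne))
  set P := R ⊓ Subgroup.normalizer (a.1 : Set G)
  obtain ⟨b, hb, hcard⟩ := exists_nsub_of_coeff ha (P := P) (hR.to_le inf_le_left) hlt.le
    (le_inf (inf_le_left.trans (hRK.trans inf_le_left)) inf_le_right)
    (le_centralizer_singleton_iff.1 (inf_le_left.trans (hRK.trans inf_le_right))) ht
  rw [hno b hb] at hcard
  exact hlt.ne (Subgroup.eq_of_le_of_card_ge hlt.le hcard.ge)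

theorem NoExt.fusion {a : Pr k G} (hno : NoExt p X a) (ha : IsPair p X a) {t : G}
    (ht : (orbitSum X a).coeff t ≠ 0) {x : G} (hx : x ∈ X)
    (hxt : x * t * x⁻¹ ∈ Subgroup.centralizer (a.1 : Set G)) :
    ∃ n ∈ X ⊓ Subgroup.normalizer (a.1 : Set G), n * t * n⁻¹ = x * t * x⁻¹ := by
  have hS := hno.isSylowIn ha ht
  have hle : cjS x⁻¹ a.1 ≤ X ⊓ Subgroup.centralizer ({t} : Set G) := by
    refine le_inf ?_ (le_centralizer_singleton_iff.2 ?_)
    · simpa [cjS_self (inv_mem hx : x⁻¹ ∈ X)] using cjS_mono x⁻¹ ha.le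
    · rw [← cjS_centralizer, mem_cjS]
      simpa using hxt
  obtain ⟨c, hc, hxc⟩ := hS.exists_conj hle (isPGroup_cjS ha.pgroup _)
  have heq : cjS x⁻¹ a.1 = cjS c a.1 :=
    Subgroup.eq_of_le_of_card_ge hxc (by rw [card_cjS, card_cjS])
  refine ⟨x * c, ⟨mul_mem hx hc.1, mem_normalizer_of_cjS_eq ?_⟩, ?_⟩
  · rw [← cjS_cjS, ← heq, cjS_cjS, mul_inv_cancel, cjS_one]
  · have htc : c * t = t * c := Subgroup.mem_centralizer_singleton_iff.1 hc.2
    calc x * c * t * (x * c)⁻¹ = x * (c * t) * c⁻¹ * x⁻¹ := by group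
      _ = x * (t * c) * c⁻¹ * x⁻¹ := by rw [htc]
      _ = x * t * x⁻¹ := by group

theorem brTrunc_classSumIn {a : Pr k G} (hno : NoExt p X a) (ha : IsPair p X a) {t : G}
    (ht : (orbitSum X a).coeff t ≠ 0) :
    brTrunc a.1 (classSumIn k X t) =
      classSumIn k (X ⊓ Subgroup.normalizer (a.1 : Set G)) t := by
  have htC : t ∈ Subgroup.centralizer (a.1 : Set G) :=
    (not_not.1 fun h => ht ((inZ_orbitSum a).supp t h) :
      t ∈ X ⊓ Subgroup.centralizer (a.1 : Set G)).2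
  refine gaExt fun g => ?_
  by_cases hN : ∃ n ∈ X ⊓ Subgroup.normalizer (a.1 : Set G), n * t * n⁻¹ = g
  · obtain ⟨n, hn, rfl⟩ := hN
    rw [coeff_brTrunc_pos ((mem_centralizer_conj_iff hn.2).2 htC),
      coeff_classSumIn_pos ⟨n, hn.1, rfl⟩, coeff_classSumIn_pos ⟨n, hn, rfl⟩]
  · rw [coeff_classSumIn_neg hN]
    by_cases hgC : g ∈ Subgroup.centralizer (a.1 : Set G)
    · rw [coeff_brTrunc_pos hgC, coeff_classSumIn_neg]
      rintro ⟨x, hx, rfl⟩
      exact hN (hno.fusion ha ht hx hgC)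
    · rw [coeff_brTrunc_neg hgC]

theorem NoExt.exists_preimage {a : Pr k G} (hno : NoExt p X a) (ha : IsPair p X a) :
    ∃ Y, InZ X Y ∧ brTrunc a.1 Y = orbitSum X a := by
  refine invElt_induction (N := X ⊓ Subgroup.normalizer (a.1 : Set G))
    (Q := fun y => (∀ x, y.coeff x ≠ 0 → (orbitSum X a).coeff x ≠ 0) →
      ∃ Y, InZ X Y ∧ brTrunc a.1 Y = y) ?_ ?_ _ (isInvElt_orbitSum ha) (fun _ h => h)
  · exact fun _ => ⟨0, InZ.zero X, brTrunc_zero _⟩
  · intro y t _ ht hsub ih hs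
    obtain ⟨Y, hY, hYe⟩ := ih fun x hx => hs x (hsub x hx)
    have htX : t ∈ X :=
      (not_not.1 fun h => hs t ht ((inZ_orbitSum a).supp t h) :
        t ∈ X ⊓ Subgroup.centralizer (a.1 : Set G)).1
    refine ⟨Y + y.coeff t • classSumIn k X t,
      hY.add ((inZ_classSumIn le_rfl Subgroup.le_normalizer htX).smul _), ?_⟩
    rw [brTrunc_add, brTrunc_smul, hYe, brTrunc_classSumIn hno ha (hs t ht), sub_add_cancel]

theorem NoExt.conj_of_pairOf {B : MonoidAlgebra k G} {a : Pr k G} (hno : NoExt p X a)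
    (ha : IsPairOf p X B a) {e' : MonoidAlgebra k G} (he' : IsPairOf p X B (a.1, e')) :
    ∃ n ∈ X ⊓ Subgroup.normalizer (a.1 : Set G), cj n a.2 = e' := by
  obtain ⟨Y, hY, hYe⟩ := hno.exists_preimage ha.pair
  have h1 := lam_brTrunc ha.pair.pgroup ha.pair.le ha.blk ha.pair.blk ha.occ hY
  have h2 := lam_brTrunc he'.pair.pgroup he'.pair.le ha.blk he'.pair.blk he'.occ hY
  rw [hYe, lam_eq_one ha.pair.blk (inZ_orbitSum a) (orbitSum_mul_self ha.pair)] at h1
  rw [hYe, ← h1] at h2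
  have hne : orbitSum X a * e' ≠ 0 := fun h => by
    rw [lam_eq_zero he'.pair.blk (inZ_orbitSum a) h] at h2
    exact zero_ne_one h2
  rw [orbitSum, Finset.sum_mul] at hne
  obtain ⟨f, hf, hfne⟩ := Finset.exists_ne_zero_of_sum_ne_zero hne
  obtain rfl := (orbitBlks_isBlk hf).eq_of_mul_ne_zero he'.pair.blk hfne
  exact (mem_orbitBlks ha.pair).1 hf

theorem NoExt.exists_class {B : MonoidAlgebra k G} {a : Pr k G} (hno : NoExt p X a)
    (ha : IsPairOf p X B a) :
    ∃ t ∈ X, lam B (classSumIn k X t) ≠ 0 ∧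
      IsSylowIn p a.1 (X ⊓ Subgroup.centralizer ({t} : Set G)) := by
  obtain ⟨t, ht, hl⟩ := exists_class_lam_ne_zero (inf_centralizer_le_inf_normalizer a.1)
    (fun u hu => mem_normalizer_of_mem_inf hu) ha.pair.blk (isInvElt_orbitSum ha.pair)
    (inZ_orbitSum a).supp
    (by rw [lam_eq_one ha.pair.blk (inZ_orbitSum a) (orbitSum_mul_self ha.pair)]; exact one_ne_zero)
  have htX : t ∈ X :=
    (not_not.1 fun h => ht ((inZ_orbitSum a).supp t h) :
      t ∈ X ⊓ Subgroup.centralizer (a.1 : Set G)).1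
  rw [← brTrunc_classSumIn hno ha.pair ht,
    lam_brTrunc ha.pair.pgroup ha.pair.le ha.blk ha.pair.blk ha.occ
      (inZ_classSumIn le_rfl Subgroup.le_normalizer htX)] at hl
  exact ⟨t, htX, hl, hno.isSylowIn ha.pair ht⟩

/-! ## Defect groups -/

/-- Min-max: a class with nonzero central functional meets the centraliser. -/
theorem exists_mem_centralizer_of_lam_ne_zero {B : MonoidAlgebra k G} (hB : IsBlk X B)
    {P : Subgroup G} (hP : IsPGroup p P) (hPX : P ≤ X) (hne : brTrunc P B ≠ 0) {t : G}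
    (htX : t ∈ X) (hl : lam B (classSumIn k X t) ≠ 0) :
    ∃ x ∈ X, x * t * x⁻¹ ∈ Subgroup.centralizer (P : Set G) := by
  by_contra hc
  push Not at hc
  have hz : brTrunc P (classSumIn k X t) = 0 := by
    refine gaExt fun g => ?_
    by_cases hg : g ∈ Subgroup.centralizer (P : Set G)
    · rw [coeff_brTrunc_pos hg, coeff_classSumIn_neg]
      · simp
      · rintro ⟨x, hx, rfl⟩
        exact hc x hx hg
    · rw [coeff_brTrunc_neg hg]; simp
  have hinv := hB.inZ.isInvElt hPX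
  obtain ⟨e, he, hocc⟩ := exists_blk_mul_eq (hB.inZ.brTrunc P)
    (by rw [← brTrunc_mul hP hinv hinv, hB.idem]) hne
  have := lam_brTrunc hP hPX hB he hocc (inZ_classSumIn le_rfl Subgroup.le_normalizer htX)
  rw [hz, lam_eq_zero he (InZ.zero _) (zero_mul e)] at this
  exact hl this.symm

theorem exists_isDefGrp {B : MonoidAlgebra k G} (hB : IsBlk X B) : ∃ D, IsDefGrp p X B D := by
  obtain ⟨t, ht, hl⟩ := exists_class_lam_ne_zero le_rfl Subgroup.le_normalizer hB hB.inZ.inv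
    hB.inZ.supp (by rw [lam_eq_one hB hB.inZ hB.idem]; exact one_ne_zero)
  obtain ⟨D, hD⟩ := exists_isSylowIn p (X ⊓ Subgroup.centralizer ({t} : Set G))
  exact ⟨D, t, not_not.1 fun h => ht (hB.inZ.supp t h), ht, hl, hD⟩

theorem IsDefGrp.pgroup {B : MonoidAlgebra k G} {D : Subgroup G} (h : IsDefGrp p X B D) :
    IsPGroup p D := by
  obtain ⟨t, -, -, -, hD⟩ := h
  exact hD.pgroup

theorem IsDefGrp.le {B : MonoidAlgebra k G} {D : Subgroup G} (h : IsDefGrp p X B D) : D ≤ X := by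
  obtain ⟨t, -, -, -, hD⟩ := h
  exact hD.le.trans inf_le_left

theorem IsDefGrp.brTrunc_ne_zero {B : MonoidAlgebra k G} {D : Subgroup G}
    (h : IsDefGrp p X B D) : brTrunc D B ≠ 0 := by
  obtain ⟨t, -, ht, -, hD⟩ := h
  intro h0
  have := congrArg (fun z : MonoidAlgebra k G => z.coeff t) h0
  simp only [coeff_brTrunc_pos (le_centralizer_singleton_iff.1 (hD.le.trans inf_le_right))] at this
  exact ht (by simpa using this)

/-- A `p`-subgroup at which the block does not vanish lies in a conjugate of a defect group. -/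
theorem IsDefGrp.exists_conj_ge {B : MonoidAlgebra k G} {D : Subgroup G}
    (hD : IsDefGrp p X B D) (hB : IsBlk X B) {Q : Subgroup G} (hQ : IsPGroup p Q) (hQX : Q ≤ X)
    (hne : brTrunc Q B ≠ 0) : ∃ x ∈ X, Q ≤ cjS x D := by
  obtain ⟨t, htX, -, hl, hS⟩ := hD
  obtain ⟨x, hx, hxt⟩ := exists_mem_centralizer_of_lam_ne_zero hB hQ hQX hne htX hl
  obtain ⟨c, hc, hxc⟩ := hS.exists_conj (R := cjS x⁻¹ Q)
    (le_inf (by simpa [cjS_self (inv_mem hx : x⁻¹ ∈ X)] using cjS_mono x⁻¹ hQX)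
      (le_centralizer_singleton_iff.2 (by rw [← cjS_centralizer, mem_cjS]; simpa using hxt)))
    (isPGroup_cjS hQ _)
  refine ⟨x * c, mul_mem hx hc.1, ?_⟩
  have := cjS_mono x hxc
  rwa [cjS_cjS, mul_inv_cancel, cjS_one, cjS_cjS] at this

theorem IsDefGrp.cj' {B : MonoidAlgebra k G} {D : Subgroup G} (hD : IsDefGrp p X B D)
    (hB : IsBlk X B) {x : G} (hx : x ∈ X) : IsDefGrp p X B (cjS x D) := by
  obtain ⟨t, htX, ht, hl, hS⟩ := hD
  refine ⟨x * t * x⁻¹, mul_mem (mul_mem hx htX) (inv_mem hx), ?_, ?_, ?_⟩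
  · rwa [hB.inZ.inv x hx t]
  · have : classSumIn k X (x * t * x⁻¹) = classSumIn k X t := by
      refine gaExt fun g => ?_
      by_cases h : ∃ n ∈ X, n * t * n⁻¹ = g
      · obtain ⟨n, hn, rfl⟩ := h
        rw [coeff_classSumIn_pos ⟨n, hn, rfl⟩,
          coeff_classSumIn_pos ⟨n * x⁻¹, mul_mem hn (inv_mem hx), by group⟩]
      · rw [coeff_classSumIn_neg h, coeff_classSumIn_neg]
        rintro ⟨n, hn, hng⟩
        exact h ⟨n * x, mul_mem hn hx, by rw [← hng]; group⟩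
    rwa [this]
  · have := hS.cjS' x
    rwa [cjS_inf, cjS_self hx, cjS_centralizer_singleton] at this

theorem IsDefGrp.exists_conj_eq {B : MonoidAlgebra k G} {D D' : Subgroup G}
    (hD : IsDefGrp p X B D) (hD' : IsDefGrp p X B D') (hB : IsBlk X B) :
    ∃ x ∈ X, D' = cjS x D := by
  obtain ⟨x, hx, h⟩ := hD.exists_conj_ge hB hD'.pgroup hD'.le hD'.brTrunc_ne_zero
  obtain ⟨y, -, h'⟩ := hD'.exists_conj_ge hB hD.pgroup hD.le hD.brTrunc_ne_zero
  refine ⟨x, hx, Subgroup.eq_of_le_of_card_ge h ?_⟩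
  calc Nat.card (cjS x D) = Nat.card D := card_cjS x D
    _ ≤ Nat.card (cjS y D') := Subgroup.card_le_of_le h'
    _ = Nat.card D' := card_cjS y D'

theorem IsPairOf.brTrunc_ne_zero {B : MonoidAlgebra k G} {a : Pr k G} (h : IsPairOf p X B a) :
    brTrunc a.1 B ≠ 0 := fun h0 => h.pair.blk.ne_zero (by rw [← h.occ, h0, zero_mul])

theorem IsPairOf.card_le {B : MonoidAlgebra k G} {a : Pr k G} (h : IsPairOf p X B a)
    {D : Subgroup G} (hD : IsDefGrp p X B D) : Nat.card a.1 ≤ Nat.card D := by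
  obtain ⟨x, -, hx⟩ := hD.exists_conj_ge h.blk h.pair.pgroup h.pair.le h.brTrunc_ne_zero
  exact (Subgroup.card_le_of_le hx).trans (card_cjS x D).le

theorem exists_pairOf_defGrp {B : MonoidAlgebra k G} (hB : IsBlk X B) {D : Subgroup G}
    (hD : IsDefGrp p X B D) : ∃ e, IsPairOf p X B (D, e) := by
  have hinv := hB.inZ.isInvElt hD.le
  obtain ⟨e, he, hocc⟩ := exists_blk_mul_eq (hB.inZ.brTrunc D)
    (by rw [← brTrunc_mul hD.pgroup hinv hinv, hB.idem]) hD.brTrunc_ne_zero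
  exact ⟨e, ⟨hD.pgroup, hD.le, he⟩, hB, hocc⟩

theorem IsPairOf.noExt {B : MonoidAlgebra k G} {a : Pr k G} (h : IsPairOf p X B a)
    (hD : IsDefGrp p X B a.1) : NoExt p X a := fun _ hb =>
  (Subgroup.eq_of_le_of_card_ge hb.le ((hb.pairOf_right h).card_le hD)).symm

theorem NoExt.isDefGrp {B : MonoidAlgebra k G} {a : Pr k G} (hno : NoExt p X a)
    (h : IsPairOf p X B a) : IsDefGrp p X B a.1 := by
  obtain ⟨D, hD⟩ := exists_isDefGrp (p := p) h.blk
  obtain ⟨t, htX, hl, hS⟩ := hno.exists_class h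
  obtain ⟨x, hx, hxt⟩ := exists_mem_centralizer_of_lam_ne_zero h.blk hD.pgroup hD.le
    hD.brTrunc_ne_zero htX hl
  have hle : cjS x⁻¹ D ≤ X ⊓ Subgroup.centralizer ({t} : Set G) :=
    le_inf (by simpa [cjS_self (inv_mem hx : x⁻¹ ∈ X)] using cjS_mono x⁻¹ hD.le)
      (le_centralizer_singleton_iff.2 (by rw [← cjS_centralizer, mem_cjS]; simpa using hxt))
  have hcard : Nat.card D ≤ Nat.card a.1 :=
    (card_cjS x⁻¹ D).symm.le.trans (hS.card_le hle (isPGroup_cjS hD.pgroup _))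
  obtain ⟨y, hy, hay⟩ := hD.exists_conj_ge h.blk h.pair.pgroup h.pair.le h.brTrunc_ne_zero
  rw [Subgroup.eq_of_le_of_card_ge hay ((card_cjS y D).le.trans hcard)]
  exact hD.cj' h.blk hy

theorem exists_noExt_above {a : Pr k G} (ha : IsPair p X a) :
    ∃ b, SubLE p X a b ∧ NoExt p X b ∧ IsPair p X b := by
  suffices h : ∀ n (a : Pr k G), IsPair p X a → Nat.card G - Nat.card a.1 ≤ n →
      ∃ b, SubLE p X a b ∧ NoExt p X b ∧ IsPair p X b from h _ a ha le_rfl
  intro n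
  induction n with
  | zero =>
    refine fun a ha hle => ⟨a, Relation.ReflTransGen.refl, fun b hb => ?_, ha⟩
    have := Subgroup.card_le_card_group b.1
    exact (Subgroup.eq_of_le_of_card_ge hb.le (by omega)).symm
  | succ n ih =>
    intro a ha hle
    by_cases hno : NoExt p X a
    · exact ⟨a, Relation.ReflTransGen.refl, hno, ha⟩
    obtain ⟨b, hb, hne⟩ : ∃ b, NSub p X a b ∧ b.1 ≠ a.1 := by
      simpa [NoExt] using hno
    have h1 : Nat.card a.1 < Nat.card b.1 :=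
      lt_of_le_of_ne (Subgroup.card_le_of_le hb.le) fun he =>
        hne (Subgroup.eq_of_le_of_card_ge hb.le he.ge).symm
    obtain ⟨c, hc, hc1, hc2⟩ := ih b hb.right (by omega)
    exact ⟨c, (Relation.ReflTransGen.single hb).trans hc, hc1, hc2⟩

/-- Pairs of a block over defect groups are conjugate. -/
theorem exists_conj_defect_pair {B : MonoidAlgebra k G} {a b : Pr k G} (ha : IsPairOf p X B a)
    (hb : IsPairOf p X B b) (hDa : IsDefGrp p X B a.1) (hDb : IsDefGrp p X B b.1) :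
    ∃ x ∈ X, cjP x b = a := by
  obtain ⟨x, hx, hxD⟩ := hDb.exists_conj_eq hDa ha.blk
  have hb' := hb.cj' hx
  have he : IsPairOf p X B (a.1, cj x b.2) := hxD ▸ hb'
  obtain ⟨n, hn, hne⟩ := (ha.noExt hDa).conj_of_pairOf ha he
  refine ⟨n⁻¹ * x, mul_mem (inv_mem hn.1) hx, Prod.ext ?_ ?_⟩
  · show cjS (n⁻¹ * x) b.1 = a.1
    rw [← cjS_cjS, ← hxD, cjS_eq_of_mem_normalizer (inv_mem hn.2)]
  · show cj (n⁻¹ * x) b.2 = a.2
    rw [← cj_cj, ← hne, cj_inv_cj]

/-- Every pair of a block is conjugate to one below a given pair over a defect group. -/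
theorem exists_conj_subLE {B : MonoidAlgebra k G} {a b : Pr k G} (ha : IsPairOf p X B a)
    (hb : IsPairOf p X B b) (hDa : IsDefGrp p X B a.1) :
    ∃ x ∈ X, SubLE p X (cjP x b) a := by
  obtain ⟨c, hbc, hno, -⟩ := exists_noExt_above hb.pair
  have hc := hbc.pairOf_iff.1 hb
  obtain ⟨x, hx, hxc⟩ := exists_conj_defect_pair ha hc hDa (hno.isDefGrp hc)
  exact ⟨x, hx, hxc ▸ hbc.cj' hx⟩

/-! ## Principal blocks -/

/-- The block of augmentation one. -/
structure IsPrin (H : Subgroup G) (z : MonoidAlgebra k G) : Prop where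
  blk : IsBlk H z
  aug_eq : aug z = 1

theorem existsUnique_prin (H : Subgroup G) :
    ∃! z : MonoidAlgebra k G, IsPrin H z := by
  have h1 : ∑ z ∈ blks k H, aug z = (1 : k) := by rw [← map_sum, sum_blks, map_one]
  obtain ⟨z, hz, hne⟩ := Finset.exists_ne_zero_of_sum_ne_zero (h1 ▸ one_ne_zero)
  have hz1 : aug z = 1 := by
    have h2 : aug z * aug z = aug z := by rw [← map_mul, (isBlk_of_mem hz).idem]
    exact mul_left_cancel₀ hne (h2.trans (mul_one _).symm)
  refine ⟨z, ⟨isBlk_of_mem hz, hz1⟩, fun z' hz' => ?_⟩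
  by_contra hne'
  have := congrArg aug (hz'.blk.mul_eq_zero (isBlk_of_mem hz) hne')
  rw [map_mul, hz'.aug_eq, hz1, map_zero, mul_one] at this
  exact one_ne_zero this

theorem IsPrin.unique {H : Subgroup G} {z z' : MonoidAlgebra k G} (h : IsPrin H z)
    (h' : IsPrin H z') : z = z' := (existsUnique_prin H).unique h h'

theorem IsPrin.mul_eq {H : Subgroup G} {z y : MonoidAlgebra k G} (hz : IsPrin H z) (hy : InZ H y)
    (hyy : y * y = y) (h1 : aug y = 1) : y * z = z := by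
  refine (hz.blk.prim y hy hyy).resolve_left fun h0 => ?_
  have := congrArg aug h0
  rw [map_mul, h1, hz.aug_eq, map_zero, mul_one] at this
  exact one_ne_zero this

theorem IsPrin.pairOf {B : MonoidAlgebra k G} (hB : IsPrin X B) {P : Subgroup G}
    (hP : IsPGroup p P) (hPX : P ≤ X) {e : MonoidAlgebra k G}
    (he : IsPrin (X ⊓ Subgroup.centralizer (P : Set G)) e) : IsPairOf p X B (P, e) := by
  have hinv := hB.blk.inZ.isInvElt hPX
  exact ⟨⟨hP, hPX, he.blk⟩, hB.blk, he.mul_eq (hB.blk.inZ.brTrunc P)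
    (by rw [← brTrunc_mul hP hinv hinv, hB.blk.idem])
    (by rw [aug_brTrunc hP hinv, hB.aug_eq])⟩

theorem IsPrin.cj_eq {Q : Subgroup G} {f : MonoidAlgebra k G}
    (hf : IsPrin (X ⊓ Subgroup.centralizer (Q : Set G)) f) {u : G} (huX : u ∈ X)
    (hu : u ∈ Subgroup.normalizer (Q : Set G)) : cj u f = f :=
  IsPrin.unique ⟨by simpa [cjS_inf_centralizer huX, cjS_eq_of_mem_normalizer hu] using hf.blk.cj u,
    by rw [aug_cj, hf.aug_eq]⟩ hf

theorem IsPrin.nsub {P Q : Subgroup G} (hP : IsPGroup p P) (hPX : P ≤ X) (hQ : Q ≤ P)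
    (hN : P ≤ Subgroup.normalizer (Q : Set G)) {f e : MonoidAlgebra k G}
    (hf : IsPrin (X ⊓ Subgroup.centralizer (Q : Set G)) f)
    (he : IsPrin (X ⊓ Subgroup.centralizer (P : Set G)) e) : NSub p X (Q, f) (P, e) := by
  have hinv : IsInvElt P f := by
    rw [isInvElt_iff_cj]
    exact fun u hu => hf.cj_eq (hPX hu) (hN hu)
  exact ⟨⟨hP.to_le hQ, hQ.trans hPX, hf.blk⟩, ⟨hP, hPX, he.blk⟩, hQ, hN, hinv,
    he.mul_eq (inZ_brTrunc_sub hQ hf.blk.inZ)
      (by rw [← brTrunc_mul hP hinv hinv, hf.blk.idem]) (by rw [aug_brTrunc hP hinv, hf.aug_eq])⟩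

theorem SubLE.isPrin {a b : Pr k G} (h : SubLE p X a b)
    (hb : IsPrin (X ⊓ Subgroup.centralizer (b.1 : Set G)) b.2) :
    IsPrin (X ⊓ Subgroup.centralizer (a.1 : Set G)) a.2 := by
  induction h using Relation.ReflTransGen.head_induction_on with
  | refl => exact hb
  | @head x y h1 _ ih =>
    obtain ⟨f, hf, -⟩ := existsUnique_prin (k := k) (X ⊓ Subgroup.centralizer (x.1 : Set G))
    have := (existsUnique_nsub h1.right h1.le h1.normal).unique
      (IsPrin.nsub h1.right.pgroup h1.right.le h1.le h1.normal hf ih) h1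
    exact this ▸ hf

/-- Brauer's third main theorem. -/
theorem IsPairOf.isPrin {B : MonoidAlgebra k G} {a : Pr k G} (ha : IsPairOf p X B a)
    (hB : IsPrin X B) : IsPrin (X ⊓ Subgroup.centralizer (a.1 : Set G)) a.2 := by
  obtain ⟨c, hac, hno, -⟩ := exists_noExt_above ha.pair
  have hc := hac.pairOf_iff.1 ha
  obtain ⟨e, he, -⟩ := existsUnique_prin (k := k) (X ⊓ Subgroup.centralizer (c.1 : Set G))
  have hpe := hB.pairOf hc.pair.pgroup hc.pair.le he
  obtain ⟨n, hn, hne⟩ := ((hpe.noExt (hno.isDefGrp hc))).conj_of_pairOf hpe hc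
  rw [he.cj_eq hn.1 hn.2] at hne
  exact hac.isPrin (hne ▸ he)

end Cfsg.Agent.BrauerPairs
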