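/-
Blocks of stabilisers of Brauer pairs and their defect groups.
-/
import Cfsg.Agent.Lib.BrauerPairs.Maximal
import Cfsg.Agent.Lib.BrauerPairs.Concrete
import Cfsg.Agent.Lib.Blocks.Nilpotent
import Cfsg.Agent.Lib.Fusion.Sylow
import Cfsg.Agent.Lib.Fusion.Group

set_option linter.unusedSectionVars false
set_option linter.style.haveILetI false

namespace Cfsg.Agent.BrauerPairs

open MonoidAlgebra Cfsg.Agent.Blocks

variable {G : Type*} [Group G] [Fintype G] {k : Type*} [Field k] [SplitCenter k G]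
variable {p : ℕ} [Fact p.Prime] [CharP k p]

/-! ## Idempotents supported on a centraliser -/

theorem idem_eq_of_isNilpotent_sub {x y : MonoidAlgebra k G} (hc : x * y = y * x)
    (hx : x * x = x) (hy : y * y = y) (h : IsNilpotent (x - y)) : x = y := by
  obtain ⟨n, hn⟩ := h
  have e1 : (x - y) * (x - y) = x + y - 2 * (x * y) := by
    rw [sub_mul, mul_sub, mul_sub, hx, hy, ← hc, two_mul]; abel
  have h3 : (x - y) * (x - y) * (x - y) = x - y := by
    rw [e1, sub_mul, add_mul, mul_sub, mul_sub, hx, hy, ← hc, two_mul, add_mul]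
    have a1 : x * y * x = x * y := by rw [hc, mul_assoc, hx]
    have a2 : x * y * y = x * y := by rw [mul_assoc, hy]
    simp only [mul_sub, a1, a2]
    abel
  have : ∀ m : ℕ, (x - y) ^ (2 * m + 1) = x - y := fun m => by
    induction m with
    | zero => rw [mul_zero, zero_add, pow_one]
    | succ m ih => rw [show 2 * (m + 1) + 1 = 2 + (2 * m + 1) by omega, pow_add, ih, pow_two, h3]
  rw [← sub_eq_zero, ← this n]
  exact pow_eq_zero_of_le (by omega) hn

/-- A class sum outside the centraliser of a normal `p`-subgroup is nilpotent. -/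
theorem isNilpotent_classSumIn {T Q : Subgroup G} (hQ : IsPGroup p Q) (hQT : Q ≤ T)
    (hT : T ≤ Subgroup.normalizer (Q : Set G)) {t : G} (htT : t ∈ T)
    (ht : t ∉ Subgroup.centralizer (Q : Set G)) : IsNilpotent (classSumIn k T t) := by
  classical
  haveI : Fintype T := Fintype.ofFinite T
  haveI : (Q.subgroupOf T).Normal := (Subgroup.normal_subgroupOf_iff_le_normalizer hQT).2 hT
  have h := classSum_isNilpotent (R := k) (Q.subgroupOf T)
    (hQ.comap_of_injective _ Subtype.val_injective) (⟨t, htT⟩ : T) fun x hx hxC => by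
      obtain ⟨c, rfl⟩ := isConj_iff.1 hx
      refine ht ((mem_centralizer_conj_iff (hT c.2)).1 ?_)
      exact Subgroup.mem_centralizer_iff.2 fun u hu => congrArg Subtype.val
        (Subgroup.mem_centralizer_iff.1 hxC ⟨u, hQT hu⟩ (by exact hu))
  have e : emb T (classSum k (⟨t, htT⟩ : T)) = classSumIn k T t := by
    refine gaExt fun g => ?_
    by_cases hg : g ∈ T
    · rw [coeff_emb_mem T _ hg, coeff_classSum]
      by_cases hh : ∃ n ∈ T, n * t * n⁻¹ = g
      · rw [coeff_classSumIn_pos hh, if_pos]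
        obtain ⟨n, hn, hng⟩ := hh
        exact isConj_iff.2 ⟨⟨n, hn⟩, Subtype.ext hng⟩
      · rw [coeff_classSumIn_neg hh, if_neg]
        intro hc
        obtain ⟨n, hn⟩ := isConj_iff.1 hc
        exact hh ⟨n, n.2, congrArg Subtype.val hn⟩
    · rw [coeff_emb_notMem T _ hg, coeff_classSumIn_neg]
      rintro ⟨n, hn, rfl⟩
      exact hg (mul_mem (mul_mem hn htT) (inv_mem hn))
  exact e ▸ h.map (emb (R := k) T)

/-- Central idempotents of `T` live on the centraliser of a normal `p`-subgroup. -/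
theorem brTrunc_eq_self_of_normal {T Q : Subgroup G} (hQ : IsPGroup p Q) (hQT : Q ≤ T)
    (hT : T ≤ Subgroup.normalizer (Q : Set G)) {y : MonoidAlgebra k G} (hy : InZ T y)
    (hyy : y * y = y) : brTrunc Q y = y := by
  have hb : InZ T (brTrunc Q y) := by
    refine ⟨fun g hg => ?_, isInvElt_brTrunc hT hy.inv⟩
    by_cases h : g ∈ Subgroup.centralizer (Q : Set G)
    · rw [coeff_brTrunc_pos h, hy.supp g hg]
    · rw [coeff_brTrunc_neg h]
  have hyQ : IsInvElt Q y := hy.isInvElt hQT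
  refine (idem_eq_of_isNilpotent_sub (hy.comm hb.supp) hyy
    (by rw [← brTrunc_mul hQ hyQ hyQ, hyy]) ?_).symm
  refine invElt_induction (N := T)
    (Q := fun w => (∀ g, w.coeff g ≠ 0 → g ∈ T ∧ g ∉ Subgroup.centralizer (Q : Set G)) →
      IsNilpotent w) ?_ ?_ (y - brTrunc Q y) (hy.sub hb).inv (fun g hg => ?_)
  · exact fun _ => IsNilpotent.zero
  · intro w t hw ht hsub ih hs
    have hcl : InZ T (classSumIn k T t) := inZ_classSumIn le_rfl Subgroup.le_normalizer (hs t ht).1
    have hwT : InZ T w := ⟨fun g hg => not_not.1 fun h => hg (hs g h).1, hw⟩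
    have h1 := ih fun g hg => hs g (hsub g hg)
    have h2 := (isNilpotent_classSumIn (k := k) hQ hQT hT (hs t ht).1 (hs t ht).2).smul (w.coeff t)
    have hc : Commute (w - w.coeff t • classSumIn k T t) (w.coeff t • classSumIn k T t) :=
      (hwT.sub (hcl.smul _)).comm (hcl.smul _).supp
    simpa using hc.isNilpotent_add h1 h2
  · refine ⟨not_not.1 fun h => hg ((hy.sub hb).supp g h), fun h => hg ?_⟩
    simp [coeff_brTrunc_pos h]

/-- A block of `C(Q)` is a block of every group between `C(Q)Q` and its stabiliser. -/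
theorem isBlk_of_le {K Q : Subgroup G} (hQ : IsPGroup p Q) (hQK : Q ≤ K)
    (hK : K ≤ Subgroup.normalizer (Q : Set G)) (hCK : Subgroup.centralizer (Q : Set G) ≤ K)
    {f : MonoidAlgebra k G} (hf : IsBlk (Subgroup.centralizer (Q : Set G)) f)
    (hfix : IsInvElt K f) : IsBlk K f := by
  refine ⟨⟨fun g hg => hf.inZ.supp g fun h => hg (hCK h), hfix⟩, hf.idem, hf.ne_zero,
    fun y hy hyy => hf.prim y ⟨fun g hg => ?_, fun u hu => hy.inv u (hCK hu)⟩ hyy⟩
  rw [← brTrunc_eq_self_of_normal hQ hQK hK hy hyy, coeff_brTrunc_neg hg]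

/-! ## Conjugation -/

theorem lam_cj {H : Subgroup G} {z y : MonoidAlgebra k G} (hz : IsBlk H z) (hy : InZ H y) (x : G) :
    lam (cj x z) (cj x y) = lam z y := by
  refine lam_eq (hz.cj x) (hy.cj x) ?_
  have := (lam_spec hz hy).map (cj (k := k) x)
  rwa [map_mul, map_sub, map_smul, map_one] at this

theorem cj_classSumIn (N : Subgroup G) (x t : G) :
    cj x (classSumIn k N t) = classSumIn k (cjS x N) (x * t * x⁻¹) := by
  refine gaExt fun g => ?_
  rw [coeff_cj]
  by_cases h : ∃ n ∈ N, n * t * n⁻¹ = x⁻¹ * g * x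
  · obtain ⟨n, hn, hng⟩ := h
    rw [coeff_classSumIn_pos ⟨n, hn, hng⟩,
      coeff_classSumIn_pos ⟨x * n * x⁻¹, mem_cjS.2 (by simpa [mul_assoc] using hn), ?_⟩]
    calc x * n * x⁻¹ * (x * t * x⁻¹) * (x * n * x⁻¹)⁻¹ = x * (n * t * n⁻¹) * x⁻¹ := by group
      _ = g := by rw [hng]; group
  · rw [coeff_classSumIn_neg h, coeff_classSumIn_neg]
    rintro ⟨n, hn, rfl⟩
    exact h ⟨x⁻¹ * n * x, mem_cjS.1 hn, by group⟩

theorem IsDefGrp.conj {X : Subgroup G} {B : MonoidAlgebra k G} {D : Subgroup G}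
    (hD : IsDefGrp p X B D) (hB : IsBlk X B) (x : G) :
    IsDefGrp p (cjS x X) (cj x B) (cjS x D) := by
  obtain ⟨t, htX, ht, hl, hS⟩ := hD
  refine ⟨x * t * x⁻¹, mem_cjS.2 (by simpa [mul_assoc] using htX), ?_, ?_, ?_⟩
  · rw [coeff_cj]
    simpa [mul_assoc] using ht
  · rwa [← cj_classSumIn, lam_cj hB (inZ_classSumIn le_rfl Subgroup.le_normalizer htX)]
  · have := hS.cjS' x
    rwa [cjS_inf, cjS_centralizer_singleton] at this

theorem cjS_normalizer (x : G) (P : Subgroup G) :
    cjS x (Subgroup.normalizer (P : Set G)) = Subgroup.normalizer (cjS x P : Set G) :=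
  FusionSys.map_normalizer_conj P x

theorem centralizer_sup (A B : Subgroup G) :
    Subgroup.centralizer ((A ⊔ B : Subgroup G) : Set G) =
      Subgroup.centralizer (A : Set G) ⊓ Subgroup.centralizer (B : Set G) := by
  refine le_antisymm (le_inf
    (Subgroup.centralizer_le (show A ≤ A ⊔ B from le_sup_left))
    (Subgroup.centralizer_le (show B ≤ A ⊔ B from le_sup_right))) fun g hg => ?_
  rw [← le_centralizer_singleton_iff]
  exact sup_le (le_centralizer_singleton_iff.2 hg.1) (le_centralizer_singleton_iff.2 hg.2)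

/-- The stabiliser of a pair in the normaliser. -/
def stabP (b : Pr k G) : Subgroup G where
  carrier := {g | g ∈ Subgroup.normalizer (b.1 : Set G) ∧ cj g b.2 = b.2}
  one_mem' := ⟨one_mem _, cj_one _⟩
  mul_mem' := by
    rintro g h ⟨hg, hg'⟩ ⟨hh, hh'⟩
    exact ⟨mul_mem hg hh, by rw [← cj_cj, hh', hg']⟩
  inv_mem' := by
    rintro g ⟨hg, hg'⟩
    exact ⟨inv_mem hg, by conv_lhs => rw [← hg', cj_inv_cj]⟩

theorem mem_stabP {b : Pr k G} {g : G} :
    g ∈ stabP b ↔ g ∈ Subgroup.normalizer (b.1 : Set G) ∧ cj g b.2 = b.2 := Iff.rfl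

theorem stabP_le_normalizer (b : Pr k G) : stabP b ≤ Subgroup.normalizer (b.1 : Set G) :=
  fun _ hg => hg.1

theorem cjS_stabP (x : G) (b : Pr k G) : cjS x (stabP b) = stabP (cjP x b) := by
  ext g
  rw [mem_cjS, mem_stabP, mem_stabP, ← cjS_normalizer, mem_cjS]
  refine and_congr_right fun _ => ⟨fun h => ?_, fun h => ?_⟩
  · show cj g (cj x b.2) = cj x b.2
    conv_rhs => rw [← h, cj_cj]
    rw [cj_cj]
    congr 2
    group
  · rw [← cj_inv_cj x b.2]
    show cj (x⁻¹ * g * x) (cj x⁻¹ (cj x b.2)) = cj x⁻¹ (cj x b.2)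
    rw [cj_cj, show x⁻¹ * g * x * x⁻¹ = x⁻¹ * g by group, ← cj_cj, h]

theorem isInvElt_stabP (b : Pr k G) : IsInvElt (stabP b) b.2 := by
  rw [isInvElt_iff_cj]
  exact fun u hu => hu.2

theorem centralizer_le_stabP {b : Pr k G}
    (hb : IsBlk (Subgroup.centralizer (b.1 : Set G)) b.2) :
    Subgroup.centralizer (b.1 : Set G) ≤ stabP b := fun g hg =>
  ⟨Subgroup.centralizer_le_normalizer _ hg, cj_eq_of_inZ hb.inZ hg⟩

theorem self_le_stabP {b : Pr k G} (hb : IsBlk (Subgroup.centralizer (b.1 : Set G)) b.2) :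
    b.1 ≤ stabP b := fun u hu => by
  refine ⟨Subgroup.le_normalizer hu, gaExt fun g => ?_⟩
  rw [coeff_cj]
  by_cases hg : g ∈ Subgroup.centralizer (b.1 : Set G)
  · congr 1
    rw [mul_assoc, ← Subgroup.mem_centralizer_iff.1 hg u hu, inv_mul_cancel_left]
  · rw [hb.inZ.supp g hg, hb.inZ.supp]
    intro h
    exact hg (by simpa [mul_assoc] using (mem_centralizer_conj_iff (Subgroup.le_normalizer hu)).2 h)

theorem isBlk_stabP {b : Pr k G} (hp : IsPGroup p b.1)
    (hb : IsBlk (Subgroup.centralizer (b.1 : Set G)) b.2) : IsBlk (stabP b) b.2 :=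
  isBlk_of_le hp (self_le_stabP hb) (stabP_le_normalizer b) (centralizer_le_stabP hb) hb
    (isInvElt_stabP b)

end Cfsg.Agent.BrauerPairs
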