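/-
Defect groups of the blocks attached to the pairs below a maximal Brauer pair.
-/
import Cfsg.Agent.Lib.BrauerPairs.Stab
import Cfsg.Agent.Lib.Fusion.Saturated

set_option linter.unusedSectionVars false
set_option linter.style.haveILetI false

namespace Cfsg.Agent.BrauerPairs

open MonoidAlgebra Cfsg.Agent.Blocks Cfsg

variable {G : Type*} [Group G] [Fintype G] {k : Type*} [Field k] [SplitCenter k G]
variable {p : ℕ} [Fact p.Prime] [CharP k p]

/-- A maximal Brauer pair. -/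
structure IsMax (p : ℕ) (B : MonoidAlgebra k G) (a : Pr k G) : Prop where
  pairOf : IsPairOf p ⊤ B a
  isDef : IsDefGrp p ⊤ B a.1

theorem IsPair.blkC {b : Pr k G} (h : IsPair p ⊤ b) :
    IsBlk (Subgroup.centralizer (b.1 : Set G)) b.2 := by
  simpa only [top_inf_eq] using h.blk

theorem IsPair.cjT {b : Pr k G} (h : IsPair p ⊤ b) (x : G) : IsPair p ⊤ (cjP x b) :=
  h.cj' (Subgroup.mem_top x)

theorem IsPairOf.cjT {B : MonoidAlgebra k G} {b : Pr k G} (h : IsPairOf p ⊤ B b) (x : G) :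
    IsPairOf p ⊤ B (cjP x b) := h.cj' (Subgroup.mem_top x)

theorem SubLE.cjT {a b : Pr k G} (h : SubLE p ⊤ a b) (x : G) :
    SubLE p ⊤ (cjP x a) (cjP x b) := h.cj' (Subgroup.mem_top x)

/-- Two pairs below a common pair are comparable as soon as their subgroups are. -/
theorem SubLE.of_le {X : Subgroup G} {a b c : Pr k G} (ha : IsPair p X a) (hb : SubLE p X b a)
    (hc : SubLE p X c a) (h : c.1 ≤ b.1) : SubLE p X c b := by
  obtain ⟨f, hf, -⟩ := existsUnique_below (hb.left ha) h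
  have := (existsUnique_below ha (h.trans hb.le)).unique (y₁ := f) (y₂ := c.2) (hf.trans hb) hc
  subst this
  exact hf

/-- Comparable pairs with normal subgroups form a normal inclusion. -/
theorem SubLE.nsub {X : Subgroup G} {b c : Pr k G} (hb : IsPair p X b) (h : SubLE p X c b)
    (hN : b.1 ≤ Subgroup.normalizer (c.1 : Set G)) : NSub p X c b := by
  obtain ⟨f, hf, -⟩ := existsUnique_nsub hb h.le hN
  have := (existsUnique_below hb h.le).unique (y₁ := f) (y₂ := c.2)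
    (Relation.ReflTransGen.single hf) h
  subst this
  exact hf

/-- The block at a `p`-subgroup inside the stabiliser does not vanish. -/
theorem brTrunc_inf_ne_zero {a b : Pr k G} (ha : IsPair p ⊤ a) (hb : SubLE p ⊤ b a)
    {K : Subgroup G} (hK : K ≤ stabP b) : brTrunc (a.1 ⊓ K) b.2 ≠ 0 := by
  have hQR : b.1 ≤ a.1 ⊓ Subgroup.normalizer (b.1 : Set G) :=
    le_inf hb.le Subgroup.le_normalizer
  obtain ⟨r, hr, -⟩ := existsUnique_below ha
    (inf_le_left : a.1 ⊓ Subgroup.normalizer (b.1 : Set G) ≤ a.1)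
  have hn := (SubLE.of_le ha hr hb hQR).nsub (hr.left ha) inf_le_right
  intro h0
  have h1 : brTrunc (a.1 ⊓ Subgroup.normalizer (b.1 : Set G)) b.2 = 0 := by
    rw [← brTrunc_brTrunc (inf_le_inf_left a.1 (hK.trans (stabP_le_normalizer b))), h0, brTrunc_zero]
  have := hn.occ
  simp only [h1, zero_mul] at this
  exact hn.right.blk.ne_zero this.symm

/-- A `p`-subgroup of the stabiliser at which the block does not vanish gives an extension. -/
theorem exists_nsub_of_brTrunc {b : Pr k G} (hb : IsPair p ⊤ b) {R : Subgroup G}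
    (hR : IsPGroup p R) (hRS : R ≤ stabP b) (hne : brTrunc R b.2 ≠ 0) :
    ∃ g, NSub p ⊤ b (b.1 ⊔ R, g) := by
  have hle : b.1 ⊔ R ≤ stabP b := sup_le (self_le_stabP hb.blkC) hRS
  have hp : IsPGroup p (b.1 ⊔ R : Subgroup G) := by
    rw [sup_comm]
    exact hR.to_sup_of_normal_right' hb.pgroup (hRS.trans (stabP_le_normalizer b))
  have hinv : IsInvElt (b.1 ⊔ R) b.2 := fun u hu => isInvElt_stabP b u (hle hu)
  have heq : brTrunc (b.1 ⊔ R) b.2 = brTrunc R b.2 := by
    refine gaExt fun g => ?_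
    by_cases hg : g ∈ Subgroup.centralizer ((b.1 ⊔ R : Subgroup G) : Set G)
    · rw [coeff_brTrunc_pos hg, coeff_brTrunc_pos (centralizer_sup b.1 R ▸ hg).2]
    · rw [coeff_brTrunc_neg hg]
      by_cases hgR : g ∈ Subgroup.centralizer (R : Set G)
      · rw [coeff_brTrunc_pos hgR, hb.blkC.inZ.supp]
        exact fun h => hg ((centralizer_sup b.1 R).symm ▸ ⟨h, hgR⟩)
      · rw [coeff_brTrunc_neg hgR]
  obtain ⟨g, hg, hocc⟩ := exists_blk_mul_eq (H := (⊤ : Subgroup G) ⊓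
      Subgroup.centralizer ((b.1 ⊔ R : Subgroup G) : Set G))
    (inZ_brTrunc_sub le_sup_left hb.blk.inZ)
    (by rw [← brTrunc_mul hp hinv hinv, hb.blk.idem]) (heq ▸ hne)
  exact ⟨g, hb, ⟨hp, le_top, hg⟩, le_sup_left, hle.trans (stabP_le_normalizer b), hinv, hocc⟩

variable {B : MonoidAlgebra k G} {a : Pr k G}

theorem IsMax.exists_conj_le (hmax : IsMax p B a) {b : Pr k G} (hb : IsPairOf p ⊤ B b)
    {R : Subgroup G} (hR : IsPGroup p R) (hRS : R ≤ stabP b) (hne : brTrunc R b.2 ≠ 0) :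
    ∃ x, SubLE p ⊤ (cjP x b) a ∧ cjS x R ≤ a.1 := by
  obtain ⟨g, hg⟩ := exists_nsub_of_brTrunc hb.pair hR hRS hne
  obtain ⟨x, -, hx⟩ := exists_conj_subLE hmax.pairOf (hg.pairOf_right hb) hmax.isDef
  exact ⟨x, (SubLE.cjT (Relation.ReflTransGen.single hg) x).trans hx,
    (cjS_mono x le_sup_right).trans hx.le⟩

theorem IsMax.exists_conj_defect (hmax : IsMax p B a) {b : Pr k G} (hb : IsPairOf p ⊤ B b)
    {K : Subgroup G} (hK : K ≤ stabP b) (hKf : IsBlk K b.2) :
    ∃ x, SubLE p ⊤ (cjP x b) a ∧ IsDefGrp p (cjS x K) (cj x b.2) (a.1 ⊓ cjS x K) := by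
  obtain ⟨D, hD⟩ := exists_isDefGrp (p := p) hKf
  obtain ⟨x, hx, hxD⟩ := hmax.exists_conj_le hb hD.pgroup (hD.le.trans hK) hD.brTrunc_ne_zero
  refine ⟨x, hx, ?_⟩
  have hD' := hD.conj hKf x
  have hK' : cjS x K ≤ stabP (cjP x b) := by rw [← cjS_stabP]; exact cjS_mono x hK
  obtain ⟨c, -, hc⟩ := hD'.exists_conj_ge (hKf.cj x) (hmax.pairOf.pair.pgroup.to_le inf_le_left)
    inf_le_right (brTrunc_inf_ne_zero hmax.pairOf.pair hx hK')
  have := Subgroup.eq_of_le_of_card_ge (le_inf hxD (cjS_mono x hD.le))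
    ((Subgroup.card_le_of_le hc).trans (card_cjS c _).le)
  exact this ▸ hD'

theorem IsMax.card_inf_le (hmax : IsMax p B a) {b : Pr k G} (hb : SubLE p ⊤ b a) {K : Subgroup G}
    (hK : K ≤ stabP b) (hKf : IsBlk K b.2) {D : Subgroup G} (hD : IsDefGrp p K b.2 D) :
    Nat.card (a.1 ⊓ K : Subgroup G) ≤ Nat.card D := by
  obtain ⟨c, -, hc⟩ := hD.exists_conj_ge hKf (hmax.pairOf.pair.pgroup.to_le inf_le_left)
    inf_le_right (brTrunc_inf_ne_zero hmax.pairOf.pair hb hK)
  exact (Subgroup.card_le_of_le hc).trans (card_cjS c _).le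

theorem IsMax.exists_defect_ge (hmax : IsMax p B a) {b : Pr k G} (hb : SubLE p ⊤ b a)
    {K : Subgroup G} (hK : K ≤ stabP b) (hKf : IsBlk K b.2) :
    ∃ D, IsDefGrp p K b.2 D ∧ a.1 ⊓ K ≤ D := by
  obtain ⟨D, hD⟩ := exists_isDefGrp (p := p) hKf
  obtain ⟨c, hc, hle⟩ := hD.exists_conj_ge hKf (hmax.pairOf.pair.pgroup.to_le inf_le_left)
    inf_le_right (brTrunc_inf_ne_zero hmax.pairOf.pair hb hK)
  exact ⟨_, hD.cj' hKf hc, hle⟩

theorem IsMax.defect_of_card_max (hmax : IsMax p B a) {b : Pr k G} (hb : SubLE p ⊤ b a)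
    {K : Subgroup G} (hK : K ≤ stabP b) (hKf : IsBlk K b.2)
    (h : ∀ x, SubLE p ⊤ (cjP x b) a →
      Nat.card (a.1 ⊓ cjS x K : Subgroup G) ≤ Nat.card (a.1 ⊓ K : Subgroup G)) :
    IsDefGrp p K b.2 (a.1 ⊓ K) := by
  obtain ⟨D, hD, hle⟩ := hmax.exists_defect_ge hb hK hKf
  obtain ⟨x, hx, hxD⟩ := hmax.exists_conj_le (hb.pairOf_iff.2 hmax.pairOf) hD.pgroup
    (hD.le.trans hK) hD.brTrunc_ne_zero
  rw [Subgroup.eq_of_le_of_card_ge hle (((card_cjS x D).symm.le.trans
    (Subgroup.card_le_of_le (le_inf hxD (cjS_mono x hD.le)))).trans (h x hx))]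
  exact hD

theorem IsMax.card_le_of_defect (hmax : IsMax p B a) {b : Pr k G} {K : Subgroup G}
    (hK : K ≤ stabP b) (hKf : IsBlk K b.2) (hD : IsDefGrp p K b.2 (a.1 ⊓ K)) {x : G}
    (hx : SubLE p ⊤ (cjP x b) a) :
    Nat.card (a.1 ⊓ cjS x K : Subgroup G) ≤ Nat.card (a.1 ⊓ K : Subgroup G) :=
  (hmax.card_inf_le hx (by rw [← cjS_stabP]; exact cjS_mono x hK) (hKf.cj x)
    (hD.conj hKf x)).trans (card_cjS x _).le

/-! ## Sylow property in the stabiliser -/

theorem isSylowIn_of_isSyl {D K : Subgroup G} (h : FusionSys.IsSyl p D K) : IsSylowIn p D K :=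
  ⟨h.1, h.2.1, fun _ hDR hRK hR => (h.eq_of_le hDR hRK hR).symm⟩

theorem isSyl_autInducedBy {Q A K : Subgroup G} (hK : K ≤ Subgroup.normalizer (Q : Set G))
    (h : FusionSys.IsSyl p A K) :
    FusionSys.IsSyl p (autInducedBy A Q) (autInducedBy K Q) := by
  have e : ∀ L : Subgroup G, L ≤ Subgroup.normalizer (Q : Set G) →
      Cfsg.FusionSystem.normalizerIn L Q = L := fun L hL => inf_eq_left.2 hL
  rw [FusionSys.autInducedBy_eq_map, FusionSys.autInducedBy_eq_map, e A (h.1.trans hK), e K hK]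
  refine FusionSys.IsSyl.map (A := A.subgroupOf (Subgroup.normalizer (Q : Set G)))
    (B := K.subgroupOf (Subgroup.normalizer (Q : Set G)))
    ⟨fun x hx => h.1 hx, FusionSys.isPGroup_subgroupOf h.2.1, ?_⟩ _
  rw [Subgroup.relIndex_subgroupOf hK]
  exact h.2.2

theorem card_eq_mul_aut {Q K : Subgroup G} (hK : K ≤ Subgroup.normalizer (Q : Set G)) :
    Nat.card K = Nat.card (K ⊓ Subgroup.centralizer (Q : Set G) : Subgroup G) *
      Nat.card (autInducedBy K Q) := by
  rw [FusionSys.autInducedBy_eq_map,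
    show Cfsg.FusionSystem.normalizerIn K Q = K from inf_eq_left.2 hK]
  let ψ : K →* MulAut Q := Q.normalizerMonoidHom.comp (Subgroup.inclusion hK)
  have h1 : ψ.range = (K.subgroupOf (Subgroup.normalizer (Q : Set G))).map Q.normalizerMonoidHom := by
    ext α
    constructor
    · rintro ⟨x, rfl⟩
      exact ⟨Subgroup.inclusion hK x, x.2, rfl⟩
    · rintro ⟨y, hy, rfl⟩
      exact ⟨⟨y, hy⟩, rfl⟩
  have h2 : ψ.ker = (Subgroup.centralizer (Q : Set G)).subgroupOf K := by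
    ext x
    rw [MonoidHom.mem_ker, Subgroup.mem_subgroupOf, Subgroup.mem_centralizer_iff]
    constructor
    · intro h u hu
      have : (x : G) * u * (x : G)⁻¹ = u :=
        congrArg Subtype.val (DFunLike.congr_fun h (⟨u, hu⟩ : Q))
      exact (mul_inv_eq_iff_eq_mul.1 this).symm
    · intro h
      refine MulEquiv.ext fun u => Subtype.ext ?_
      show (x : G) * u * (x : G)⁻¹ = u
      rw [← h u u.2, mul_inv_cancel_right]
  rw [← h1, ← Subgroup.card_mul_index ψ.ker, Subgroup.index_ker, h2]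
  congr 1
  rw [← Subgroup.inf_subgroupOf_left]
  exact Nat.card_congr (Subgroup.subgroupOfEquivOfLe inf_le_left).toEquiv

theorem lam_sum {H : Subgroup G} {z : MonoidAlgebra k G} (hz : IsBlk H z) {ι : Type*}
    (s : Finset ι) (f : ι → MonoidAlgebra k G) (hf : ∀ i ∈ s, InZ H (f i)) :
    lam z (∑ i ∈ s, f i) = ∑ i ∈ s, lam z (f i) := by
  classical
  induction s using Finset.induction with
  | empty => simpa using lam_eq_zero hz (InZ.zero H) (zero_mul z)
  | insert i s hi ih =>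
    rw [Finset.sum_insert hi, Finset.sum_insert hi,
      lam_add hz (hf i (Finset.mem_insert_self i s))
        (InZ.sum _ _ fun j hj => hf j (Finset.mem_insert_of_mem hj)),
      ih fun j hj => hf j (Finset.mem_insert_of_mem hj)]

theorem classSumIn_conj_eq {N : Subgroup G} {t n : G} (hn : n ∈ N) :
    classSumIn k N (n * t * n⁻¹) = classSumIn k N t := by
  refine gaExt fun g => ?_
  by_cases h : ∃ m ∈ N, m * t * m⁻¹ = g
  · obtain ⟨m, hm, rfl⟩ := h
    rw [coeff_classSumIn_pos ⟨m, hm, rfl⟩,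
      coeff_classSumIn_pos ⟨m * n⁻¹, mul_mem hm (inv_mem hn), by group⟩]
  · rw [coeff_classSumIn_neg h, coeff_classSumIn_neg]
    rintro ⟨m, hm, hmg⟩
    exact h ⟨m * n, mul_mem hm hn, by rw [← hmg]; group⟩

/-- Inside the orbit of `t` under `T` some `C`-class is fixed by a given `p`-subgroup and keeps a
nonzero value. -/
theorem exists_fixed_class {b : Pr k G} (hb : IsPair p ⊤ b) {t : G}
    (ht : t ∈ Subgroup.centralizer (b.1 : Set G))
    (hl : lam b.2 (classSumIn k (stabP b) t) ≠ 0) {P₀ : Subgroup G} (hP₀ : IsPGroup p P₀)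
    (hP₀T : P₀ ≤ stabP b) :
    ∃ u ∈ stabP b, lam b.2 (classSumIn k (Subgroup.centralizer (b.1 : Set G)) (u * t * u⁻¹)) ≠ 0 ∧
      ∀ v ∈ P₀, ∃ c ∈ Subgroup.centralizer (b.1 : Set G),
        c * (u * t * u⁻¹) * c⁻¹ = v * (u * t * u⁻¹) * v⁻¹ := by
  classical
  set C := Subgroup.centralizer (b.1 : Set G) with hC
  have hCT : C ≤ stabP b := centralizer_le_stabP hb.blkC
  have hcjC : ∀ u ∈ stabP b, cjS u C = C := fun u hu => by
    rw [hC, cjS_centralizer, cjS_eq_of_mem_normalizer (stabP_le_normalizer b hu)]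
  let s : Finset (MonoidAlgebra k G) :=
    ((Finset.univ.filter (· ∈ stabP b)).image fun u : G => classSumIn k C (u * t * u⁻¹))
  have hs : ∀ w ∈ s, ∃ u ∈ stabP b, classSumIn k C (u * t * u⁻¹) = w := fun w hw => by
    obtain ⟨u, hu, rfl⟩ := Finset.mem_image.1 hw
    exact ⟨u, (Finset.mem_filter.1 hu).2, rfl⟩
  have hmemC : ∀ u ∈ stabP b, u * t * u⁻¹ ∈ C := fun u hu =>
    (mem_centralizer_conj_iff (stabP_le_normalizer b hu)).2 ht
  have hInZ : ∀ w ∈ s, InZ C w := fun w hw => by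
    obtain ⟨u, hu, rfl⟩ := hs w hw
    exact inZ_classSumIn le_rfl Subgroup.le_normalizer (hmemC u hu)
  have hsum : ∑ w ∈ s, w = classSumIn k (stabP b) t := by
    refine gaExt fun g => ?_
    rw [MonoidAlgebra.coeff_sum, Finset.sum_apply']
    by_cases hg : ∃ n ∈ stabP b, n * t * n⁻¹ = g
    · obtain ⟨n, hn, rfl⟩ := hg
      rw [coeff_classSumIn_pos ⟨n, hn, rfl⟩,
        Finset.sum_eq_single_of_mem (classSumIn k C (n * t * n⁻¹))
          (Finset.mem_image.2 ⟨n, Finset.mem_filter.2 ⟨Finset.mem_univ _, hn⟩, rfl⟩)]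
      · exact coeff_classSumIn_pos ⟨1, one_mem _, by group⟩
      · intro w hw hne
        obtain ⟨u, -, rfl⟩ := hs w hw
        refine coeff_classSumIn_neg ?_
        rintro ⟨c, hc, hce⟩
        exact hne (by rw [← hce, classSumIn_conj_eq hc])
    · rw [coeff_classSumIn_neg hg, Finset.sum_eq_zero]
      intro w hw
      obtain ⟨u, hu, rfl⟩ := hs w hw
      refine coeff_classSumIn_neg ?_
      rintro ⟨c, hc, rfl⟩
      exact hg ⟨c * u, mul_mem (hCT hc) hu, by group⟩
  have hstab : ∀ v ∈ P₀, ∀ w ∈ s, cj v w ∈ s := fun v hv w hw => by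
    obtain ⟨u, hu, rfl⟩ := hs w hw
    rw [cj_classSumIn, hcjC v (hP₀T hv)]
    exact Finset.mem_image.2 ⟨v * u, Finset.mem_filter.2 ⟨Finset.mem_univ _,
      mul_mem (hP₀T hv) hu⟩, by simp [mul_assoc]⟩
  rw [← hsum, lam_sum hb.blkC s _ hInZ, ← Finset.sum_coe_sort s] at hl
  let _ : SMul P₀ s := ⟨fun v w => ⟨cj (v : G) w.1, hstab v v.2 w.1 w.2⟩⟩
  let _ : MulAction P₀ s :=
    { one_smul := fun w => Subtype.ext (cj_one w.1)
      mul_smul := fun v v' w => Subtype.ext (cj_cj (v : G) v' w.1).symm }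
  rw [sum_eq_sum_fixed (p := p) hP₀ (fun w : s => lam b.2 w.1) fun v w => ?_] at hl
  · obtain ⟨w, hw, hne⟩ := Finset.exists_ne_zero_of_sum_ne_zero hl
    obtain ⟨u, hu, hue⟩ := hs w.1 w.2
    refine ⟨u, hu, hue.symm ▸ hne, fun v hv => ?_⟩
    have h : cj v w.1 = w.1 := congrArg Subtype.val ((Finset.mem_filter.1 hw).2 ⟨v, hv⟩)
    rw [← hue, cj_classSumIn, hcjC v (hP₀T hv)] at h
    by_contra hcon
    have h1 : (classSumIn k C (v * (u * t * u⁻¹) * v⁻¹)).coeff (v * (u * t * u⁻¹) * v⁻¹) = 1 :=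
      coeff_classSumIn_pos ⟨1, one_mem _, by group⟩
    rw [h, coeff_classSumIn_neg hcon] at h1
    exact zero_ne_one h1
  · show lam b.2 (cj (v : G) w.1) = lam b.2 w.1
    conv_lhs => rw [← (hP₀T v.2).2]
    exact lam_cj hb.blkC (hInZ w.1 w.2) _

theorem exists_defect_stab {b : Pr k G} (hb : IsPair p ⊤ b) :
    ∃ D, IsDefGrp p (stabP b) b.2 D ∧
      FusionSys.IsSyl p (autInducedBy D b.1) (autInducedBy (stabP b) b.1) ∧
      IsDefGrp p (Subgroup.centralizer (b.1 : Set G)) b.2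
        (D ⊓ Subgroup.centralizer (b.1 : Set G)) := by
  obtain ⟨D₀, t, htT, ht, hl, -⟩ := exists_isDefGrp (p := p) (isBlk_stabP hb.pgroup hb.blkC)
  have htC : t ∈ Subgroup.centralizer (b.1 : Set G) :=
    not_not.1 fun h => ht (hb.blkC.inZ.supp t h)
  obtain ⟨P₀, hP₀⟩ := FusionSys.exists_isSyl (p := p) (stabP b)
  obtain ⟨u, hu, hlu, hfix⟩ := exists_fixed_class hb htC hl hP₀.2.1 hP₀.1
  have hxC : u * t * u⁻¹ ∈ Subgroup.centralizer (b.1 : Set G) :=
    (mem_centralizer_conj_iff (stabP_le_normalizer b hu)).2 htC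
  have hxT : u * t * u⁻¹ ∈ stabP b := centralizer_le_stabP hb.blkC hxC
  have hfx : b.2.coeff (u * t * u⁻¹) ≠ 0 := by
    rw [isInvElt_stabP b u hu t]; exact ht
  have hlx : lam b.2 (classSumIn k (stabP b) (u * t * u⁻¹)) ≠ 0 := by
    rwa [classSumIn_conj_eq hu]
  set x := u * t * u⁻¹
  obtain ⟨D, hD⟩ := FusionSys.exists_isSyl (p := p) (stabP b ⊓ Subgroup.centralizer ({x} : Set G))
  refine ⟨D, ⟨x, hxT, hfx, hlx, isSylowIn_of_isSyl hD⟩, ?_, x, hxC, hfx, hlu, ?_⟩
  · have h1 := isSyl_autInducedBy (Q := b.1) (inf_le_left.trans (stabP_le_normalizer b)) hD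
    have h2 := isSyl_autInducedBy (Q := b.1) (stabP_le_normalizer b) hP₀
    refine h2.of_card_ge (FusionSys.autInducedBy_isPGroup hD.2.1)
      (FusionSys.autInducedBy_mono (hD.1.trans inf_le_left))
      (h1.card_le (FusionSys.autInducedBy_isPGroup hP₀.2.1) ?_)
    intro α hα
    obtain ⟨v, hv, hve⟩ := (FusionSys.mem_autInducedBy_iff α).1 hα
    obtain ⟨c, hc, hce⟩ := hfix v hv
    refine (FusionSys.mem_autInducedBy_iff α).2 ⟨c⁻¹ * v,
      ⟨mul_mem (Subgroup.inv_mem _ (centralizer_le_stabP hb.blkC hc)) (hP₀.1 hv),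
        Subgroup.mem_centralizer_singleton_iff.2 ?_⟩, fun q => ?_⟩
    · calc c⁻¹ * v * x = c⁻¹ * (v * x * v⁻¹) * v := by group
        _ = c⁻¹ * (c * x * c⁻¹) * v := by rw [hce]
        _ = x * (c⁻¹ * v) := by group
    · have hc' := Subgroup.mem_centralizer_iff.1 hc _ (α q).2
      rw [hve] at hc' ⊢
      calc v * (q : G) * v⁻¹ = c⁻¹ * (c * (v * q * v⁻¹)) := by group
        _ = c⁻¹ * ((v * q * v⁻¹) * c) := by rw [hc']
        _ = c⁻¹ * v * q * (c⁻¹ * v)⁻¹ := by group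
  · have hCT := centralizer_le_stabP hb.blkC
    have h := hD.inf_normal (C := Subgroup.centralizer (b.1 : Set G) ⊓
        Subgroup.centralizer ({x} : Set G)) (inf_le_inf_right _ hCT) fun v hv => by
      refine mem_normalizer_of_cjS_eq ?_
      rw [cjS_inf, cjS_centralizer, cjS_eq_of_mem_normalizer (stabP_le_normalizer b hv.1),
        cjS_centralizer_singleton, show v * x * v⁻¹ = x by
          rw [Subgroup.mem_centralizer_singleton_iff.1 hv.2, mul_inv_cancel_right]]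
    have e : D ⊓ (Subgroup.centralizer (b.1 : Set G) ⊓ Subgroup.centralizer ({x} : Set G)) =
        D ⊓ Subgroup.centralizer (b.1 : Set G) := by
      rw [← inf_assoc, inf_eq_left]
      exact inf_le_left.trans (hD.1.trans inf_le_right)
    rw [e] at h
    exact isSylowIn_of_isSyl h

/-- Every defect group of the stabiliser block has both properties. -/
theorem defect_stab_props {b : Pr k G} (hb : IsPair p ⊤ b) {D : Subgroup G}
    (hD : IsDefGrp p (stabP b) b.2 D) :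
    FusionSys.IsSyl p (autInducedBy D b.1) (autInducedBy (stabP b) b.1) ∧
      IsDefGrp p (Subgroup.centralizer (b.1 : Set G)) b.2
        (D ⊓ Subgroup.centralizer (b.1 : Set G)) := by
  obtain ⟨D', hD', hs, hc⟩ := exists_defect_stab hb
  obtain ⟨u, hu, rfl⟩ := hD'.exists_conj_eq hD (isBlk_stabP hb.pgroup hb.blkC)
  have hC : cjS u (Subgroup.centralizer (b.1 : Set G)) = Subgroup.centralizer (b.1 : Set G) := by
    rw [cjS_centralizer, cjS_eq_of_mem_normalizer (stabP_le_normalizer b hu)]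
  have hinf : cjS u D' ⊓ Subgroup.centralizer (b.1 : Set G) =
      cjS u (D' ⊓ Subgroup.centralizer (b.1 : Set G)) := by rw [cjS_inf, hC]
  refine ⟨?_, ?_⟩
  · refine hs.of_card_ge (FusionSys.autInducedBy_isPGroup hD.pgroup)
      (FusionSys.autInducedBy_mono hD.le) (le_of_eq ?_)
    have h1 := card_eq_mul_aut (Q := b.1) (hD'.le.trans (stabP_le_normalizer b))
    have h2 := card_eq_mul_aut (Q := b.1) (hD.le.trans (stabP_le_normalizer b))
    rw [hinf, card_cjS, card_cjS, h1] at h2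
    exact Nat.eq_of_mul_eq_mul_left Nat.card_pos h2
  · rw [hinf]
    have := hc.conj hb.blkC u
    rwa [hC, hu.2] at this

end Cfsg.Agent.BrauerPairs
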