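/-
The fusion system of a block on a maximal Brauer pair, in terms of idempotent pairs.
-/
import Cfsg.Agent.Lib.BrauerPairs.LocalDefect
import Cfsg.Agent.Lib.Fusion.SaturationCriterion
import Cfsg.Agent.Lib.Fusion.Alperin

set_option linter.unusedSectionVars false
set_option linter.style.haveILetI false

namespace Cfsg.Agent.BrauerPairs

open MonoidAlgebra Cfsg.Agent.Blocks Cfsg Cfsg.FusionSystem

variable {G : Type*} [Group G] [Fintype G] {k : Type*} [Field k] [SplitCenter k G]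
variable {p : ℕ} [Fact p.Prime] [CharP k p] {B : MonoidAlgebra k G} {a : Pr k G}

theorem IsMax.pair (h : IsMax p B a) : IsPair p ⊤ a := h.pairOf.pair

theorem IsMax.mem_stabP (h : IsMax p B a) {u : G} (hu : u ∈ a.1) : u ∈ stabP a :=
  self_le_stabP h.pair.blkC hu

theorem IsMax.cjP_eq (h : IsMax p B a) {u : G} (hu : u ∈ a.1) : cjP u a = a :=
  Prod.ext (cjS_eq_of_mem_normalizer (h.mem_stabP hu).1) (h.mem_stabP hu).2

theorem eq_of_same_fst {b c : Pr k G} (ha : IsPair p ⊤ a) (hb : SubLE p ⊤ b a)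
    (hc : SubLE p ⊤ c a) (he : b.1 = c.1) : b = c := by
  obtain ⟨Q, f⟩ := b
  obtain ⟨R, g⟩ := c
  simp only at he
  subst he
  exact Prod.ext rfl ((existsUnique_below ha (hb.le : Q ≤ a.1)).unique hb hc)

theorem mem_stabP_of_subLE {b : Pr k G} (ha : IsPair p ⊤ a) (hb : SubLE p ⊤ b a) {x : G}
    (hxQ : x ∈ Subgroup.normalizer (b.1 : Set G)) (hx : SubLE p ⊤ (cjP x b) a) : x ∈ stabP b :=
  ⟨hxQ, congrArg Prod.snd (eq_of_same_fst ha hx hb (cjS_eq_of_mem_normalizer hxQ))⟩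

theorem IsMax.inf_stabP (h : IsMax p B a) {b : Pr k G} (hb : SubLE p ⊤ b a) :
    a.1 ⊓ stabP b = a.1 ⊓ Subgroup.normalizer (b.1 : Set G) := by
  refine le_antisymm (inf_le_inf_left _ (stabP_le_normalizer b)) (le_inf inf_le_left fun u hu => ?_)
  exact mem_stabP_of_subLE h.pair hb hu.2 (by simpa only [h.cjP_eq hu.1] using hb.cjT u)

theorem cjP_eq_self {b : Pr k G} {x : G} (hx : x ∈ stabP b) : cjP x b = b :=
  Prod.ext (cjS_eq_of_mem_normalizer hx.1) hx.2

theorem conjHom_apply' {Q : Subgroup G} (g : G) (u : Q) : conjHom Q g u = g * (u : G) * g⁻¹ := rfl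

theorem mem_cjS_of_eq {Q : Subgroup G} {g : G} {u : G} (hu : u ∈ Q) : g * u * g⁻¹ ∈ cjS g Q :=
  ⟨u, hu, rfl⟩

/-- The maps of the fusion system of a block. -/
def blockHom (p : ℕ) (a : Pr k G) (Q : Subgroup G) : Set (Q →* G) :=
  {φ | ∃ g : G, (∀ u : Q, φ u = g * (u : G) * g⁻¹) ∧
    ∃ f, SubLE p ⊤ (Q, f) a ∧ SubLE p ⊤ (cjP g (Q, f)) a}

theorem range_eq_cjS {Q : Subgroup G} {φ : Q →* G} {g : G}
    (h : ∀ u : Q, φ u = g * (u : G) * g⁻¹) : φ.range = cjS g Q := by
  ext y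
  constructor
  · rintro ⟨u, rfl⟩
    exact h u ▸ mem_cjS_of_eq u.2
  · intro hy
    exact ⟨⟨g⁻¹ * y * g, mem_cjS.1 hy⟩, by rw [h]; group⟩

/-- The fusion system of a block on a maximal pair. -/
def blockFusion (h : IsMax p B a) : FusionSystem a.1 where
  Hom := blockHom p a
  le_of_mem := by
    rintro Q φ ⟨g, hg, f, hf, hgf⟩
    exact ⟨hf.le, fun u => (hg u).symm ▸ hgf.le (mem_cjS_of_eq u.2)⟩
  injective_of_mem := by
    rintro Q φ ⟨g, hg, -⟩ u v huv
    have h1 : g * (u : G) * g⁻¹ = g * (v : G) * g⁻¹ := ((hg u).symm.trans huv).trans (hg v)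
    exact Subtype.ext (mul_left_cancel (mul_right_cancel h1))
  conj_mem := by
    intro Q g hQ hg
    obtain ⟨f, hf, -⟩ := existsUnique_below h.pair hQ
    exact ⟨g, fun u => rfl, f, hf, by simpa only [h.cjP_eq hg] using hf.cjT g⟩
  comp_mem := by
    rintro Q R φ ψ ⟨g, hg, f, hf, hgf⟩ ⟨x, hx, r, hr, hxr⟩ hR
    refine ⟨x * g, fun u => ?_, f, hf, ?_⟩
    · show ψ (φ.codRestrict R hR u) = _
      rw [hx]
      show x * φ u * x⁻¹ = _
      rw [hg]
      group
    · have hle : cjS g Q ≤ R := by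
        rw [← range_eq_cjS hg]
        rintro _ ⟨u, rfl⟩
        exact hR u
      have h1 := (SubLE.of_le h.pair hr hgf hle).cjT x
      rw [cjP_cjP] at h1
      exact h1.trans hxr
  inv_mem := by
    rintro Q φ ⟨g, hg, f, hf, hgf⟩
    refine ⟨conjHom φ.range g⁻¹, ⟨g⁻¹, fun u => rfl, cj g f, ?_, ?_⟩, fun u => ?_⟩
    · rwa [range_eq_cjS hg]
    · rw [range_eq_cjS hg]
      show SubLE p ⊤ (cjP g⁻¹ (cjP g (Q, f))) a
      rwa [cjP_cjP, inv_mul_cancel, cjP_one]
    · show g⁻¹ * φ u * g⁻¹⁻¹ = u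
      rw [hg]
      group

theorem blockFusion_isConj (h : IsMax p B a) {b : Pr k G} (hb : SubLE p ⊤ b a) {R : Subgroup G} :
    (blockFusion h).IsConj b.1 R ↔ ∃ x, SubLE p ⊤ (cjP x b) a ∧ cjS x b.1 = R := by
  constructor
  · rintro ⟨φ, ⟨g, hg, f, hf, hgf⟩, rfl⟩
    have e : (b.1, f) = b := eq_of_same_fst h.pair hf hb rfl
    rw [e] at hgf
    exact ⟨g, hgf, (range_eq_cjS hg).symm⟩
  · rintro ⟨x, hx, rfl⟩
    exact ⟨conjHom b.1 x, ⟨x, fun u => rfl, b.2, hb, hx⟩,
      range_eq_cjS fun u => rfl⟩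

theorem blockFusion_autGroup (h : IsMax p B a) {b : Pr k G} (hb : SubLE p ⊤ b a) :
    (blockFusion h).autGroup b.1 = autInducedBy (stabP b) b.1 := by
  ext α
  rw [FusionSys.mem_autGroup_iff _ hb.le, FusionSys.mem_autInducedBy_iff]
  constructor
  · rintro ⟨g, hg, f, hf, hgf⟩
    have e : (b.1, f) = b := eq_of_same_fst h.pair hf hb rfl
    rw [e] at hgf
    exact ⟨g, mem_stabP_of_subLE h.pair hb (FusionSys.mem_normalizer_of_autInduced hg) hgf, hg⟩
  · rintro ⟨g, hgT, hg⟩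
    exact ⟨g, hg, b.2, hb, by simpa only [cjP_eq_self hgT] using hb⟩

theorem autInducedBy_inf_normalizer (K Q : Subgroup G) :
    autInducedBy (K ⊓ Subgroup.normalizer (Q : Set G)) Q = autInducedBy K Q := by
  refine le_antisymm (FusionSys.autInducedBy_mono inf_le_left) fun α hα => ?_
  obtain ⟨g, hg, he⟩ := (FusionSys.mem_autInducedBy_iff α).1 hα
  exact (FusionSys.mem_autInducedBy_iff α).2
    ⟨g, ⟨hg, FusionSys.mem_normalizer_of_autInduced he⟩, he⟩

theorem cjS_centralizer_of_stab {b : Pr k G} {u : G} (hu : u ∈ stabP b) :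
    cjS u (Subgroup.centralizer (b.1 : Set G)) = Subgroup.centralizer (b.1 : Set G) := by
  rw [cjS_centralizer, cjS_eq_of_mem_normalizer hu.1]

theorem relIndex_sup_eq {K C : Subgroup G} (hK : K ≤ Subgroup.normalizer (C : Set G)) :
    C.relIndex (K ⊔ C) = C.relIndex K := by
  have hsup : K ⊔ C ≤ Subgroup.normalizer (C : Set G) := sup_le hK Subgroup.le_normalizer
  haveI : (C.subgroupOf (K ⊔ C)).Normal :=
    (Subgroup.normal_subgroupOf_iff_le_normalizer le_sup_right).2 hsup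
  rw [← Subgroup.relIndex_subgroupOf (le_refl (K ⊔ C)), ← Subgroup.relIndex_subgroupOf
    (show K ≤ K ⊔ C from le_sup_left), ← Subgroup.relIndex_sup_right
    (H := K.subgroupOf (K ⊔ C)) (K := C.subgroupOf (K ⊔ C)),
    ← Subgroup.subgroupOf_sup le_sup_left le_sup_right]

/-! ## Fully centralised and fully normalised subgroups -/

theorem fullyCentralized_iff (h : IsMax p B a) {b : Pr k G} (hb : SubLE p ⊤ b a) :
    (blockFusion h).IsFullyCentralized b.1 ↔
      IsDefGrp p (Subgroup.centralizer (b.1 : Set G)) b.2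
        (a.1 ⊓ Subgroup.centralizer (b.1 : Set G)) := by
  have hbC := (hb.left h.pair).blkC
  constructor
  · rintro ⟨-, hc⟩
    refine h.defect_of_card_max hb (centralizer_le_stabP hbC) hbC fun x hx => ?_
    rw [cjS_centralizer]
    exact hc (cjS x b.1) ((blockFusion_isConj h hb).2 ⟨x, hx, rfl⟩)
  · intro hD
    refine ⟨hb.le, fun R hR => ?_⟩
    obtain ⟨x, hx, rfl⟩ := (blockFusion_isConj h hb).1 hR
    have := h.card_le_of_defect (centralizer_le_stabP hbC) hbC hD hx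
    rwa [cjS_centralizer] at this

theorem fullyNormalized_iff (h : IsMax p B a) {b : Pr k G} (hb : SubLE p ⊤ b a) :
    (blockFusion h).IsFullyNormalized b.1 ↔
      IsDefGrp p (stabP b) b.2 (a.1 ⊓ Subgroup.normalizer (b.1 : Set G)) := by
  have hbl := isBlk_stabP (hb.left h.pair).pgroup (hb.left h.pair).blkC
  constructor
  · rintro ⟨-, hc⟩
    rw [← h.inf_stabP hb]
    refine h.defect_of_card_max hb le_rfl hbl fun x hx => ?_
    rw [cjS_stabP, h.inf_stabP hx, h.inf_stabP hb]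
    exact hc (cjS x b.1) ((blockFusion_isConj h hb).2 ⟨x, hx, rfl⟩)
  · intro hD
    refine ⟨hb.le, fun R hR => ?_⟩
    obtain ⟨x, hx, rfl⟩ := (blockFusion_isConj h hb).1 hR
    rw [← h.inf_stabP hb] at hD
    have := h.card_le_of_defect le_rfl hbl hD hx
    rwa [cjS_stabP, h.inf_stabP hx, h.inf_stabP hb] at this

theorem defect_centralizer_of_stab (h : IsMax p B a) {b : Pr k G} (hb : SubLE p ⊤ b a)
    (hD : IsDefGrp p (stabP b) b.2 (a.1 ⊓ Subgroup.normalizer (b.1 : Set G))) :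
    IsDefGrp p (Subgroup.centralizer (b.1 : Set G)) b.2
      (a.1 ⊓ Subgroup.centralizer (b.1 : Set G)) := by
  have := (defect_stab_props (hb.left h.pair) hD).2
  rwa [inf_assoc, inf_eq_right.2 (Subgroup.centralizer_le_normalizer _)] at this

theorem fullyAutomized_of_fullyNormalized (h : IsMax p B a) {Q : Subgroup G}
    (hQ : (blockFusion h).IsFullyNormalized Q) : (blockFusion h).IsFullyAutomized p Q := by
  obtain ⟨f, hb, -⟩ := existsUnique_below h.pair hQ.1
  have hs := (defect_stab_props (hb.left h.pair) ((fullyNormalized_iff h hb).1 hQ)).1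
  simp only [autInducedBy_inf_normalizer] at hs
  refine FusionSys.fullyAutomized_of_isSyl_aut hQ.1 ?_
  rwa [blockFusion_autGroup h hb]

/-! ## Extension of maps -/

theorem isPair_sub_iff {H : Subgroup G} {b : Pr k G} (hC : Subgroup.centralizer (b.1 : Set G) ≤ H) :
    IsPair p H b ↔ IsPair p ⊤ b ∧ b.1 ≤ H :=
  ⟨fun h => ⟨⟨h.pgroup, le_top, by
      rw [top_inf_eq]; simpa only [inf_eq_right.2 hC] using h.blk⟩, h.le⟩,
    fun h => ⟨h.1.pgroup, h.2, by rw [inf_eq_right.2 hC]; exact h.1.blkC⟩⟩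

theorem subLE_top_of {H Q : Subgroup G} (hC : Subgroup.centralizer (Q : Set G) ≤ H)
    {u v : Pr k G} (h : SubLE p H u v) (hu : Q ≤ u.1) : SubLE p ⊤ u v := by
  suffices Q ≤ v.1 ∧ SubLE p ⊤ u v from this.2
  induction h with
  | refl => exact ⟨hu, Relation.ReflTransGen.refl⟩
  | tail _ h2 ih =>
    refine ⟨ih.1.trans h2.le, ih.2.tail ⟨?_, ?_, h2.le, h2.normal, h2.inv, h2.occ⟩⟩
    · exact ((isPair_sub_iff ((Subgroup.centralizer_le ih.1).trans hC)).1 h2.left).1
    · exact ((isPair_sub_iff ((Subgroup.centralizer_le (ih.1.trans h2.le)).trans hC)).1 h2.right).1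

theorem card_le_card_aut_mul {Q D : Subgroup G} (hDN : D ≤ Subgroup.normalizer (Q : Set G))
    {P' : Subgroup G} (hP'N : P' ≤ Subgroup.normalizer (Q : Set G))
    (hC : Nat.card (D ⊓ Subgroup.centralizer (Q : Set G) : Subgroup G) ≤
      Nat.card (P' ⊓ Subgroup.centralizer (Q : Set G) : Subgroup G))
    (hA : autInducedBy D Q ≤ autInducedBy P' Q) : Nat.card D ≤ Nat.card P' := by
  rw [card_eq_mul_aut hDN, card_eq_mul_aut hP'N]
  exact Nat.mul_le_mul hC (Subgroup.card_le_of_le hA)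

theorem mem_sup_of_normal {A C : Subgroup G} (hA : A ≤ Subgroup.normalizer (C : Set G)) {g : G}
    (hg : g ∈ A ⊔ C) : ∃ v ∈ A, ∃ c ∈ C, g = v * c := by
  rw [← SetLike.mem_coe, Subgroup.coe_mul_of_left_le_normalizer_right A C hA] at hg
  obtain ⟨v, hv, c, hc, e⟩ := Set.mem_mul.1 hg
  exact ⟨v, hv, c, hc, e.symm⟩

theorem receptive_of_defect (h : IsMax p B a) {b : Pr k G} (hb : SubLE p ⊤ b a)
    (hD : IsDefGrp p (Subgroup.centralizer (b.1 : Set G)) b.2
      (a.1 ⊓ Subgroup.centralizer (b.1 : Set G))) :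
    (blockFusion h).IsReceptive b.1 := by
  refine ⟨hb.le, fun R φ hφ hr => ?_⟩
  obtain ⟨g, hg, f, hc, hgc⟩ := hφ
  have hgb : cjP g (R, f) = b := eq_of_same_fst h.pair hgc hb
    (by rw [← hr, range_eq_cjS hg])
  set C := Subgroup.centralizer (b.1 : Set G) with hCdef
  set P' := a.1 ⊓ Subgroup.normalizer (b.1 : Set G) with hP'
  set H := P' ⊔ C with hH
  have hbp := hb.left h.pair
  have hCT : C ≤ stabP b := centralizer_le_stabP hbp.blkC
  have hHT : H ≤ stabP b := sup_le ((h.inf_stabP hb).ge.trans inf_le_right) hCT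
  have hHN : H ≤ Subgroup.normalizer (b.1 : Set G) := hHT.trans (stabP_le_normalizer b)
  have hQP' : b.1 ≤ P' := le_inf hb.le Subgroup.le_normalizer
  have hQH : b.1 ≤ H := hQP'.trans le_sup_left
  have hbH : IsBlk H b.2 := isBlk_of_le hbp.pgroup hQH hHN le_sup_right hbp.blkC
    fun u hu => isInvElt_stabP b u (hHT hu)
  have hP'C : P' ≤ Subgroup.normalizer (C : Set G) :=
    inf_le_right.trans (normalizer_le_normalizer_centralizer b.1)
  -- the defect group of the block of `H`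
  have hP'D : IsDefGrp p H b.2 P' := by
    obtain ⟨D, hDH, hle⟩ := h.exists_defect_ge hb hHT hbH
    have hle' : P' ≤ D := le_trans (le_inf inf_le_left le_sup_left) hle
    have hne : brTrunc (D ⊓ C) b.2 ≠ 0 := by
      intro h0
      refine hDH.brTrunc_ne_zero ?_
      rw [← brTrunc_brTrunc (inf_le_left : D ⊓ C ≤ D), h0, brTrunc_zero]
    obtain ⟨c, -, hcD⟩ := hD.exists_conj_ge hbp.blkC (hDH.pgroup.to_le inf_le_left)
      inf_le_right hne
    have hcard := card_le_card_aut_mul (hDH.le.trans hHN) (P' := P') inf_le_right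
      (((Subgroup.card_le_of_le hcD).trans (card_cjS c _).le).trans
        (Subgroup.card_le_of_le (le_inf (le_inf inf_le_left
          (inf_le_right.trans (Subgroup.centralizer_le_normalizer _))) inf_le_right))) ?_
    · exact (Subgroup.eq_of_le_of_card_ge hle' hcard) ▸ hDH
    · refine (FusionSys.autInducedBy_mono hDH.le).trans fun α hα => ?_
      obtain ⟨u, hu, hue⟩ := (FusionSys.mem_autInducedBy_iff α).1 hα
      obtain ⟨v, hv, c, hc, rfl⟩ := mem_sup_of_normal hP'C hu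
      refine (FusionSys.mem_autInducedBy_iff α).2 ⟨v, hv, fun q => ?_⟩
      rw [hue q]
      have := Subgroup.mem_centralizer_iff.1 hc q q.2
      calc v * c * (q : G) * (v * c)⁻¹ = v * (c * q * c⁻¹) * v⁻¹ := by group
        _ = v * (q : G) * v⁻¹ := by rw [← this, mul_inv_cancel_right]
  -- the pairs
  set N := extender a.1 R φ with hN
  have hNa : N ≤ a.1 := (FusionSys.extender_le_normalizerIn φ).trans inf_le_left
  have hRN : R ≤ N := FusionSys.le_extender (blockFusion h) ⟨g, hg, f, hc, hgc⟩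
  obtain ⟨n, hn, -⟩ := existsUnique_below h.pair hNa
  have hNH : cjS g N ≤ H := by
    rw [Subgroup.map_le_iff_le_comap, hN, extender, Subgroup.closure_le]
    rintro u ⟨-, huN, x, hx, hue⟩
    show g * u * g⁻¹ ∈ H
    have hxN : x ∈ Subgroup.normalizer (b.1 : Set G) := by
      refine FusionSys.mem_normalizer_of_conj_mem_finite fun q hq => ?_
      rw [← hr] at hq ⊢
      obtain ⟨r, rfl⟩ := hq
      rw [← hue r ((Subgroup.mem_normalizer_iff.1 huN r).1 r.2)]
      exact ⟨_, rfl⟩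
    have hd : x⁻¹ * (g * u * g⁻¹) ∈ C := by
      rw [hCdef, Subgroup.mem_centralizer_iff]
      intro q hq
      rw [SetLike.mem_coe, ← hr] at hq
      obtain ⟨r, rfl⟩ := hq
      have e := hue r ((Subgroup.mem_normalizer_iff.1 huN r).1 r.2)
      rw [hg, hg] at e
      rw [hg]
      calc g * (r : G) * g⁻¹ * (x⁻¹ * (g * u * g⁻¹))
          = x⁻¹ * (x * (g * r * g⁻¹) * x⁻¹) * (g * u * g⁻¹) := by group
        _ = x⁻¹ * (g * (u * r * u⁻¹) * g⁻¹) * (g * u * g⁻¹) := by rw [← e]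
        _ = x⁻¹ * (g * u * g⁻¹) * (g * r * g⁻¹) := by group
    rw [show g * u * g⁻¹ = x * (x⁻¹ * (g * u * g⁻¹)) by group]
    exact Subgroup.mul_mem_sup ⟨hx, hxN⟩ hd
  have h1 : SubLE p ⊤ b (cjP g (N, n)) := hgb ▸ (SubLE.of_le h.pair hn hc hRN).cjT g
  have hn1 : IsPair p ⊤ (cjP g (N, n)) := (hn.left h.pair).cjT g
  obtain ⟨m, hm, -⟩ := existsUnique_below h.pair (inf_le_left : P' ≤ a.1)
  have hm1 := hm.left h.pair
  have h2 : SubLE p ⊤ b (P', m) := SubLE.of_le h.pair hm hb hQP'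
  have hpo : ∀ u : Pr k G, IsPair p ⊤ u → SubLE p ⊤ b u → u.1 ≤ H → IsPairOf p H b.2 u := by
    intro u hu hbu huH
    exact ⟨(isPair_sub_iff ((Subgroup.centralizer_le hbu.le).trans le_sup_right)).2 ⟨hu, huH⟩,
      hbH, (hbu.nsub hu (huH.trans hHN)).occ⟩
  obtain ⟨x, hx, hxle⟩ := exists_conj_subLE (hpo _ hm1 h2 le_sup_left) (hpo _ hn1 h1 hNH) hP'D
  obtain ⟨v, hv, d, hd, rfl⟩ := mem_sup_of_normal hP'C hx
  have hQle : b.1 ≤ (cjP (v * d) (cjP g (N, n))).1 := by
    conv_lhs => rw [← cjS_eq_of_mem_normalizer (hHN hx)]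
    exact cjS_mono _ h1.le
  have h3 := SubLE.cjT ((subLE_top_of le_sup_right hxle hQle).trans hm) v⁻¹
  rw [h.cjP_eq (inv_mem hv.1), cjP_cjP, cjP_cjP] at h3
  rw [show v⁻¹ * (v * d) * g = d * g by group] at h3
  refine ⟨conjHom N (d * g), ⟨d * g, fun u => rfl, n, hn, h3⟩, fun u hu hu' => ?_⟩
  show d * g * u * (d * g)⁻¹ = φ ⟨u, hu⟩
  rw [hg]
  have hq : g * u * g⁻¹ ∈ b.1 := by
    rw [← hr, range_eq_cjS hg]
    exact mem_cjS_of_eq hu
  have hcm := Subgroup.mem_centralizer_iff.1 hd _ hq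
  calc d * g * u * (d * g)⁻¹ = d * (g * u * g⁻¹) * d⁻¹ := by group
    _ = g * u * g⁻¹ := by rw [← hcm, mul_inv_cancel_right]

theorem receptive_of_fullyNormalized (h : IsMax p B a) {Q : Subgroup G}
    (hQ : (blockFusion h).IsFullyNormalized Q) : (blockFusion h).IsReceptive Q := by
  obtain ⟨f, hb, -⟩ := existsUnique_below h.pair hQ.1
  exact receptive_of_defect h hb
    (defect_centralizer_of_stab h hb ((fullyNormalized_iff h hb).1 hQ))

theorem blockFusion_saturated (h : IsMax p B a) : (blockFusion h).IsSaturated p := fun P hP => by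
  obtain ⟨Q, hPQ, hQ⟩ := FusionSys.exists_fullyNormalized (blockFusion h) hP
  exact ⟨Q, hPQ, fullyAutomized_of_fullyNormalized h hQ, receptive_of_fullyNormalized h hQ⟩

theorem centric_iff (h : IsMax p B a) {b : Pr k G} (hb : SubLE p ⊤ b a) :
    (blockFusion h).IsCentric b.1 ↔
      IsDefGrp p (Subgroup.centralizer (b.1 : Set G)) b.2
        (b.1 ⊓ Subgroup.centralizer (b.1 : Set G)) := by
  have hbC := (hb.left h.pair).blkC
  constructor
  · rintro ⟨-, hc⟩
    obtain ⟨x, hx, hD⟩ := h.exists_conj_defect (hb.pairOf_iff.2 h.pairOf)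
      (centralizer_le_stabP hbC) hbC
    have h1 := hc (cjS x b.1) ((blockFusion_isConj h hb).2 ⟨x, hx, rfl⟩)
    have e : a.1 ⊓ cjS x (Subgroup.centralizer (b.1 : Set G)) =
        cjS x (b.1 ⊓ Subgroup.centralizer (b.1 : Set G)) := by
      rw [cjS_inf, cjS_centralizer]
      exact le_antisymm (le_inf h1 inf_le_right) (le_inf (inf_le_left.trans hx.le) inf_le_right)
    rw [e] at hD
    have := hD.conj (hbC.cj x) x⁻¹
    rwa [cjS_cjS, cjS_cjS, inv_mul_cancel, cjS_one, cjS_one, cj_inv_cj] at this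
  · intro hD
    refine ⟨hb.le, fun R hR => ?_⟩
    obtain ⟨x, hx, rfl⟩ := (blockFusion_isConj h hb).1 hR
    have h1 := h.card_inf_le hx (by rw [← cjS_stabP]; exact cjS_mono x (centralizer_le_stabP hbC))
      (hbC.cj x) (hD.conj hbC x)
    rw [cjS_inf, cjS_centralizer] at h1
    have h2 := Subgroup.eq_of_le_of_card_ge
      (le_inf (inf_le_left.trans hx.le) inf_le_right :
        cjS x b.1 ⊓ Subgroup.centralizer (cjS x b.1 : Set G) ≤
          a.1 ⊓ Subgroup.centralizer (cjS x b.1 : Set G)) h1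
    exact h2.symm.le.trans inf_le_left

/-! ## Abelian defect groups -/

theorem abelian_defect (h : IsMax p B a) {b : Pr k G} (hb : SubLE p ⊤ b a)
    (hPC : a.1 ≤ Subgroup.centralizer (b.1 : Set G)) :
    IsDefGrp p (Subgroup.centralizer (b.1 : Set G)) b.2 a.1 := by
  have hbC := (hb.left h.pair).blkC
  have := h.defect_of_card_max hb (centralizer_le_stabP hbC) hbC fun x _ => by
    rw [inf_eq_left.2 hPC]; exact Subgroup.card_le_of_le inf_le_left
  rwa [inf_eq_left.2 hPC] at this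

theorem abelian_stab_factor (h : IsMax p B a) {b : Pr k G} (hb : SubLE p ⊤ b a)
    (hPC : a.1 ≤ Subgroup.centralizer (b.1 : Set G)) {x : G} (hx : x ∈ stabP b) :
    ∃ y ∈ stabP a, y ∈ Subgroup.normalizer (b.1 : Set G) ∧
      ∃ c ∈ Subgroup.centralizer (b.1 : Set G), x = y * c := by
  set C := Subgroup.centralizer (b.1 : Set G) with hC
  have hbp := hb.left h.pair
  have hD := abelian_defect h hb hPC
  have hxb : SubLE p ⊤ b (cjP x a) := by simpa only [cjP_eq_self hx] using hb.cjT x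
  have hpo : ∀ u : Pr k G, IsPair p ⊤ u → SubLE p ⊤ b u → u.1 ≤ C → IsPairOf p C b.2 u := by
    intro u hu hbu huC
    exact ⟨(isPair_sub_iff (Subgroup.centralizer_le hbu.le)).2 ⟨hu, huC⟩, hbp.blkC,
      (hbu.nsub hu (huC.trans (Subgroup.centralizer_le_normalizer _))).occ⟩
  have hxC : cjS x a.1 ≤ C := (cjS_mono x hPC).trans (cjS_centralizer_of_stab hx).le
  have hDx : IsDefGrp p C b.2 (cjS x a.1) := by
    have := hD.conj hbp.blkC x
    rwa [cjS_centralizer_of_stab hx, hx.2] at this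
  obtain ⟨c, hc, hce⟩ := exists_conj_defect_pair (hpo a h.pair hb hPC)
    (hpo _ (h.pair.cjT x) hxb hxC) hD hDx
  rw [cjP_cjP] at hce
  have hcN : c ∈ Subgroup.normalizer (b.1 : Set G) := Subgroup.centralizer_le_normalizer _ hc
  have hyN : c * x ∈ Subgroup.normalizer (b.1 : Set G) := mul_mem hcN hx.1
  refine ⟨c * x, ⟨mem_normalizer_of_cjS_eq (congrArg Prod.fst hce), congrArg Prod.snd hce⟩, hyN,
    (c * x)⁻¹ * x, ?_, by group⟩
  rw [show (c * x)⁻¹ * x = x⁻¹ * c⁻¹ * x⁻¹⁻¹ by group]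
  exact (mem_centralizer_conj_iff (inv_mem hx.1)).2 (inv_mem hc)

theorem inter_le_stabP (h : IsMax p B a) {b : Pr k G} (hb : SubLE p ⊤ b a) {y : G}
    (hy : y ∈ stabP a) (hyQ : y ∈ Subgroup.normalizer (b.1 : Set G)) : y ∈ stabP b :=
  mem_stabP_of_subLE h.pair hb hyQ (by simpa only [cjP_eq_self hy] using hb.cjT y)

end Cfsg.Agent.BrauerPairs
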