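/-
Blocks along isomorphisms.
-/
import Cfsg.Agent.Lib.BrauerPairs.Concrete

set_option linter.unusedSectionVars false
set_option linter.style.haveILetI false

namespace Cfsg.Agent.BrauerPairs

open Cfsg MonoidAlgebra Cfsg.Agent.Blocks

universe u v

variable {K : Type u} [Group K] [Fintype K] {K' : Type v} [Group K'] [Fintype K']

/-- A character of `K'` read on `K` along an isomorphism. -/
noncomputable def pullIrr (e : K ≃* K') (χ : IrrCharacter K') : IrrCharacter K :=
  ⟨fun a => (χ : K' → ℂ) (e a), Char.IsIrrCharacter.comp χ.2 e.toMonoidHom e.surjective⟩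

theorem pullIrr_apply (e : K ≃* K') (χ : IrrCharacter K') (a : K) :
    (pullIrr e χ : K → ℂ) a = (χ : K' → ℂ) (e a) := rfl

theorem pullIrr_pullIrr (e : K ≃* K') (χ : IrrCharacter K) :
    pullIrr e (pullIrr e.symm χ) = χ :=
  Subtype.ext (funext fun a => by simp [pullIrr_apply])

theorem pullIrr_symm_pullIrr (e : K ≃* K') (χ : IrrCharacter K') :
    pullIrr e.symm (pullIrr e χ) = χ :=
  Subtype.ext (funext fun a => by simp [pullIrr_apply])

section

variable {R : Type*} [CommRing R]

/-- The isomorphism of group algebras. -/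
noncomputable def mapA (e : K ≃* K') : MonoidAlgebra R K →+* MonoidAlgebra R K' :=
  mapDomainRingHom R e.toMonoidHom

theorem coeff_mapA (e : K ≃* K') (x : MonoidAlgebra R K) (b : K') :
    (mapA e x).coeff b = x.coeff (e.symm b) := by
  conv_lhs => rw [← e.apply_symm_apply b]
  exact Finsupp.mapDomain_apply e.injective x.coeff (e.symm b)

theorem mapA_classElt {e : K ≃* K'} {x : MonoidAlgebra R K} (hx : IsClassElt x) :
    IsClassElt (mapA e x) := fun g h => by
  simp only [coeff_mapA, map_mul, map_inv]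
  exact hx _ _

theorem mapA_classSum (e : K ≃* K') (a : K) : mapA e (classSum R a) = classSum R (e a) := by
  classical
  refine gaExt fun b => ?_
  rw [coeff_mapA, coeff_classSum, coeff_classSum]
  refine if_congr ⟨fun h => ?_, fun h => ?_⟩ rfl rfl
  · simpa using e.toMonoidHom.map_isConj h
  · simpa using e.symm.toMonoidHom.map_isConj h

end

theorem omega_pullIrr (e : K ≃* K') (χ : IrrCharacter K') (x : MonoidAlgebra ℂ K) :
    omega (pullIrr e χ) x = omega χ (mapA e x) := by
  simp only [omega, pullIrr_apply, coeff_mapA, map_one]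
  congr 1
  exact Fintype.sum_equiv e.toEquiv _ _ fun a => by simp

theorem centralChar_pullIrr (e : K ≃* K') (χ : IrrCharacter K') (a : K) :
    centralChar (pullIrr e χ : K → ℂ) a = centralChar (χ : K' → ℂ) (e a) := by
  rw [← omega_classSum, ← omega_classSum, omega_pullIrr, mapA_classSum]

variable {M : Ideal AlgInt}

theorem sameBlock_pullIrr (e : K ≃* K') (χ ψ : IrrCharacter K') :
    SameBlock M (pullIrr e χ : K → ℂ) (pullIrr e ψ : K → ℂ) ↔
      SameBlock M (χ : K' → ℂ) (ψ : K' → ℂ) := by
  simp only [SameBlock, centralChar_pullIrr]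
  exact ⟨fun h b => by simpa using h (e.symm b), fun h a => h (e a)⟩

/-- A block read on `K` along an isomorphism. -/
def pullB (e : K ≃* K') (B : Set (IrrCharacter K')) : Set (IrrCharacter K) :=
  {χ | pullIrr e.symm χ ∈ B}

theorem pullIrr_mem_pullB (e : K ≃* K') (B : Set (IrrCharacter K')) (χ : IrrCharacter K') :
    pullIrr e χ ∈ pullB e B ↔ χ ∈ B := by
  simp [pullB, pullIrr_symm_pullIrr]

theorem isPBlock_pullB (e : K ≃* K') {B : Set (IrrCharacter K')} (hB : IsPBlock M B) :
    IsPBlock M (pullB e B) := by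
  obtain ⟨χ, rfl⟩ := hB
  refine ⟨pullIrr e χ, Set.ext fun ψ => ?_⟩
  conv_rhs => rw [← pullIrr_pullIrr e ψ]
  exact (sameBlock_pullIrr e χ (pullIrr e.symm ψ)).symm

variable [M.IsPrime]

theorem omegaK_pullIrr (e : K ≃* K') (χ : IrrCharacter K')
    {z : MonoidAlgebra (resField M) K} (hz : IsClassElt z) :
    omegaK (pullIrr e χ) z = omegaK χ (mapA e z) := by
  have h1 : resG (mapA e (liftR z)) = mapA e z :=
    gaExt fun b => by
      rw [coeff_resG, coeff_mapA, coeff_mapA, ← coeff_resG, resG_liftR]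
  conv_rhs => rw [← h1]
  rw [omegaK_eq _ hz, omegaK_resG χ (mapA_classElt (isClassElt_liftR hz))]
  refine congrArg _ (Subtype.ext ?_)
  show omega _ (toC (liftR z)) = omega χ (toC (mapA e (liftR z)))
  rw [omega_pullIrr]
  congr 1
  exact gaExt fun b => by simp [coeff_mapA]

theorem mapA_Ek (e : K ≃* K') {B : Set (IrrCharacter K')} (hB : IsPBlock M B) :
    mapA e (Ek M (pullB e B)) = Ek M B := by
  have hB' := isPBlock_pullB e hB
  have hcl := isClassElt_Ek (M := M) (pullB e B)
  refine classIdem_ext (mapA_classElt hcl) (isClassElt_Ek B)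
    (by rw [← map_mul, Ek_idem hB']) (Ek_idem hB) fun χ => ?_
  rw [← omegaK_pullIrr e χ hcl]
  by_cases hχ : χ ∈ B
  · rw [omegaK_Ek_mem hB hχ, omegaK_Ek_mem hB' ((pullIrr_mem_pullB e B χ).2 hχ)]
  · rw [omegaK_Ek_notMem hB hχ,
      omegaK_Ek_notMem hB' fun h => hχ ((pullIrr_mem_pullB e B χ).1 h)]

end Cfsg.Agent.BrauerPairs
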