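/-
The Brauer-pair predicates of the statements in terms of primitive central idempotents.
-/
import Cfsg.Agent.Lib.BrauerPairs.Maximal
import Cfsg.Agent.Lib.BrauerPairs.Transport
import Cfsg.Prelude.Def_BrauerPairs

set_option linter.unusedSectionVars false
set_option linter.style.haveILetI false

namespace Cfsg.Agent.BrauerPairs

open Cfsg MonoidAlgebra Cfsg.Agent.Blocks

universe u

variable {G : Type u} [Group G] [Fintype G] {p : ℕ} {M : Ideal AlgInt} [M.IsPrime]

noncomputable instance fintypeSubgroupBP (H : Subgroup G) : Fintype H := Fintype.ofFinite H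

/-- A Brauer pair as an idempotent pair. -/
noncomputable def zI (M : Ideal AlgInt) [M.IsPrime] (a : BrauerPairIdx G) :
    Pr (resField M) G :=
  (a.1, zB M (Subgroup.centralizer (a.1 : Set G)) a.2)

/-! ## Coefficients -/

theorem resG_emb (H : Subgroup G) (x : MonoidAlgebra (locRing M) H) :
    resG (emb H x) = emb H (resG x) := by
  refine gaExt fun g => ?_
  rw [coeff_resG]
  by_cases hg : g ∈ H
  · rw [coeff_emb_mem H x hg, coeff_emb_mem H (resG x) hg, coeff_resG]
  · rw [coeff_emb_notMem H x hg, coeff_emb_notMem H (resG x) hg, map_zero]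

theorem coeff_emb_blockEltR (H : Subgroup G) {b : Set (IrrCharacter H)} (hb : IsPBlock M b)
    (g : G) : ((emb H (blockEltR M b)).coeff g : ℂ) = subgroupBlockCoeff H b g := by
  by_cases hg : g ∈ H
  · rw [coeff_emb_mem H _ hg, coeff_blockEltR hb]
    simp [subgroupBlockCoeff, hg]
  · rw [coeff_emb_notMem H _ hg]
    simp [subgroupBlockCoeff, hg]

theorem resG_emb_blockEltR (H : Subgroup G) (b : Set (IrrCharacter H)) :
    resG (emb H (blockEltR M b)) = zB M H b := resG_emb H _

theorem restr_resG (H : Subgroup G) (y : MonoidAlgebra (locRing M) G) :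
    restr H (resG y) = resG (restr H y) :=
  gaExt fun h => by
    rw [coeff_resG]
    show (resG y).coeff (h : G) = res M (y.coeff (h : G))
    rw [coeff_resG]

theorem lam_zB (H : Subgroup G) {b : Set (IrrCharacter H)} (hb : IsPBlock M b)
    {ξ : IrrCharacter H} (hξ : ξ ∈ b) {y : MonoidAlgebra (resField M) G} (hy : InZ H y) :
    lam (zB M H b) y = omegaK ξ (restr H y) := by
  refine lam_eq (isBlk_zB H hb) hy ?_
  have h1 := lam_spec (isBlk_Ek hb) (isClassElt_iff_inZ_top.2 hy.isClassElt_restr)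
  rw [lam_Ek hb hξ hy.isClassElt_restr] at h1
  have h2 := h1.map (emb (R := resField M) H)
  rwa [map_mul, map_sub, emb_restr hy.supp, emb_smul, map_one] at h2

theorem omegaR_restr (Q : Subgroup G)
    (ξ : IrrCharacter (Subgroup.centralizer (Q : Set G)))
    (y : MonoidAlgebra (locRing M) G) :
    omegaR ξ (restr (Subgroup.centralizer (Q : Set G)) y) =
      brauerOmega Q (fun g => (y.coeff g : ℂ)) (ξ : Subgroup.centralizer (Q : Set G) → ℂ) := by
  rw [brauerOmega, finsum_eq_sum_of_fintype, omegaR, omega, Finset.sum_div]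
  refine Finset.sum_congr rfl fun x _ => ?_
  rw [coeff_toC]
  rfl

theorem occ_iff (Q : Subgroup G) {e : Set (IrrCharacter (Subgroup.centralizer (Q : Set G)))}
    (he : IsPBlock M e) (y : MonoidAlgebra (locRing M) G)
    (hy : IsInvElt (Subgroup.centralizer (Q : Set G)) y)
    (hidem : brTrunc Q (resG y) * brTrunc Q (resG y) = brTrunc Q (resG y)) :
    (∀ ξ ∈ e, MemLocalIdeal M (brauerOmega Q (fun g => (y.coeff g : ℂ))
        (ξ : Subgroup.centralizer (Q : Set G) → ℂ) - 1)) ↔
      brTrunc Q (resG y) * zB M (Subgroup.centralizer (Q : Set G)) e =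
        zB M (Subgroup.centralizer (Q : Set G)) e := by
  rw [brTrunc_eq_emb_restr, zB, ← map_mul, (emb_injective _).eq_iff]
  rw [brTrunc_eq_emb_restr, ← map_mul, (emb_injective _).eq_iff] at hidem
  rw [restr_resG] at hidem ⊢
  have hcl : IsClassElt (resG (restr (Subgroup.centralizer (Q : Set G)) y)) :=
    IsClassElt.map (isClassElt_restr hy) _
  rw [mul_Ek_eq_iff he hcl hidem]
  refine forall₂_congr fun ξ _ => ?_
  rw [omegaK_resG ξ (isClassElt_restr hy), ← map_one (res M), res_eq_res_iff]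
  show _ ↔ MemLocalIdeal M (omegaR ξ (restr _ y) - ((1 : locRing M) : ℂ))
  rw [omegaR_restr]
  simp

/-! ## Conjugation -/

theorem eq_of_inv_conj {g k k' : G} (h : k' = g * k * g⁻¹) : k = g⁻¹ * k' * g := by
  rw [h]; group

/-- Conjugation by an element as an isomorphism between subgroups. -/
noncomputable def cjEquiv {H H' : Subgroup G} (x : G) (h : cjS x H = H') : H ≃* H' :=
  (Subgroup.equivMapOfInjective H (MulAut.conj x).toMonoidHom (MulAut.conj x).injective).trans
    (MulEquiv.subgroupCongr h)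

theorem coe_cjEquiv {H H' : Subgroup G} (x : G) (h : cjS x H = H') (a : H) :
    ((cjEquiv x h a : H') : G) = x * (a : G) * x⁻¹ := rfl

theorem emb_mapA {R : Type*} [CommRing R] {H H' : Subgroup G} (x : G) (h : cjS x H = H')
    (a : MonoidAlgebra R H) (g : G) :
    (emb H' (mapA (cjEquiv x h) a)).coeff g = (emb H a).coeff (x⁻¹ * g * x) := by
  by_cases hg : g ∈ H'
  · have hg' : x⁻¹ * g * x ∈ H := mem_cjS.1 (h.symm ▸ hg)
    rw [coeff_emb_mem H' _ hg, coeff_emb_mem H _ hg', coeff_mapA]
    congr 1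
    rw [MulEquiv.symm_apply_eq]
    exact Subtype.ext (by rw [coe_cjEquiv]; group)
  · rw [coeff_emb_notMem H' _ hg, coeff_emb_notMem H]
    exact fun hg' => hg (h ▸ mem_cjS.2 hg')

theorem zB_pullB {H H' : Subgroup G} (x : G) (h : cjS x H = H')
    {b : Set (IrrCharacter H')} (hb : IsPBlock M b) :
    zB M H' b = cj x (zB M H (pullB (cjEquiv x h) b)) := by
  refine gaExt fun g => ?_
  rw [coeff_cj, zB, zB, ← mapA_Ek (cjEquiv x h) hb, emb_mapA]

theorem stabilizesBlock_iff {K : Subgroup G} {e : Set (IrrCharacter K)} (he : IsPBlock M e)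
    {u : G} (hu : u ∈ Subgroup.normalizer (K : Set G)) :
    StabilizesBlock K e u ↔ cj u (zB M K e) = zB M K e := by
  have hmem : ∀ χ : IrrCharacter K, χ ∈ pullB (cjEquiv u (cjS_eq_of_mem_normalizer hu)) e ↔
      pullIrr (cjEquiv u (cjS_eq_of_mem_normalizer hu)).symm χ ∈ e := fun _ => Iff.rfl
  have hiff : StabilizesBlock K e u ↔
      pullB (cjEquiv u (cjS_eq_of_mem_normalizer hu)) e = e := by
    set c := cjEquiv u (cjS_eq_of_mem_normalizer hu)
    constructor
    · intro hs
      refine (Set.eq_of_subset_of_ncard_le (fun χ hχ => ?_) ?_ (Set.toFinite _)).symm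
      · obtain ⟨χ', hχ', hc⟩ := hs.2 χ hχ
        rw [hmem]
        convert hχ'
        refine Subtype.ext (funext fun a => ?_)
        rw [pullIrr_apply]
        exact (hc _ a (by
          conv_lhs => rw [← c.apply_symm_apply a]
          rw [coe_cjEquiv])).symm
      · exact Set.ncard_le_ncard_of_injOn (pullIrr c.symm) (fun χ hχ => hχ)
          (fun a _ b _ hab => by
            have := congrArg (pullIrr c) hab
            rwa [pullIrr_pullIrr, pullIrr_pullIrr] at this) (Set.toFinite _)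
    · intro hs
      refine ⟨hu, fun χ hχ => ⟨pullIrr c.symm χ, ?_, fun a a' haa => ?_⟩⟩
      · rw [← hs] at hχ
        exact hχ
      · rw [pullIrr_apply]
        refine congrArg (χ : K → ℂ) ?_
        rw [MulEquiv.symm_apply_eq]
        exact Subtype.ext (by rw [coe_cjEquiv]; exact haa)
  rw [hiff]
  constructor
  · intro h
    conv_rhs => rw [zB_pullB u (cjS_eq_of_mem_normalizer hu) he, h]
  · intro h
    refine zB_injective K (isPBlock_pullB _ he) he ((cj u).injective ?_)
    rw [← zB_pullB u (cjS_eq_of_mem_normalizer hu) he, h]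

variable [Fact p.Prime]

/-! ## Pairs -/

theorem isPair_zI (a : BrauerPairIdx G) (h : IsBrauerPair p M a.1 a.2) :
    IsPair p ⊤ (zI M a) :=
  ⟨h.1, le_top, by simpa only [zI, top_inf_eq] using isBlk_zB _ h.2⟩

theorem exists_eq_zI {b : Pr (resField M) G} (hb : IsPair p ⊤ b) :
    ∃ a : BrauerPairIdx G, IsBrauerPair p M a.1 a.2 ∧ zI M a = b := by
  obtain ⟨e, he, hz⟩ :=
    exists_eq_zB (H := Subgroup.centralizer (b.1 : Set G)) (by simpa only [top_inf_eq] using hb.blk)
  exact ⟨⟨b.1, e⟩, ⟨hb.pgroup, he⟩, Prod.ext rfl hz⟩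

theorem zI_inj {a b : BrauerPairIdx G} (ha : IsPBlock M a.2) (hb : IsPBlock M b.2)
    (h : zI M a = zI M b) : a = b := by
  obtain ⟨Q, f⟩ := a
  obtain ⟨Q', f'⟩ := b
  obtain rfl : Q = Q' := congrArg Prod.fst h
  obtain rfl := zB_injective _ ha hb (congrArg Prod.snd h)
  rfl

theorem pairOf_iff (hM : IsPModular p M) {B : Set (IrrCharacter G)} {Q : Subgroup G}
    {e : Set (IrrCharacter (Subgroup.centralizer (Q : Set G)))} (hp : IsBrauerPair p M Q e)
    (hB : IsPBlock M B) :
    IsBrauerPairOf p M B Q e ↔ IsPairOf p ⊤ (Ek M B) (zI M ⟨Q, e⟩) := by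
  haveI : CharP (resField M) p := resField_charP hM
  have hinv : IsInvElt Q (Ek M B) := IsClassElt.isInvElt (isClassElt_Ek B) Q
  have hβ : (fun g => ((blockEltR M B).coeff g : ℂ)) = blockCoeff B :=
    funext fun g => coeff_blockEltR hB g
  have key := occ_iff Q hp.2 (blockEltR M B)
    (IsClassElt.isInvElt (isClassElt_blockEltR B) _)
    (by rw [show resG (blockEltR M B) = Ek M B from rfl, ← brTrunc_mul hp.1 hinv hinv, Ek_idem hB])
  rw [hβ] at key
  exact ⟨fun h => ⟨isPair_zI _ hp, isBlk_Ek hB, key.1 h.2.2⟩,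
    fun h => ⟨hp, hB, key.2 h.occ⟩⟩

theorem isBrauerPairOf_iff (hM : IsPModular p M) {B : Set (IrrCharacter G)} {Q : Subgroup G}
    {e : Set (IrrCharacter (Subgroup.centralizer (Q : Set G)))} :
    IsBrauerPairOf p M B Q e ↔ IsBrauerPair p M Q e ∧ IsPBlock M B ∧
      IsPairOf p ⊤ (Ek M B) (zI M ⟨Q, e⟩) :=
  ⟨fun h => ⟨h.1, h.2.1, (pairOf_iff hM h.1 h.2.1).1 h⟩,
    fun h => (pairOf_iff hM h.1 h.2.1).2 h.2.2⟩

theorem normalSubpair_iff (hM : IsPModular p M) (a b : BrauerPairIdx G) :
    IsNormalSubpair p M a.1 a.2 b.1 b.2 ↔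
      IsBrauerPair p M a.1 a.2 ∧ IsBrauerPair p M b.1 b.2 ∧ NSub p ⊤ (zI M a) (zI M b) := by
  haveI : CharP (resField M) p := resField_charP hM
  obtain ⟨Q, f⟩ := a
  obtain ⟨P, e⟩ := b
  dsimp only
  constructor
  · rintro ⟨hf, he, hle, hN, hst, hocc⟩
    have hinv : IsInvElt P (zB M (Subgroup.centralizer (Q : Set G)) f) := by
      rw [isInvElt_iff_cj]
      exact fun u hu => (stabilizesBlock_iff hf.2 (normalizer_le_normalizer_centralizer Q
        (hN hu))).1 (hst u hu)
    refine ⟨hf, he, isPair_zI _ hf, isPair_zI _ he, hle, hN, hinv, ?_⟩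
    have hβ : (fun g => ((emb _ (blockEltR M f)).coeff g : ℂ)) =
        subgroupBlockCoeff (Subgroup.centralizer (Q : Set G)) f :=
      funext fun g => coeff_emb_blockEltR _ hf.2 g
    have key := occ_iff P he.2 (emb _ (blockEltR M f)) ?_ ?_
    · rw [hβ, resG_emb_blockEltR] at key
      exact key.1 hocc
    · intro u hu g
      refine Subtype.ext ?_
      have hu' : u ∈ Subgroup.centralizer (Q : Set G) := Subgroup.centralizer_le hle hu
      by_cases hg : g ∈ Subgroup.centralizer (Q : Set G)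
      · rw [coeff_emb_mem _ _ hg, coeff_emb_mem _ _ (mul_mem (mul_mem hu' hg) (inv_mem hu'))]
        exact congrArg Subtype.val (isClassElt_blockEltR f ⟨g, hg⟩ ⟨u, hu'⟩)
      · rw [coeff_emb_notMem _ _ hg, coeff_emb_notMem _ _]
        exact fun h => hg (by simpa [mul_assoc] using mul_mem (mul_mem (inv_mem hu') h) hu')
    · rw [resG_emb_blockEltR, ← brTrunc_mul he.1 hinv hinv, (isBlk_zB _ hf.2).idem]
  · rintro ⟨hf, he, h⟩
    refine ⟨hf, he, h.le, h.normal, fun u hu => ?_, ?_⟩
    · exact (stabilizesBlock_iff hf.2 (normalizer_le_normalizer_centralizer Q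
        (h.normal hu))).2 ((isInvElt_iff_cj.1 h.inv) u hu)
    · have hβ : (fun g => ((emb _ (blockEltR M f)).coeff g : ℂ)) =
          subgroupBlockCoeff (Subgroup.centralizer (Q : Set G)) f :=
        funext fun g => coeff_emb_blockEltR _ hf.2 g
      have key := occ_iff P he.2 (emb _ (blockEltR M f)) ?_ ?_
      · rw [hβ, resG_emb_blockEltR] at key
        exact key.2 h.occ
      · intro u hu g
        refine Subtype.ext ?_
        have hu' : u ∈ Subgroup.centralizer (Q : Set G) := Subgroup.centralizer_le h.le hu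
        by_cases hg : g ∈ Subgroup.centralizer (Q : Set G)
        · rw [coeff_emb_mem _ _ hg, coeff_emb_mem _ _ (mul_mem (mul_mem hu' hg) (inv_mem hu'))]
          exact congrArg Subtype.val (isClassElt_blockEltR f ⟨g, hg⟩ ⟨u, hu'⟩)
        · rw [coeff_emb_notMem _ _ hg, coeff_emb_notMem _ _]
          exact fun h => hg (by simpa [mul_assoc] using mul_mem (mul_mem (inv_mem hu') h) hu')
      · rw [resG_emb_blockEltR]
        exact (brTrunc_mul he.1 h.inv h.inv).symm.trans (congrArg _ (isBlk_zB _ hf.2).idem)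

theorem subpairLE_imp (hM : IsPModular p M) {a b : BrauerPairIdx G}
    (h : SubpairLE p M a.1 a.2 b.1 b.2) : SubLE p ⊤ (zI M a) (zI M b) := by
  have h' : Relation.ReflTransGen (NormalSubpairRel p M) a b := h
  clear h
  induction h' with
  | refl => exact Relation.ReflTransGen.refl
  | tail _ h2 ih => exact ih.tail ((normalSubpair_iff hM _ _).1 h2).2.2

theorem subLE_imp (hM : IsPModular p M) {a b : BrauerPairIdx G} (ha : IsPBlock M a.2)
    (hb : IsBrauerPair p M b.1 b.2) (h : SubLE p ⊤ (zI M a) (zI M b)) :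
    SubpairLE p M a.1 a.2 b.1 b.2 := by
  suffices ∀ x, SubLE p ⊤ x (zI M b) → ∀ a : BrauerPairIdx G, IsPBlock M a.2 → zI M a = x →
      Relation.ReflTransGen (NormalSubpairRel p M) a b from this _ h a ha rfl
  intro x hx
  induction hx using Relation.ReflTransGen.head_induction_on with
  | refl =>
    intro a ha hax
    rw [zI_inj ha hb.2 hax]
  | head h1 _ ih =>
    intro a ha hax
    obtain ⟨c, hc, rfl⟩ := exists_eq_zI h1.right
    subst hax
    refine Relation.ReflTransGen.head ?_ (ih c hc.2 rfl)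
    exact (normalSubpair_iff hM a c).2 ⟨⟨h1.left.pgroup, ha⟩, hc, h1⟩

theorem conjBlock_eq (Q : Subgroup G) (x : G)
    (f : Set (IrrCharacter (Subgroup.centralizer (Q : Set G)))) :
    conjBlock Q x f = pullB (cjEquiv x (cjS_centralizer x Q)).symm f := by
  ext ξ'
  simp only [conjBlock, Set.mem_setOf_eq, pullB, MulEquiv.symm_symm]
  constructor
  · rintro ⟨ξ, hξ, hc⟩
    convert hξ
    refine Subtype.ext (funext fun a => ?_)
    exact hc a _ (coe_cjEquiv x _ a)
  · intro h
    exact ⟨_, h, fun c c' hcc => by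
      rw [pullIrr_apply]
      refine congrArg _ ?_
      exact Subtype.ext (hcc.trans (coe_cjEquiv x (cjS_centralizer x Q) c).symm)⟩

theorem isPBlock_conjBlock {Q : Subgroup G}
    {f : Set (IrrCharacter (Subgroup.centralizer (Q : Set G)))} (hf : IsPBlock M f) (x : G) :
    IsPBlock M (conjBlock Q x f) := by
  rw [conjBlock_eq]; exact isPBlock_pullB _ hf

theorem zB_conjBlock {Q : Subgroup G}
    {f : Set (IrrCharacter (Subgroup.centralizer (Q : Set G)))} (hf : IsPBlock M f) (x : G) :
    zI M ⟨Q.map (MulAut.conj x).toMonoidHom, conjBlock Q x f⟩ = cjP x (zI M ⟨Q, f⟩) := by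
  refine Prod.ext rfl ?_
  show zB M _ (conjBlock Q x f) = cj x (zB M _ f)
  rw [conjBlock_eq, zB_pullB x (cjS_centralizer x Q) (isPBlock_pullB _ hf)]
  congr 2
  ext χ
  show pullIrr _ (pullIrr _ χ) ∈ f ↔ χ ∈ f
  rw [pullIrr_symm_pullIrr]

/-! ## Principal blocks -/

theorem omegaR_principal (x : MonoidAlgebra (locRing M) G) :
    omegaR (Char.principal G) x = ∑ g, (x.coeff g : ℂ) := by
  simp [omegaR, omega, Char.principal]

theorem aug_Ek_principal : aug (Ek M (principalBlock M G)) = (1 : resField M) := by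
  rw [← omegaK_Ek_mem (isPBlock_principalBlock M G) principal_mem_principalBlock, Ek, aug_eq_sum,
    omegaK_resG _ (isClassElt_blockEltR _)]
  simp only [coeff_resG, ← map_sum]
  refine congrArg _ (Subtype.ext ?_)
  rw [AddSubmonoidClass.coe_finset_sum]
  exact (omegaR_principal _).symm

theorem isPrin_Ek : IsPrin (⊤ : Subgroup G) (Ek M (principalBlock M G)) :=
  ⟨isBlk_Ek (isPBlock_principalBlock M G), aug_Ek_principal⟩

theorem aug_emb (H : Subgroup G) (x : MonoidAlgebra (resField M) H) : aug (emb H x) = aug x := by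
  classical
  rw [aug_eq_sum, aug_eq_sum, ← Finset.sum_filter_add_sum_filter_not Finset.univ (· ∈ H),
    Finset.sum_eq_zero (s := Finset.univ.filter fun g => ¬ g ∈ H)
      (fun g hg => coeff_emb_notMem H x (Finset.mem_filter.1 hg).2), add_zero,
    Finset.sum_subtype (p := (· ∈ H)) _ (by simp)]
  exact Finset.sum_congr rfl fun h _ => coeff_emb_coe H x h

theorem isPrin_zB (H : Subgroup G) : IsPrin H (zB M H (principalBlock M H)) :=
  ⟨isBlk_zB H (isPBlock_principalBlock M H), (aug_emb H _).trans aug_Ek_principal⟩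

theorem eq_principal_of_isPrin {H : Subgroup G} {b : Set (IrrCharacter H)} (hb : IsPBlock M b)
    (h : IsPrin H (zB M H b)) : b = principalBlock M H :=
  zB_injective H hb (isPBlock_principalBlock M H) (h.unique (isPrin_zB H))

/-! ## Defect groups -/

theorem isSylowIn_sylow {K : Subgroup G} (S : Sylow p K) :
    IsSylowIn p ((S : Subgroup K).map K.subtype) K := by
  refine ⟨Subgroup.map_subtype_le _, S.isPGroup'.map _, fun R hSR hRK hR => ?_⟩
  have h1 := S.is_maximal' (hR.comap_of_injective _ Subtype.val_injective :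
    IsPGroup p (R.subgroupOf K)) fun u hu => hSR ⟨u, hu, rfl⟩
  rw [← h1]
  exact (Subgroup.map_subgroupOf_eq_of_le hRK).symm

theorem exists_sylow_of_isSylowIn {D K : Subgroup G} (h : IsSylowIn p D K) :
    ∃ S : Sylow p K, D = (S : Subgroup K).map K.subtype := by
  obtain ⟨S, hS⟩ := (h.pgroup.comap_of_injective _ Subtype.val_injective :
    IsPGroup p (D.subgroupOf K)).exists_le_sylow
  refine ⟨S, (h.max _ ?_ (Subgroup.map_subtype_le _) (S.isPGroup'.map _)).symm⟩
  conv_lhs => rw [← Subgroup.map_subgroupOf_eq_of_le h.le]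
  exact Subgroup.map_mono hS

theorem classSumIn_top (t : G) :
    classSumIn (resField M) (⊤ : Subgroup G) t = classSum (resField M) t := by
  classical
  refine gaExt fun g => ?_
  rw [coeff_classSum]
  by_cases h : IsConj t g
  · obtain ⟨c, hc⟩ := isConj_iff.1 h
    rw [if_pos h, coeff_classSumIn_pos ⟨c, Subgroup.mem_top c, hc⟩]
  · rw [if_neg h, coeff_classSumIn_neg]
    rintro ⟨c, -, hc⟩
    exact h (isConj_iff.2 ⟨c, hc⟩)

theorem omegaK_classSum (χ : IrrCharacter G) (t : G) :
    omegaK χ (classSum (resField M) t) =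
      res M ⟨centralChar (χ : G → ℂ) t, centralChar_memLocalRing χ t⟩ := by
  rw [← resG_classSum, omegaK_resG χ (isClassElt_classSum t)]
  exact congrArg _ (Subtype.ext (omegaR_classSum χ t))

theorem coeff_Ek {B : Set (IrrCharacter G)} (hB : IsPBlock M B) (t : G) :
    (Ek M B).coeff t = res M ⟨blockCoeff B t, blockCoeff_memLocalRing hB t⟩ := by
  rw [Ek, coeff_resG]
  exact congrArg _ (Subtype.ext (coeff_blockEltR hB t))

theorem isDefectClass_iff {B : Set (IrrCharacter G)} (hB : IsPBlock M B) (t : G) :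
    IsDefectClass M B t ↔ (Ek M B).coeff t ≠ 0 ∧
      lam (Ek M B) (classSumIn (resField M) ⊤ t) ≠ 0 := by
  obtain ⟨χ, hχ⟩ := isPBlock_nonempty hB
  rw [classSumIn_top, lam_Ek hB hχ (isClassElt_classSum t), omegaK_classSum, coeff_Ek hB,
    Ne, res_eq_zero_iff, Ne, res_eq_zero_iff]
  refine ⟨fun h => ⟨h.2.1, h.2.2 χ hχ⟩,
    fun h => ⟨blockCoeff_memLocalRing hB t, h.1, fun ψ hψ hψt => h.2 ?_⟩⟩
  simpa using MemLocalIdeal.add (isPBlock_sameBlock hB hχ hψ t) hψt

theorem isDefectGroup_iff {B : Set (IrrCharacter G)} (hB : IsPBlock M B) (D : Subgroup G) :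
    IsDefectGroup p M B D ↔ IsDefGrp p ⊤ (Ek M B) D := by
  constructor
  · rintro ⟨t, ht, S, rfl⟩
    obtain ⟨h1, h2⟩ := (isDefectClass_iff hB t).1 ht
    exact ⟨t, Subgroup.mem_top t, h1, h2, by rw [top_inf_eq]; exact isSylowIn_sylow S⟩
  · rintro ⟨t, -, h1, h2, hS⟩
    rw [top_inf_eq] at hS
    exact ⟨t, (isDefectClass_iff hB t).2 ⟨h1, h2⟩, exists_sylow_of_isSylowIn hS⟩

theorem maximal_iff (hM : IsPModular p M) {B : Set (IrrCharacter G)} {P : Subgroup G}
    {e : Set (IrrCharacter (Subgroup.centralizer (P : Set G)))} :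
    IsMaximalBrauerPair p M B P e ↔
      IsBrauerPairOf p M B P e ∧ IsDefectGroup p M B P := by
  haveI : CharP (resField M) p := resField_charP hM
  constructor
  · intro h
    obtain ⟨hp, hB, hpo⟩ := (isBrauerPairOf_iff hM).1 h.1
    refine ⟨h.1, (isDefectGroup_iff hB P).2 (NoExt.isDefGrp (fun b hb => ?_) hpo)⟩
    obtain ⟨a, ha, rfl⟩ := exists_eq_zI hb.right
    exact h.2 a.1 a.2 ((isBrauerPairOf_iff hM).2 ⟨ha, hB, hb.pairOf_right hpo⟩)
      (Relation.ReflTransGen.single ((normalSubpair_iff hM ⟨P, e⟩ a).2 ⟨hp, ha, hb⟩))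
  · rintro ⟨h, hD⟩
    refine ⟨h, fun R g hg hle => ?_⟩
    obtain ⟨-, hB, hgo⟩ := (isBrauerPairOf_iff hM).1 hg
    exact (Subgroup.eq_of_le_of_card_ge (subpairLE_imp hM (a := ⟨P, e⟩) (b := ⟨R, g⟩) hle).le
      (hgo.card_le ((isDefectGroup_iff hB P).1 hD))).symm

end Cfsg.Agent.BrauerPairs
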