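/-
Main theorems on Brauer pairs, in the vocabulary of the statements.
-/
import Cfsg.Agent.Lib.BrauerPairs.Bridge

set_option linter.unusedSectionVars false
set_option linter.style.haveILetI false

namespace Cfsg.Agent.BrauerPairs

open Cfsg MonoidAlgebra Cfsg.Agent.Blocks

universe u

variable {G : Type u} [Group G] [Fintype G] {p : ℕ} [Fact p.Prime] {M : Ideal AlgInt}

theorem brauerPair_existsUnique_block (hM : IsPModular p M) {P : Subgroup G}
    {e : Set (IrrCharacter (Subgroup.centralizer (P : Set G)))} (hPe : IsBrauerPair p M P e) :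
    ∃! B : Set (IrrCharacter G), IsBrauerPairOf p M B P e := by
  haveI := IsPModular.isPrime hM
  haveI : CharP (resField M) p := resField_charP hM
  obtain ⟨z, hz, huni⟩ := existsUnique_pairOf (isPair_zI ⟨P, e⟩ hPe)
  obtain ⟨B, hB, rfl⟩ := exists_eq_Ek hz.blk
  refine ⟨B, (isBrauerPairOf_iff hM).2 ⟨hPe, hB, hz⟩, fun B' h' => ?_⟩
  obtain ⟨-, hB', ho⟩ := (isBrauerPairOf_iff hM).1 h'
  exact Ek_injective hB' hB (huni _ ho)

theorem normalSubpair_existsUnique (hM : IsPModular p M) {P Q : Subgroup G}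
    {e : Set (IrrCharacter (Subgroup.centralizer (P : Set G)))} (hPe : IsBrauerPair p M P e)
    (hQP : Q ≤ P) (hPN : P ≤ Subgroup.normalizer (Q : Set G)) :
    ∃! f : Set (IrrCharacter (Subgroup.centralizer (Q : Set G))),
      IsNormalSubpair p M Q f P e := by
  haveI := IsPModular.isPrime hM
  haveI : CharP (resField M) p := resField_charP hM
  obtain ⟨z, hz, huni⟩ := existsUnique_nsub (isPair_zI ⟨P, e⟩ hPe) hQP hPN
  obtain ⟨f, hf, rfl⟩ :=
    exists_eq_zB (H := Subgroup.centralizer (Q : Set G))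
      (by simpa only [top_inf_eq] using hz.left.blk)
  refine ⟨f, (normalSubpair_iff hM ⟨Q, f⟩ ⟨P, e⟩).2 ⟨⟨hPe.1.to_le hQP, hf⟩, hPe, hz⟩,
    fun f' h' => ?_⟩
  obtain ⟨hf', -, hn⟩ := (normalSubpair_iff hM ⟨Q, f'⟩ ⟨P, e⟩).1 h'
  exact zB_injective _ hf'.2 hf (huni _ hn)

theorem subpair_existsUnique (hM : IsPModular p M) {P Q : Subgroup G}
    {e : Set (IrrCharacter (Subgroup.centralizer (P : Set G)))} (hPe : IsBrauerPair p M P e)
    (hQP : Q ≤ P) :
    ∃! f : Set (IrrCharacter (Subgroup.centralizer (Q : Set G))),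
      IsPBlock M f ∧ SubpairLE p M Q f P e := by
  haveI := IsPModular.isPrime hM
  haveI : CharP (resField M) p := resField_charP hM
  obtain ⟨z, hz, huni⟩ := existsUnique_below (isPair_zI ⟨P, e⟩ hPe) (Q := Q) hQP
  obtain ⟨a, ha, haz⟩ := exists_eq_zI (SubLE.left hz (isPair_zI ⟨P, e⟩ hPe))
  obtain ⟨Q', f⟩ := a
  obtain rfl : Q' = Q := congrArg Prod.fst haz
  obtain rfl : zB M _ f = z := congrArg Prod.snd haz
  refine ⟨f, ⟨ha.2, subLE_imp hM (a := ⟨Q', f⟩) (b := ⟨P, e⟩) ha.2 hPe hz⟩, fun f' h' => ?_⟩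
  exact zB_injective _ h'.1 ha.2 (huni _ (subpairLE_imp hM (a := ⟨Q', f'⟩) (b := ⟨P, e⟩) h'.2))

theorem subpair_pairOf_iff (hM : IsPModular p M) {P Q : Subgroup G}
    {e : Set (IrrCharacter (Subgroup.centralizer (P : Set G)))}
    {f : Set (IrrCharacter (Subgroup.centralizer (Q : Set G)))} (hPe : IsBrauerPair p M P e)
    (hQf : IsBrauerPair p M Q f) (hle : SubpairLE p M Q f P e) {B : Set (IrrCharacter G)}
    (hB : IsPBlock M B) : IsBrauerPairOf p M B P e ↔ IsBrauerPairOf p M B Q f := by
  haveI := IsPModular.isPrime hM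
  haveI : CharP (resField M) p := resField_charP hM
  rw [pairOf_iff hM hPe hB, pairOf_iff hM hQf hB]
  exact (subpairLE_imp hM (a := ⟨Q, f⟩) (b := ⟨P, e⟩) hle).pairOf_iff.symm

theorem maximalPair_isDefectGroup (hM : IsPModular p M) {B : Set (IrrCharacter G)}
    {P : Subgroup G} {e : Set (IrrCharacter (Subgroup.centralizer (P : Set G)))}
    (hmax : IsMaximalBrauerPair p M B P e) : IsDefectGroup p M B P := by
  haveI := IsPModular.isPrime hM
  exact ((maximal_iff hM).1 hmax).2

theorem exists_conj_subpairLE (hM : IsPModular p M) {B : Set (IrrCharacter G)} {P Q : Subgroup G}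
    {e : Set (IrrCharacter (Subgroup.centralizer (P : Set G)))}
    {f : Set (IrrCharacter (Subgroup.centralizer (Q : Set G)))}
    (hmax : IsMaximalBrauerPair p M B P e) (hQf : IsBrauerPairOf p M B Q f) :
    ∃ x : G, SubpairLE p M (Q.map (MulAut.conj x).toMonoidHom) (conjBlock Q x f) P e := by
  haveI := IsPModular.isPrime hM
  haveI : CharP (resField M) p := resField_charP hM
  obtain ⟨hp, hB, hpo⟩ := (isBrauerPairOf_iff hM).1 hmax.1
  obtain ⟨hq, -, hqo⟩ := (isBrauerPairOf_iff hM).1 hQf
  obtain ⟨x, -, hx⟩ := exists_conj_subLE hpo hqo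
    ((isDefectGroup_iff hB P).1 (maximalPair_isDefectGroup hM hmax))
  rw [← zB_conjBlock hq.2 x] at hx
  exact ⟨x, subLE_imp hM (a := ⟨_, conjBlock Q x f⟩) (b := ⟨P, e⟩) (isPBlock_conjBlock hq.2 x)
    hp hx⟩

theorem principal_pairOf (hM : IsPModular p M) {Q : Subgroup G} (hQ : IsPGroup p Q) :
    IsBrauerPairOf p M (principalBlock M G) Q
      (principalBlock M (Subgroup.centralizer (Q : Set G))) := by
  haveI := IsPModular.isPrime hM
  haveI : CharP (resField M) p := resField_charP hM
  have hp : IsBrauerPair p M Q (principalBlock M (Subgroup.centralizer (Q : Set G))) :=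
    ⟨hQ, isPBlock_principalBlock M _⟩
  exact (pairOf_iff hM hp (isPBlock_principalBlock M G)).2
    (isPrin_Ek.pairOf hQ le_top (by simpa only [top_inf_eq] using isPrin_zB _))

/-- Brauer's third main theorem. -/
theorem principal_pairOf_iff (hM : IsPModular p M) {Q : Subgroup G} (hQ : IsPGroup p Q)
    {e : Set (IrrCharacter (Subgroup.centralizer (Q : Set G)))} :
    IsBrauerPairOf p M (principalBlock M G) Q e ↔
      e = principalBlock M (Subgroup.centralizer (Q : Set G)) := by
  haveI := IsPModular.isPrime hM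
  haveI : CharP (resField M) p := resField_charP hM
  refine ⟨fun h => ?_, fun h => h ▸ principal_pairOf hM hQ⟩
  obtain ⟨hp, -, ho⟩ := (isBrauerPairOf_iff hM).1 h
  exact eq_principal_of_isPrin hp.2 (by simpa only [zI, top_inf_eq] using ho.isPrin isPrin_Ek)

theorem stabilizesBlock_principal (hM : IsPModular p M) {K : Subgroup G} {x : G}
    (hx : x ∈ Subgroup.normalizer (K : Set G)) :
    StabilizesBlock K (principalBlock M K) x := by
  haveI := IsPModular.isPrime hM
  refine (stabilizesBlock_iff (isPBlock_principalBlock M K) hx).2 ?_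
  refine IsPrin.unique (H := K) ⟨?_, by rw [aug_cj, (isPrin_zB K).aug_eq]⟩ (isPrin_zB K)
  simpa only [cjS_eq_of_mem_normalizer hx] using (isPrin_zB (M := M) K).blk.cj x

theorem pNilpotent_iff_nilpotent_principal (hM : IsPModular p M) :
    HasNormalPComplement p G ↔ IsNilpotentBlock p M (principalBlock M G) := by
  haveI := IsPModular.isPrime hM
  have hp : p.Prime := Fact.out
  constructor
  · intro h
    refine ⟨isPBlock_principalBlock M G, fun Q e hQe x hx _ hreg => ?_⟩
    exact Fusion.mem_centralizer_of_hasNormalPComplement hQe.1.1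
      (PBasic.hasNormalPComplement_subgroup _ h) hx
      ((Nat.coprime_comm).1 ((hp.coprime_iff_not_dvd).2 hreg))
  · intro h
    refine Fusion.hasNormalPComplement_of_frobenius fun D hD g hg hgo => ?_
    exact h.2 D _ (principal_pairOf hM hD) g hg
      (stabilizesBlock_principal hM (normalizer_le_normalizer_centralizer D hg))
      ((hp.coprime_iff_not_dvd).1 (Nat.coprime_comm.1 hgo))

end Cfsg.Agent.BrauerPairs
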