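/-
The fusion system of a block in the vocabulary of the statements.
-/
import Cfsg.Agent.Lib.BrauerPairs.BlockFusion
import Cfsg.Agent.Lib.BrauerPairs.Main
import Cfsg.Agent.Lib.Blocks.LocalIdem
import Cfsg.Prelude.Def_BlockFusion

set_option linter.unusedSectionVars false
set_option linter.style.haveILetI false

namespace Cfsg.Agent.BrauerPairs

open Cfsg MonoidAlgebra Cfsg.Agent.Blocks

universe u

variable {G : Type u} [Group G] [Fintype G] {p : ℕ} {M : Ideal AlgInt} [M.IsPrime]

/-! ## Idempotents over the local ring -/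

theorem eq_zero_of_idem {e : MonoidAlgebra (locRing M) G} (he : e * e = e)
    (h0 : resG e = 0) : e = 0 := by
  classical
  let J : Ideal (locRing M) := Ideal.span (Set.range fun g => e.coeff g)
  have hJ : J ≤ IsLocalRing.maximalIdeal (locRing M) • J := by
    refine Ideal.span_le.2 ?_
    rintro _ ⟨g, rfl⟩
    show e.coeff g ∈ IsLocalRing.maximalIdeal (locRing M) • J
    rw [show e.coeff g = (e * e).coeff g by rw [he], coeff_mul_univ]
    refine Submodule.sum_mem _ fun a _ =>
      Submodule.smul_mem_smul ?_ (Ideal.subset_span ⟨a⁻¹ * g, rfl⟩)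
    rw [← IsLocalRing.residue_eq_zero_iff]
    have := congrArg (fun z : MonoidAlgebra (resField M) G => z.coeff a) h0
    simpa [coeff_resG, res] using this
  have hfg : J.FG := Submodule.fg_span (Set.finite_range _)
  have := Submodule.eq_bot_of_le_smul_of_le_jacobson_bot _ J hfg hJ
    (IsLocalRing.jacobson_eq_maximalIdeal ⊥ bot_ne_top).ge
  exact gaExt fun g => Ideal.span_eq_bot.1 this _ ⟨g, rfl⟩

theorem idem_eq_of_resG_eq {e f : MonoidAlgebra (locRing M) G} (hc : e * f = f * e)
    (he : e * e = e) (hf : f * f = f) (h : resG e = resG f) : e = f := by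
  have aux : ∀ x y : MonoidAlgebra (locRing M) G, x * y = y * x → x * x = x → y * y = y →
      resG x = resG y → x = x * y := by
    intro x y hxy hx hy hr
    refine sub_eq_zero.1 (eq_zero_of_idem ?_ ?_)
    · have a1 : x * y * x = x * y := by rw [mul_assoc, ← hxy, ← mul_assoc, hx]
      have a2 : x * (x * y) = x * y := by rw [← mul_assoc, hx]
      have a3 : x * y * (x * y) = x * y := by rw [← mul_assoc, a1, mul_assoc, hy]
      simp only [sub_mul, mul_sub, hx, a1, a2, a3]
      abel
    · rw [map_sub, map_mul, ← hr, ← map_mul, hx, sub_self]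
  rw [aux e f hc he hf h, hc, ← aux f e hc.symm hf he h.symm]

theorem blockEltR_idem {B : Set (IrrCharacter G)} (hB : IsPBlock M B) :
    blockEltR M B * blockEltR M B = blockEltR M B := by
  classical
  simpa using sum_blockEltR_idem {B} (by simpa using hB)

/-- Blocks of two subgroups with the same reduced idempotent have the same idempotent. -/
theorem subgroupBlockCoeff_eq {C T : Subgroup G} (hCT : C ≤ T) {f : Set (IrrCharacter C)}
    {F : Set (IrrCharacter T)} (hf : IsPBlock M f) (hF : IsPBlock M F)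
    (h : zB M T F = zB M C f) : subgroupBlockCoeff T F = subgroupBlockCoeff C f := by
  have hcomm : emb T (blockEltR M F) * emb C (blockEltR M f) =
      emb C (blockEltR M f) * emb T (blockEltR M F) := by
    rw [← emb_restr (H := T) (y := emb C (blockEltR M f))
        (fun g hg => coeff_emb_notMem C _ fun hgC => hg (hCT hgC)),
      ← map_mul, ← map_mul, IsClassElt.comm (isClassElt_blockEltR F)]
  have heq := idem_eq_of_resG_eq hcomm (by rw [← map_mul, blockEltR_idem hF])
    (by rw [← map_mul, blockEltR_idem hf]) (by rw [resG_emb_blockEltR, resG_emb_blockEltR, h])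
  funext g
  rw [← coeff_emb_blockEltR T hF g, ← coeff_emb_blockEltR C hf g, heq]

theorem blockCoeff_eq_of_zB {C T : Subgroup G} (hCT : C ≤ T) {f : Set (IrrCharacter C)}
    {F : Set (IrrCharacter T)} (hf : IsPBlock M f) (hF : IsPBlock M F)
    (h : zB M T F = zB M C f) (t : T) : blockCoeff F t = subgroupBlockCoeff C f (t : G) := by
  rw [← subgroupBlockCoeff_eq hCT hf hF h]
  simp [subgroupBlockCoeff]

theorem zB_eq_of_blockCoeff {C T : Subgroup G} (hCT : C ≤ T) {f : Set (IrrCharacter C)}
    {F : Set (IrrCharacter T)} (hf : IsPBlock M f) (hF : IsPBlock M F)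
    (h : ∀ t : T, blockCoeff F t = subgroupBlockCoeff C f (t : G)) : zB M T F = zB M C f := by
  rw [← resG_emb_blockEltR, ← resG_emb_blockEltR]
  refine congrArg resG (gaExt fun g => Subtype.ext ?_)
  rw [coeff_emb_blockEltR T hF, coeff_emb_blockEltR C hf]
  by_cases hg : g ∈ T
  · rw [← h ⟨g, hg⟩]
    simp [subgroupBlockCoeff, hg]
  · simp [subgroupBlockCoeff, hg, show g ∉ C from fun hgC => hg (hCT hgC)]

/-! ## Defect groups in subgroups -/

variable [Fact p.Prime]

theorem isSylowIn_map_subtype {H : Subgroup G} {D K : Subgroup H} (h : IsSylowIn p D K) :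
    IsSylowIn p (D.map H.subtype) (K.map H.subtype) := by
  refine ⟨Subgroup.map_mono h.le, h.pgroup.map _, fun R hDR hRK hR => ?_⟩
  have hRH : R ≤ H := hRK.trans (Subgroup.map_subtype_le _)
  rw [← h.max (R.subgroupOf H) (fun d hd => hDR ⟨d, hd, rfl⟩) (fun r hr => ?_)
    (hR.comap_of_injective _ Subtype.val_injective), Subgroup.map_subgroupOf_eq_of_le hRH]
  obtain ⟨q, hq, e⟩ := hRK hr
  rwa [← Subtype.ext (e : (q : G) = r)]

theorem isSylowIn_subgroupOf {H D K : Subgroup G} (hK : K ≤ H) (h : IsSylowIn p D K) :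
    IsSylowIn p (D.subgroupOf H) (K.subgroupOf H) := by
  refine ⟨fun x hx => h.le hx, h.pgroup.comap_of_injective _ Subtype.val_injective,
    fun R hDR hRK hR => ?_⟩
  have := h.max (R.map H.subtype) (fun d hd => ⟨⟨d, hK (h.le hd)⟩, hDR hd, rfl⟩) ?_ (hR.map _)
  · rw [← this]
    exact (Subgroup.comap_map_eq_self_of_injective Subtype.val_injective R).symm
  · rintro _ ⟨r, hr, rfl⟩
    exact hRK hr

theorem centralizer_subgroupOf_singleton {H : Subgroup G} (t : H) :
    ((Subgroup.centralizer ({t} : Set H)).map H.subtype) =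
      H ⊓ Subgroup.centralizer ({(t : G)} : Set G) := by
  ext g
  simp only [Subgroup.mem_map, Subgroup.mem_inf, Subgroup.mem_centralizer_singleton_iff]
  constructor
  · rintro ⟨x, hx, rfl⟩
    exact ⟨x.2, congrArg Subtype.val hx⟩
  · rintro ⟨hg, h⟩
    exact ⟨⟨g, hg⟩, Subtype.ext h, rfl⟩

theorem restr_classSumIn {H : Subgroup G} (t : H) :
    restr H (classSumIn (resField M) H (t : G)) = classSum (resField M) t := by
  classical
  refine gaExt fun h => ?_
  rw [coeff_classSum]
  show (classSumIn (resField M) H (t : G)).coeff (h : G) = _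
  by_cases hh : IsConj t h
  · obtain ⟨c, hc⟩ := isConj_iff.1 hh
    rw [if_pos hh]
    exact coeff_classSumIn_pos ⟨(c : G), c.2, congrArg Subtype.val hc⟩
  · rw [if_neg hh, coeff_classSumIn_neg]
    rintro ⟨c, hc, e⟩
    exact hh (isConj_iff.2 ⟨⟨c, hc⟩, Subtype.ext e⟩)

theorem isDefectGroup_sub_iff {H : Subgroup G} {b : Set (IrrCharacter H)} (hb : IsPBlock M b)
    (D : Subgroup H) :
    IsDefectGroup p M b D ↔ IsDefGrp p H (zB M H b) (D.map H.subtype) := by
  obtain ⟨ξ, hξ⟩ := isPBlock_nonempty hb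
  have key : ∀ t : H, ((Ek M b).coeff t = (zB M H b).coeff (t : G)) ∧
      lam (zB M H b) (classSumIn (resField M) H (t : G)) =
        lam (Ek M b) (classSumIn (resField M) ⊤ t) := fun t => ⟨(coeff_emb_coe H _ t).symm, by
    rw [lam_zB H hb hξ (inZ_classSumIn le_rfl Subgroup.le_normalizer t.2), restr_classSumIn,
      classSumIn_top, lam_Ek hb hξ (isClassElt_classSum t)]⟩
  rw [isDefectGroup_iff hb]
  constructor
  · rintro ⟨t, -, h1, h2, hS⟩
    refine ⟨t, t.2, (key t).1 ▸ h1, (key t).2 ▸ h2, ?_⟩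
    have := isSylowIn_map_subtype hS
    rwa [top_inf_eq, centralizer_subgroupOf_singleton] at this
  · rintro ⟨t, htH, h1, h2, hS⟩
    refine ⟨⟨t, htH⟩, trivial, ?_, ?_, ?_⟩
    · rw [(key ⟨t, htH⟩).1]; exact h1
    · rw [← (key ⟨t, htH⟩).2]; exact h2
    · have := isSylowIn_subgroupOf inf_le_left hS
      rw [← centralizer_subgroupOf_singleton ⟨t, htH⟩] at this
      simp only [Subgroup.subgroupOf, Subgroup.comap_map_eq_self_of_injective
        (show Function.Injective H.subtype from Subtype.val_injective)] at this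
      rwa [top_inf_eq]

theorem isDefectGroup_subgroupOf_iff {H : Subgroup G} {b : Set (IrrCharacter H)}
    (hb : IsPBlock M b) {D : Subgroup G} (hD : D ≤ H) :
    IsDefectGroup p M b (D.subgroupOf H) ↔ IsDefGrp p H (zB M H b) D := by
  rw [isDefectGroup_sub_iff hb, Subgroup.map_subgroupOf_eq_of_le hD]

/-! ## Pairs -/

theorem subpairLE_left {Q P : Subgroup G}
    {f : Set (IrrCharacter (Subgroup.centralizer (Q : Set G)))}
    {e : Set (IrrCharacter (Subgroup.centralizer (P : Set G)))} (hP : IsBrauerPair p M P e)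
    (h : SubpairLE p M Q f P e) : IsBrauerPair p M Q f := by
  rcases Relation.ReflTransGen.cases_head h with h' | ⟨c, hc, -⟩
  · cases h'
    exact hP
  · exact hc.1

theorem isMax_zI (hM : IsPModular p M) {B : Set (IrrCharacter G)} {P : Subgroup G}
    {e : Set (IrrCharacter (Subgroup.centralizer (P : Set G)))}
    (hmax : IsMaximalBrauerPair p M B P e) :
    IsPBlock M B ∧ IsBrauerPair p M P e ∧
      IsMax (p := p) (Ek M B) (zI M ⟨P, e⟩) := by
  obtain ⟨hp, hB, ho⟩ := (isBrauerPairOf_iff hM).1 hmax.1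
  exact ⟨hB, hp, ho, (isDefectGroup_iff hB P).1 (maximalPair_isDefectGroup hM hmax)⟩

theorem subpairLE_conj_iff (hM : IsPModular p M) {P Q : Subgroup G}
    {e : Set (IrrCharacter (Subgroup.centralizer (P : Set G)))}
    {f : Set (IrrCharacter (Subgroup.centralizer (Q : Set G)))} (he : IsBrauerPair p M P e)
    (hf : IsPBlock M f) (x : G) :
    SubpairLE p M (Q.map (MulAut.conj x).toMonoidHom) (conjBlock Q x f) P e ↔
      SubLE p ⊤ (cjP x (zI M ⟨Q, f⟩)) (zI M ⟨P, e⟩) := by
  rw [← zB_conjBlock hf x]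
  exact ⟨fun h => subpairLE_imp hM (a := ⟨_, conjBlock Q x f⟩) (b := ⟨P, e⟩) h,
    fun h => subLE_imp hM (a := ⟨_, conjBlock Q x f⟩) (b := ⟨P, e⟩) (isPBlock_conjBlock hf x) he h⟩

theorem stab_iff {Q : Subgroup G} {f : Set (IrrCharacter (Subgroup.centralizer (Q : Set G)))}
    (hf : IsPBlock M f) (y : G) :
    (y ∈ Subgroup.normalizer (Q : Set G) ∧
        StabilizesBlock (Subgroup.centralizer (Q : Set G)) f y) ↔
      y ∈ stabP (zI M ⟨Q, f⟩) :=
  ⟨fun h => ⟨h.1, (stabilizesBlock_iff hf (normalizer_le_normalizer_centralizer Q h.1)).1 h.2⟩,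
    fun h => ⟨h.1, (stabilizesBlock_iff hf (normalizer_le_normalizer_centralizer Q h.1)).2 h.2⟩⟩

theorem isBlockFusionSystemOn_hom (hM : IsPModular p M) [CharP (resField M) p]
    {B : Set (IrrCharacter G)} {P : Subgroup G}
    {e : Set (IrrCharacter (Subgroup.centralizer (P : Set G)))} (hp : IsBrauerPair p M P e)
    (Q : Subgroup G) (φ : Q →* G) :
    (Q ≤ P ∧ ∃ g : G, (∀ u : Q, φ u = g * (u : G) * g⁻¹) ∧
        Q.map (MulAut.conj g).toMonoidHom ≤ P ∧
        ∃ f : Set (IrrCharacter (Subgroup.centralizer (Q : Set G))),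
          SubpairLE p M Q f P e ∧
            SubpairLE p M (Q.map (MulAut.conj g).toMonoidHom) (conjBlock Q g f) P e) ↔
      φ ∈ blockHom p (zI M ⟨P, e⟩) Q := by
  constructor
  · rintro ⟨-, g, hg, -, f, hf, hgf⟩
    exact ⟨g, hg, zB M _ f, subpairLE_imp hM (a := ⟨Q, f⟩) (b := ⟨P, e⟩) hf,
      (subpairLE_conj_iff hM hp (subpairLE_left hp hf).2 g).1 hgf⟩
  · rintro ⟨g, hg, z, hz, hgz⟩
    obtain ⟨a, ha, haz⟩ := exists_eq_zI (SubLE.left hz (isPair_zI ⟨P, e⟩ hp))
    obtain ⟨Q', f⟩ := a
    obtain rfl : Q' = Q := congrArg Prod.fst haz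
    obtain rfl : zB M _ f = z := congrArg Prod.snd haz
    exact ⟨hz.le, g, hg, hgz.le, f, subLE_imp hM (a := ⟨Q', f⟩) (b := ⟨P, e⟩) ha.2 hp hz,
      (subpairLE_conj_iff hM hp ha.2 g).2 hgz⟩

/-- The fusion system of the statements. -/
theorem exists_blockFusion (hM : IsPModular p M) [CharP (resField M) p]
    {B : Set (IrrCharacter G)} {P : Subgroup G}
    {e : Set (IrrCharacter (Subgroup.centralizer (P : Set G)))}
    (hmax : IsMaximalBrauerPair p M B P e) :
    IsBlockFusionSystemOn p M B P e (blockFusion (isMax_zI hM hmax).2.2) :=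
  ⟨hmax, fun Q φ => (isBlockFusionSystemOn_hom (B := B) hM (isMax_zI hM hmax).2.1 Q φ).symm⟩

theorem eq_blockFusion (hM : IsPModular p M) [CharP (resField M) p]
    {B : Set (IrrCharacter G)} {P : Subgroup G}
    {e : Set (IrrCharacter (Subgroup.centralizer (P : Set G)))} {F : FusionSystem P}
    (hmax : IsMaximalBrauerPair p M B P e) (hF : IsBlockFusionSystemOn p M B P e F) :
    F = blockFusion (isMax_zI hM hmax).2.2 :=
  FusionSys.hom_ext _ _ fun Q => Set.ext fun φ =>
    (hF.2 Q φ).trans (isBlockFusionSystemOn_hom (B := B) hM (isMax_zI hM hmax).2.1 Q φ)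

end Cfsg.Agent.BrauerPairs
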