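/-
Exact idempotents: supports and orbit sums.
-/
import Cfsg.Agent.Lib.BrauerPairs.FusionBridge
import Cfsg.Agent.Lib.Blocks.Degree

set_option linter.unusedSectionVars false
set_option linter.style.haveILetI false

namespace Cfsg.Agent.BrauerPairs

open Cfsg MonoidAlgebra Cfsg.Agent.Blocks

universe u

variable {G : Type u} [Group G] [Fintype G] {p : ℕ} {M : Ideal AlgInt} [M.IsPrime]

theorem comm_of_isInvElt {R : Type*} [CommRing R] {C : Subgroup G} {e y : MonoidAlgebra R G}
    (he : IsInvElt C e) (hy : ∀ g, g ∉ C → y.coeff g = 0) : e * y = y * e := by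
  refine gaExt fun g => ?_
  rw [coeff_mul_univ, coeff_mul_univ]
  refine Fintype.sum_equiv ((Equiv.inv G).trans (Equiv.mulRight g)) _ _ fun a => ?_
  simp only [Equiv.trans_apply, Equiv.inv_apply, Equiv.coe_mulRight]
  rw [mul_comm]
  by_cases hb : a⁻¹ * g ∈ C
  · rw [show (a⁻¹ * g)⁻¹ * g = (a⁻¹ * g)⁻¹ * a * (a⁻¹ * g)⁻¹⁻¹ by group,
      he _ (inv_mem hb) a]
  · rw [hy _ hb, zero_mul, zero_mul]

/-- An invariant idempotent is supported where its reduction is. -/
theorem supp_of_resG_supp {C : Subgroup G} {e : MonoidAlgebra (locRing M) G}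
    (he : e * e = e) (hinv : IsInvElt C e) (hs : ∀ g, g ∉ C → (resG e).coeff g = 0)
    {g : G} (hg : g ∉ C) : e.coeff g = 0 := by
  classical
  have hxe : emb C (resG (restr C e)) = resG e := by rw [← restr_resG, emb_restr hs]
  have hx : IsClassElt (restr C e) := isClassElt_restr hinv
  have hid : resG (restr C e) * resG (restr C e) = resG (restr C e) :=
    emb_injective C (by rw [map_mul, hxe, ← map_mul, he])
  set f := ∑ B ∈ unitBlocks M (restr C e), blockEltR M B with hf
  have hff : f * f = f := sum_blockEltR_idem _ fun B hB => (mem_unitBlocks.1 hB).1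
  have := idem_eq_of_resG_eq (comm_of_isInvElt hinv fun g hg => coeff_emb_notMem C f hg) he
    (by rw [← map_mul, hff]) (by rw [resG_emb, hf, ← resG_eq_sum_blocks hx hid, hxe])
  rw [this]
  exact coeff_emb_notMem C f hg

theorem coeff_blockEltR' {B : Set (IrrCharacter G)} (hB : IsPBlock M B) (g : G) :
    ((blockEltR M B).coeff g : ℂ) = blockCoeff B g := coeff_blockEltR hB g

variable [Fact p.Prime]

/-- Block idempotents live on the centraliser of a normal `p`-subgroup. -/
theorem blockCoeff_supp_centralizer (hM : IsPModular p M) {P : Subgroup G} [P.Normal]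
    (hP : IsPGroup p P) {B : Set (IrrCharacter G)} (hB : IsPBlock M B) {g : G}
    (hg : g ∉ Subgroup.centralizer (P : Set G)) : blockCoeff B g = 0 := by
  haveI : CharP (resField M) p := resField_charP hM
  have h := brTrunc_eq_self_of_normal (T := ⊤) hP le_top
    (by rw [Subgroup.normalizer_eq_top_iff.2 ‹P.Normal›]) (isBlk_Ek hB).inZ (Ek_idem hB)
  have := supp_of_resG_supp (blockEltR_idem hB)
    (IsClassElt.isInvElt (isClassElt_blockEltR B) (Subgroup.centralizer (P : Set G)))
    (fun x hx => by
      show (Ek M B).coeff x = 0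
      rw [← h, coeff_brTrunc_neg hx]) hg
  rw [← coeff_blockEltR' hB, this]
  rfl

/-! ## Coprime action -/

/-- A `p`-regular element normalising a `p`-group `Q` and centralising `K` and `C_Q(K)`
centralises `Q`. -/
theorem centralizes_of_pRegular {Q : Subgroup G} (hQ : IsPGroup p Q) {n : G}
    (hn : IsPRegular p n) (hnQ : n ∈ Subgroup.normalizer (Q : Set G)) :
    ∀ (m : ℕ) (K : Subgroup G), Nat.card Q - Nat.card K = m → K ≤ Q →
      K ≤ Subgroup.centralizer ({n} : Set G) →
      Q ⊓ Subgroup.centralizer (K : Set G) ≤ Subgroup.centralizer ({n} : Set G) →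
      Q ≤ Subgroup.centralizer ({n} : Set G) := by
  intro m
  induction m using Nat.strong_induction_on with
  | _ m ih =>
    intro K hm hKQ hK hC
    by_cases hKe : K = Q
    · exact hKe ▸ hK
    set K' := Q ⊓ Subgroup.normalizer (K : Set G) with hK'def
    have hlt : K < K' := by
      refine lt_of_le_of_ne (le_inf hKQ Subgroup.le_normalizer) fun heq => ?_
      haveI := hQ.isNilpotent
      have := normalizerCondition_of_isNilpotent (G := Q) (K.subgroupOf Q)
        (lt_of_le_of_ne le_top fun h => hKe (le_antisymm hKQ (Subgroup.subgroupOf_eq_top.1 h)))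
      refine this.ne ?_
      rw [← Subgroup.subgroupOf_normalizer_eq hKQ]
      conv_lhs => rw [heq, hK'def, Subgroup.inf_subgroupOf_left]
    have hcard : Nat.card K < Nat.card K' := by
      by_contra hle
      exact hlt.ne (Subgroup.eq_of_le_of_card_ge hlt.le (not_lt.1 hle))
    refine ih (Nat.card Q - Nat.card K') ?_ K' rfl inf_le_left ?_
      ((inf_le_inf_left Q (Subgroup.centralizer_le hlt.le)).trans hC)
    · have := Subgroup.card_le_of_le (show K' ≤ Q from inf_le_left)
      omega
    intro y hy
    have hkc : ∀ k ∈ K, n * k * n⁻¹ = k := fun k hk => by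
      rw [← Subgroup.mem_centralizer_singleton_iff.1 (hK hk), mul_inv_cancel_right]
    set c := n * y * n⁻¹ * y⁻¹ with hc
    have hcQ : c ∈ Q := mul_mem ((Subgroup.mem_normalizer_iff.1 hnQ y).1 hy.1) (inv_mem hy.1)
    have hcC : c ∈ Subgroup.centralizer (K : Set G) := by
      rw [Subgroup.mem_centralizer_iff]
      intro k hk
      have hk' : y⁻¹ * k * y ∈ K := by
        simpa using (Subgroup.mem_normalizer_iff.1 (inv_mem hy.2) k).1 hk
      have e1 := hkc _ hk'
      have e2 := hkc _ hk
      have e3 : c * k * c⁻¹ = k := by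
        calc c * k * c⁻¹ = n * y * n⁻¹ * (y⁻¹ * k * y) * n * y⁻¹ * n⁻¹ := by rw [hc]; group
          _ = n * y * n⁻¹ * (n * (y⁻¹ * k * y) * n⁻¹) * n * y⁻¹ * n⁻¹ := by rw [e1]
          _ = n * k * n⁻¹ := by group
          _ = k := e2
      exact (mul_inv_eq_iff_eq_mul.1 e3).symm
    have hcn : n * c * n⁻¹ = c := by
      rw [← Subgroup.mem_centralizer_singleton_iff.1 (hC ⟨hcQ, hcC⟩), mul_inv_cancel_right]
    have hnc : Commute n c := mul_inv_eq_iff_eq_mul.1 hcn
    have hpow : ∀ r : ℕ, n ^ r * y * (n ^ r)⁻¹ = c ^ r * y := by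
      intro r
      induction r with
      | zero => simp
      | succ r ihr =>
        calc n ^ (r + 1) * y * (n ^ (r + 1))⁻¹ = n * (n ^ r * y * (n ^ r)⁻¹) * n⁻¹ := by
              rw [pow_succ']; group
          _ = n * c ^ r * y * n⁻¹ := by rw [ihr]; group
          _ = c ^ r * (n * y * n⁻¹) := by rw [(hnc.pow_right r).eq]; group
          _ = c ^ (r + 1) * y := by rw [hc, pow_succ]; group
    have h1 := hpow (orderOf n)
    rw [pow_orderOf_eq_one, one_mul, inv_one, mul_one] at h1
    have h2 : c ^ orderOf n = 1 := by simpa using mul_right_cancel (h1.symm.trans (one_mul y).symm)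
    obtain ⟨s, hs⟩ := hQ ⟨c, hcQ⟩
    have h3 := pow_gcd_eq_one.2 ⟨h2, (congrArg Subtype.val hs : c ^ p ^ s = 1)⟩
    rw [show Nat.gcd (orderOf n) (p ^ s) = 1 from (Nat.coprime_comm.1
      (((Fact.out : p.Prime).coprime_iff_not_dvd).2 hn)).pow_right s, pow_one] at h3
    refine Subgroup.mem_centralizer_singleton_iff.2 ?_
    exact (mul_inv_eq_iff_eq_mul.1 (mul_inv_eq_one.1 (hc ▸ h3))).symm

/-- A `p`-regular element stabilising a chain and centralising the members of the last group that
stabilise the chain centralises the last group. -/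
theorem centralizes_chain {n : G} (hn : IsPRegular p n) :
    ∀ (m : ℕ) (Q : Fin (m + 1) → Subgroup G), Monotone Q → (∀ i, IsPGroup p (Q i)) →
      (∀ i, n ∈ Subgroup.normalizer (Q i : Set G)) →
      (∀ x ∈ Q (Fin.last m), (∀ i, x ∈ Subgroup.normalizer (Q i : Set G)) →
        x ∈ Subgroup.centralizer ({n} : Set G)) →
      Q (Fin.last m) ≤ Subgroup.centralizer ({n} : Set G) := by
  intro m
  induction m with
  | zero =>
    intro Q _ _ _ h x hx
    refine h x hx fun i => ?_
    rw [show i = Fin.last 0 from Fin.ext (by simp only [Fin.val_last]; omega)]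
    exact Subgroup.le_normalizer hx
  | succ m ih =>
    intro Q hmono hp hnQ h
    have hle : Q (Fin.castSucc (Fin.last m)) ≤ Q (Fin.last (m + 1)) := hmono (Fin.le_last _)
    have hK := ih (fun i => Q i.castSucc) (fun i j hij => hmono (Fin.castSucc_le_castSucc_iff.2 hij))
      (fun i => hp _) (fun i => hnQ _) fun x hx hxN => h x (hle hx) fun i => by
        rcases Fin.eq_castSucc_or_eq_last i with ⟨j, rfl⟩ | rfl
        · exact hxN j
        · exact Subgroup.le_normalizer (hle hx)
    refine centralizes_of_pRegular (hp _) hn (hnQ _) _ _ rfl hle hK ?_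
    rintro x ⟨hx, hxC⟩
    refine h x hx fun i => ?_
    rcases Fin.eq_castSucc_or_eq_last i with ⟨j, rfl⟩ | rfl
    · refine Subgroup.centralizer_le_normalizer _
        (Subgroup.centralizer_le ?_ hxC)
      exact hmono (Fin.castSucc_le_castSucc_iff.2 (Fin.le_last j))
    · exact Subgroup.le_normalizer hx

end Cfsg.Agent.BrauerPairs
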