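/-
Nilpotent blocks.
-/
import Cfsg.Agent.Lib.BrauerPairs.FusionBridge

set_option linter.unusedSectionVars false
set_option linter.style.haveILetI false

namespace Cfsg.Agent.BrauerPairs

open MonoidAlgebra Cfsg.Agent.Blocks Cfsg Cfsg.FusionSystem

section Abstract

variable {G : Type*} [Group G] [Fintype G] {k : Type*} [Field k] [SplitCenter k G]
variable {p : ℕ} [Fact p.Prime] [CharP k p] {B : MonoidAlgebra k G} {a : Pr k G}

/-- Every stabiliser of a pair of the block of `X` acts through a `p`-group. -/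
def IsNilB (p : ℕ) (X : Subgroup G) (B : MonoidAlgebra k G) : Prop :=
  ∀ b, IsPairOf p X B b → ∀ x ∈ X, x ∈ stabP b → IsPRegular p x →
    x ∈ Subgroup.centralizer (b.1 : Set G)

theorem brTrunc_sup_of_supp {Q R : Subgroup G} {y : MonoidAlgebra k G}
    (hy : ∀ g, g ∉ Subgroup.centralizer (Q : Set G) → y.coeff g = 0) :
    brTrunc (Q ⊔ R) y = brTrunc R y := by
  refine gaExt fun g => ?_
  by_cases hg : g ∈ Subgroup.centralizer ((Q ⊔ R : Subgroup G) : Set G)
  · rw [coeff_brTrunc_pos hg, coeff_brTrunc_pos (centralizer_sup Q R ▸ hg).2]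
  · rw [coeff_brTrunc_neg hg]
    by_cases hgR : g ∈ Subgroup.centralizer (R : Set G)
    · rw [coeff_brTrunc_pos hgR, hy]
      exact fun h => hg ((centralizer_sup Q R).symm ▸ ⟨h, hgR⟩)
    · rw [coeff_brTrunc_neg hgR]

theorem isPRegular_conj {x : G} (c : G) (h : IsPRegular p x) : IsPRegular p (c * x * c⁻¹) := by
  have : orderOf (c * x * c⁻¹) = orderOf x :=
    orderOf_injective (MulAut.conj c).toMonoidHom (MulAut.conj c).injective x
  simpa only [IsPRegular, this] using h

/-- It is enough to test the pairs below a maximal one. -/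
theorem isNilB_of_below (h : IsMax p B a)
    (H : ∀ b, SubLE p ⊤ b a → ∀ x, x ∈ stabP b → IsPRegular p x →
      x ∈ Subgroup.centralizer (b.1 : Set G)) : IsNilB p ⊤ B := by
  intro b hb x _ hx hreg
  obtain ⟨c, -, hc⟩ := exists_conj_subLE h.pairOf hb h.isDef
  have hx' : c * x * c⁻¹ ∈ stabP (cjP c b) := by
    rw [← cjS_stabP]; exact mem_cjS_of_eq hx
  have := H _ hc _ hx' (isPRegular_conj c hreg)
  rw [← cjS_centralizer, mem_cjS] at this
  simpa [mul_assoc] using this

theorem autGroup_isPGroup_of_isNilB (h : IsMax p B a) (hn : IsNilB p ⊤ B) {P : Subgroup G}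
    (hP : P ≤ a.1) : IsPGroup p ((blockFusion h).autGroup P) := by
  obtain ⟨f, hb, -⟩ := existsUnique_below h.pair hP
  rintro ⟨α, hα⟩
  rw [blockFusion_autGroup h hb] at hα
  obtain ⟨x, hx, hxe⟩ := (FusionSys.mem_autInducedBy_iff α).1 hα
  set n := (orderOf x).factorization p
  refine ⟨n, Subtype.ext ?_⟩
  show α ^ p ^ n = 1
  have hreg : IsPRegular p (x ^ p ^ n) := by
    have hd : p ^ n ∣ orderOf x := Nat.ordProj_dvd _ p
    rw [IsPRegular, orderOf_pow' x (pow_ne_zero _ (Nat.Prime.ne_zero Fact.out)),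
      Nat.gcd_eq_right hd]
    exact Nat.not_dvd_ordCompl Fact.out (orderOf_pos x).ne'
  have hC := hn _ (hb.pairOf_iff.2 h.pairOf) (x ^ p ^ n) (Subgroup.mem_top _)
    (pow_mem hx _) hreg
  refine MulEquiv.ext fun q => Subtype.ext ?_
  have key : ∀ m : ℕ, ∀ q : P, (((α ^ m) q : P) : G) = x ^ m * (q : G) * (x ^ m)⁻¹ := by
    intro m
    induction m with
    | zero => intro q; simp
    | succ m ih =>
      intro q
      rw [pow_succ, MulAut.mul_apply, ih, hxe, pow_succ]
      group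
  rw [key]
  rw [← Subgroup.mem_centralizer_iff.1 hC q q.2, mul_inv_cancel_right]
  rfl

theorem fusion_inner_of_isNilB (h : IsMax p B a) (hn : IsNilB p ⊤ B) :
    blockFusion h = innerFusionSystem a.1 :=
  FusionSys.eq_inner_of_autGroup_isPGroup h.pair.pgroup (blockFusion_saturated h)
    fun _ hP => autGroup_isPGroup_of_isNilB h hn hP

theorem isNilB_of_fusion_inner (h : IsMax p B a)
    (hin : ∀ Q, (blockFusion h).Hom Q = (innerFusionSystem a.1).Hom Q) : IsNilB p ⊤ B := by
  refine isNilB_of_below h fun b hb x hx hreg => ?_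
  have hm : conjHom b.1 x ∈ (blockFusion h).Hom b.1 :=
    ⟨x, fun u => rfl, b.2, hb, by simpa only [cjP_eq_self hx] using hb⟩
  rw [hin] at hm
  obtain ⟨-, g, hg, hge⟩ := hm
  obtain ⟨n, hn⟩ := h.pair.pgroup ⟨g, hg⟩
  have hgn : g ^ p ^ n = 1 := congrArg Subtype.val hn
  have hgN : g ∈ Subgroup.normalizer (b.1 : Set G) :=
    FusionSys.mem_normalizer_of_conj_mem_finite fun q hq => by
      rw [← hge ⟨q, hq⟩]
      exact (Subgroup.mem_normalizer_iff.1 hx.1 q).1 hq
  let φ := b.1.normalizerMonoidHom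
  have he : φ ⟨x, hx.1⟩ = φ ⟨g, hgN⟩ := MulEquiv.ext fun q => Subtype.ext (hge q)
  have h1 : φ ⟨x, hx.1⟩ ^ orderOf x = 1 := by
    rw [← map_pow, show (⟨x, hx.1⟩ : Subgroup.normalizer (b.1 : Set G)) ^ orderOf x = 1 from
      Subtype.ext (pow_orderOf_eq_one x), map_one]
  have h2 : φ ⟨x, hx.1⟩ ^ p ^ n = 1 := by
    rw [he, ← map_pow, show (⟨g, hgN⟩ : Subgroup.normalizer (b.1 : Set G)) ^ p ^ n = 1 from
      Subtype.ext hgn, map_one]
  have hco : Nat.Coprime (orderOf x) (p ^ n) :=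
    (Nat.coprime_comm.1 (((Fact.out : p.Prime).coprime_iff_not_dvd).2 hreg)).pow_right n
  have h3 : φ ⟨x, hx.1⟩ = 1 := by
    have := pow_gcd_eq_one.2 ⟨h1, h2⟩
    rwa [hco, pow_one] at this
  rw [Subgroup.mem_centralizer_iff]
  intro q hq
  have := congrArg Subtype.val (DFunLike.congr_fun h3 (⟨q, hq⟩ : b.1))
  exact (mul_inv_eq_iff_eq_mul.1 (this : x * q * x⁻¹ = q)).symm

theorem isNilB_iff_abelian (h : IsMax p B a) (hab : a.1 ≤ Subgroup.centralizer (a.1 : Set G)) :
    IsNilB p ⊤ B ↔ stabP a ≤ Subgroup.centralizer (a.1 : Set G) := by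
  constructor
  · intro hn x hx
    have hm : conjHom a.1 x ∈ (blockFusion h).Hom a.1 :=
      ⟨x, fun u => rfl, a.2, Relation.ReflTransGen.refl, by
        rw [cjP_eq_self hx]; exact Relation.ReflTransGen.refl⟩
    rw [fusion_inner_of_isNilB h hn] at hm
    obtain ⟨-, g, hg, hge⟩ := hm
    rw [Subgroup.mem_centralizer_iff]
    intro q hq
    have e : x * q * x⁻¹ = q := by
      have := hge ⟨q, hq⟩
      rw [conjHom_apply'] at this
      rw [this, ← Subgroup.mem_centralizer_iff.1 (hab hg) q hq, mul_inv_cancel_right]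
    exact (mul_inv_eq_iff_eq_mul.1 e).symm
  · intro hT
    refine isNilB_of_below h fun b hb x hx _ => ?_
    obtain ⟨y, hy, -, c, hc, rfl⟩ :=
      abelian_stab_factor h hb (hab.trans (Subgroup.centralizer_le hb.le)) hx
    exact mul_mem (Subgroup.centralizer_le hb.le (hT hy)) hc

/-- Blocks of centralisers in a nilpotent block are nilpotent. -/
theorem IsNilB.centralizer (hn : IsNilB p ⊤ B) {b : Pr k G} (hb : IsPairOf p ⊤ B b) :
    IsNilB p (Subgroup.centralizer (b.1 : Set G)) b.2 := by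
  intro c hc x hxC hx hreg
  set C := Subgroup.centralizer (b.1 : Set G) with hCdef
  have hRC : c.1 ≤ C := hc.pair.le
  have hcC : Subgroup.centralizer ((b.1 ⊔ c.1 : Subgroup G) : Set G) =
      C ⊓ Subgroup.centralizer (c.1 : Set G) := centralizer_sup _ _
  have hle : b.1 ⊔ c.1 ≤ stabP b :=
    sup_le (self_le_stabP hb.pair.blkC) (hRC.trans (centralizer_le_stabP hb.pair.blkC))
  have hp : IsPGroup p (b.1 ⊔ c.1 : Subgroup G) := by
    rw [sup_comm]
    exact hc.pair.pgroup.to_sup_of_normal_right' hb.pair.pgroup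
      (hRC.trans (Subgroup.centralizer_le_normalizer _))
  have hsub : NSub p ⊤ b (b.1 ⊔ c.1, c.2) := by
    refine ⟨hb.pair, ⟨hp, le_top, ?_⟩, le_sup_left, hle.trans (stabP_le_normalizer b),
      fun u hu => isInvElt_stabP b u (hle hu), ?_⟩
    · rw [top_inf_eq, hcC]; exact hc.pair.blk
    · show brTrunc (b.1 ⊔ c.1) b.2 * c.2 = c.2
      rw [brTrunc_sup_of_supp hb.pair.blkC.inZ.supp]
      exact hc.occ
  have hxN : x ∈ Subgroup.normalizer ((b.1 ⊔ c.1 : Subgroup G) : Set G) := by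
    refine mem_normalizer_of_cjS_eq ?_
    rw [cjS, Subgroup.map_sup]
    exact congrArg₂ (· ⊔ ·) (cjS_eq_of_mem_normalizer (Subgroup.centralizer_le_normalizer _ hxC))
      (cjS_eq_of_mem_normalizer hx.1)
  have := hn _ (hsub.pairOf_right hb) x (Subgroup.mem_top x) ⟨hxN, hx.2⟩ hreg
  exact Subgroup.centralizer_le (show c.1 ≤ b.1 ⊔ c.1 from le_sup_right) this

end Abstract

section Concrete

universe u

variable {G : Type u} [Group G] [Fintype G] {p : ℕ} [Fact p.Prime] {M : Ideal AlgInt} [M.IsPrime]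

theorem isNilpotentBlock_iff (hM : IsPModular p M) {B : Set (IrrCharacter G)} :
    IsNilpotentBlock p M B ↔ IsPBlock M B ∧ IsNilB p ⊤ (Ek M B) := by
  refine ⟨fun h => ⟨h.1, fun b hb x _ hx hreg => ?_⟩, fun h => ⟨h.1, ?_⟩⟩
  · obtain ⟨⟨Q, e⟩, ha, rfl⟩ := exists_eq_zI hb.pair
    obtain ⟨h1, h2⟩ := (stab_iff ha.2 x).2 hx
    exact h.2 Q e ((isBrauerPairOf_iff hM).2 ⟨ha, h.1, hb⟩) x h1 h2 hreg
  · intro Q e hQe x hxN hst hreg
    obtain ⟨ha, -, hb⟩ := (isBrauerPairOf_iff hM).1 hQe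
    exact h.2 _ hb x (Subgroup.mem_top x) ((stab_iff ha.2 x).1 ⟨hxN, hst⟩) hreg

theorem map_inf_centralizer {H : Subgroup G} (R : Subgroup H) :
    (Subgroup.centralizer (R : Set H)).map H.subtype =
      H ⊓ Subgroup.centralizer ((R.map H.subtype : Subgroup G) : Set G) := by
  ext g
  simp only [Subgroup.mem_map, Subgroup.mem_inf, Subgroup.mem_centralizer_iff, SetLike.mem_coe]
  constructor
  · rintro ⟨x, hx, rfl⟩
    refine ⟨x.2, ?_⟩
    rintro _ ⟨r, hr, rfl⟩
    exact congrArg Subtype.val (hx r hr)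
  · rintro ⟨hg, h⟩
    exact ⟨⟨g, hg⟩, fun r hr => Subtype.ext (h _ ⟨r, hr, rfl⟩), rfl⟩

theorem isBlk_emb {k : Type*} [Field k] {H : Subgroup G} {K : Subgroup H} {z : MonoidAlgebra k H}
    (h : IsBlk K z) : IsBlk (K.map H.subtype) (emb H z) := by
  refine ⟨⟨fun g hg => ?_, fun u hu g => ?_⟩, by rw [← map_mul, h.idem],
    fun e => h.ne_zero (emb_injective H (by rw [e, map_zero])), fun y hy hyy => ?_⟩
  · by_cases hgH : g ∈ H
    · rw [coeff_emb_mem H _ hgH]
      exact h.inZ.supp _ fun hK => hg ⟨_, hK, rfl⟩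
    · exact coeff_emb_notMem H _ hgH
  · obtain ⟨u', hu', rfl⟩ := hu
    show (emb H z).coeff ((u' : G) * g * (u' : G)⁻¹) = (emb H z).coeff g
    by_cases hgH : g ∈ H
    · rw [coeff_emb_mem H _ hgH, coeff_emb_mem H _ (mul_mem (mul_mem u'.2 hgH) (inv_mem u'.2))]
      exact h.inZ.inv u' hu' ⟨g, hgH⟩
    · rw [coeff_emb_notMem H _ hgH, coeff_emb_notMem H _]
      exact fun hc => hgH (by simpa [mul_assoc] using mul_mem (mul_mem (inv_mem u'.2) hc) u'.2)
  · have hys : ∀ g, g ∉ H → y.coeff g = 0 := fun g hg =>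
      hy.supp g fun ⟨q, _, e⟩ => hg (e ▸ q.2)
    have hy' : InZ K (restr H y) :=
      ⟨fun g hg => hy.supp (g : G) fun ⟨q, hq, e⟩ => hg (Subtype.ext (e : (q : G) = g) ▸ hq),
        fun u hu g => hy.inv (u : G) ⟨u, hu, rfl⟩ (g : G)⟩
    have e := emb_restr hys
    have hyy' : restr H y * restr H y = restr H y :=
      emb_injective H (by rw [map_mul, e, hyy])
    rw [← e, ← map_mul]
    rcases h.prim _ hy' hyy' with h0 | h0
    · exact Or.inl (by rw [h0, map_zero])
    · exact Or.inr (by rw [h0])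

theorem brTrunc_emb {R : Type*} [CommRing R] {H : Subgroup G} (Q : Subgroup H)
    (y : MonoidAlgebra R H) : brTrunc (Q.map H.subtype) (emb H y) = emb H (brTrunc Q y) := by
  classical
  refine gaExt fun g => ?_
  rw [coeff_brTrunc]
  by_cases hgH : g ∈ H
  · rw [coeff_emb_mem H _ hgH, coeff_emb_mem H _ hgH, coeff_brTrunc]
    refine if_congr ?_ rfl rfl
    constructor
    · intro h
      have : g ∈ (Subgroup.centralizer (Q : Set H)).map H.subtype := by
        rw [map_inf_centralizer]; exact ⟨hgH, h⟩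
      obtain ⟨x, hx, e⟩ := this
      rwa [← show x = ⟨g, hgH⟩ from Subtype.ext e]
    · intro h
      have : g ∈ (Subgroup.centralizer (Q : Set H)).map H.subtype := ⟨_, h, rfl⟩
      rw [map_inf_centralizer] at this
      exact this.2
  · rw [coeff_emb_notMem H _ hgH, coeff_emb_notMem H _ hgH]
    exact ite_self _

theorem isNilpotentBlock_of_isNilB (hM : IsPModular p M) [CharP (resField M) p] {H : Subgroup G}
    {f : Set (IrrCharacter H)} (hf : IsPBlock M f) (hn : IsNilB p H (zB M H f)) :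
    IsNilpotentBlock p M f := by
  refine (isNilpotentBlock_iff hM).2 ⟨hf, fun b hb x _ hx hreg => ?_⟩
  have hpo : IsPairOf p H (zB M H f) (b.1.map H.subtype, emb H b.2) := by
    refine ⟨⟨hb.pair.pgroup.map _, Subgroup.map_subtype_le _, ?_⟩, isBlk_zB H hf, ?_⟩
    · rw [← map_inf_centralizer]; exact isBlk_emb hb.pair.blkC
    · show brTrunc (b.1.map H.subtype) (emb H (Ek M f)) * emb H b.2 = emb H b.2
      rw [brTrunc_emb, ← map_mul, hb.occ]
  have hx' : (x : G) ∈ stabP ((b.1.map H.subtype, emb H b.2) : Pr (resField M) G) := by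
    refine ⟨mem_normalizer_of_cjS_eq ?_, ?_⟩
    · show (b.1.map H.subtype).map (MulAut.conj (x : G)).toMonoidHom = b.1.map H.subtype
      conv_rhs => rw [← cjS_eq_of_mem_normalizer hx.1]
      rw [cjS, Subgroup.map_map, Subgroup.map_map]
      rfl
    · show cj (x : G) (emb H b.2) = emb H b.2
      refine gaExt fun g => ?_
      rw [coeff_cj]
      by_cases hg : g ∈ H
      · rw [coeff_emb_mem H _ hg, coeff_emb_mem H _ (mul_mem (mul_mem (inv_mem x.2) hg) x.2)]
        have := congrArg (fun z : MonoidAlgebra (resField M) H => z.coeff ⟨g, hg⟩) hx.2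
        rw [coeff_cj] at this
        exact this
      · rw [coeff_emb_notMem H _ hg, coeff_emb_notMem H _]
        exact fun hc => hg (by simpa [mul_assoc] using mul_mem (mul_mem x.2 hc) (inv_mem x.2))
  have hreg' : IsPRegular p (x : G) := by
    simpa only [IsPRegular, Subgroup.orderOf_coe] using hreg
  have h1 := hn _ hpo (x : G) x.2 hx' hreg'
  rw [Subgroup.mem_centralizer_iff]
  exact fun r hr => Subtype.ext (Subgroup.mem_centralizer_iff.1 h1 _ ⟨r, hr, rfl⟩)

end Concrete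

end Cfsg.Agent.BrauerPairs
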