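/-
Orbit sums of blocks of centralisers and the Brauer correspondence.
-/
import Cfsg.Agent.Lib.BrauerPairs.Lift
import Cfsg.Agent.Lib.BrauerPairs.NilBlock

set_option linter.unusedSectionVars false
set_option linter.style.haveILetI false

namespace Cfsg.Agent.BrauerPairs

open MonoidAlgebra Cfsg.Agent.Blocks Cfsg

section Abstract

variable {G : Type*} [Group G] [Fintype G] {k : Type*} [Field k] [SplitCenter k G]
variable {p : ℕ} [Fact p.Prime] [CharP k p] {X : Subgroup G}

theorem idem_eq_sum_blks {H : Subgroup G} {y : MonoidAlgebra k G} (hy : InZ H y)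
    (hyy : y * y = y) [DecidablePred fun z : MonoidAlgebra k G => y * z = z] :
    y = ∑ z ∈ (blks k H).filter (fun z => y * z = z), z := by
  conv_lhs => rw [← mul_one y, ← sum_blks (k := k) H, Finset.mul_sum]
  rw [Finset.sum_filter]
  refine Finset.sum_congr rfl fun z hz => ?_
  split_ifs with h
  · exact h
  · exact ((isBlk_of_mem hz).prim y hy hyy).resolve_right h

/-- At a maximal pair the truncated block is the orbit sum. -/
theorem brTrunc_eq_orbitSum {B : MonoidAlgebra k G} {a : Pr k G} (h : IsPairOf p X B a)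
    (hno : NoExt p X a) : brTrunc a.1 B = orbitSum X a := by
  classical
  have hinv := h.blk.inZ.isInvElt h.pair.le
  conv_lhs => rw [idem_eq_sum_blks (h.blk.inZ.brTrunc a.1)
    (by rw [← brTrunc_mul h.pair.pgroup hinv hinv, h.blk.idem])]
  refine Finset.sum_congr ?_ fun _ _ => rfl
  ext z
  simp only [Finset.mem_filter]
  refine ⟨fun hz => ?_, fun hz => ?_⟩
  · exact (mem_orbitBlks h.pair).2
      (hno.conj_of_pairOf h ⟨⟨h.pair.pgroup, h.pair.le, isBlk_of_mem hz.1⟩, h.blk, hz.2⟩)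
  · obtain ⟨n, hn, rfl⟩ := (mem_orbitBlks h.pair).1 hz
    refine ⟨cj_mem_blks hn.1 hn.2 (mem_blks.2 h.pair.blk), ?_⟩
    have := (h.cj' hn.1).occ
    rwa [show (cjP n a).1 = a.1 from cjS_eq_of_mem_normalizer hn.2] at this

theorem orbitSum_eq_of_le {a : Pr k G} (hN : Subgroup.normalizer (a.1 : Set G) ≤ X) :
    orbitSum X a = orbitSum ⊤ a := by
  have hC := (Subgroup.centralizer_le_normalizer (a.1 : Set G)).trans hN
  rw [orbitSum, orbitSum, orbitBlks, orbitBlks, inf_eq_right.2 hN, inf_eq_right.2 hC, top_inf_eq,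
    top_inf_eq]

theorem nsub_iff_of_le {a b : Pr k G} (hN : Subgroup.normalizer (a.1 : Set G) ≤ X) :
    NSub p X a b ↔ NSub p ⊤ a b := by
  have hC := (Subgroup.centralizer_le_normalizer (a.1 : Set G)).trans hN
  constructor
  · intro h
    exact ⟨((isPair_sub_iff hC).1 h.left).1,
      ((isPair_sub_iff ((Subgroup.centralizer_le h.le).trans hC)).1 h.right).1,
      h.le, h.normal, h.inv, h.occ⟩
  · intro h
    exact ⟨(isPair_sub_iff hC).2 ⟨h.left, Subgroup.le_normalizer.trans hN⟩,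
      (isPair_sub_iff ((Subgroup.centralizer_le h.le).trans hC)).2 ⟨h.right, h.normal.trans hN⟩,
      h.le, h.normal, h.inv, h.occ⟩

theorem noExt_iff_of_le {a : Pr k G} (hN : Subgroup.normalizer (a.1 : Set G) ≤ X) :
    NoExt p X a ↔ NoExt p ⊤ a :=
  forall_congr' fun _ => imp_congr_left (nsub_iff_of_le hN)

theorem isPairOf_of_brTrunc_eq {Y : Subgroup G} {B c : MonoidAlgebra k G} {a : Pr k G}
    (hc : IsPairOf p Y c a) (hpair : IsPair p X a) (hB : IsBlk X B)
    (he : brTrunc a.1 B = brTrunc a.1 c) : IsPairOf p X B a :=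
  ⟨hpair, hB, by rw [he]; exact hc.occ⟩

/-- The correspondence from the group to a subgroup containing the normaliser. -/
theorem existsUnique_corr_down {B : MonoidAlgebra k G} {P : Subgroup G}
    (hN : Subgroup.normalizer (P : Set G) ≤ X) (hB : IsBlk ⊤ B) (hD : IsDefGrp p ⊤ B P) :
    ∃! c, IsBlk X c ∧ IsDefGrp p X c P ∧ brTrunc P B = brTrunc P c := by
  obtain ⟨e, he⟩ := exists_pairOf_defGrp hB hD
  have hno := he.noExt hD
  have hpX : IsPair p X (P, e) := (isPair_sub_iff
    ((Subgroup.centralizer_le_normalizer _).trans hN)).2 ⟨he.pair, Subgroup.le_normalizer.trans hN⟩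
  have hnoX : NoExt p X (P, e) := (noExt_iff_of_le hN).2 hno
  obtain ⟨c, hc, huni⟩ := existsUnique_pairOf hpX
  have heq : brTrunc P B = brTrunc P c := by
    have h1 := brTrunc_eq_orbitSum he hno
    have h2 := brTrunc_eq_orbitSum hc hnoX
    rw [orbitSum_eq_of_le hN] at h2
    exact h1.trans h2.symm
  refine ⟨c, ⟨hc.blk, hnoX.isDefGrp hc, heq⟩, fun c' hc' => huni c' ?_⟩
  exact isPairOf_of_brTrunc_eq he hpX hc'.1 hc'.2.2.symm

/-- The correspondence from the subgroup to the group. -/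
theorem existsUnique_corr_up {c : MonoidAlgebra k G} {P : Subgroup G}
    (hN : Subgroup.normalizer (P : Set G) ≤ X) (hc : IsBlk X c) (hD : IsDefGrp p X c P) :
    ∃! B, IsBlk ⊤ B ∧ IsDefGrp p ⊤ B P ∧ brTrunc P B = brTrunc P c := by
  obtain ⟨e, he⟩ := exists_pairOf_defGrp hc hD
  have hno := he.noExt hD
  have hp : IsPair p ⊤ (P, e) :=
    ((isPair_sub_iff ((Subgroup.centralizer_le_normalizer _).trans hN)).1 he.pair).1
  have hnoT : NoExt p ⊤ (P, e) := (noExt_iff_of_le hN).1 hno
  obtain ⟨B, hB, huni⟩ := existsUnique_pairOf hp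
  have heq : brTrunc P B = brTrunc P c := by
    have h2 := brTrunc_eq_orbitSum he hno
    rw [orbitSum_eq_of_le hN] at h2
    exact (brTrunc_eq_orbitSum hB hnoT).trans h2.symm
  exact ⟨B, ⟨hB.blk, hnoT.isDefGrp hB, heq⟩,
    fun B' hB' => huni B' (isPairOf_of_brTrunc_eq he hp hB'.1 hB'.2.2)⟩

/-- A block covering a stable pair with normal subgroup is that pair. -/
theorem pairOf_stable_eq {B : MonoidAlgebra k G} {b : Pr k G} (hb : IsPairOf p ⊤ B b)
    (hstab : stabP b = ⊤) : B = b.2 := by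
  have hN : Subgroup.normalizer (b.1 : Set G) = ⊤ :=
    top_le_iff.1 (hstab ▸ stabP_le_normalizer b)
  have hbl := isBlk_stabP hb.pair.pgroup hb.pair.blkC
  rw [hstab] at hbl
  have h := brTrunc_eq_self_of_normal hb.pair.pgroup le_top hN.ge hb.blk.inZ hb.blk.idem
  refine hb.blk.eq_of_mul_ne_zero hbl fun h0 => hb.pair.blk.ne_zero ?_
  rw [← hb.occ, h, h0]

/-- A centric pair's block in `Q C(Q)` is nilpotent. -/
theorem isNilB_sup_centralizer {b : Pr k G} (hb : IsPair p ⊤ b)
    (hD : IsDefGrp p (Subgroup.centralizer (b.1 : Set G)) b.2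
      (b.1 ⊓ Subgroup.centralizer (b.1 : Set G))) :
    IsNilB p (b.1 ⊔ Subgroup.centralizer (b.1 : Set G)) b.2 := by
  set C := Subgroup.centralizer (b.1 : Set G) with hCdef
  set H := b.1 ⊔ C with hH
  have hHT : H ≤ stabP b := sup_le (self_le_stabP hb.blkC) (centralizer_le_stabP hb.blkC)
  have hHN : H ≤ Subgroup.normalizer (b.1 : Set G) := hHT.trans (stabP_le_normalizer b)
  have hbH : IsBlk H b.2 := isBlk_of_le hb.pgroup le_sup_left hHN le_sup_right hb.blkC
    fun u hu => isInvElt_stabP b u (hHT hu)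
  have hQC : b.1 ≤ Subgroup.normalizer (C : Set G) :=
    Subgroup.le_normalizer.trans (normalizer_le_normalizer_centralizer b.1)
  obtain ⟨D, hDH⟩ := exists_isDefGrp (p := p) hbH
  have hQne : brTrunc b.1 b.2 = b.2 := brTrunc_eq_self hb.blkC.inZ.supp
  obtain ⟨x, hx, hQD⟩ := hDH.exists_conj_ge hbH hb.pgroup le_sup_left
    (hQne.symm ▸ hb.blk.ne_zero)
  have hDx := hDH.cj' hbH hx
  have hne : brTrunc (cjS x D ⊓ C) b.2 ≠ 0 := by
    intro h0
    refine hDx.brTrunc_ne_zero ?_
    rw [← brTrunc_brTrunc (inf_le_left : cjS x D ⊓ C ≤ cjS x D), h0, brTrunc_zero]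
  obtain ⟨c, -, hcD⟩ := hD.exists_conj_ge hb.blkC (hDx.pgroup.to_le inf_le_left) inf_le_right hne
  have hDQ : cjS x D = b.1 := by
    refine (Subgroup.eq_of_le_of_card_ge hQD ?_).symm
    refine card_le_card_aut_mul (hDx.le.trans hHN) (P' := b.1) Subgroup.le_normalizer
      ((Subgroup.card_le_of_le hcD).trans (card_cjS c _).le) ?_
    refine (FusionSys.autInducedBy_mono hDx.le).trans fun α hα => ?_
    obtain ⟨u, hu, hue⟩ := (FusionSys.mem_autInducedBy_iff α).1 hα
    obtain ⟨v, hv, d, hd, rfl⟩ := mem_sup_of_normal hQC hu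
    refine (FusionSys.mem_autInducedBy_iff α).2 ⟨v, hv, fun q => ?_⟩
    rw [hue q]
    have := Subgroup.mem_centralizer_iff.1 hd q q.2
    calc v * d * (q : G) * (v * d)⁻¹ = v * (d * q * d⁻¹) * v⁻¹ := by group
      _ = v * (q : G) * v⁻¹ := by rw [← this, mul_inv_cancel_right]
  rw [hDQ] at hDx
  intro c' hc' y hy _ hreg
  obtain ⟨z, hz, hle⟩ := hDx.exists_conj_ge hbH hc'.pair.pgroup hc'.pair.le hc'.brTrunc_ne_zero
  rw [cjS_eq_of_mem_normalizer (hHN hz)] at hle
  refine Subgroup.centralizer_le hle ?_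
  obtain ⟨v, hv, d, hd, rfl⟩ := mem_sup_of_normal hQC hy
  let φ := b.1.normalizerMonoidHom
  obtain ⟨s, hs⟩ := hb.pgroup ⟨v, hv⟩
  have hvN : v ∈ Subgroup.normalizer (b.1 : Set G) := Subgroup.le_normalizer hv
  have he : φ ⟨v * d, hHN hy⟩ = φ ⟨v, hvN⟩ := MulEquiv.ext fun q => Subtype.ext (by
    show v * d * (q : G) * (v * d)⁻¹ = v * (q : G) * v⁻¹
    have := Subgroup.mem_centralizer_iff.1 hd q q.2
    calc v * d * (q : G) * (v * d)⁻¹ = v * (d * q * d⁻¹) * v⁻¹ := by group
      _ = v * (q : G) * v⁻¹ := by rw [← this, mul_inv_cancel_right])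
  have h1 : φ ⟨v * d, hHN hy⟩ ^ orderOf (v * d) = 1 := by
    rw [← map_pow, show (⟨v * d, hHN hy⟩ : Subgroup.normalizer (b.1 : Set G)) ^ orderOf (v * d) = 1
      from Subtype.ext (pow_orderOf_eq_one _), map_one]
  have h2 : φ ⟨v * d, hHN hy⟩ ^ p ^ s = 1 := by
    rw [he, ← map_pow, show (⟨v, hvN⟩ : Subgroup.normalizer (b.1 : Set G)) ^ p ^ s = 1 from
      Subtype.ext (congrArg Subtype.val hs : v ^ p ^ s = 1), map_one]
  have h3 : φ ⟨v * d, hHN hy⟩ = 1 := by
    have := pow_gcd_eq_one.2 ⟨h1, h2⟩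
    rwa [show Nat.gcd (orderOf (v * d)) (p ^ s) = 1 from (Nat.coprime_comm.1
      (((Fact.out : p.Prime).coprime_iff_not_dvd).2 hreg)).pow_right s, pow_one] at this
  rw [Subgroup.mem_centralizer_iff]
  intro q hq
  have := congrArg Subtype.val (DFunLike.congr_fun h3 (⟨q, hq⟩ : b.1))
  exact (mul_inv_eq_iff_eq_mul.1 (this : v * d * q * (v * d)⁻¹ = q)).symm

end Abstract

section Concrete

universe u

variable {G : Type u} [Group G] [Fintype G] {p : ℕ} [Fact p.Prime] {M : Ideal AlgInt} [M.IsPrime]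

theorem coeff_zB_eq {H : Subgroup G} {b : Set (IrrCharacter H)} (hb : IsPBlock M b) (g : G) :
    ∃ h : MemLocalRing M (subgroupBlockCoeff H b g),
      (zB M H b).coeff g = res M ⟨subgroupBlockCoeff H b g, h⟩ := by
  refine ⟨coeff_emb_blockEltR H hb g ▸ ((emb H (blockEltR M b)).coeff g).2, ?_⟩
  rw [← resG_emb_blockEltR, coeff_resG]
  exact congrArg _ (Subtype.ext (coeff_emb_blockEltR H hb g))

theorem brTrunc_congr_iff {P H : Subgroup G} {B : Set (IrrCharacter G)}
    {c : Set (IrrCharacter H)} (hB : IsPBlock M B) (hc : IsPBlock M c) :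
    (∀ x : G, x ∈ Subgroup.centralizer (P : Set G) →
        MemLocalIdeal M (blockCoeff B x - subgroupBlockCoeff H c x)) ↔
      brTrunc P (Ek M B) = brTrunc P (zB M H c) := by
  constructor
  · intro h
    refine gaExt fun g => ?_
    by_cases hg : g ∈ Subgroup.centralizer (P : Set G)
    · obtain ⟨hm, he⟩ := coeff_zB_eq hc g
      rw [coeff_brTrunc_pos hg, coeff_brTrunc_pos hg, coeff_Ek hB, he, res_eq_res_iff]
      exact h g hg
    · rw [coeff_brTrunc_neg hg, coeff_brTrunc_neg hg]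
  · intro h x hx
    obtain ⟨hm, he⟩ := coeff_zB_eq hc x
    have := congrArg (fun z : MonoidAlgebra (resField M) G => z.coeff x) h
    simp only [coeff_brTrunc_pos hx] at this
    rw [coeff_Ek hB, he, res_eq_res_iff] at this
    exact this

/-- Conjugation on the group algebra over any ring. -/
noncomputable def cjR {R : Type*} [CommRing R] (x : G) :
    MonoidAlgebra R G ≃ₐ[R] MonoidAlgebra R G :=
  MonoidAlgebra.domCongr R R (MulAut.conj x)

theorem coeff_cjR {R : Type*} [CommRing R] (x g : G) (y : MonoidAlgebra R G) :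
    (cjR x y).coeff g = y.coeff (x⁻¹ * g * x) := by
  simp [cjR]

theorem resG_cjR (x : G) (y : MonoidAlgebra (locRing M) G) : resG (cjR x y) = cj x (resG y) :=
  gaExt fun g => by rw [coeff_resG, coeff_cjR, coeff_cj, coeff_resG]

/-- The exact orbit sum over a normal `p`-subgroup. -/
theorem blockCoeff_eq_orbit (hM : IsPModular p M) {P : Subgroup G} [P.Normal]
    {B : Set (IrrCharacter G)} {e : Set (IrrCharacter (Subgroup.centralizer (P : Set G)))}
    (hBe : IsBrauerPairOf p M B P e) (g : G) :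
    blockCoeff B g = (Nat.card (stabP (zI M ⟨P, e⟩)) : ℂ)⁻¹ *
      ∑ x : G, subgroupBlockCoeff (Subgroup.centralizer (P : Set G)) e (x⁻¹ * g * x) := by
  classical
  haveI : CharP (resField M) p := resField_charP hM
  obtain ⟨he, hB, ho⟩ := (isBrauerPairOf_iff hM).1 hBe
  set T := stabP (zI M ⟨P, e⟩) with hTdef
  haveI : (Subgroup.centralizer (P : Set G)).Normal := inferInstance
  set y := emb (Subgroup.centralizer (P : Set G)) (blockEltR M e) with hy
  have hcjC : ∀ x g : G, g ∉ (Subgroup.centralizer (P : Set G)) → x⁻¹ * g * x ∉ (Subgroup.centralizer (P : Set G)) := fun x g hg h =>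
    hg (by simpa [mul_assoc] using (inferInstance : (Subgroup.centralizer (P : Set G)).Normal).conj_mem _ h x)
  have hysupp : ∀ x g : G, g ∉ (Subgroup.centralizer (P : Set G)) → (cjR x y).coeff g = 0 := fun x g hg => by
    rw [coeff_cjR, coeff_emb_notMem _ _ (hcjC x g hg)]
  have hyinv : ∀ x : G, IsInvElt (Subgroup.centralizer (P : Set G)) (cjR x y) := fun x u hu g => by
    rw [coeff_cjR, coeff_cjR]
    have hu' : x⁻¹ * u * x ∈ (Subgroup.centralizer (P : Set G)) := by simpa using (inferInstance : (Subgroup.centralizer (P : Set G)).Normal).conj_mem _ hu x⁻¹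
    rw [show x⁻¹ * (u * g * u⁻¹) * x = x⁻¹ * u * x * (x⁻¹ * g * x) * (x⁻¹ * u * x)⁻¹ by group]
    by_cases hg : x⁻¹ * g * x ∈ (Subgroup.centralizer (P : Set G))
    · rw [coeff_emb_mem _ _ hg, coeff_emb_mem _ _ (mul_mem (mul_mem hu' hg) (inv_mem hu'))]
      exact isClassElt_blockEltR e ⟨_, hg⟩ ⟨_, hu'⟩
    · rw [coeff_emb_notMem _ _ hg, coeff_emb_notMem _ _]
      intro h
      exact hg (by simpa [mul_assoc] using mul_mem (mul_mem (inv_mem hu') h) hu')
  have hyy : ∀ x : G, cjR x y * cjR x y = cjR x y := fun x => by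
    rw [← map_mul, hy, ← map_mul, blockEltR_idem he.2]
  have hred : ∀ x : G, resG (cjR x y) = cj x (zI M ⟨P, e⟩).2 := fun x => by
    rw [resG_cjR, hy, resG_emb_blockEltR]; rfl
  have hN : ∀ x : G, x ∈ Subgroup.normalizer (P : Set G) := fun x => by
    rw [Subgroup.normalizer_eq_top_iff.2 ‹P.Normal›]; trivial
  have hblk : ∀ x : G, IsBlk (Subgroup.centralizer (P : Set G)) (cj x (zI M ⟨P, e⟩).2) := fun x => by
    have h : IsBlk (cjS x (Subgroup.centralizer (P : Set G))) (cj x (zI M ⟨P, e⟩).2) :=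
      ho.pair.blkC.cj x
    rwa [show cjS x (Subgroup.centralizer (P : Set G)) = Subgroup.centralizer (P : Set G) from
      cjS_eq_of_mem_normalizer (normalizer_le_normalizer_centralizer P (hN x))] at h
  have horth : ∀ x z : G, x⁻¹ * z ∉ T → cjR x y * cjR z y = 0 := by
    intro x z hxz
    refine eq_zero_of_idem ?_ ?_
    · calc cjR x y * cjR z y * (cjR x y * cjR z y)
          = cjR x y * (cjR z y * cjR x y) * cjR z y := by simp only [mul_assoc]
        _ = cjR x y * (cjR x y * cjR z y) * cjR z y := by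
              rw [comm_of_isInvElt (hyinv z) (hysupp x)]
        _ = cjR x y * cjR z y := by rw [← mul_assoc, hyy, mul_assoc, hyy]
    · rw [map_mul, hred, hred]
      refine (hblk x).mul_eq_zero (hblk z) fun h => hxz ⟨hN _, ?_⟩
      show cj (x⁻¹ * z) (zI M ⟨P, e⟩).2 = (zI M ⟨P, e⟩).2
      rw [← cj_cj, ← h, cj_inv_cj]
  set S := ∑ q : G ⧸ T, cjR q.out y with hS
  have hne : ∀ q r : G ⧸ T, q ≠ r → q.out⁻¹ * r.out ∉ T := fun q r hqr h => hqr (by
    rw [← q.out_eq, ← r.out_eq]; exact QuotientGroup.eq.2 h)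
  have hSS : S * S = S := by
    rw [hS, Finset.sum_mul]
    refine Finset.sum_congr rfl fun q _ => ?_
    rw [Finset.mul_sum, Finset.sum_eq_single q]
    · exact hyy _
    · exact fun r _ hr => horth _ _ (hne q r hr.symm)
    · simp
  have hno : brTrunc P (Ek M B) = Ek M B :=
    brTrunc_eq_self_of_normal he.1 le_top
      (fun x _ => hN x) (isBlk_Ek hB).inZ (Ek_idem hB)
  have hpairs : ∀ x : G, Ek M B * cj x (zI M ⟨P, e⟩).2 = cj x (zI M ⟨P, e⟩).2 := fun x => by
    have := (ho.cjT x).occ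
    replace this : brTrunc (cjS x P) (Ek M B) * cj x (zI M ⟨P, e⟩).2 =
        cj x (zI M ⟨P, e⟩).2 := this
    rwa [cjS_eq_of_mem_normalizer (hN x), hno] at this
  have hred2 : ∀ x : G, ∀ t ∈ T, cj (x * t) (zI M ⟨P, e⟩).2 = cj x (zI M ⟨P, e⟩).2 :=
    fun x t ht => by rw [← cj_cj, ht.2]
  have hSB : resG S = Ek M B := by
    have h1 : Ek M B * resG S = resG S := by
      rw [hS, map_sum, Finset.mul_sum]
      exact Finset.sum_congr rfl fun q _ => by rw [hred, hpairs]
    have hinv : InZ ⊤ (resG S) := by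
      refine ⟨fun g hg => absurd (Subgroup.mem_top g) hg, ?_⟩
      rw [isInvElt_iff_cj]
      intro u _
      rw [hS, map_sum, map_sum]
      refine Fintype.sum_equiv (MulAction.toPerm u) _ _ fun q => ?_
      rw [hred, hred, cj_cj]
      have : ((u • q).out⁻¹ * (u * q.out)) ∈ T := by
        rw [← QuotientGroup.eq, QuotientGroup.out_eq']
        conv_lhs => rw [← q.out_eq']
        rfl
      have h2 := hred2 (u • q).out _ this
      rw [mul_inv_cancel_left] at h2
      exact h2
    have hidem : resG S * resG S = resG S := by rw [← map_mul, hSS]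
    rcases (isBlk_Ek hB).prim _ hinv hidem with h0 | h0
    · exfalso
      rw [hinv.comm (fun g hg => absurd (Subgroup.mem_top g) hg), h1] at h0
      have h3 : resG S * cj (Quotient.out (QuotientGroup.mk 1 : G ⧸ T)) (zI M ⟨P, e⟩).2 =
          cj (Quotient.out (QuotientGroup.mk 1 : G ⧸ T)) (zI M ⟨P, e⟩).2 := by
        rw [hS, map_sum, Finset.sum_mul, Finset.sum_eq_single (QuotientGroup.mk 1 : G ⧸ T)]
        · rw [hred]; exact (hblk _).idem
        · intro r _ hr
          rw [← hred, ← map_mul, horth _ _ (hne r _ hr), map_zero]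
        · simp
      rw [h0, zero_mul] at h3
      exact (hblk _).ne_zero h3.symm
    · rw [← h0, hinv.comm (fun g hg => absurd (Subgroup.mem_top g) hg), h1]
  have hexact : blockEltR M B = S :=
    idem_eq_of_resG_eq (IsClassElt.comm (isClassElt_blockEltR B) S) (blockEltR_idem hB) hSS
      hSB.symm
  have hconst : ∀ x : G, ∀ t ∈ T, cjR (x * t) y = cjR x y := by
    intro x t ht
    refine idem_eq_of_resG_eq (comm_of_isInvElt (hyinv _) (hysupp x)) (hyy _) (hyy _) ?_
    rw [hred, hred, hred2 x t ht]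
  have hsum : ∑ x : G, cjR x y = (Nat.card T : ℕ) • S := by
    rw [← Finset.sum_fiberwise Finset.univ (fun x : G => (QuotientGroup.mk x : G ⧸ T)), hS,
      Finset.smul_sum]
    refine Finset.sum_congr rfl fun q _ => ?_
    have hval : ∀ x ∈ Finset.univ.filter (fun x : G => (QuotientGroup.mk x : G ⧸ T) = q),
        cjR x y = cjR q.out y := fun x hx => by
      obtain ⟨-, hx⟩ := Finset.mem_filter.1 hx
      have hm : q.out⁻¹ * x ∈ T := by rw [← QuotientGroup.eq, QuotientGroup.out_eq', hx]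
      have := hconst q.out _ hm
      rwa [mul_inv_cancel_left] at this
    rw [Finset.sum_congr rfl hval, Finset.sum_const]
    congr 1
    rw [Nat.card_eq_fintype_card, ← Finset.card_univ]
    refine Finset.card_bij' (fun x hx => ⟨q.out⁻¹ * x, ?_⟩) (fun t _ => q.out * t)
      (fun x _ => Finset.mem_univ _) (fun t _ => ?_) (fun x _ => by simp)
      (fun t _ => Subtype.ext (by simp))
    · rw [← QuotientGroup.eq, QuotientGroup.out_eq', (Finset.mem_filter.1 hx).2]
    · refine Finset.mem_filter.2 ⟨Finset.mem_univ _, ?_⟩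
      show (QuotientGroup.mk (q.out * (t : G)) : G ⧸ T) = q
      rw [QuotientGroup.mk_mul_of_mem _ t.2, QuotientGroup.out_eq']
  have hcoe := congrArg (fun z : MonoidAlgebra (locRing M) G => (z.coeff g : ℂ)) hsum
  simp only [MonoidAlgebra.coeff_sum, Finset.sum_apply', MonoidAlgebra.coeff_smul,
    Finsupp.smul_apply, coeff_cjR, hy, AddSubmonoidClass.coe_finset_sum] at hcoe
  rw [← coeff_blockEltR hB g, hexact]
  have hterm : ∀ x : G, ((emb (Subgroup.centralizer (P : Set G)) (blockEltR M e)).coeff (x⁻¹ * g * x) : ℂ) =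
      subgroupBlockCoeff (Subgroup.centralizer (P : Set G)) e (x⁻¹ * g * x) := fun x => coeff_emb_blockEltR (Subgroup.centralizer (P : Set G)) he.2 _
  simp only [hterm] at hcoe
  rw [hcoe]
  have hT0 : (Nat.card T : ℂ) ≠ 0 := Nat.cast_ne_zero.2 Nat.card_pos.ne'
  rw [nsmul_eq_mul]
  push_cast
  rw [← mul_assoc, inv_mul_cancel₀ hT0, one_mul]

end Concrete

end Cfsg.Agent.BrauerPairs
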