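/-
Brauer pairs of blocks whose local π'-cores act trivially.
-/
import Cfsg.Agent.Lib.Blocks.ExtFirstMain
import Cfsg.Agent.Lib.Blocks.SecondMain
import Cfsg.Agent.Lib.OddOrder.MinSimple

set_option linter.unusedSectionVars false
set_option linter.style.haveILetI false

namespace Cfsg.Agent.BrauerPairs

open Cfsg MonoidAlgebra Cfsg.Agent.Blocks

universe u

variable {G : Type u} [Group G] [Fintype G]

/-! ## Averaging idempotents -/

section Avg

variable {k : Type*} [Field k] [SplitCenter k G]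

open Classical in
/-- The averaging element of a subgroup. -/
noncomputable def avgElt (k : Type*) [Field k] {G : Type*} [Group G] [Fintype G] (K : Subgroup G) :
    MonoidAlgebra k G :=
  gaOfFun fun g => if g ∈ K then (Nat.card K : k)⁻¹ else 0

theorem coeff_avgElt_pos {K : Subgroup G} {g : G} (hg : g ∈ K) :
    (avgElt k K).coeff g = (Nat.card K : k)⁻¹ := by
  classical simp [avgElt, hg]

theorem coeff_avgElt_neg {K : Subgroup G} {g : G} (hg : g ∉ K) :
    (avgElt k K).coeff g = 0 := by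
  classical simp [avgElt, hg]

theorem avgElt_mul {K L : Subgroup G} (hKL : K ≤ L) (hK : (Nat.card K : k) ≠ 0) :
    avgElt k K * avgElt k L = avgElt k L := by
  classical
  refine gaExt fun g => ?_
  rw [coeff_mul_univ]
  have h1 : ∀ a, (avgElt k K).coeff a * (avgElt k L).coeff (a⁻¹ * g) =
      (if a ∈ K then (Nat.card K : k)⁻¹ else 0) * (avgElt k L).coeff g := by
    intro a
    by_cases ha : a ∈ K
    · rw [coeff_avgElt_pos ha, if_pos ha]
      congr 1
      by_cases hg : g ∈ L
      · rw [coeff_avgElt_pos hg, coeff_avgElt_pos (mul_mem (inv_mem (hKL ha)) hg)]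
      · rw [coeff_avgElt_neg hg, coeff_avgElt_neg]
        exact fun h => hg (by simpa using mul_mem (hKL ha) h)
    · rw [coeff_avgElt_neg ha, if_neg ha, zero_mul, zero_mul]
  rw [Finset.sum_congr rfl fun a _ => h1 a, ← Finset.sum_mul, Finset.sum_ite, Finset.sum_const_zero,
    add_zero, Finset.sum_const, nsmul_eq_mul,
    show (Finset.univ.filter fun a => a ∈ K).card = Nat.card K by
      rw [Nat.card_eq_fintype_card, Fintype.card_subtype],
    mul_inv_cancel₀ hK, one_mul]

theorem inZ_avgElt {H K : Subgroup G} (hKH : K ≤ H)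
    (hN : H ≤ Subgroup.normalizer (K : Set G)) : InZ H (avgElt k K) := by
  refine ⟨fun g hg => coeff_avgElt_neg fun h => hg (hKH h), fun u hu g => ?_⟩
  have h := Subgroup.mem_normalizer_iff.1 (hN hu) g
  by_cases hg : g ∈ K
  · rw [coeff_avgElt_pos hg, coeff_avgElt_pos (h.1 hg)]
  · rw [coeff_avgElt_neg hg, coeff_avgElt_neg fun h' => hg (h.2 h')]

theorem isInvElt_avgElt {P K : Subgroup G} (hN : P ≤ Subgroup.normalizer (K : Set G)) :
    IsInvElt P (avgElt k K) := by
  intro u hu g
  have h := Subgroup.mem_normalizer_iff.1 (hN hu) g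
  by_cases hg : g ∈ K
  · rw [coeff_avgElt_pos hg, coeff_avgElt_pos (h.1 hg)]
  · rw [coeff_avgElt_neg hg, coeff_avgElt_neg fun h' => hg (h.2 h')]

theorem cj_avgElt (x : G) (K : Subgroup G) : cj x (avgElt k K) = avgElt k (cjS x K) := by
  refine gaExt fun g => ?_
  rw [coeff_cj]
  by_cases hg : g ∈ cjS x K
  · rw [coeff_avgElt_pos hg, coeff_avgElt_pos (mem_cjS.1 hg), card_cjS]
  · rw [coeff_avgElt_neg hg, coeff_avgElt_neg fun h => hg (mem_cjS.2 h)]

variable {p : ℕ} [Fact p.Prime] [CharP k p]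

/-- Truncation of the average over a normalised subgroup. -/
theorem brTrunc_avgElt {P K : Subgroup G} (hP : IsPGroup p P)
    (hN : P ≤ Subgroup.normalizer (K : Set G)) :
    brTrunc P (avgElt k K) = avgElt k (K ⊓ Subgroup.centralizer (P : Set G)) := by
  classical
  have hcard : (Nat.card K : k) = (Nat.card (K ⊓ Subgroup.centralizer (P : Set G) : Subgroup G) : k)
      := by
    let y : MonoidAlgebra k G := gaOfFun fun g => if g ∈ K then 1 else 0
    have hy : IsInvElt P y := fun u hu g => by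
      simp only [y, coeff_gaOfFun]
      exact if_congr (Subgroup.mem_normalizer_iff.1 (hN hu) g).symm rfl rfl
    have h := aug_brTrunc hP hy
    have hz : brTrunc P y =
        gaOfFun fun g => if g ∈ K ⊓ Subgroup.centralizer (P : Set G) then 1 else 0 := by
      refine gaExt fun g => ?_
      rw [coeff_brTrunc]
      simp only [y, coeff_gaOfFun, Subgroup.mem_inf]
      by_cases h1 : g ∈ Subgroup.centralizer (P : Set G) <;> by_cases h2 : g ∈ K <;> simp [h1, h2]
    have key : ∀ L : Subgroup G,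
        aug (gaOfFun (fun g => if g ∈ L then (1 : k) else 0)) = (Nat.card L : k) := by
      intro L
      rw [aug_eq_sum]
      simp only [coeff_gaOfFun]
      rw [Finset.sum_boole, Nat.card_eq_fintype_card, Fintype.card_subtype]
    rw [hz, key, key] at h
    exact h.symm
  refine gaExt fun g => ?_
  by_cases hgC : g ∈ Subgroup.centralizer (P : Set G)
  · rw [coeff_brTrunc_pos hgC]
    by_cases hg : g ∈ K
    · rw [coeff_avgElt_pos hg, coeff_avgElt_pos (Subgroup.mem_inf.2 ⟨hg, hgC⟩), hcard]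
    · rw [coeff_avgElt_neg hg, coeff_avgElt_neg fun h => hg (Subgroup.mem_inf.1 h).1]
  · rw [coeff_brTrunc_neg hgC, coeff_avgElt_neg fun h => hgC (Subgroup.mem_inf.1 h).2]

end Avg

/-! ## The local condition on pairs -/

/-- The largest normal subgroup of `X` of order prime to `π`. -/
abbrev coreC (π : Set ℕ) (X : Subgroup G) : Subgroup G := Cfsg.piCoreOf {q | q ∉ π} X

/-- The elements of `X` of order prime to `π` form a subgroup. -/
def HallCore (π : Set ℕ) (X : Subgroup G) : Prop :=
  ∀ g ∈ X, (∀ q : ℕ, q.Prime → q ∣ orderOf g → q ∉ π) → g ∈ coreC π X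

open OddOrder.MinSimple in
theorem coreC_normalized {π : Set ℕ} {X T : Subgroup G}
    (hT : T ≤ Subgroup.normalizer (X : Set G)) :
    T ≤ Subgroup.normalizer (coreC π X : Set G) := hT.trans normalizer_le

theorem le_coreC {π : Set ℕ} {X K : Subgroup G} (hK : K ≤ X)
    (hn : X ≤ Subgroup.normalizer (K : Set G))
    (hπ : ∀ q : ℕ, q.Prime → q ∣ Nat.card K → q ∉ π) : K ≤ coreC π X :=
  OddOrder.MinSimple.le_piCoreOf hK hn hπ

theorem coreC_prime {π : Set ℕ} (X : Subgroup G) :
    ∀ q : ℕ, q.Prime → q ∣ Nat.card (coreC π X) → q ∉ π :=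
  fun q hq h => OddOrder.MinSimple.isPi_piCoreOf q hq h

theorem inf_normalized {H K : Subgroup G} (hN : H ≤ Subgroup.normalizer (K : Set G)) :
    H ≤ Subgroup.normalizer ((K ⊓ H : Subgroup G) : Set G) := by
  intro u hu
  refine Subgroup.mem_normalizer_iff.2 fun g => ?_
  have h := Subgroup.mem_normalizer_iff.1 (hN hu) g
  have h' := Subgroup.mem_normalizer_iff.1 (Subgroup.le_normalizer hu) g
  simp only [Subgroup.mem_inf]
  exact and_congr h h'

/-- The trace of a core in a smaller centraliser lies in the core there. -/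
theorem inf_le_coreC {π : Set ℕ} {X H : Subgroup G}
    (hH : H ≤ Subgroup.normalizer (X : Set G)) :
    coreC π X ⊓ H ≤ coreC π H :=
  le_coreC inf_le_right (inf_normalized (coreC_normalized hH))
    (fun q hq h => coreC_prime X q hq (h.trans (Subgroup.card_dvd_of_le inf_le_left)))

theorem coreC_cjS_le (π : Set ℕ) (X : Subgroup G) (x : G) :
    cjS x (coreC π X) ≤ coreC π (cjS x X) := by
  refine le_coreC (cjS_mono x OddOrder.MinSimple.piCoreOf_le) ?_
    (fun q hq h => coreC_prime X q hq (card_cjS x _ ▸ h))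
  exact (cjS_mono x (coreC_normalized Subgroup.le_normalizer)).trans
    (Subgroup.le_normalizer_map _)

theorem coreC_cjS (π : Set ℕ) (X : Subgroup G) (x : G) :
    coreC π (cjS x X) = cjS x (coreC π X) := by
  refine le_antisymm ?_ (coreC_cjS_le π X x)
  have h := cjS_mono x (coreC_cjS_le π (cjS x X) x⁻¹)
  rwa [cjS_cjS, mul_inv_cancel, cjS_one, cjS_inv_cjS] at h

/-- The core of the centraliser acts trivially on the idempotent of the pair. -/
def Fix {k : Type*} [Field k] (π : Set ℕ) (a : Pr k G) : Prop :=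
  avgElt k (coreC π (Subgroup.centralizer (a.1 : Set G))) * a.2 = a.2

section Pairs

variable {k : Type*} [Field k] [SplitCenter k G] {p : ℕ} [Fact p.Prime] [CharP k p] {π : Set ℕ}

theorem cast_card_coreC (hpπ : p ∈ π) (X : Subgroup G) : (Nat.card (coreC π X) : k) ≠ 0 := by
  rw [Ne, CharP.cast_eq_zero_iff k p]
  exact fun h => coreC_prime X p Fact.out h hpπ

theorem cast_card_le_coreC (hpπ : p ∈ π) {X K : Subgroup G} (hK : K ≤ coreC π X) :
    (Nat.card K : k) ≠ 0 := by
  rw [Ne, CharP.cast_eq_zero_iff k p]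
  exact fun h => coreC_prime X p Fact.out (h.trans (Subgroup.card_dvd_of_le hK)) hpπ

omit [Fact p.Prime] in
theorem isBlk_pair {a : Pr k G} (ha : IsPair p ⊤ a) :
    IsBlk (Subgroup.centralizer (a.1 : Set G)) a.2 := by
  simpa using ha.blk

theorem avg_mul_eq_or (hpπ : p ∈ π) {H K : Subgroup G} (hKH : K ≤ H)
    (hN : H ≤ Subgroup.normalizer (K : Set G))
    (hK : ∀ q : ℕ, q.Prime → q ∣ Nat.card K → q ∉ π) {z : MonoidAlgebra k G} (hz : IsBlk H z) :
    avgElt k K * z = 0 ∨ avgElt k K * z = z :=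
  hz.prim _ (inZ_avgElt hKH hN) (avgElt_mul le_rfl (by
    rw [Ne, CharP.cast_eq_zero_iff k p]
    exact fun h => hK p Fact.out h hpπ))

/-- If the core fixes the pair, so does each of its subgroups. -/
theorem Fix.avg_mul (hpπ : p ∈ π) {a : Pr k G} (h : Fix π a) {K : Subgroup G}
    (hK : K ≤ coreC π (Subgroup.centralizer (a.1 : Set G))) : avgElt k K * a.2 = a.2 := by
  conv_lhs => rw [← h, ← mul_assoc, avgElt_mul hK (cast_card_le_coreC hpπ hK)]
  exact h

theorem Fix.down_step (hpπ : p ∈ π) {a b : Pr k G} (h : NSub p ⊤ a b) (hb : Fix π b) :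
    Fix π a := by
  set Ca := Subgroup.centralizer (a.1 : Set G)
  set Cb := Subgroup.centralizer (b.1 : Set G)
  have hN : b.1 ≤ Subgroup.normalizer (coreC π Ca : Set G) :=
    coreC_normalized (h.normal.trans (normalizer_le_normalizer_centralizer a.1))
  refine (avg_mul_eq_or hpπ OddOrder.MinSimple.piCoreOf_le
    (coreC_normalized Subgroup.le_normalizer) (coreC_prime Ca) (isBlk_pair h.left)).resolve_left
    fun h0 => h.right.blk.ne_zero ?_
  have hle : coreC π Ca ⊓ Cb ≤ coreC π Cb :=
    inf_le_coreC ((Subgroup.centralizer_le h.le).trans Subgroup.le_normalizer)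
  have h1 := congrArg (brTrunc b.1) h0
  rw [brTrunc_mul h.right.pgroup (isInvElt_avgElt hN) h.inv, brTrunc_zero,
    brTrunc_avgElt h.right.pgroup hN] at h1
  rw [← hb.avg_mul hpπ hle, ← h.occ, ← mul_assoc, h1, zero_mul]

theorem Fix.down (hpπ : p ∈ π) {a b : Pr k G} (h : SubLE p ⊤ a b) (hb : Fix π b) : Fix π a := by
  induction h using Relation.ReflTransGen.head_induction_on with
  | refl => exact hb
  | head h1 _ ih => exact ih.down_step hpπ h1

theorem Fix.up_step (hpπ : p ∈ π) {a b : Pr k G} (h : NSub p ⊤ a b) (ha : Fix π a)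
    (hH : HallCore π (Subgroup.centralizer (a.1 : Set G))) :
    Fix π b ∧ HallCore π (Subgroup.centralizer (b.1 : Set G)) := by
  set Ca := Subgroup.centralizer (a.1 : Set G)
  set Cb := Subgroup.centralizer (b.1 : Set G)
  have hba : Cb ≤ Ca := Subgroup.centralizer_le h.le
  have hN : b.1 ≤ Subgroup.normalizer (coreC π Ca : Set G) :=
    coreC_normalized (h.normal.trans (normalizer_le_normalizer_centralizer a.1))
  have hle : coreC π Ca ⊓ Cb ≤ coreC π Cb := inf_le_coreC (hba.trans Subgroup.le_normalizer)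
  have hHb : HallCore π Cb := fun g hg hπ' => hle (Subgroup.mem_inf.2 ⟨hH g (hba hg) hπ', hg⟩)
  have heq : coreC π Cb = coreC π Ca ⊓ Cb := by
    refine le_antisymm (fun g hg => Subgroup.mem_inf.2 ?_) hle
    have hgC : g ∈ Cb := OddOrder.MinSimple.piCoreOf_le hg
    exact ⟨hH g (hba hgC) fun q hq hd =>
      coreC_prime Cb q hq (hd.trans (Subgroup.orderOf_dvd_natCard _ hg)), hgC⟩
  refine ⟨?_, hHb⟩
  have h1 := congrArg (brTrunc b.1) ha
  rw [brTrunc_mul h.right.pgroup (isInvElt_avgElt hN) h.inv,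
    brTrunc_avgElt h.right.pgroup hN, ← heq] at h1
  show avgElt k (coreC π Cb) * b.2 = b.2
  rw [← h.occ, ← mul_assoc, h1]

theorem Fix.up (hpπ : p ∈ π) {a b : Pr k G} (h : SubLE p ⊤ a b) (ha : Fix π a)
    (hH : HallCore π (Subgroup.centralizer (a.1 : Set G))) :
    Fix π b ∧ HallCore π (Subgroup.centralizer (b.1 : Set G)) := by
  induction h with
  | refl => exact ⟨ha, hH⟩
  | tail _ h2 ih => exact Fix.up_step hpπ h2 ih.1 ih.2

theorem Fix.cj' {a : Pr k G} (h : Fix π a) (x : G) : Fix π (cjP x a) := by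
  show avgElt k (coreC π (Subgroup.centralizer (cjS x a.1 : Set G))) * cj x a.2 = cj x a.2
  rw [← cjS_centralizer, coreC_cjS, ← cj_avgElt, ← map_mul, h]

theorem HallCore.cj' {X : Subgroup G} (h : HallCore π X) (x : G) : HallCore π (cjS x X) := by
  intro g hg hπ'
  rw [coreC_cjS, mem_cjS]
  refine h _ (mem_cjS.1 hg) fun q hq hd => hπ' q hq ?_
  rwa [show x⁻¹ * g * x = MulAut.conj x⁻¹ g by simp, MulEquiv.orderOf_eq] at hd

/-- From a pair over a defect group to all pairs of the block. -/
theorem Fix.of_max (hpπ : p ∈ π) {B : MonoidAlgebra k G} {a : Pr k G} (ha : IsPairOf p ⊤ B a)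
    (hD : IsDefGrp p ⊤ B a.1) (hFix : Fix π a) {b : Pr k G} (hb : IsPairOf p ⊤ B b) :
    Fix π b := by
  obtain ⟨x, -, hx⟩ := exists_conj_subLE ha hb hD
  have := (hFix.down hpπ hx).cj' x⁻¹
  rwa [cjP_cjP, inv_mul_cancel, cjP_one] at this

/-- From a pair with Hall core to all pairs of the block. -/
theorem Fix.of_hall (hpπ : p ∈ π) {B : MonoidAlgebra k G} {a : Pr k G} (ha : IsPairOf p ⊤ B a)
    (hFix : Fix π a) (hH : HallCore π (Subgroup.centralizer (a.1 : Set G))) {b : Pr k G}
    (hb : IsPairOf p ⊤ B b) : Fix π b := by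
  obtain ⟨c, hac, hno, -⟩ := exists_noExt_above ha.pair
  exact Fix.of_max hpπ (hac.pairOf_iff.1 ha) (hno.isDefGrp (hac.pairOf_iff.1 ha))
    (hFix.up hpπ hac hH).1 hb

end Pairs

/-! ## Kernels of blocks -/

section Kernel

variable {p : ℕ} [Fact p.Prime] {M : Ideal AlgInt} [M.IsPrime]

theorem omegaK_avgElt (hM : IsPModular p M) (N : Subgroup G) [N.Normal]
    (hN : ¬ p ∣ Nat.card N) (χ : IrrCharacter G) :
    ((∀ n ∈ N, (χ : G → ℂ) n = (χ : G → ℂ) 1) →
        omegaK χ (avgElt (resField M) N) = 1) ∧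
      ((∃ n ∈ N, (χ : G → ℂ) n ≠ (χ : G → ℂ) 1) →
        omegaK χ (avgElt (resField M) N) = 0) := by
  classical
  let c : locRing M := ⟨(Nat.card N : ℂ)⁻¹, inv_natCast_memLocalRing hM hN⟩
  let e : MonoidAlgebra (locRing M) G := gaOfFun fun x => if x ∈ N then c else 0
  have he : IsClassElt e := isClassElt_gaOfFun fun g k => by
    refine if_congr ⟨fun hg => ?_, fun hg => Subgroup.Normal.conj_mem inferInstance g hg k⟩ rfl rfl
    simpa [mul_assoc] using Subgroup.Normal.conj_mem inferInstance _ hg k⁻¹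
  have hc : res M c = (Nat.card N : resField M)⁻¹ := by
    refine eq_inv_of_mul_eq_one_left ?_
    have h1 : c * (Nat.card N : locRing M) = 1 := by
      refine Subtype.ext ?_
      push_cast
      exact inv_mul_cancel₀ (Nat.cast_ne_zero.2 Nat.card_pos.ne')
    rw [← map_natCast (res M), ← map_mul, h1, map_one]
  have hav : avgElt (resField M) N = resG e := by
    refine gaExt fun g => ?_
    rw [coeff_resG]
    simp only [e, coeff_gaOfFun]
    by_cases hg : g ∈ N
    · rw [coeff_avgElt_pos hg, if_pos hg, hc]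
    · rw [coeff_avgElt_neg hg, if_neg hg, map_zero]
  have hval : omegaR χ e =
      (Nat.card N : ℂ)⁻¹ * (∑ n : N, (χ : G → ℂ) n) / (χ : G → ℂ) 1 := by
    rw [omega_eq_sum_div, Finset.mul_sum,
      ← Finset.sum_subtype (Finset.univ.filter (· ∈ N)) (by simp)
        (fun x => (Nat.card N : ℂ)⁻¹ * (χ : G → ℂ) x), Finset.sum_filter]
    congr 1
    refine Finset.sum_congr rfl fun x _ => ?_
    simp only [e, coeff_gaOfFun]
    by_cases hx : x ∈ N <;> simp [hx, c]
  rw [hav, omegaK_resG χ he]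
  constructor
  · intro h
    rw [← map_one (res M)]
    refine congrArg _ (Subtype.ext ?_)
    show omegaR χ e = 1
    rw [hval, Finset.sum_congr rfl fun (n : N) _ => h n n.2, Finset.sum_const, Finset.card_univ,
      ← Nat.card_eq_fintype_card, nsmul_eq_mul, ← mul_assoc,
      inv_mul_cancel₀ (Nat.cast_ne_zero.2 Nat.card_pos.ne'), one_mul,
      div_self (irr_one_ne_zero χ)]
  · intro h
    rw [← map_zero (res M)]
    refine congrArg _ (Subtype.ext ?_)
    show omegaR χ e = 0
    have := Cfsg.Agent.CharX.sum_coset_eq_zero χ.2 N h 1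
    simp only [one_mul] at this
    rw [hval, this, mul_zero, zero_div]

theorem avg_mul_Ek_iff (hM : IsPModular p M) (N : Subgroup G) [N.Normal]
    (hN : ¬ p ∣ Nat.card N) {B : Set (IrrCharacter G)} (hB : IsPBlock M B) :
    avgElt (resField M) N * Ek M B = Ek M B ↔
      ∀ χ ∈ B, ∀ n ∈ N, (χ : G → ℂ) n = (χ : G → ℂ) 1 := by
  haveI : CharP (resField M) p := resField_charP hM
  rw [mul_Ek_eq_iff hB (isClassElt_iff_inZ_top.1 (inZ_avgElt le_top
      (by rw [Subgroup.normalizer_eq_top_iff.2 ‹N.Normal›])))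
    (avgElt_mul le_rfl (by rwa [Ne, CharP.cast_eq_zero_iff (resField M) p]))]
  refine forall₂_congr fun χ _ => ⟨fun h => ?_, (omegaK_avgElt hM N hN χ).1⟩
  by_contra hne
  push Not at hne
  rw [(omegaK_avgElt hM N hN χ).2 hne] at h
  exact zero_ne_one h

theorem avg_mul_zB_iff (hM : IsPModular p M) {H : Subgroup G} {K : Subgroup G} (hKH : K ≤ H)
    (hn : H ≤ Subgroup.normalizer (K : Set G)) (hK : ¬ p ∣ Nat.card K)
    {b : Set (IrrCharacter H)} (hb : IsPBlock M b) :
    avgElt (resField M) K * zB M H b = zB M H b ↔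
      ∀ θ ∈ b, ∀ h : H, (h : G) ∈ K → (θ : H → ℂ) h = (θ : H → ℂ) 1 := by
  haveI : (K.subgroupOf H).Normal := Subgroup.normal_subgroupOf_of_le_normalizer hn
  have hcard : Nat.card (K.subgroupOf H) = Nat.card K :=
    Nat.card_congr (Subgroup.subgroupOfEquivOfLe hKH).toEquiv
  have he : avgElt (resField M) K = emb H (avgElt (resField M) (K.subgroupOf H)) := by
    refine gaExt fun g => ?_
    by_cases hg : g ∈ H
    · rw [coeff_emb_mem H _ hg]
      by_cases hgK : g ∈ K
      · rw [coeff_avgElt_pos hgK,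
          coeff_avgElt_pos (Subgroup.mem_subgroupOf.2 hgK : (⟨g, hg⟩ : H) ∈ _), hcard]
      · rw [coeff_avgElt_neg hgK, coeff_avgElt_neg]
        exact fun h => hgK (Subgroup.mem_subgroupOf.1 h)
    · rw [coeff_emb_notMem H _ hg, coeff_avgElt_neg fun h => hg (hKH h)]
  rw [he, zB, ← map_mul, (emb_injective H).eq_iff,
    avg_mul_Ek_iff hM (K.subgroupOf H) (hcard ▸ hK) hb]
  exact forall₂_congr fun θ _ => ⟨fun h x hx => h x (Subgroup.mem_subgroupOf.2 hx),
    fun h x hx => h x (Subgroup.mem_subgroupOf.1 hx)⟩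

/-! ## Pairs of blocks of subgroups containing a centraliser -/

theorem pairOf_of_induced (hM : IsPModular p M) {H : Subgroup G} {b : Set (IrrCharacter H)}
    {B : Set (IrrCharacter G)} (hind : IsInducedBlock M H b B)
    {a : Pr (resField M) G} (ha : IsPairOf p H (zB M H b) a)
    (hC : Subgroup.centralizer (a.1 : Set G) ≤ H) : IsPairOf p ⊤ (Ek M B) a := by
  haveI : CharP (resField M) p := resField_charP hM
  obtain ⟨ξ, hξ⟩ := isPBlock_nonempty hind.1
  obtain ⟨χ, hχ⟩ := isPBlock_nonempty hind.2.1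
  set w := emb H (restr H (Ek M B)) with hw
  have hcl : IsClassElt (restr H (Ek M B)) :=
    isClassElt_restr (IsClassElt.isInvElt (isClassElt_Ek B) H)
  have hwH : InZ H w := inZ_emb hcl
  have htr : brTrunc a.1 w = brTrunc a.1 (Ek M B) := by
    refine gaExt fun g => ?_
    by_cases hg : g ∈ Subgroup.centralizer (a.1 : Set G)
    · rw [coeff_brTrunc_pos hg, coeff_brTrunc_pos hg, hw, coeff_emb_mem H _ (hC hg)]
      rfl
    · rw [coeff_brTrunc_neg hg, coeff_brTrunc_neg hg]
  have he : IsBlk (Subgroup.centralizer (a.1 : Set G)) a.2 := by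
    simpa [inf_eq_right.2 hC] using ha.pair.blk
  have hpair : IsPair p ⊤ a := ⟨ha.pair.pgroup, le_top, by rwa [top_inf_eq]⟩
  have hlam : lam (zB M H b) w = 1 := by
    rw [lam_zB H hind.1 hξ hwH, hw, restr_emb, Ek, restr_resG,
      omegaK_resG _ (isClassElt_restr (IsClassElt.isInvElt (isClassElt_blockEltR B) H)),
      ← map_one (res M), res_eq_res_iff]
    have h1 := isInducedBlock_omegaR hind hξ hχ (isClassElt_blockEltR (M := M) B)
    haveI : DecidablePred fun χ => χ ∈ B := Classical.decPred _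
    rw [omegaR_blockEltR hind.2.1, if_pos hχ] at h1
    exact h1
  have h2 := lam_brTrunc ha.pair.pgroup ha.pair.le ha.blk ha.pair.blk ha.occ hwH
  rw [hlam, htr] at h2
  have hinv : IsInvElt a.1 (Ek M B) := IsClassElt.isInvElt (isClassElt_Ek B) a.1
  have hz : InZ (Subgroup.centralizer (a.1 : Set G)) (brTrunc a.1 (Ek M B)) := by
    have := (isBlk_Ek hind.2.1).inZ.brTrunc a.1
    rwa [top_inf_eq] at this
  refine ⟨hpair, isBlk_Ek hind.2.1, (he.prim _ hz ?_).resolve_left fun h0 => ?_⟩
  · rw [← brTrunc_mul ha.pair.pgroup hinv hinv, Ek_idem hind.2.1]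
  · rw [lam_eq_zero he hz h0] at h2
    exact zero_ne_one h2

/-- If the local condition holds for all pairs, cores of inducing blocks act trivially. -/
theorem kernel_of_fix (hM : IsPModular p M) {π : Set ℕ} (hpπ : p ∈ π)
    {B : Set (IrrCharacter G)}
    (hall : ∀ a : Pr (resField M) G, IsPairOf p ⊤ (Ek M B) a → Fix π a)
    {G₀ : Subgroup G} {B₀ : Set (IrrCharacter G₀)} (hind : IsInducedBlock M G₀ B₀ B)
    {D₀ : Subgroup G₀} (hD₀ : IsDefectGroup p M B₀ D₀)
    (hC : Subgroup.centralizer (D₀.map G₀.subtype : Set G) ≤ G₀) :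
    ∀ x : G₀, x ∈ piCore {q | q ∉ π} G₀ → x ∈ blockKer B₀ := by
  haveI : CharP (resField M) p := resField_charP hM
  set Q := D₀.map G₀.subtype
  have hDg := (isDefectGroup_sub_iff hind.1 D₀).1 hD₀
  obtain ⟨e, he⟩ := exists_pairOf_defGrp (isBlk_zB G₀ hind.1) hDg
  have hB := pairOf_of_induced hM hind he hC
  have hFix := hall _ hB
  set K := coreC π G₀
  have hKn : G₀ ≤ Subgroup.normalizer (K : Set G) := coreC_normalized Subgroup.le_normalizer
  have hle : K ⊓ Subgroup.centralizer (Q : Set G) ≤ coreC π (Subgroup.centralizer (Q : Set G)) :=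
    inf_le_coreC (hC.trans Subgroup.le_normalizer)
  have hQN : Q ≤ Subgroup.normalizer (K : Set G) := he.pair.le.trans hKn
  have hzK : avgElt (resField M) K * zB M G₀ B₀ = zB M G₀ B₀ := by
    refine (avg_mul_eq_or hpπ OddOrder.MinSimple.piCoreOf_le hKn (coreC_prime G₀)
      (isBlk_zB G₀ hind.1)).resolve_left fun h0 => he.pair.blk.ne_zero ?_
    have h1 := congrArg (brTrunc Q) h0
    rw [brTrunc_mul he.pair.pgroup (isInvElt_avgElt hQN)
      ((isBlk_zB G₀ hind.1).inZ.isInvElt he.pair.le), brTrunc_zero,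
      brTrunc_avgElt he.pair.pgroup hQN] at h1
    rw [← hFix.avg_mul hpπ hle, ← he.occ, ← mul_assoc, h1, zero_mul]
  intro x hx χ hχ
  exact (avg_mul_zB_iff hM OddOrder.MinSimple.piCoreOf_le hKn
    (fun h => coreC_prime G₀ p Fact.out h hpπ) hind.1).1 hzK χ hχ x ⟨x, hx, rfl⟩

/-- The hypothesis on the Brauer correspondent spreads to all pairs. -/
theorem fix_of_correspondent (hM : IsPModular p M) {π : Set ℕ} (hpπ : p ∈ π)
    {B : Set (IrrCharacter G)} {D : Subgroup G} (hBD : IsDefectGroup p M B D)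
    {B₁ : Set (IrrCharacter (Subgroup.normalizer (D : Set G)))}
    (hB₁ : IsInducedBlock M (Subgroup.normalizer (D : Set G)) B₁ B)
    (hB₁D : IsDefectGroup p M B₁ (D.subgroupOf (Subgroup.normalizer (D : Set G))))
    (hker : ∀ n : Subgroup.normalizer (D : Set G),
      n ∈ piCore {q | q ∉ π} (Subgroup.normalizer (D : Set G)) → n ∈ blockKer B₁)
    {a : Pr (resField M) G} (ha : IsPairOf p ⊤ (Ek M B) a) : Fix π a := by
  haveI : CharP (resField M) p := resField_charP hM
  let N := Subgroup.normalizer (D : Set G)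
  let C := Subgroup.centralizer (D : Set G)
  obtain ⟨e, he⟩ := exists_pairOf_defGrp (isBlk_zB N hB₁.1)
    ((isDefectGroup_subgroupOf_iff hB₁.1 Subgroup.le_normalizer).1 hB₁D)
  have hCN : C ≤ N := Subgroup.centralizer_le_normalizer _
  have hB := pairOf_of_induced hM hB₁ he hCN
  refine Fix.of_max hpπ hB ((isDefectGroup_iff hB₁.2.1 D).1 hBD) ?_ ha
  set K := coreC π N
  have hKn : N ≤ Subgroup.normalizer (K : Set G) := coreC_normalized Subgroup.le_normalizer
  have hzK : avgElt (resField M) K * zB M N B₁ = zB M N B₁ :=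
    (avg_mul_zB_iff hM OddOrder.MinSimple.piCoreOf_le hKn
      (fun h => coreC_prime N p Fact.out h hpπ) hB₁.1).2 fun θ hθ h hh => by
        obtain ⟨h', hh', e'⟩ := hh
        exact hker h (Subtype.ext e' ▸ hh') θ hθ
  have h1 := congrArg (brTrunc D) hzK
  have hP : IsPGroup p D := he.pair.pgroup
  have hDN : D ≤ Subgroup.normalizer (K : Set G) := Subgroup.le_normalizer.trans hKn
  rw [brTrunc_mul hP (isInvElt_avgElt hDN)
    ((isBlk_zB N hB₁.1).inZ.isInvElt Subgroup.le_normalizer),
    brTrunc_avgElt hP hDN] at h1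
  have h2 : avgElt (resField M) (K ⊓ C) * e = e := by
    have ho : brTrunc D (zB M N B₁) * e = e := he.occ
    conv_lhs => rw [← ho]
    rw [← mul_assoc, h1, ho]
  have hKD : coreC π C ≤ K ⊓ C :=
    le_inf (le_coreC (OddOrder.MinSimple.piCoreOf_le.trans hCN)
      (coreC_normalized (normalizer_le_normalizer_centralizer D)) (coreC_prime C))
      OddOrder.MinSimple.piCoreOf_le
  show avgElt (resField M) (coreC π C) * e = e
  conv_lhs => rw [← h2, ← mul_assoc, avgElt_mul hKD (cast_card_coreC hpπ C)]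
  exact h2

/-- A local block with trivially acting Hall core spreads to all pairs. -/
theorem fix_of_local (hM : IsPModular p M) {π : Set ℕ} (hpπ : p ∈ π)
    {B : Set (IrrCharacter G)} {P : Subgroup G} (hP : IsPGroup p P) {H : Subgroup G}
    (hH : H = P ⊔ Subgroup.centralizer (P : Set G)) {b : Set (IrrCharacter H)}
    (hb : IsInducedBlock M H b B)
    (hcompl : ∀ x : Subgroup.centralizer (P : Set G),
      (∀ q : ℕ, q.Prime → q ∣ orderOf x → q ∉ π) →
        x ∈ piCore {q | q ∉ π} (Subgroup.centralizer (P : Set G)))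
    (hker : ∀ x : Subgroup.centralizer (P : Set G),
      x ∈ piCore {q | q ∉ π} (Subgroup.centralizer (P : Set G)) →
        ∀ θ ∈ b, ∀ h : H, (h : G) = (x : G) → (θ : H → ℂ) h = (θ : H → ℂ) 1)
    {a : Pr (resField M) G} (ha : IsPairOf p ⊤ (Ek M B) a) : Fix π a := by
  haveI : CharP (resField M) p := resField_charP hM
  subst hH
  set C := Subgroup.centralizer (P : Set G)
  have hB := isPairOf_of_induced hM hP hb
  refine Fix.of_hall hpπ hB ?_ ?_ ha
  · refine (avg_mul_zB_iff hM (OddOrder.MinSimple.piCoreOf_le.trans le_sup_right)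
      (coreC_normalized ((sup_centralizer_le_normalizer P).trans
        (normalizer_le_normalizer_centralizer P)))
      (fun h => coreC_prime C p Fact.out h hpπ) hb.1).2 fun θ hθ h hh => ?_
    obtain ⟨x, hx, e⟩ := hh
    exact hker x hx θ hθ h e.symm
  · intro g hg hπ'
    exact ⟨⟨g, hg⟩, hcompl ⟨g, hg⟩ fun q hq hd => hπ' q hq
      (by rwa [Subgroup.orderOf_mk] at hd), rfl⟩

/-- Values on a section whose centraliser has a Hall core. -/
theorem irr_section_eq (hM : IsPModular p M) {π : Set ℕ} (hpπ : p ∈ π)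
    {B : Set (IrrCharacter G)} (hB : IsPBlock M B)
    (hall : ∀ a : Pr (resField M) G, IsPairOf p ⊤ (Ek M B) a → Fix π a)
    {y : G} (hy : ∃ j, orderOf y = p ^ j) {C : Subgroup G}
    (hC : C = Subgroup.centralizer ({y} : Set G)) {χ : IrrCharacter G} (hχ : χ ∈ B)
    {v : C} (hv : (v : G) ∈ coreC π C) : (χ : G → ℂ) (y * (v : G)) = (χ : G → ℂ) y := by
  classical
  haveI : CharP (resField M) p := resField_charP hM
  have hQC : Subgroup.centralizer (Subgroup.zpowers y : Set G) = C := by
    rw [centralizer_zpowers_eq, hC]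
  obtain ⟨j, hj⟩ := hy
  have hQ : IsPGroup p (Subgroup.zpowers y) := IsPGroup.of_card (n := j) (by rw [Nat.card_zpowers, hj])
  have hQle : Subgroup.zpowers y ≤ C := hC ▸ zpowers_le_centralizer_self y
  have hfix : ∀ b : Set (IrrCharacter C), IsInducedBlock M C b B →
      ∀ φ ∈ b, (φ : C → ℂ) v = (φ : C → ℂ) 1 := by
    intro b hind
    have hz := isBlk_zB C hind.1
    have hpair : IsPairOf p C (zB M C b) (Subgroup.zpowers y, zB M C b) :=
      ⟨⟨hQ, hQle, by rw [hQC, inf_idem]; exact hz⟩, hz, by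
        show brTrunc (Subgroup.zpowers y) (zB M C b) * zB M C b = zB M C b
        rw [brTrunc_eq_self fun g hg => hz.inZ.supp g (hQC ▸ hg), hz.idem]⟩
    have hF := hall _ (pairOf_of_induced hM hind hpair hQC.le)
    unfold Fix at hF
    rw [hQC] at hF
    exact fun φ hφ => (avg_mul_zB_iff hM OddOrder.MinSimple.piCoreOf_le
      (coreC_normalized Subgroup.le_normalizer) (fun h => coreC_prime C p Fact.out h hpπ)
      hind.1).1 hF φ hφ v hv
  have hreg : ∀ w : C, (w : G) ∈ coreC π C → ¬ p ∣ orderOf w := by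
    intro w hw h
    rw [← Subgroup.orderOf_coe] at h
    exact coreC_prime C p Fact.out (h.trans (Subgroup.orderOf_dvd_natCard _ hw)) hpπ
  have key : ∀ w : C, (χ : G → ℂ) (y * (w : G)) =
      ∑ b ∈ blocks M C, blockPart b (secFun y C (χ : G → ℂ)) w := fun w =>
    (sum_blockPart (M := M)
      (isClassFunction_secFun hC (Char.IsCharacter.isClassFunction (irr_isCharacter χ))) w).symm
  have h1 := key 1
  rw [OneMemClass.coe_one, mul_one] at h1
  rw [key v, h1]
  refine Finset.sum_congr rfl fun b hb => ?_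
  by_cases hind : IsInducedBlock M C b B
  · rw [blockPart_eq_sum, blockPart_eq_sum]
    exact Finset.sum_congr rfl fun φ hφ => by rw [hfix b hind φ (Finset.mem_filter.1 hφ).2]
  · rw [blockPart_secFun_eq_zero hM ⟨j, hj⟩ hC hB hχ (mem_blocks.1 hb) hind (hreg v hv),
      blockPart_secFun_eq_zero hM ⟨j, hj⟩ hC hB hχ (mem_blocks.1 hb) hind
        (hreg 1 (by rw [OneMemClass.coe_one]; exact one_mem _))]

end Kernel

end Cfsg.Agent.BrauerPairs
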