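/-
Block induction from subgroups containing the centraliser of a defect group.
-/
import Cfsg.Agent.Lib.BrauerPairs.PiKernel

set_option linter.unusedSectionVars false
set_option linter.style.haveILetI false

namespace Cfsg.Agent.BrauerPairs

open Cfsg MonoidAlgebra Cfsg.Agent.Blocks

universe u

variable {G : Type u} [Group G] [Fintype G] {p : ℕ} [Fact p.Prime] {M : Ideal AlgInt} [M.IsPrime]

/-- A common pair exhibits block induction. -/
theorem induced_of_pairOf (hM : IsPModular p M) {H : Subgroup G} {b : Set (IrrCharacter H)}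
    (hb : IsPBlock M b) {B : Set (IrrCharacter G)} (hB : IsPBlock M B)
    {a : Pr (resField M) G} (ha : IsPairOf p H (zB M H b) a)
    (hC : Subgroup.centralizer (a.1 : Set G) ≤ H) (hBa : IsPairOf p ⊤ (Ek M B) a) :
    IsInducedBlock M H b B := by
  haveI : CharP (resField M) p := resField_charP hM
  refine ⟨hb, hB, fun ξ hξ χ hχ g => ?_⟩
  rw [inducedCentralChar_eq (M := M), ← omegaR_classSum (M := M) χ g]
  set y := classSum (locRing M) g
  have hy : IsClassElt y := isClassElt_classSum g
  have hyR : IsClassElt (restr H y) := isClassElt_restr (IsClassElt.isInvElt hy H)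
  have hyk : IsClassElt (resG y) := IsClassElt.map hy _
  have hwH : InZ H (emb H (restr H (resG y))) :=
    inZ_emb (isClassElt_restr (IsClassElt.isInvElt hyk H))
  have h1 : lam (zB M H b) (emb H (restr H (resG y))) =
      res M ⟨omegaR ξ (restr H y), omegaR_memLocalRing ξ hyR⟩ := by
    rw [lam_zB H hb hξ hwH, restr_emb, restr_resG, omegaK_resG _ hyR]
  have h2 : lam (Ek M B) (resG y) = res M ⟨omegaR χ y, omegaR_memLocalRing χ hy⟩ := by
    rw [lam_Ek hB hχ hyk, omegaK_resG _ hy]
  have h3 : brTrunc a.1 (emb H (restr H (resG y))) = brTrunc a.1 (resG y) := by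
    refine gaExt fun x => ?_
    by_cases hx : x ∈ Subgroup.centralizer (a.1 : Set G)
    · rw [coeff_brTrunc_pos hx, coeff_brTrunc_pos hx, coeff_emb_mem H _ (hC hx)]
      rfl
    · rw [coeff_brTrunc_neg hx, coeff_brTrunc_neg hx]
  have h4 := lam_brTrunc ha.pair.pgroup ha.pair.le ha.blk ha.pair.blk ha.occ hwH
  have h5 := lam_brTrunc hBa.pair.pgroup hBa.pair.le hBa.blk hBa.pair.blk hBa.occ
    (isClassElt_iff_inZ_top.2 hyk)
  rw [h3] at h4
  rw [← h4, h5, h2] at h1
  exact res_eq_res_iff.1 h1.symm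

theorem isPair_top {H : Subgroup G} {a : Pr (resField M) G} (ha : IsPair p H a)
    (hC : Subgroup.centralizer (a.1 : Set G) ≤ H) : IsPair p ⊤ a :=
  ⟨ha.pgroup, le_top, by simpa [inf_eq_right.2 hC] using ha.blk⟩

/-- Induction is defined as soon as the centraliser of a pair lies in the subgroup. -/
theorem exists_induced_of_pair (hM : IsPModular p M) {H : Subgroup G}
    {b : Set (IrrCharacter H)} (hb : IsPBlock M b)
    {a : Pr (resField M) G} (ha : IsPairOf p H (zB M H b) a)
    (hC : Subgroup.centralizer (a.1 : Set G) ≤ H) :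
    ∃ B, IsInducedBlock M H b B ∧ IsPairOf p ⊤ (Ek M B) a := by
  haveI : CharP (resField M) p := resField_charP hM
  obtain ⟨z, hz, -⟩ := existsUnique_pairOf (isPair_top ha.pair hC)
  obtain ⟨B, hB, rfl⟩ := exists_eq_Ek hz.blk
  exact ⟨B, induced_of_pairOf hM hb hB ha hC hz, hz⟩

/-- The centre of a defect group of the induced block above `D₀` lies in `D₀`. -/
theorem exists_defect_above (hM : IsPModular p M) {H : Subgroup G} {b : Set (IrrCharacter H)}
    {B : Set (IrrCharacter G)} (hind : IsInducedBlock M H b B) {Q : Subgroup G}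
    (hQ : IsDefGrp p H (zB M H b) Q) (hC : Subgroup.centralizer (Q : Set G) ≤ H) :
    ∃ D, IsDefGrp p ⊤ (Ek M B) D ∧ Q ≤ D ∧
      ∀ z ∈ D, z ∈ Subgroup.centralizer (D : Set G) → z ∈ Q := by
  haveI : CharP (resField M) p := resField_charP hM
  obtain ⟨e, he⟩ := exists_pairOf_defGrp (isBlk_zB H hind.1) hQ
  have hBe := pairOf_of_induced hM hind he hC
  obtain ⟨c, hc, hno, -⟩ := exists_noExt_above hBe.pair
  have hcB := hc.pairOf_iff.1 hBe
  refine ⟨c.1, hno.isDefGrp hcB, hc.le, fun z hzD hz => ?_⟩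
  set R := Q ⊔ Subgroup.zpowers z
  have hRD : R ≤ c.1 := sup_le hc.le (Subgroup.zpowers_le.2 hzD)
  have hzQ : ∀ u ∈ Q, u * z = z * u := fun u hu => Subgroup.mem_centralizer_iff.1 hz u (hc.le hu)
  have hzC : z ∈ Subgroup.centralizer (Q : Set G) := Subgroup.mem_centralizer_iff.2 hzQ
  obtain ⟨f, hf, -⟩ := existsUnique_below hcB.pair hRD
  have hfp := hf.left hcB.pair
  have hN : R ≤ Subgroup.normalizer (Q : Set G) :=
    sup_le Subgroup.le_normalizer (Subgroup.zpowers_le.2 (Subgroup.centralizer_le_normalizer _ hzC))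
  obtain ⟨f', hf', -⟩ := existsUnique_nsub hfp (le_sup_left : Q ≤ R) hN
  have hsub : SubLE p ⊤ (Q, f') c := (Relation.ReflTransGen.single hf').trans hf
  obtain rfl : f' = e := (existsUnique_below hcB.pair hc.le).unique hsub hc
  have hCR : Subgroup.centralizer (R : Set G) ≤ H :=
    (Subgroup.centralizer_le (le_sup_left : Q ≤ R)).trans hC
  have hRH : R ≤ H := sup_le he.pair.le (Subgroup.zpowers_le.2 (hC hzC))
  have hH : NSub p H (Q, f') (R, f) := ⟨he.pair,
    ⟨hfp.pgroup, hRH, by simpa [inf_eq_right.2 hCR] using hfp.blk⟩, le_sup_left, hN, hf'.inv,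
    hf'.occ⟩
  have hcard := (hH.pairOf_right he).card_le hQ
  have hQR : Q = R := Subgroup.eq_of_le_of_card_ge le_sup_left hcard
  rw [hQR]
  exact Subgroup.mem_sup_right (Subgroup.mem_zpowers z)

end Cfsg.Agent.BrauerPairs
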