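/-
The Harris-Knörr correspondence of blocks covering a block and its Brauer correspondent.
-/
import Cfsg.Agent.Lib.BrauerPairs.InducedPairs
import Cfsg.Agent.Lib.BrauerPairs.Correspondence
import Cfsg.Agent.Lib.Blocks.Knoerr
import Cfsg.Agent.Lib.Blocks.PrincipalType

set_option linter.unusedSectionVars false
set_option linter.style.haveILetI false

namespace Cfsg.Agent.BrauerPairs

open Cfsg MonoidAlgebra Cfsg.Agent.Blocks

universe u

section Abstract

variable {G : Type*} [Group G] [Fintype G] {k : Type*} [Field k] [SplitCenter k G]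
variable {p : ℕ} [Fact p.Prime] [CharP k p] {X W : Subgroup G}

theorem cj_blk_normal {g : G} (hg : g ∈ Subgroup.normalizer (W : Set G)) {w : MonoidAlgebra k G}
    (hw : IsBlk W w) : IsBlk W (cj g w) := by
  simpa [cjS_eq_of_mem_normalizer hg] using hw.cj g

/-- The blocks of a normal subgroup below one block are conjugate. -/
theorem covered_conj (hWX : W ≤ X) (hXN : X ≤ Subgroup.normalizer (W : Set G))
    {z w w' : MonoidAlgebra k G} (hz : IsBlk X z) (hw : IsBlk W w) (hw' : IsBlk W w')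
    (h : z * w ≠ 0) (h' : z * w' ≠ 0) : ∃ g ∈ X, cj g w = w' := by
  classical
  by_contra hc
  push Not at hc
  set s := (blks k W).filter fun v => ∃ g ∈ X, cj g w = v with hs
  set ζ := ∑ v ∈ s, v with hζ
  have hsb : ∀ v ∈ s, IsBlk W v := fun v hv => isBlk_of_mem (Finset.mem_filter.1 hv).1
  have hmem : ∀ x ∈ X, ∀ v ∈ s, cj x v ∈ s := by
    intro x hx v hv
    obtain ⟨g, hg, rfl⟩ := (Finset.mem_filter.1 hv).2
    exact Finset.mem_filter.2 ⟨mem_blks.2 (cj_blk_normal (hXN hx) (hsb _ hv)),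
      x * g, mul_mem hx hg, (cj_cj x g w).symm⟩
  have hζX : InZ X ζ := by
    refine ⟨fun g hg => ?_, isInvElt_iff_cj.2 fun x hx => ?_⟩
    · rw [hζ, MonoidAlgebra.coeff_sum, Finset.sum_apply']
      exact Finset.sum_eq_zero fun v hv => (hsb v hv).inZ.supp g fun h => hg (hWX h)
    · rw [hζ, map_sum]
      exact Finset.sum_nbij' (cj x) (cj x⁻¹) (fun v hv => hmem x hx v hv)
        (fun v hv => hmem x⁻¹ (inv_mem hx) v hv) (fun v _ => cj_inv_cj x v)
        (fun v _ => cj_cj_inv x v) (fun _ _ => rfl)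
  have hζin : ∀ v ∈ s, ζ * v = v := by
    intro v hv
    rw [hζ, Finset.sum_mul, Finset.sum_eq_single_of_mem v hv
      (fun v' hv' hne => (hsb v' hv').mul_eq_zero (hsb v hv) hne), (hsb v hv).idem]
  have hζζ : ζ * ζ = ζ := by
    conv_lhs => rw [hζ, ← hζ, hζ, Finset.mul_sum, ← hζ]
    exact Finset.sum_congr rfl hζin
  have hws : w ∈ s := Finset.mem_filter.2 ⟨mem_blks.2 hw, 1, one_mem X, cj_one w⟩
  have hζw' : ζ * w' = 0 := by
    rw [hζ, Finset.sum_mul]
    refine Finset.sum_eq_zero fun v hv => (hsb v hv).mul_eq_zero hw' fun e => ?_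
    obtain ⟨g, hg, hgv⟩ := (Finset.mem_filter.1 hv).2
    exact hc g hg (hgv.trans e)
  have hcomm : z * ζ = ζ * z := hz.inZ.comm hζX.supp
  rcases hz.prim ζ hζX hζζ with h0 | h0
  · refine h ?_
    rw [← hζin w hws, ← mul_assoc, hcomm, h0, zero_mul]
  · refine h' ?_
    rw [← h0, ← hcomm, mul_assoc, hζw', mul_zero]

/-- A pair inside a normal subgroup lies over one of the covered blocks. -/
theorem exists_covered (hWX : W ≤ X) {z : MonoidAlgebra k G} {a : Pr k G}
    (ha : IsPairOf p X z a) (haW : a.1 ≤ W) :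
    ∃ w', IsBlk W w' ∧ z * w' ≠ 0 ∧ brTrunc a.1 w' * a.2 ≠ 0 := by
  classical
  obtain ⟨w', hw', hne⟩ : ∃ w' ∈ blks k W, brTrunc a.1 w' * a.2 ≠ 0 := by
    by_contra hall
    push Not at hall
    refine ha.pair.blk.ne_zero ?_
    have h1 : brTrunc a.1 (∑ v ∈ blks k W, v) * a.2 = a.2 := by
      rw [sum_blks, brTrunc_one, one_mul]
    rw [brTrunc_sum, Finset.sum_mul, Finset.sum_eq_zero hall] at h1
    exact h1.symm
  have hb := isBlk_of_mem hw'
  refine ⟨w', hb, fun h0 => hne ?_, hne⟩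
  have h1 := congrArg (brTrunc a.1) h0
  rw [brTrunc_mul ha.pair.pgroup (ha.blk.inZ.isInvElt ha.pair.le) (hb.inZ.isInvElt haW),
    brTrunc_zero] at h1
  conv_lhs => rw [← ha.occ]
  have hc : brTrunc a.1 w' * brTrunc a.1 z = brTrunc a.1 z * brTrunc a.1 w' :=
    ((ha.blk.inZ.brTrunc a.1).comm fun g hg => by
      by_cases hgC : g ∈ Subgroup.centralizer (a.1 : Set G)
      · rw [coeff_brTrunc_pos hgC]
        exact hb.inZ.supp g fun h => hg ⟨hWX h, hgC⟩
      · rw [coeff_brTrunc_neg hgC]).symm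
  rw [← mul_assoc, hc, h1, zero_mul]

/-- A pair inside a normal subgroup lies in a conjugate of the defect group of a covered block. -/
theorem exists_conj_pair_le (hWX : W ≤ X) (hXN : X ≤ Subgroup.normalizer (W : Set G))
    {z w : MonoidAlgebra k G} (hw : IsBlk W w) {Q : Subgroup G} (hQ : IsDefGrp p W w Q)
    (h : z * w ≠ 0) {a : Pr k G} (ha : IsPairOf p X z a) (haW : a.1 ≤ W) :
    ∃ g ∈ X, a.1 ≤ cjS g Q ∧ brTrunc a.1 (cj g w) * a.2 ≠ 0 := by
  obtain ⟨w', hw', hne', hbr⟩ := exists_covered hWX ha haW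
  obtain ⟨g, hg, rfl⟩ := covered_conj hWX hXN ha.blk hw hw' h hne'
  have hS : cjS g⁻¹ a.1 ≤ W := by
    simpa [cjS_eq_of_mem_normalizer (hXN (inv_mem hg))] using cjS_mono g⁻¹ haW
  obtain ⟨n, hn, hle⟩ := hQ.exists_conj_ge hw (isPGroup_cjS ha.pair.pgroup _) hS fun h0 => hbr (by
    have := congrArg (cj g) h0
    rw [cj_brTrunc, cjS_cjS, mul_inv_cancel, cjS_one, map_zero] at this
    rw [this, zero_mul])
  refine ⟨g * n, mul_mem hg (hWX hn), ?_, ?_⟩
  · have := cjS_mono g hle
    rwa [cjS_cjS, mul_inv_cancel, cjS_one, cjS_cjS] at this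
  · rwa [← cj_cj, cj_eq_of_inZ hw.inZ hn]

variable {N : Subgroup G} [N.Normal] {Q : Subgroup G} {zd ze : MonoidAlgebra k G}

theorem le_normalizer_inf (hN : Subgroup.Normal N) :
    Subgroup.normalizer (Q : Set G) ≤
      Subgroup.normalizer ((Subgroup.normalizer (Q : Set G) ⊓ N : Subgroup G) : Set G) :=
  fun x hx => Subgroup.mem_normalizer_iff.2 fun g => by
    simp only [Subgroup.mem_inf]
    refine and_congr (Subgroup.mem_normalizer_iff.1 (Subgroup.le_normalizer hx) g) ?_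
    exact ⟨fun h => hN.conj_mem g h x,
      fun h => by simpa [mul_assoc] using hN.conj_mem _ h x⁻¹⟩

theorem brTrunc_eq_self_local (hQ : IsPGroup p Q) {zc : MonoidAlgebra k G}
    (hc : IsBlk (Subgroup.normalizer (Q : Set G)) zc) : brTrunc Q zc = zc :=
  brTrunc_eq_self_of_normal hQ Subgroup.le_normalizer le_rfl hc.inZ hc.idem

/-- A block below the normaliser has a pair at `Q` meeting the correspondent. -/
theorem hk_pair (hQ : IsPGroup p Q) (hed : brTrunc Q zd = ze) {zc : MonoidAlgebra k G}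
    (hc : IsBlk (Subgroup.normalizer (Q : Set G)) zc) (hne : zc * ze ≠ 0) :
    ∃ f, IsPairOf p (Subgroup.normalizer (Q : Set G)) zc (Q, f) ∧ ze * f ≠ 0 := by
  set C := Subgroup.centralizer (Q : Set G) with hC
  obtain ⟨f, hf, hfne⟩ := exists_block_mul_ne_zero (k := k) (H := C) hne
  have hfb := isBlk_of_mem hf
  have htr := brTrunc_eq_self_local hQ hc
  have hzC : InZ C zc := ⟨fun g hg => by rw [← htr, coeff_brTrunc_neg hg],
    fun u hu => hc.inZ.inv u (Subgroup.centralizer_le_normalizer _ hu)⟩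
  have hsupp : ∀ g, g ∉ C → ze.coeff g = 0 := fun g hg => by rw [← hed, coeff_brTrunc_neg hg]
  have h1 : zc * f = f := (hfb.prim zc hzC hc.idem).resolve_left fun h0 => hfne (by
    rw [hzC.comm hsupp, mul_assoc, h0, mul_zero])
  refine ⟨f, ⟨⟨hQ, Subgroup.le_normalizer, ?_⟩, hc, ?_⟩, fun h0 => hfne (by
    rw [mul_assoc, h0, mul_zero])⟩
  · rw [inf_eq_right.2 (Subgroup.centralizer_le_normalizer _)]
    exact hfb
  · show brTrunc Q zc * f = f
    rw [htr, h1]

/-- A block with a pair at `Q` meeting the correspondent covers. -/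
theorem hk_cover (hd : IsBlk N zd) (hQN : Q ≤ N) (hed : brTrunc Q zd = ze)
    {B f : MonoidAlgebra k G} (hB : IsPairOf p ⊤ B (Q, f)) (hne : ze * f ≠ 0) : B * zd ≠ 0 := by
  intro h0
  have h1 := congrArg (brTrunc Q) h0
  rw [brTrunc_mul hB.pair.pgroup (hB.blk.inZ.isInvElt le_top) (hd.inZ.isInvElt hQN),
    brTrunc_zero, hed] at h1
  refine hne ?_
  have ho : brTrunc Q B * f = f := hB.occ
  have hBz : InZ (Subgroup.centralizer (Q : Set G)) (brTrunc Q B) := by
    have := hB.blk.inZ.brTrunc Q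
    rwa [top_inf_eq] at this
  have hc : brTrunc Q B * ze = ze * brTrunc Q B :=
    hBz.comm fun g hg => by rw [← hed, coeff_brTrunc_neg hg]
  rw [← ho, ← mul_assoc, ← hc, h1, zero_mul]

/-- Defect groups of covering blocks of the normaliser. -/
theorem hk_defect (hQ : IsPGroup p Q) (hQN : Q ≤ N)
    (hze : IsBlk (Subgroup.normalizer (Q : Set G) ⊓ N) ze)
    (heQ : IsDefGrp p (Subgroup.normalizer (Q : Set G) ⊓ N) ze Q) {zc : MonoidAlgebra k G}
    (hc : IsBlk (Subgroup.normalizer (Q : Set G)) zc) (hne : zc * ze ≠ 0) :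
    ∃ R, IsDefGrp p (Subgroup.normalizer (Q : Set G)) zc R ∧ R ⊓ N = Q ∧
      Subgroup.normalizer (R : Set G) ≤ Subgroup.normalizer (Q : Set G) := by
  set H := Subgroup.normalizer (Q : Set G) with hH
  obtain ⟨R, hR⟩ := exists_isDefGrp (p := p) hc
  obtain ⟨x, hx, hle⟩ := hR.exists_conj_ge hc hQ Subgroup.le_normalizer (by
    rw [brTrunc_eq_self_local hQ hc]; exact hc.ne_zero)
  have hQR : Q ≤ R := by
    have := cjS_mono x⁻¹ hle
    rwa [cjS_eq_of_mem_normalizer (inv_mem hx), cjS_inv_cjS] at this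
  obtain ⟨e, he⟩ := exists_pairOf_defGrp hc hR
  have hSR : R ⊓ N ≤ R := inf_le_left
  obtain ⟨f, hf, -⟩ := existsUnique_below he.pair hSR
  have hfp := hf.pairOf_iff.2 he
  have hS : R ⊓ N ≤ H ⊓ N := inf_le_inf_right N hR.le
  obtain ⟨g, hg, hle', -⟩ := exists_conj_pair_le inf_le_left (le_normalizer_inf inferInstance)
    hze heQ hne hfp hS
  have hle'' : R ⊓ N ≤ Q := by
    have := (hle' : R ⊓ N ≤ cjS g Q)
    rwa [cjS_eq_of_mem_normalizer hg] at this
  have heq : R ⊓ N = Q := le_antisymm hle'' (le_inf hQR hQN)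
  refine ⟨R, hR, heq, fun y hy => mem_normalizer_of_cjS_eq ?_⟩
  conv_lhs => rw [← heq, cjS_inf, cjS_eq_of_mem_normalizer hy,
    cjS_eq_of_mem_normalizer (Subgroup.normalizer_eq_top_iff.2 ‹N.Normal› ▸ Subgroup.mem_top y)]
  exact heq

/-- A covering block of the normaliser and its induced block agree at a defect group. -/
theorem hk_corr {zc B : MonoidAlgebra k G} {R : Subgroup G} {e : MonoidAlgebra k G}
    (hNR : Subgroup.normalizer (R : Set G) ≤ X) (hR : IsDefGrp p X zc R)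
    (he : IsPairOf p X zc (R, e)) (hB : IsPairOf p ⊤ B (R, e)) :
    IsDefGrp p ⊤ B R ∧ brTrunc R B = brTrunc R zc := by
  have hnoX := he.noExt hR
  have hno : NoExt p ⊤ (R, e) := (noExt_iff_of_le hNR).1 hnoX
  refine ⟨hno.isDefGrp hB, ?_⟩
  have h1 := brTrunc_eq_orbitSum hB hno
  have h2 := brTrunc_eq_orbitSum he hnoX
  rw [orbitSum_eq_of_le hNR] at h2
  exact h1.trans h2.symm

/-- Covering blocks of the normaliser with the same induced block are equal. -/
theorem hk_injective (hQ : IsPGroup p Q) (hQN : Q ≤ N)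
    (hze : IsBlk (Subgroup.normalizer (Q : Set G) ⊓ N) ze)
    (heQ : IsDefGrp p (Subgroup.normalizer (Q : Set G) ⊓ N) ze Q) {B : MonoidAlgebra k G}
    (hB : IsBlk ⊤ B) {zc zc' : MonoidAlgebra k G}
    (hc : IsBlk (Subgroup.normalizer (Q : Set G)) zc) (hne : zc * ze ≠ 0)
    (hc' : IsBlk (Subgroup.normalizer (Q : Set G)) zc') (hne' : zc' * ze ≠ 0)
    (hind : ∀ R e, IsPairOf p (Subgroup.normalizer (Q : Set G)) zc (R, e) →
      Subgroup.centralizer (R : Set G) ≤ Subgroup.normalizer (Q : Set G) → IsPairOf p ⊤ B (R, e))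
    (hind' : ∀ R e, IsPairOf p (Subgroup.normalizer (Q : Set G)) zc' (R, e) →
      Subgroup.centralizer (R : Set G) ≤ Subgroup.normalizer (Q : Set G) → IsPairOf p ⊤ B (R, e)) :
    zc = zc' := by
  set H := Subgroup.normalizer (Q : Set G) with hH
  obtain ⟨R, hR, hRQ, hNR⟩ := hk_defect hQ hQN hze heQ hc hne
  obtain ⟨R', hR', hRQ', hNR'⟩ := hk_defect hQ hQN hze heQ hc' hne'
  obtain ⟨e, he⟩ := exists_pairOf_defGrp hc hR
  obtain ⟨e', he'⟩ := exists_pairOf_defGrp hc' hR'
  obtain ⟨hD, heq⟩ := hk_corr hNR hR he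
    (hind R e he ((Subgroup.centralizer_le_normalizer _).trans hNR))
  obtain ⟨hD', -⟩ := hk_corr hNR' hR' he'
    (hind' R' e' he' ((Subgroup.centralizer_le_normalizer _).trans hNR'))
  obtain ⟨x, -, hx⟩ := hD.exists_conj_eq hD' hB
  have hxH : x ∈ H := mem_normalizer_of_cjS_eq (by
    conv_lhs => rw [← hRQ, cjS_inf, ← hx,
      cjS_eq_of_mem_normalizer (Subgroup.normalizer_eq_top_iff.2 ‹N.Normal› ▸ Subgroup.mem_top x)]
    exact hRQ')
  have hR2 : IsDefGrp p H zc' R := by
    have := hR'.cj' hc' (inv_mem hxH)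
    rwa [hx, cjS_inv_cjS] at this
  obtain ⟨e₂, he₂⟩ := exists_pairOf_defGrp hc' hR2
  obtain ⟨-, heq'⟩ := hk_corr hNR hR2 he₂
    (hind' R e₂ he₂ ((Subgroup.centralizer_le_normalizer _).trans hNR))
  exact (existsUnique_corr_down hNR hB hD).unique ⟨hc, hR, heq⟩ ⟨hc', hR2, heq'⟩

/-- A covering block comes from the normaliser. -/
theorem hk_surjective (hQ : IsPGroup p Q) (hd : IsBlk N zd) (hdQ : IsDefGrp p N zd Q)
    (hed : brTrunc Q zd = ze) (hze : IsBlk (Subgroup.normalizer (Q : Set G) ⊓ N) ze)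
    {B : MonoidAlgebra k G} (hB : IsBlk ⊤ B) (hcov : B * zd ≠ 0) (hne : brTrunc Q B ≠ 0) :
    ∃ zc f, IsBlk (Subgroup.normalizer (Q : Set G)) zc ∧ zc * ze ≠ 0 ∧
      IsPairOf p (Subgroup.normalizer (Q : Set G)) zc (Q, f) ∧ IsPairOf p ⊤ B (Q, f) := by
  have hinv := hB.inZ.isInvElt (le_top : Q ≤ ⊤)
  obtain ⟨f, hf, hocc⟩ := exists_blk_mul_eq (hB.inZ.brTrunc Q)
    (by rw [← brTrunc_mul hQ hinv hinv, hB.idem]) hne
  have hp : IsPairOf p ⊤ B (Q, f) := ⟨⟨hQ, le_top, hf⟩, hB, hocc⟩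
  obtain ⟨g, -, hle, hbr⟩ := exists_conj_pair_le (X := ⊤) (W := N) le_top
    (by rw [Subgroup.normalizer_eq_top_iff.2 ‹N.Normal›]) hd hdQ hcov hp hdQ.le
  have hg : cjS g Q = Q :=
    (Subgroup.eq_of_le_of_card_ge hle (card_cjS g Q).le).symm
  have hg' : cjS g⁻¹ Q = Q := by conv_lhs => rw [← hg, cjS_inv_cjS]
  have hp' := hp.cj' (Subgroup.mem_top g⁻¹)
  simp only [cjP, hg'] at hp'
  set f' := cj g⁻¹ f with hf'
  have hbr' : ze * f' ≠ 0 := by
    intro h0
    refine hbr ?_
    have h2 := congrArg (cj g) h0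
    rw [map_mul, map_zero, hf', cj_cj_inv, ← hed, cj_brTrunc, hg] at h2
    exact h2
  have hpH : IsPair p (Subgroup.normalizer (Q : Set G)) (Q, f') :=
    (isPair_sub_iff (Subgroup.centralizer_le_normalizer _)).2 ⟨hp'.pair, Subgroup.le_normalizer⟩
  obtain ⟨zc, hzc, -⟩ := existsUnique_pairOf hpH
  refine ⟨zc, f', hzc.blk, fun h0 => hbr' ?_, hzc, hp'⟩
  have ho : brTrunc Q zc * f' = f' := hzc.occ
  rw [brTrunc_eq_self_local hQ hzc.blk] at ho
  rw [← ho, ← mul_assoc,
    ← hzc.blk.inZ.comm (fun g hg => hze.inZ.supp g fun h => hg h.1), h0, zero_mul]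

end Abstract

variable {G : Type u} [Group G] [Fintype G] {p : ℕ} [Fact p.Prime] {M : Ideal AlgInt} [M.IsPrime]

theorem zB_eq_inclN (N : Subgroup G) [N.Normal] (b : Set (IrrCharacter N)) :
    zB M N b = inclN N (resG (blockEltR M b)) := by
  refine gaExt fun g => ?_
  by_cases hg : g ∈ N
  · rw [zB, coeff_emb_mem N _ hg]
    exact (coeff_inclN_coe N _ ⟨g, hg⟩).symm
  · rw [zB, coeff_emb_notMem N _ hg, coeff_inclN_notMem N _ hg]

/-- Covering in terms of idempotents. -/
theorem covers_iff_mul_ne_zero (N : Subgroup G) [N.Normal] {B : Set (IrrCharacter G)}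
    (hB : IsPBlock M B) {b : Set (IrrCharacter N)} (hb : IsPBlock M b) :
    (∃ χ ∈ B, ∃ θ ∈ b, classInner (fun n : N => (χ : G → ℂ) n) (θ : N → ℂ) ≠ 0) ↔
      Ek M B * zB M N b ≠ 0 := by
  have hcomm : inclN N (blockEltR M b) * blockEltR M B =
      blockEltR M B * inclN N (blockEltR M b) :=
    (IsClassElt.comm (isClassElt_blockEltR B) _).symm
  rw [zB_eq_inclN, Ek, ← resG_inclN, ← map_mul, ← hcomm]
  constructor
  · rintro ⟨χ, hχ, θ, hθ, hne⟩ h0
    refine coverProd_ne_zero N hB hb hχ hθ hne (eq_zero_of_idem_of_resG ?_ h0)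
    rw [mul_assoc, ← mul_assoc (blockEltR M B), ← hcomm, mul_assoc, BrauerPairs.blockEltR_idem hB,
      ← mul_assoc, ← map_mul, BrauerPairs.blockEltR_idem hb]
  · intro h
    by_contra hall
    push Not at hall
    rw [inclN_mul_eq_zero_of_not_covers N hB hb hall, map_zero] at h
    exact h rfl

/-- Covering inside a subgroup in terms of idempotents. -/
theorem covers_sub_iff {X L : Subgroup G} (hLX : L ≤ X)
    (hXN : X ≤ Subgroup.normalizer (L : Set G)) {c : Set (IrrCharacter X)} (hc : IsPBlock M c)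
    {e : Set (IrrCharacter L)} (he : IsPBlock M e) :
    (∃ ψ ∈ c, ∃ ξ ∈ e, classInner (fun l : L => (ψ : X → ℂ) (Subgroup.inclusion hLX l))
        (ξ : L → ℂ) ≠ 0) ↔ zB M X c * zB M L e ≠ 0 := by
  haveI : (L.subgroupOf X).Normal := Subgroup.normal_subgroupOf_of_le_normalizer hXN
  set v := Subgroup.subgroupOfEquivOfLe hLX with hv
  have hz : zB M L e = emb X (zB M (L.subgroupOf X) (pullB v e)) := by
    refine gaExt fun g => ?_
    by_cases hgX : g ∈ X
    · by_cases hgL : g ∈ L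
      · rw [zB, coeff_emb_mem L _ hgL, ← mapA_Ek v he, coeff_mapA, coeff_emb_mem X _ hgX, zB,
          coeff_emb_mem (L.subgroupOf X) _ (Subgroup.mem_subgroupOf.2 hgL : (⟨g, hgX⟩ : X) ∈ _)]
        rfl
      · rw [zB, coeff_emb_notMem L _ hgL, coeff_emb_mem X _ hgX, zB,
          coeff_emb_notMem (L.subgroupOf X) _ fun h => hgL (Subgroup.mem_subgroupOf.1 h)]
    · rw [zB, coeff_emb_notMem X _ hgX, coeff_emb_notMem L _ fun h => hgX (hLX h)]
  have key : zB M X c * zB M L e ≠ 0 ↔ Ek M c * zB M (L.subgroupOf X) (pullB v e) ≠ 0 := by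
    rw [hz, zB, ← map_mul]
    exact not_congr ((map_eq_zero_iff _ (emb_injective X)))
  have hin : ∀ (ψ : IrrCharacter X) (ξ : IrrCharacter L),
      classInner (fun n : L.subgroupOf X => (ψ : X → ℂ) n) (pullIrr v ξ : L.subgroupOf X → ℂ) =
        classInner (fun l : L => (ψ : X → ℂ) (Subgroup.inclusion hLX l)) (ξ : L → ℂ) := by
    intro ψ ξ
    exact Cfsg.Agent.PrincipalType.inner_equiv v (fun l : L => (ψ : X → ℂ) (Subgroup.inclusion hLX l)) (ξ : L → ℂ)
  rw [key, ← covers_iff_mul_ne_zero (L.subgroupOf X) hc (isPBlock_pullB v he)]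
  constructor
  · rintro ⟨ψ, hψ, ξ, hξ, hne⟩
    exact ⟨ψ, hψ, pullIrr v ξ, (pullIrr_mem_pullB v e ξ).2 hξ, by rwa [hin]⟩
  · rintro ⟨ψ, hψ, θ, hθ, hne⟩
    refine ⟨ψ, hψ, pullIrr v.symm θ, hθ, ?_⟩
    rw [← hin, pullIrr_pullIrr]
    exact hne

theorem omegaR_inducedIn {K H : Subgroup G} (hKH : K ≤ H) (ξ : IrrCharacter K) (h : G)
    {y : MonoidAlgebra (locRing M) K}
    (hy : ∀ a : K, ((∃ x : H, (x : G) * (a : G) * (x : G)⁻¹ = h) → y.coeff a = 1) ∧
      ((¬ ∃ x : H, (x : G) * (a : G) * (x : G)⁻¹ = h) → y.coeff a = 0)) :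
    omegaR ξ y = inducedCentralCharIn H K (ξ : K → ℂ) h := by
  classical
  rw [omega_eq_sum_div, inducedCentralCharIn, Finset.sum_div,
    finsum_mem_eq_finite_toFinset_sum _ (Set.toFinite _)]
  symm
  refine (Finset.sum_congr rfl fun a ha => ?_).trans
    (Finset.sum_subset (Finset.subset_univ _) fun a _ ha => ?_)
  · rw [Set.Finite.mem_toFinset, Set.mem_ofPred_eq] at ha
    rw [(hy a).1 ha]
    simp
  · rw [(hy a).2 fun h' => ha ((Set.Finite.mem_toFinset _).2 h')]
    simp

/-- Induction inside a subgroup moves pairs up. -/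
theorem pairOf_of_inducedIn (hM : IsPModular p M) {K H : Subgroup G} (hKH : K ≤ H)
    {e : Set (IrrCharacter K)} {d : Set (IrrCharacter H)} (hind : IsInducedBlockIn M H K e d)
    {a : Pr (resField M) G} (ha : IsPairOf p K (zB M K e) a)
    (hC : H ⊓ Subgroup.centralizer (a.1 : Set G) ≤ K) : IsPairOf p H (zB M H d) a := by
  classical
  haveI : CharP (resField M) p := resField_charP hM
  obtain ⟨ξ, hξ⟩ := isPBlock_nonempty hind.1
  obtain ⟨χ, hχ⟩ := isPBlock_nonempty hind.2.1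
  have hcut : ∀ {y : MonoidAlgebra (resField M) G}, InZ H y →
      InZ K (emb K (restr K y)) := fun hy =>
    inZ_emb (isClassElt_restr fun u hu => hy.inv u (hKH hu))
  have hlam : ∀ y, InZ H y → lam (zB M K e) (emb K (restr K y)) = lam (zB M H d) y := by
    intro y hy
    have hs := hy.supp
    revert hs
    refine invElt_induction (N := H) (Q := fun y : MonoidAlgebra (resField M) G =>
      (∀ g, g ∉ H → y.coeff g = 0) →
        lam (zB M K e) (emb K (restr K y)) = lam (zB M H d) y) ?_ ?_ y hy.inv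
    · intro _
      have h0 : emb K (restr K (0 : MonoidAlgebra (resField M) G)) = 0 := by
        refine gaExt fun g => ?_
        by_cases hg : g ∈ K
        · rw [coeff_emb_mem K _ hg]; rfl
        · rw [coeff_emb_notMem K _ hg]; rfl
      rw [h0, lam_eq_zero (isBlk_zB K hind.1) (InZ.zero K) (zero_mul _),
        lam_eq_zero (isBlk_zB H hind.2.1) (InZ.zero H) (zero_mul _)]
    · intro y t hyi ht hsub ih hs
      have htH : t ∈ H := not_not.1 fun h => ht (hs t h)
      have hcl : InZ H (classSumIn (resField M) H t) :=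
        inZ_classSumIn le_rfl Subgroup.le_normalizer htH
      have hy' : InZ H (y - y.coeff t • classSumIn (resField M) H t) :=
        (InZ.mk hs hyi).sub (hcl.smul _)
      have hdec : emb K (restr K y) = emb K (restr K (y - y.coeff t • classSumIn (resField M) H t))
          + y.coeff t • emb K (restr K (classSumIn (resField M) H t)) := by
        rw [← emb_smul, ← map_add]
        refine congrArg _ (gaExt fun a => ?_)
        simp [restr]
      have hbase : lam (zB M K e) (emb K (restr K (classSumIn (resField M) H t))) =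
          lam (zB M H d) (classSumIn (resField M) H t) := by
        let y0 : MonoidAlgebra (locRing M) K :=
          gaOfFun fun a => if ∃ x : H, (x : G) * (a : G) * (x : G)⁻¹ = t then 1 else 0
        have hy0c : IsClassElt y0 := isClassElt_gaOfFun fun a b => by
          refine if_congr ⟨?_, ?_⟩ rfl rfl
          · rintro ⟨x, hx⟩
            refine ⟨x * ⟨(b : G), hKH b.2⟩, ?_⟩
            rw [← hx]
            simp [mul_assoc]
          · rintro ⟨x, hx⟩
            refine ⟨x * ⟨(b : G), hKH b.2⟩⁻¹, ?_⟩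
            rw [← hx]
            simp [mul_assoc]
        have hres : restr K (classSumIn (resField M) H t) = resG y0 := by
          refine gaExt fun a => ?_
          rw [coeff_resG]
          show (classSumIn (resField M) H t).coeff (a : G) = _
          simp only [y0, coeff_gaOfFun]
          by_cases h : ∃ x : H, (x : G) * (a : G) * (x : G)⁻¹ = t
          · obtain ⟨x, hx⟩ := h
            rw [if_pos ⟨x, hx⟩, map_one, coeff_classSumIn_pos ⟨(x : G)⁻¹, inv_mem x.2, ?_⟩]
            rw [← hx]; group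
          · rw [if_neg h, map_zero, coeff_classSumIn_neg]
            rintro ⟨n, hn, hna⟩
            exact h ⟨⟨n, hn⟩⁻¹, by rw [← hna]; simp [mul_assoc]⟩
        rw [lam_zB K hind.1 hξ (hcut hcl), restr_emb, hres, omegaK_resG _ hy0c,
          lam_zB H hind.2.1 hχ hcl, show t = ((⟨t, htH⟩ : H) : G) from rfl, restr_classSumIn,
          omegaK_classSum, res_eq_res_iff]
        have h := hind.2.2 ξ hξ χ hχ ⟨t, htH⟩
        rw [← omegaR_inducedIn (M := M) hKH ξ t (y := y0) fun a =>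
          ⟨fun h => by simp only [y0, coeff_gaOfFun, if_pos h],
            fun h => by simp only [y0, coeff_gaOfFun, if_neg h]⟩] at h
        exact h
      have e2 := lam_add (isBlk_zB H hind.2.1) hy' (hcl.smul (y.coeff t))
      rw [sub_add_cancel, lam_smul (isBlk_zB H hind.2.1) hcl] at e2
      rw [hdec, lam_add (isBlk_zB K hind.1) (hcut hy') ((hcut hcl).smul _),
        lam_smul (isBlk_zB K hind.1) (hcut hcl), hbase, ih hy'.supp, e2]
  have hpair : IsPair p H a := by
    refine ⟨ha.pair.pgroup, ha.pair.le.trans hKH, ?_⟩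
    rw [show H ⊓ Subgroup.centralizer (a.1 : Set G) = K ⊓ Subgroup.centralizer (a.1 : Set G) from
      le_antisymm (le_inf hC inf_le_right) (inf_le_inf_right _ hKH)]
    exact ha.pair.blk
  obtain ⟨z, hz, -⟩ := existsUnique_pairOf hpair
  have hd := isBlk_zB (M := M) H hind.2.1
  have h1 := lam_brTrunc ha.pair.pgroup ha.pair.le ha.blk ha.pair.blk ha.occ (hcut hd.inZ)
  have h3 : brTrunc a.1 (emb K (restr K (zB M H d))) = brTrunc a.1 (zB M H d) := by
    refine gaExt fun x => ?_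
    by_cases hx : x ∈ Subgroup.centralizer (a.1 : Set G)
    · rw [coeff_brTrunc_pos hx, coeff_brTrunc_pos hx]
      by_cases hxH : x ∈ H
      · rw [coeff_emb_mem K _ (hC ⟨hxH, hx⟩)]
        rfl
      · rw [coeff_emb_notMem K _ fun h => hxH (hKH h), hd.inZ.supp x hxH]
    · rw [coeff_brTrunc_neg hx, coeff_brTrunc_neg hx]
  rw [h3, hlam _ hd.inZ, lam_eq_one hd hd.inZ hd.idem] at h1
  have h2 := lam_brTrunc hz.pair.pgroup hz.pair.le hz.blk hz.pair.blk hz.occ hd.inZ
  rw [h1] at h2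
  by_contra hne
  have : zB M H d * z = 0 := hd.mul_eq_zero hz.blk fun e' => hne (e' ▸ hz)
  rw [lam_eq_zero hz.blk hd.inZ this] at h2
  exact one_ne_zero h2

/-- The Brauer correspondent inside a normal subgroup is the truncation. -/
theorem brTrunc_correspondent (hM : IsPModular p M) {N Q : Subgroup G} (hQ : IsPGroup p Q)
    (hQN : Q ≤ N) {d : Set (IrrCharacter N)} (hdQ : IsDefectGroup p M d (Q.subgroupOf N))
    {e : Set (IrrCharacter ↥(Subgroup.normalizer (Q : Set G) ⊓ N))}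
    (heQ : IsDefectGroup p M e (Q.subgroupOf (Subgroup.normalizer (Q : Set G) ⊓ N)))
    (hed : IsInducedBlockIn M N (Subgroup.normalizer (Q : Set G) ⊓ N) e d) :
    brTrunc Q (zB M N d) = zB M (Subgroup.normalizer (Q : Set G) ⊓ N) e := by
  classical
  haveI : CharP (resField M) p := resField_charP hM
  let L := Subgroup.normalizer (Q : Set G) ⊓ N
  have hQL : Q ≤ L := le_inf Subgroup.le_normalizer hQN
  have hdg := (isDefectGroup_subgroupOf_iff hed.2.1 hQN).1 hdQ
  have heg := (isDefectGroup_subgroupOf_iff hed.1 hQL).1 heQ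
  obtain ⟨f, hf⟩ := exists_pairOf_defGrp (isBlk_zB L hed.1) heg
  have hC : N ⊓ Subgroup.centralizer (Q : Set G) ≤ L :=
    le_inf (inf_le_right.trans (Subgroup.centralizer_le_normalizer _)) inf_le_left
  have hfd : IsPairOf p N (zB M N d) (Q, f) :=
    pairOf_of_inducedIn hM inf_le_right hed hf hC
  have h1 := brTrunc_eq_orbitSum hfd (hfd.noExt hdg)
  have h2 := brTrunc_eq_orbitSum hf (hf.noExt heg)
  have h3 : orbitSum N (Q, f) = orbitSum L (Q, f) := by
    have e1 : L ⊓ Subgroup.normalizer (Q : Set G) = N ⊓ Subgroup.normalizer (Q : Set G) := by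
      simp only [L]
      rw [inf_assoc, inf_comm N, ← inf_assoc, inf_idem]
    have e2 : L ⊓ Subgroup.centralizer (Q : Set G) = N ⊓ Subgroup.centralizer (Q : Set G) :=
      le_antisymm (inf_le_inf_right _ inf_le_right) (le_inf hC inf_le_right)
    rw [orbitSum, orbitSum, orbitBlks, orbitBlks]
    simp only [e1, e2]
  rw [h1, h3, ← h2]
  exact brTrunc_eq_self_of_normal hQ hQL inf_le_left (isBlk_zB L hed.1).inZ
    (isBlk_zB L hed.1).idem

/-- The correspondence of Harris and Knörr. -/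
theorem harris_knoerr (hM : IsPModular p M) (N : Subgroup G) [N.Normal] {Q : Subgroup G}
    (hQ : IsPGroup p Q) (hQN : Q ≤ N) {d : Set (IrrCharacter N)} (hd : IsPBlock M d)
    (hdQ : IsDefectGroup p M d (Q.subgroupOf N))
    {e : Set (IrrCharacter ↥(Subgroup.normalizer (Q : Set G) ⊓ N))}
    (heQ : IsDefectGroup p M e (Q.subgroupOf (Subgroup.normalizer (Q : Set G) ⊓ N)))
    (hed : IsInducedBlockIn M N (Subgroup.normalizer (Q : Set G) ⊓ N) e d) :
    (∀ c : Set (IrrCharacter ↥(Subgroup.normalizer (Q : Set G))), IsPBlock M c →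
      (∃ ψ ∈ c, ∃ ξ ∈ e, classInner (fun l : ↥(Subgroup.normalizer (Q : Set G) ⊓ N) =>
        (ψ : ↥(Subgroup.normalizer (Q : Set G)) → ℂ) (Subgroup.inclusion inf_le_left l))
          (ξ : ↥(Subgroup.normalizer (Q : Set G) ⊓ N) → ℂ) ≠ 0) →
      ∃! B : Set (IrrCharacter G), IsInducedBlock M (Subgroup.normalizer (Q : Set G)) c B ∧
        (∃ χ ∈ B, ∃ θ ∈ d, classInner (fun n : N => (χ : G → ℂ) n) (θ : N → ℂ) ≠ 0)) ∧
    (∀ B : Set (IrrCharacter G), IsPBlock M B →
      (∃ χ ∈ B, ∃ θ ∈ d, classInner (fun n : N => (χ : G → ℂ) n) (θ : N → ℂ) ≠ 0) →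
      ∃! c : Set (IrrCharacter ↥(Subgroup.normalizer (Q : Set G))),
        (IsPBlock M c ∧ ∃ ψ ∈ c, ∃ ξ ∈ e,
          classInner (fun l : ↥(Subgroup.normalizer (Q : Set G) ⊓ N) =>
            (ψ : ↥(Subgroup.normalizer (Q : Set G)) → ℂ) (Subgroup.inclusion inf_le_left l))
              (ξ : ↥(Subgroup.normalizer (Q : Set G) ⊓ N) → ℂ) ≠ 0) ∧
        IsInducedBlock M (Subgroup.normalizer (Q : Set G)) c B) := by
  classical
  haveI : CharP (resField M) p := resField_charP hM
  let H := Subgroup.normalizer (Q : Set G)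
  have hQL : Q ≤ H ⊓ N := le_inf Subgroup.le_normalizer hQN
  have hzd := isBlk_zB (M := M) N hd
  have hze := isBlk_zB (M := M) (H ⊓ N) hed.1
  have hdg := (isDefectGroup_subgroupOf_iff hd hQN).1 hdQ
  have heg := (isDefectGroup_subgroupOf_iff hed.1 hQL).1 heQ
  have hbr := brTrunc_correspondent hM hQ hQN hdQ heQ hed
  have hLn : H ≤ Subgroup.normalizer ((H ⊓ N : Subgroup G) : Set G) :=
    le_normalizer_inf inferInstance
  have hCH : Subgroup.centralizer (Q : Set G) ≤ H := Subgroup.centralizer_le_normalizer _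
  refine ⟨fun c hc hcov => ?_, fun B hB hcov => ?_⟩
  · have hne := (covers_sub_iff inf_le_left hLn hc hed.1).1 hcov
    obtain ⟨f, hf, hfne⟩ := hk_pair hQ hbr (isBlk_zB H hc) hne
    obtain ⟨B, hind, hBf⟩ := exists_induced_of_pair hM hc hf hCH
    refine ⟨B, ⟨hind, (covers_iff_mul_ne_zero N hind.2.1 hd).2 (hk_cover hzd hQN hbr hBf hfne)⟩,
      fun B' hB' => isInducedBlock_unique hB'.1 hind⟩
  · have hne := (covers_iff_mul_ne_zero N hB hd).1 hcov
    have hBQ : brTrunc Q (Ek M B) ≠ 0 := by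
      obtain ⟨g, hg1, hg2, c, hgc, hcQ⟩ :=
        exists_coeff_centralizing_of_covers N hM hB hd hcov hQN hdQ
      intro h0
      have h1 := congrArg (fun y : MonoidAlgebra (resField M) G => y.coeff c) h0
      simp only [coeff_brTrunc_pos hcQ, MonoidAlgebra.coeff_zero, Finsupp.zero_apply, coeff_Ek hB,
        res_eq_zero_iff] at h1
      refine hg2 ?_
      obtain ⟨x, hx⟩ := isConj_iff.1 hgc
      have h2 : (blockEltR M B).coeff c = (blockEltR M B).coeff g := by
        rw [← hx]; exact isClassElt_blockEltR B g x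
      rwa [← coeff_blockEltR hB, ← h2, coeff_blockEltR hB]
    obtain ⟨zc, f, hzc, hzce, hcf, hBf⟩ := hk_surjective hQ hzd hdg hbr hze (isBlk_Ek hB) hne hBQ
    obtain ⟨c, hc, rfl⟩ := exists_eq_zB (H := H) hzc
    refine ⟨c, ⟨⟨hc, (covers_sub_iff inf_le_left hLn hc hed.1).2 hzce⟩,
      induced_of_pairOf hM hc hB hcf hCH hBf⟩, ?_⟩
    rintro c' ⟨⟨hc', hcov'⟩, hind'⟩
    refine zB_injective H hc' hc ?_
    exact hk_injective hQ hQN hze heg (isBlk_Ek hB) (isBlk_zB H hc')
      ((covers_sub_iff inf_le_left hLn hc' hed.1).1 hcov') hzc hzce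
      (fun R e' he' hC => pairOf_of_induced hM hind' he' hC)
      (fun R e' he' hC => pairOf_of_induced hM (induced_of_pairOf hM hc hB hcf hCH hBf) he' hC)

end Cfsg.Agent.BrauerPairs
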