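/-
Stable blocks of normal subgroups of `p`-power index.
-/
import Cfsg.Agent.Lib.BrauerPairs.Correspondence

set_option linter.unusedSectionVars false
set_option linter.style.haveILetI false

namespace Cfsg.Agent.BrauerPairs

open Cfsg MonoidAlgebra Cfsg.Agent.Blocks

universe u

variable {G : Type u} [Group G] [Fintype G] {p : ℕ} [Fact p.Prime] {M : Ideal AlgInt} [M.IsPrime]

/-! ## Supports of idempotents -/

theorem coeff_isBlk_eq_zero_of_singular (hM : IsPModular p M) {H : Subgroup G}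
    {z : MonoidAlgebra (resField M) G} (hz : IsBlk H z) {g : G} (hg : p ∣ orderOf g) :
    z.coeff g = 0 := by
  obtain ⟨b, hb, rfl⟩ := exists_eq_zB hz
  obtain ⟨hm, he⟩ := coeff_zB_eq hb g
  rw [he, res_eq_zero_iff]
  show MemLocalIdeal M (subgroupBlockCoeff H b g)
  by_cases hgH : g ∈ H
  · rw [subgroupBlockCoeff, dif_pos hgH, blockCoeff_eq_zero_of_singular hM hb (g := ⟨g, hgH⟩)
      (by rwa [← Subgroup.orderOf_coe])]
    exact memLocalIdeal_zero
  · rw [subgroupBlockCoeff, dif_neg hgH]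
    exact memLocalIdeal_zero

theorem coeff_idem_eq_zero_of_singular (hM : IsPModular p M) {H : Subgroup G}
    {y : MonoidAlgebra (resField M) G} (hy : InZ H y) (hyy : y * y = y) {g : G}
    (hg : p ∣ orderOf g) : y.coeff g = 0 := by
  classical
  rw [idem_eq_sum_blks hy hyy, MonoidAlgebra.coeff_sum, Finset.sum_apply']
  exact Finset.sum_eq_zero fun z hz =>
    coeff_isBlk_eq_zero_of_singular hM (isBlk_of_mem (Finset.mem_filter.1 hz).1) hg

theorem mem_of_pow_pRegular {N : Subgroup G} [N.Normal] (hN : ∃ k : ℕ, N.index = p ^ k) {g : G}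
    (hg : IsPRegular p g) : g ∈ N := by
  obtain ⟨k, hk⟩ := hN
  rw [← QuotientGroup.eq_one_iff]
  have h1 : ((g : G ⧸ N)) ^ orderOf g = 1 := by
    rw [← QuotientGroup.mk_pow, pow_orderOf_eq_one, QuotientGroup.mk_one]
  have h2 : ((g : G ⧸ N)) ^ p ^ k = 1 := by
    rw [← hk]
    exact pow_card_eq_one'
  have h3 := pow_gcd_eq_one.2 ⟨h1, h2⟩
  rwa [show Nat.gcd (orderOf g) (p ^ k) = 1 from (Nat.coprime_comm.1
    (((Fact.out : p.Prime).coprime_iff_not_dvd).2 hg)).pow_right k, pow_one] at h3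

/-- Idempotents of the centre live inside a normal subgroup of `p`-power index. -/
theorem inZ_inf_of_idem (hM : IsPModular p M) {N : Subgroup G} [N.Normal]
    (hN : ∃ k : ℕ, N.index = p ^ k) {H : Subgroup G} {y : MonoidAlgebra (resField M) G}
    (hy : InZ H y) (hyy : y * y = y) : InZ (N ⊓ H) y := by
  refine ⟨fun g hg => ?_, fun u hu => hy.inv u hu.2⟩
  by_cases hgH : g ∈ H
  · refine coeff_idem_eq_zero_of_singular hM hy hyy (not_not.1 fun h => hg ⟨?_, hgH⟩)
    exact mem_of_pow_pRegular hN h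
  · exact hy.supp g hgH

/-- A stable block of a normal subgroup of `p`-power index is a block of the group. -/
theorem isBlk_top_of_stable (hM : IsPModular p M) {N : Subgroup G} [N.Normal]
    (hN : ∃ k : ℕ, N.index = p ^ k) {z : MonoidAlgebra (resField M) G} (hz : IsBlk N z)
    (hst : ∀ x : G, cj x z = z) : IsBlk ⊤ z := by
  refine ⟨⟨fun g hg => absurd (Subgroup.mem_top g) hg, ?_⟩, hz.idem, hz.ne_zero, fun y hy hyy => ?_⟩
  · rw [isInvElt_iff_cj]
    exact fun x _ => hst x
  · have := inZ_inf_of_idem hM hN hy hyy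
    rw [inf_top_eq] at this
    exact hz.prim y this hyy

theorem exists_block_stable (hM : IsPModular p M) {N : Subgroup G} [N.Normal]
    (hN : ∃ k : ℕ, N.index = p ^ k) {c : Set (IrrCharacter N)} (hc : IsPBlock M c)
    (hst : ∀ x : G, StabilizesBlock N c x) :
    ∃ B : Set (IrrCharacter G), IsPBlock M B ∧ Ek M B = zB M N c ∧
      ∀ g : G, blockCoeff B g = subgroupBlockCoeff N c g := by
  obtain ⟨B, hB, hBe⟩ := exists_eq_Ek (isBlk_top_of_stable hM hN (isBlk_zB N hc) fun x =>
    (stabilizesBlock_iff hc (hst x).1).1 (hst x))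
  refine ⟨B, hB, hBe, fun g => ?_⟩
  have heq : blockEltR M B = emb N (blockEltR M c) :=
    idem_eq_of_resG_eq (IsClassElt.comm (isClassElt_blockEltR B) _) (blockEltR_idem hB)
      (by rw [← map_mul, blockEltR_idem hc]) (by rw [resG_emb_blockEltR, ← hBe]; rfl)
  rw [← coeff_blockEltR hB g, heq, coeff_emb_blockEltR N hc]

theorem Ek_eq_zB_of_coeff {N : Subgroup G} {c : Set (IrrCharacter N)} (hc : IsPBlock M c)
    {B : Set (IrrCharacter G)} (hB : IsPBlock M B)
    (hBc : ∀ g : G, blockCoeff B g = subgroupBlockCoeff N c g) : Ek M B = zB M N c := by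
  rw [← resG_emb_blockEltR]
  show resG (blockEltR M B) = _
  refine congrArg resG (gaExt fun g => Subtype.ext ?_)
  rw [coeff_blockEltR hB, coeff_emb_blockEltR N hc, hBc]

/-! ## Defect groups -/

theorem lam_classSum_eq_of_stable (hM : IsPModular p M) [CharP (resField M) p] {N : Subgroup G}
    [N.Normal] (hN : ∃ k : ℕ, N.index = p ^ k) {z : MonoidAlgebra (resField M) G}
    (hz : IsBlk N z) (hst : ∀ x : G, cj x z = z) {t : G} (ht : t ∈ N)
    (hl : lam z (classSumIn (resField M) ⊤ t) ≠ 0) :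
    lam z (classSumIn (resField M) N t) ≠ 0 ∧
      ∀ x : G, ∃ n ∈ N, n * t * n⁻¹ = x * t * x⁻¹ := by
  classical
  have hT := isBlk_top_of_stable hM hN hz hst
  have hNnorm : ∀ x : G, cjS x N = N := fun x => cjS_eq_of_mem_normalizer (by
    rw [Subgroup.normalizer_eq_top_iff.2 ‹N.Normal›]; trivial)
  have hmem : ∀ x : G, x * t * x⁻¹ ∈ N := fun x => ‹N.Normal›.conj_mem t ht x
  have hcl : InZ ⊤ (classSumIn (resField M) (⊤ : Subgroup G) t) :=
    inZ_classSumIn le_rfl Subgroup.le_normalizer (Subgroup.mem_top t)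
  have hclN : InZ N (classSumIn (resField M) (⊤ : Subgroup G) t) := by
    refine ⟨fun g hg => ?_, fun u _ => hcl.inv u (Subgroup.mem_top u)⟩
    refine coeff_classSumIn_neg ?_
    rintro ⟨c, -, rfl⟩
    exact hg (hmem c)
  have hlN : lam z (classSumIn (resField M) (⊤ : Subgroup G) t) =
      lam z (classSumIn (resField M) (⊤ : Subgroup G) t) := rfl
  obtain ⟨P₀⟩ : Nonempty (Sylow p G) := inferInstance
  let s : Finset (MonoidAlgebra (resField M) G) :=
    Finset.univ.image fun u : G => classSumIn (resField M) N (u * t * u⁻¹)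
  have hs : ∀ w ∈ s, ∃ u : G, classSumIn (resField M) N (u * t * u⁻¹) = w := fun w hw => by
    obtain ⟨u, -, rfl⟩ := Finset.mem_image.1 hw
    exact ⟨u, rfl⟩
  have hInZ : ∀ w ∈ s, InZ N w := fun w hw => by
    obtain ⟨u, rfl⟩ := hs w hw
    exact inZ_classSumIn le_rfl Subgroup.le_normalizer (hmem u)
  have hsum : ∑ w ∈ s, w = classSumIn (resField M) (⊤ : Subgroup G) t := by
    refine gaExt fun g => ?_
    rw [MonoidAlgebra.coeff_sum, Finset.sum_apply']
    by_cases hg : ∃ n ∈ (⊤ : Subgroup G), n * t * n⁻¹ = g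
    · obtain ⟨n, -, rfl⟩ := hg
      rw [coeff_classSumIn_pos ⟨n, Subgroup.mem_top n, rfl⟩,
        Finset.sum_eq_single_of_mem (classSumIn (resField M) N (n * t * n⁻¹))
          (Finset.mem_image.2 ⟨n, Finset.mem_univ _, rfl⟩)]
      · exact coeff_classSumIn_pos ⟨1, one_mem _, by group⟩
      · intro w hw hne
        obtain ⟨u, rfl⟩ := hs w hw
        refine coeff_classSumIn_neg ?_
        rintro ⟨c, hc, hce⟩
        exact hne (by rw [← hce, classSumIn_conj_eq hc])
    · rw [coeff_classSumIn_neg hg, Finset.sum_eq_zero]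
      intro w hw
      obtain ⟨u, rfl⟩ := hs w hw
      refine coeff_classSumIn_neg ?_
      rintro ⟨c, hc, rfl⟩
      exact hg ⟨c * u, Subgroup.mem_top _, by group⟩
  have hstab : ∀ v : G, ∀ w ∈ s, cj v w ∈ s := fun v w hw => by
    obtain ⟨u, rfl⟩ := hs w hw
    rw [cj_classSumIn, hNnorm v]
    exact Finset.mem_image.2 ⟨v * u, Finset.mem_univ _, by simp [mul_assoc]⟩
  rw [← hsum, lam_sum hz s _ hInZ, ← Finset.sum_coe_sort s] at hl
  let _ : SMul (P₀ : Subgroup G) s := ⟨fun v w => ⟨cj (v : G) w.1, hstab v w.1 w.2⟩⟩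
  let _ : MulAction (P₀ : Subgroup G) s :=
    { one_smul := fun w => Subtype.ext (cj_one w.1)
      mul_smul := fun v v' w => Subtype.ext (cj_cj (v : G) v' w.1).symm }
  rw [sum_eq_sum_fixed (p := p) P₀.isPGroup' (fun w : s => lam z w.1) fun v w => ?_] at hl
  · obtain ⟨w, hw, hne⟩ := Finset.exists_ne_zero_of_sum_ne_zero hl
    obtain ⟨u, hue⟩ := hs w.1 w.2
    have hfix : ∀ v ∈ (P₀ : Subgroup G), ∃ n ∈ N,
        n * (u * t * u⁻¹) * n⁻¹ = v * (u * t * u⁻¹) * v⁻¹ := by
      intro v hv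
      have h : cj v w.1 = w.1 := congrArg Subtype.val ((Finset.mem_filter.1 hw).2 ⟨v, hv⟩)
      rw [← hue, cj_classSumIn, hNnorm v] at h
      by_contra hcon
      have h1 : (classSumIn (resField M) N (v * (u * t * u⁻¹) * v⁻¹)).coeff
          (v * (u * t * u⁻¹) * v⁻¹) = 1 := coeff_classSumIn_pos ⟨1, one_mem _, by group⟩
      rw [h, coeff_classSumIn_neg hcon] at h1
      exact zero_ne_one h1
    have hall : ∀ x : G, ∃ n ∈ N, n * (u * t * u⁻¹) * n⁻¹ = x * (u * t * u⁻¹) * x⁻¹ := by
      have hsup : (P₀ : Subgroup G) ⊔ N = ⊤ := by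
        rw [← Subgroup.index_eq_one]
        obtain ⟨k, hk⟩ := hN
        have h1 : ((P₀ : Subgroup G) ⊔ N).index ∣ p ^ k := hk ▸ Subgroup.index_dvd_of_le le_sup_right
        have h2 : ¬ p ∣ ((P₀ : Subgroup G) ⊔ N).index := fun hd =>
          P₀.not_dvd_index (hd.trans (Subgroup.index_dvd_of_le le_sup_left))
        obtain ⟨j, -, hj⟩ := (Nat.dvd_prime_pow (Fact.out : p.Prime)).1 h1
        rcases Nat.eq_zero_or_pos j with rfl | hj0
        · simpa using hj
        · exact absurd (hj ▸ dvd_pow_self p hj0.ne') h2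
      intro x
      obtain ⟨v, hv, m, hm, rfl⟩ := mem_sup_of_normal (A := (P₀ : Subgroup G)) (C := N)
        (by rw [Subgroup.normalizer_eq_top_iff.2 ‹N.Normal›]; exact le_top)
        (hsup.symm ▸ Subgroup.mem_top x)
      obtain ⟨n, hn, hne'⟩ := hfix v hv
      refine ⟨v * m * v⁻¹ * n, mul_mem (‹N.Normal›.conj_mem m hm v) hn, ?_⟩
      calc v * m * v⁻¹ * n * (u * t * u⁻¹) * (v * m * v⁻¹ * n)⁻¹
          = v * m * v⁻¹ * (n * (u * t * u⁻¹) * n⁻¹) * v * m⁻¹ * v⁻¹ := by group
        _ = v * m * v⁻¹ * (v * (u * t * u⁻¹) * v⁻¹) * v * m⁻¹ * v⁻¹ := by rw [hne']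
        _ = v * m * (u * t * u⁻¹) * (v * m)⁻¹ := by group
    have hall' : ∀ x : G, ∃ n ∈ N, n * t * n⁻¹ = x * t * x⁻¹ := by
      intro x
      obtain ⟨n, hn, hx⟩ := hall (u * x * u⁻¹)
      refine ⟨u⁻¹ * n * u, ?_, ?_⟩
      · simpa using ‹N.Normal›.conj_mem n hn u⁻¹
      · calc u⁻¹ * n * u * t * (u⁻¹ * n * u)⁻¹ = u⁻¹ * (n * (u * t * u⁻¹) * n⁻¹) * u := by group
          _ = u⁻¹ * (u * x * u⁻¹ * (u * t * u⁻¹) * (u * x * u⁻¹)⁻¹) * u := by rw [hx]
          _ = x * t * x⁻¹ := by group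
    obtain ⟨n, hn, hnu⟩ := hall' u
    rw [← hue, ← hnu, classSumIn_conj_eq hn] at hne
    exact ⟨hne, hall'⟩
  · show lam z (cj (v : G) w.1) = lam z w.1
    conv_lhs => rw [← hst (v : G)]
    exact lam_cj hz (hInZ w.1 w.2) _

theorem defect_of_stable (hM : IsPModular p M) {N : Subgroup G} [N.Normal]
    (hN : ∃ k : ℕ, N.index = p ^ k) {z : MonoidAlgebra (resField M) G} (hz : IsBlk N z)
    (hst : ∀ x : G, cj x z = z) {P : Subgroup G} (hP : IsDefGrp p ⊤ z P) :
    N ⊔ P = ⊤ ∧ IsDefGrp p N z (P ⊓ N) := by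
  haveI : CharP (resField M) p := resField_charP hM
  obtain ⟨t, -, hco, hl, hS⟩ := hP
  have htN : t ∈ N := not_not.1 fun h => hco (hz.inZ.supp t h)
  have hlam : lam z (classSumIn (resField M) (⊤ : Subgroup G) t) ≠ 0 := hl
  obtain ⟨hlN, hall⟩ := lam_classSum_eq_of_stable hM hN hz hst htN hlam
  rw [top_inf_eq] at hS
  set Ct := Subgroup.centralizer ({t} : Set G) with hCt
  obtain ⟨S, hSe⟩ := exists_sylow_of_isSylowIn hS
  refine ⟨?_, t, htN, hco, hlN, ?_⟩
  · have h1 : N ⊔ Ct = ⊤ := by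
      refine top_le_iff.1 fun x _ => ?_
      obtain ⟨n, hn, hx⟩ := hall x
      have : n⁻¹ * x ∈ Ct := by
        rw [hCt, Subgroup.mem_centralizer_singleton_iff]
        calc n⁻¹ * x * t = n⁻¹ * (x * t * x⁻¹) * x := by group
          _ = t * (n⁻¹ * x) := by rw [← hx]; group
      rw [show x = n * (n⁻¹ * x) by group]
      exact Subgroup.mul_mem_sup hn this
    refine top_le_iff.1 (h1.symm.le.trans (sup_le le_sup_left fun x hx => ?_))
    -- the Sylow subgroup covers the `p`-group `C(t) / (C(t) ∩ N)`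
    have h2 : (N.subgroupOf Ct) ⊔ (S : Subgroup Ct) = ⊤ := by
      rw [← Subgroup.index_eq_one]
      obtain ⟨k, hk⟩ := hN
      have hdvd : (N.subgroupOf Ct).index ∣ p ^ k := by
        rw [← hk]; exact Subgroup.relIndex_dvd_index_of_normal N Ct
      obtain ⟨j, -, hj⟩ := (Nat.dvd_prime_pow (Fact.out : p.Prime)).1
        ((Subgroup.index_dvd_of_le (le_sup_left : N.subgroupOf Ct ≤
          N.subgroupOf Ct ⊔ (S : Subgroup Ct))).trans hdvd)
      rcases Nat.eq_zero_or_pos j with rfl | hj0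
      · simpa using hj
      · refine absurd ((hj.symm ▸ dvd_pow_self p hj0.ne' :
          p ∣ (N.subgroupOf Ct ⊔ (S : Subgroup Ct)).index).trans
          (Subgroup.index_dvd_of_le le_sup_right)) S.not_dvd_index
    have h3 : (⟨x, hx⟩ : Ct) ∈ (N.subgroupOf Ct) ⊔ (S : Subgroup Ct) := h2 ▸ Subgroup.mem_top _
    have h4 := Subgroup.mem_map_of_mem Ct.subtype h3
    rw [Subgroup.map_sup, ← hSe] at h4
    exact sup_le_sup_right (Subgroup.subgroupOf_map_subtype N Ct ▸ inf_le_left) P h4
  · have hS' : FusionSys.IsSyl p P Ct := by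
      refine ⟨hS.le, hS.pgroup, ?_⟩
      rw [hSe]
      show ¬ p ∣ (((S : Subgroup Ct).map Ct.subtype).comap Ct.subtype).index
      rw [Subgroup.comap_map_eq_self_of_injective Subtype.val_injective]
      exact S.not_dvd_index
    have h := hS'.inf_normal (C := N ⊓ Ct) inf_le_right fun g hg => by
      refine mem_normalizer_of_cjS_eq ?_
      rw [cjS_inf, cjS_self hg, cjS_eq_of_mem_normalizer]
      rw [Subgroup.normalizer_eq_top_iff.2 ‹N.Normal›]; trivial
    have e : P ⊓ (N ⊓ Ct) = P ⊓ N := by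
      rw [← inf_assoc, inf_eq_left]
      exact inf_le_left.trans hS.le
    rw [e] at h
    exact isSylowIn_of_isSyl h

/-! ## Nilpotency -/

theorem isBlk_restr {k : Type*} [Field k] {H : Subgroup G} {K : Subgroup H}
    {z : MonoidAlgebra k H} (h : IsBlk (K.map H.subtype) (emb H z)) : IsBlk K z := by
  refine ⟨⟨fun g hg => ?_, fun u hu g => ?_⟩,
    emb_injective H (by rw [map_mul, h.idem]), fun e => h.ne_zero (by rw [e, map_zero]),
    fun y hy hyy => ?_⟩
  · rw [← coeff_emb_coe H z g]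
    exact h.inZ.supp (g : G) fun ⟨q, hq, e⟩ => hg (Subtype.ext (e : (q : G) = g) ▸ hq)
  · rw [← coeff_emb_coe H z g, ← coeff_emb_coe H z (u * g * u⁻¹)]
    exact h.inZ.inv (u : G) ⟨u, hu, rfl⟩ (g : G)
  · have hy' : InZ (K.map H.subtype) (emb H y) := by
      refine ⟨fun g hg => ?_, fun u hu g => ?_⟩
      · by_cases hgH : g ∈ H
        · rw [coeff_emb_mem H _ hgH]
          exact hy.supp _ fun hK => hg ⟨_, hK, rfl⟩
        · exact coeff_emb_notMem H _ hgH
      · obtain ⟨u', hu', rfl⟩ := hu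
        show (emb H y).coeff ((u' : G) * g * (u' : G)⁻¹) = (emb H y).coeff g
        by_cases hgH : g ∈ H
        · rw [coeff_emb_mem H _ hgH, coeff_emb_mem H _ (mul_mem (mul_mem u'.2 hgH) (inv_mem u'.2))]
          exact hy.inv u' hu' ⟨g, hgH⟩
        · rw [coeff_emb_notMem H _ hgH, coeff_emb_notMem H _]
          exact fun hc => hgH
            (by simpa [mul_assoc] using mul_mem (mul_mem (inv_mem u'.2) hc) u'.2)
    rcases h.prim _ hy' (by rw [← map_mul, hyy]) with h0 | h0
    · exact Or.inl (emb_injective H (by rw [map_mul, map_zero, h0]))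
    · exact Or.inr (emb_injective H (by rw [map_mul, h0]))

theorem isNilB_of_isNilpotentBlock (hM : IsPModular p M) [CharP (resField M) p] {H : Subgroup G}
    {f : Set (IrrCharacter H)} (hn : IsNilpotentBlock p M f) : IsNilB p H (zB M H f) := by
  obtain ⟨hf, hn⟩ := (isNilpotentBlock_iff hM).1 hn
  intro b hb x hxH hx hreg
  set Q : Subgroup H := b.1.subgroupOf H with hQ
  have hQm : Q.map H.subtype = b.1 := Subgroup.map_subgroupOf_eq_of_le hb.pair.le
  have hsupp : ∀ g, g ∉ H → b.2.coeff g = 0 := fun g hg =>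
    hb.pair.blk.inZ.supp g fun h => hg h.1
  have hemb : emb H (restr H b.2) = b.2 := emb_restr hsupp
  have hp : IsPairOf p ⊤ (Ek M f) ((Q, restr H b.2) : Pr (resField M) H) := by
    refine ⟨⟨hb.pair.pgroup.comap_of_injective _ Subtype.val_injective, le_top, ?_⟩,
      isBlk_Ek hf, ?_⟩
    · rw [top_inf_eq]
      refine isBlk_restr ?_
      rw [map_inf_centralizer, hQm, hemb]
      exact hb.pair.blk
    · refine emb_injective H ?_
      rw [map_mul, ← brTrunc_emb, hQm, hemb]
      exact hb.occ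
  have hxs : (⟨x, hxH⟩ : H) ∈ stabP ((Q, restr H b.2) : Pr (resField M) H) := by
    refine ⟨?_, gaExt fun g => ?_⟩
    · refine Subgroup.mem_normalizer_iff.2 fun q => ?_
      simp only [hQ, Subgroup.mem_subgroupOf, Subgroup.coe_mul, Subgroup.coe_inv]
      exact Subgroup.mem_normalizer_iff.1 hx.1 (q : G)
    · have h1 := congrArg (fun z : MonoidAlgebra (resField M) G => z.coeff (g : G)) hx.2
      simp only [coeff_cj] at h1
      rw [coeff_cj]
      exact h1
  have h1 := hn _ hp ⟨x, hxH⟩ (Subgroup.mem_top _) hxs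
    (by rw [IsPRegular, ← Subgroup.orderOf_coe]; exact hreg)
  rw [Subgroup.mem_centralizer_iff]
  intro q hq
  exact congrArg Subtype.val
    (Subgroup.mem_centralizer_iff.1 h1 ⟨q, hb.pair.le hq⟩ (show (⟨q, hb.pair.le hq⟩ : H) ∈ Q from hq))

/-- Nilpotency passes between a stable block and the block covering it. -/
theorem isNilB_iff_of_stable (hM : IsPModular p M) [CharP (resField M) p] {N : Subgroup G}
    [N.Normal] (hN : ∃ k : ℕ, N.index = p ^ k) {z : MonoidAlgebra (resField M) G}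
    (hz : IsBlk N z) (hst : ∀ x : G, cj x z = z) : IsNilB p N z ↔ IsNilB p ⊤ z := by
  classical
  have hT := isBlk_top_of_stable hM hN hz hst
  constructor
  · intro hn b hb x _ hx hreg
    have hxN : x ∈ N := mem_of_pow_pRegular hN hreg
    have hNn : ∀ g : G, g ∈ Subgroup.normalizer (N : Set G) := fun g => by
      rw [Subgroup.normalizer_eq_top_iff.2 ‹N.Normal›]; trivial
    set R := b.1 ⊓ N with hR
    have hbN : b.1 ≤ Subgroup.normalizer (R : Set G) := fun q hq => by
      refine mem_normalizer_of_cjS_eq ?_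
      rw [hR, cjS_inf, cjS_self hq, cjS_eq_of_mem_normalizer (hNn q)]
    obtain ⟨e', he', huni⟩ := existsUnique_nsub hb.pair (inf_le_left : R ≤ b.1) hbN
    have hxR : cjS x R = R := by
      rw [hR, cjS_inf, cjS_eq_of_mem_normalizer hx.1, cjS_eq_of_mem_normalizer (hNn x)]
    have hxe : cj x e' = e' := by
      refine huni _ ?_
      have h := he'.cj' (Subgroup.mem_top x)
      rw [cjP_eq_self hx, show cjP x ((R, e') : Pr (resField M) G) = (R, cj x e') from
        Prod.ext hxR rfl] at h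
      exact h
    have hpe : IsPairOf p ⊤ z (R, e') := he'.pairOf_iff.2 hb
    set C := Subgroup.centralizer (R : Set G) with hC
    have he'C : IsBlk C e' := hpe.pair.blkC
    have he'N := inZ_inf_of_idem hM hN he'C.inZ he'C.idem
    obtain ⟨f, hf, hfe⟩ := exists_blk_mul_eq he'N he'C.idem he'C.ne_zero
    have hfb := hf
    have hcC : ∀ c ∈ C, cjS c (N ⊓ C) = N ⊓ C := fun c hc => by
      rw [cjS_inf, cjS_eq_of_mem_normalizer (hNn c), cjS_self hc]
    -- the orbit of `f` exhausts the blocks below `e'`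
    have horb : ∀ g, IsBlk (N ⊓ C) g → e' * g = g → ∃ c ∈ C, cj c f = g := by
      intro g hg hge
      let O : Finset (MonoidAlgebra (resField M) G) :=
        (blks (resField M) (N ⊓ C)).filter fun w => ∃ c ∈ C, cj c f = w
      have hO : ∀ w ∈ O, IsBlk (N ⊓ C) w := fun w hw => isBlk_of_mem (Finset.mem_filter.1 hw).1
      have hfix : ∀ u ∈ C, ∀ w ∈ O, cj u w ∈ O := by
        intro u hu w hw
        obtain ⟨hwb, c, hc, rfl⟩ := Finset.mem_filter.1 hw
        refine Finset.mem_filter.2 ⟨?_, u * c, mul_mem hu hc, (cj_cj u c f).symm⟩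
        have := (isBlk_of_mem hwb).cj u
        rw [hcC u hu] at this
        exact mem_blks.2 this
      set S := ∑ w ∈ O, w with hS
      have hSinv : InZ C S := by
        refine ⟨fun g hg => ?_, ?_⟩
        · rw [hS, MonoidAlgebra.coeff_sum, Finset.sum_apply']
          exact Finset.sum_eq_zero fun w hw => (hO w hw).inZ.supp g fun h => hg h.2
        · rw [isInvElt_iff_cj]
          intro u hu
          rw [hS, map_sum]
          exact Finset.sum_nbij' (cj u) (cj u⁻¹) (fun w hw => hfix u hu w hw)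
            (fun w hw => hfix _ (inv_mem hu) w hw) (fun w _ => cj_inv_cj u w)
            (fun w _ => cj_cj_inv u w) fun _ _ => rfl
      have hSS : S * S = S := by
        rw [hS, Finset.sum_mul]
        refine Finset.sum_congr rfl fun w hw => ?_
        rw [Finset.mul_sum, Finset.sum_eq_single w]
        · exact (hO w hw).idem
        · exact fun v hv hne => (hO w hw).mul_eq_zero (hO v hv) hne.symm
        · exact fun h => absurd hw h
      have hfO : f ∈ O := Finset.mem_filter.2 ⟨mem_blks.2 hfb, 1, one_mem _, cj_one f⟩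
      rcases he'C.prim S hSinv hSS with h0 | h0
      · exfalso
        refine hfb.ne_zero ?_
        have : S * f = f := by
          rw [hS, Finset.sum_mul, Finset.sum_eq_single f]
          · exact hfb.idem
          · exact fun v hv hne => (hO v hv).mul_eq_zero hfb hne
          · exact fun h => absurd hfO h
        rw [← this, ← hfe, ← mul_assoc, h0, zero_mul]
      · have hne : S * g ≠ 0 := fun h => hg.ne_zero (by
          rw [← hge, ← h0, hSinv.comm he'C.inZ.supp, mul_assoc, h, mul_zero])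
        rw [hS, Finset.sum_mul] at hne
        obtain ⟨w, hw, hwg⟩ := Finset.exists_ne_zero_of_sum_ne_zero hne
        obtain rfl := (hO w hw).eq_of_mul_ne_zero hg hwg
        exact (Finset.mem_filter.1 hw).2
    have hRp : IsPGroup p R := hb.pair.pgroup.to_le inf_le_left
    have hpf : IsPairOf p N z (R, f) := by
      refine ⟨⟨hRp, inf_le_right, hfb⟩, hz, ?_⟩
      calc brTrunc R z * f = brTrunc R z * (e' * f) := by rw [hfe]
        _ = brTrunc R z * e' * f := (mul_assoc _ _ _).symm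
        _ = f := by rw [hpe.occ, hfe]
    have hxNR : x ∈ Subgroup.normalizer (R : Set G) := mem_normalizer_of_cjS_eq hxR
    have hxf : e' * cj x f = cj x f := by
      conv_lhs => rw [← hxe]
      rw [← map_mul, hfe]
    have hxfb : IsBlk (N ⊓ C) (cj x f) := by
      have := hfb.cj x
      rwa [cjS_inf, cjS_eq_of_mem_normalizer (hNn x), hC,
        cjS_eq_of_mem_normalizer (normalizer_le_normalizer_centralizer R hxNR)] at this
    obtain ⟨c, hcC', hcf⟩ := horb _ hxfb hxf
    set w := c⁻¹ * x with hw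
    have hwR : w ∈ Subgroup.normalizer (R : Set G) :=
      mul_mem (inv_mem (Subgroup.centralizer_le_normalizer _ hcC')) hxNR
    have hwf : cj w f = f := by rw [hw, ← cj_cj, ← hcf, cj_inv_cj]
    have hwstab : w ∈ stabP ((R, f) : Pr (resField M) G) := ⟨hwR, hwf⟩
    obtain ⟨k, hk⟩ := hN
    set n := (orderOf (w ^ p ^ k)).factorization p
    have hwN : w ^ p ^ k ∈ N := by
      rw [← QuotientGroup.eq_one_iff, QuotientGroup.mk_pow, ← hk]
      exact pow_card_eq_one'
    have hwreg : IsPRegular p ((w ^ p ^ k) ^ p ^ n) := by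
      have hd : p ^ n ∣ orderOf (w ^ p ^ k) := Nat.ordProj_dvd _ p
      rw [IsPRegular, orderOf_pow' _ (pow_ne_zero _ (Fact.out : p.Prime).ne_zero),
        Nat.gcd_eq_right hd]
      exact Nat.not_dvd_ordCompl Fact.out (orderOf_pos _).ne'
    have hwC := hn _ hpf _ (pow_mem hwN _) (pow_mem (pow_mem hwstab _) _) hwreg
    -- `x` acts on `R` as `w` does
    let φ := R.normalizerMonoidHom
    have heq : φ ⟨x, hxNR⟩ = φ ⟨w, hwR⟩ := MulEquiv.ext fun q => Subtype.ext (by
      show x * (q : G) * x⁻¹ = w * (q : G) * w⁻¹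
      have hcq := Subgroup.mem_centralizer_iff.1 hcC' (x * q * x⁻¹)
        ((Subgroup.mem_normalizer_iff.1 hxNR q).1 q.2)
      calc x * (q : G) * x⁻¹ = c⁻¹ * (c * (x * q * x⁻¹)) := by group
        _ = c⁻¹ * (x * q * x⁻¹ * c) := by rw [hcq]
        _ = w * (q : G) * w⁻¹ := by rw [hw]; group)
    have h1 : φ ⟨x, hxNR⟩ ^ orderOf x = 1 := by
      rw [← map_pow, show (⟨x, hxNR⟩ : Subgroup.normalizer (R : Set G)) ^ orderOf x = 1 from
        Subtype.ext (pow_orderOf_eq_one x), map_one]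
    have h2 : φ ⟨x, hxNR⟩ ^ p ^ (k + n) = 1 := by
      rw [heq, ← map_pow]
      refine MulEquiv.ext fun q => Subtype.ext ?_
      show (w ^ p ^ (k + n)) * (q : G) * (w ^ p ^ (k + n))⁻¹ = q
      have hcm := Subgroup.mem_centralizer_iff.1 hwC q q.2
      rw [pow_add p k n, pow_mul, ← hcm, mul_inv_cancel_right]
    have h3 : φ ⟨x, hxNR⟩ = 1 := by
      have := pow_gcd_eq_one.2 ⟨h1, h2⟩
      rwa [show Nat.gcd (orderOf x) (p ^ (k + n)) = 1 from (Nat.coprime_comm.1
        (((Fact.out : p.Prime).coprime_iff_not_dvd).2 hreg)).pow_right _, pow_one] at this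
    have hRC : ∀ q ∈ R, x * q * x⁻¹ = q := fun q hq =>
      congrArg Subtype.val (DFunLike.congr_fun h3 (⟨q, hq⟩ : R))
    -- coprime action on `b.1`
    rw [Subgroup.mem_centralizer_iff]
    intro q hq
    set d := x * q * x⁻¹ * q⁻¹ with hd
    have hdR : d ∈ R := ⟨mul_mem ((Subgroup.mem_normalizer_iff.1 hx.1 q).1 hq) (Subgroup.inv_mem _ hq), by
      rw [hd, show x * q * x⁻¹ * q⁻¹ = x * (q * x⁻¹ * q⁻¹) by group]
      exact mul_mem hxN (‹N.Normal›.conj_mem _ (inv_mem hxN) q)⟩
    have hxd : Commute x d := mul_inv_eq_iff_eq_mul.1 (hRC d hdR)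
    have hpow : ∀ r : ℕ, x ^ r * q * (x ^ r)⁻¹ = d ^ r * q := by
      intro r
      induction r with
      | zero => simp
      | succ r ihr =>
        calc x ^ (r + 1) * q * (x ^ (r + 1))⁻¹ = x * (x ^ r * q * (x ^ r)⁻¹) * x⁻¹ := by
              rw [pow_succ']; group
          _ = x * d ^ r * q * x⁻¹ := by rw [ihr]; group
          _ = d ^ r * (x * q * x⁻¹) := by rw [(hxd.pow_right r).eq]; group
          _ = d ^ (r + 1) * q := by rw [hd, pow_succ]; group
    have h4 := hpow (orderOf x)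
    rw [pow_orderOf_eq_one, one_mul, inv_one, mul_one] at h4
    have h5 : d ^ orderOf x = 1 := by
      simpa using mul_right_cancel (h4.symm.trans (one_mul q).symm)
    obtain ⟨s, hs⟩ := hRp ⟨d, hdR⟩
    have h6 := pow_gcd_eq_one.2 ⟨h5, (congrArg Subtype.val hs : d ^ p ^ s = 1)⟩
    rw [show Nat.gcd (orderOf x) (p ^ s) = 1 from (Nat.coprime_comm.1
      (((Fact.out : p.Prime).coprime_iff_not_dvd).2 hreg)).pow_right s, pow_one] at h6
    exact (mul_inv_eq_iff_eq_mul.1 (mul_inv_eq_one.1 (hd ▸ h6))).symm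
  · intro hn b hb x hxN hx hreg
    have hNn : ∀ g : G, g ∈ Subgroup.normalizer (N : Set G) := fun g => by
      rw [Subgroup.normalizer_eq_top_iff.2 ‹N.Normal›]; trivial
    set C := Subgroup.centralizer (b.1 : Set G) with hC
    obtain ⟨e, he, hne⟩ : ∃ e ∈ blks (resField M) C, e * b.2 ≠ 0 := by
      by_contra hc
      push Not at hc
      refine hb.pair.blk.ne_zero ?_
      rw [← one_mul b.2, ← sum_blks (k := resField M) C, Finset.sum_mul]
      exact Finset.sum_eq_zero hc
    have heb := isBlk_of_mem he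
    have heN := inZ_inf_of_idem hM hN heb.inZ heb.idem
    have hef : e * b.2 = b.2 := (hb.pair.blk.prim e heN heb.idem).resolve_left hne
    have hinv := hT.inZ.isInvElt (le_top (a := b.1))
    have hbo : brTrunc b.1 z * e = e := by
      have hY := hT.inZ.brTrunc b.1
      rw [top_inf_eq] at hY
      refine (heb.prim _ hY ?_).resolve_left fun h0 => hb.pair.blk.ne_zero ?_
      · rw [← brTrunc_mul hb.pair.pgroup hinv hinv, hT.idem]
      · calc b.2 = brTrunc b.1 z * b.2 := hb.occ.symm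
          _ = brTrunc b.1 z * (e * b.2) := by rw [hef]
          _ = 0 := by rw [← mul_assoc, h0, zero_mul]
    have hpo : IsPairOf p ⊤ z (b.1, e) :=
      ⟨⟨hb.pair.pgroup, le_top, by rw [top_inf_eq]; exact heb⟩, hT, hbo⟩
    have hxe : cj x e = e := by
      have h1 : cjS x C = C := by
        rw [hC, cjS_centralizer, cjS_eq_of_mem_normalizer hx.1]
      have h2 := heb.cj x
      rw [h1] at h2
      refine h2.eq_of_mul_ne_zero heb fun h0 => hb.pair.blk.ne_zero ?_
      calc b.2 = cj x b.2 := hx.2.symm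
        _ = cj x (e * b.2) := by rw [hef]
        _ = cj x e * b.2 := by rw [map_mul, hx.2]
        _ = cj x e * (e * b.2) := by rw [hef]
        _ = 0 := by rw [← mul_assoc, h0, zero_mul]
    exact hn _ hpo x (Subgroup.mem_top x) ⟨hx.1, hxe⟩ hreg

end Cfsg.Agent.BrauerPairs
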