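/-
Inertia groups of blocks with abelian and with cyclic defect groups.
-/
import Cfsg.Agent.Lib.BrauerPairs.HarrisKnoerr
import Cfsg.Agent.Lib.BrauerPairs.NormalPIndex
import Mathlib.GroupTheory.SpecificGroups.Cyclic
import Mathlib.RingTheory.IntegralDomain

set_option linter.unusedSectionVars false
set_option linter.style.haveILetI false

namespace Cfsg.Agent.BrauerPairs

open Cfsg MonoidAlgebra Cfsg.Agent.Blocks

universe u

variable {G : Type u} [Group G] [Fintype G] {p : ℕ} [Fact p.Prime] {M : Ideal AlgInt} [M.IsPrime]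

section Abelian

variable {B : Set (IrrCharacter G)} {P : Subgroup G}
  {c : Set (IrrCharacter (Subgroup.centralizer (P : Set G)))}

theorem pairOf_self {H : Subgroup G} {b : Set (IrrCharacter H)} (hb : IsPBlock M b)
    {Q : Subgroup G} (hQ : IsPGroup p Q) (hQH : Q ≤ H)
    (hC : H = Subgroup.centralizer (Q : Set G)) : IsPairOf p H (zB M H b) (Q, zB M H b) := by
  have hz := isBlk_zB (M := M) H hb
  refine ⟨⟨hQ, hQH, ?_⟩, hz, ?_⟩
  · rw [show (Q, zB M H b).1 = Q from rfl, ← hC, inf_idem]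
    exact hz
  · show brTrunc Q (zB M H b) * zB M H b = zB M H b
    rw [brTrunc_eq_self fun g hg => hz.inZ.supp g (hC ▸ hg), hz.idem]

/-- An inducing block of the centraliser of an abelian defect group. -/
theorem abelian_pair (hM : IsPModular p M) (hPD : IsDefectGroup p M B P)
    (hPC : P ≤ Subgroup.centralizer (P : Set G))
    (hc : IsInducedBlock M (Subgroup.centralizer (P : Set G)) c B) :
    IsPairOf p ⊤ (Ek M B) (P, zB M (Subgroup.centralizer (P : Set G)) c) ∧
      IsDefGrp p (Subgroup.centralizer (P : Set G))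
        (zB M (Subgroup.centralizer (P : Set G)) c) P := by
  haveI : CharP (resField M) p := resField_charP hM
  let C := Subgroup.centralizer (P : Set G)
  have hD := (isDefectGroup_iff hc.2.1 P).1 hPD
  have hP := hD.pgroup
  have hz := isBlk_zB (M := M) C hc.1
  have hp := pairOf_self (M := M) hc.1 hP hPC rfl
  refine ⟨pairOf_of_induced hM hc hp le_rfl, ?_⟩
  obtain ⟨R, hR⟩ := exists_isDefGrp (p := p) hz
  obtain ⟨x, hx, hle⟩ := hR.exists_conj_ge hz hP hPC (by
    rw [brTrunc_eq_self fun g hg => hz.inZ.supp g hg]; exact hz.ne_zero)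
  have hPR : P ≤ R := by
    have := cjS_mono x⁻¹ hle
    rwa [cjS_eq_of_mem_normalizer (Subgroup.centralizer_le_normalizer _ (inv_mem hx)),
      cjS_inv_cjS] at this
  obtain ⟨e, he⟩ := exists_pairOf_defGrp hz hR
  have hB := pairOf_of_induced hM hc he (Subgroup.centralizer_le hPR)
  rwa [show R = P from (Subgroup.eq_of_le_of_card_ge hPR (hB.card_le hD)).symm] at hR

/-- The inertial quotient of an abelian defect group has order prime to `p`. -/
theorem not_dvd_inertia (hM : IsPModular p M) (hPD : IsDefectGroup p M B P)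
    (hPC : P ≤ Subgroup.centralizer (P : Set G))
    (hc : IsInducedBlock M (Subgroup.centralizer (P : Set G)) c B) :
    ¬ p ∣ (Subgroup.centralizer (P : Set G)).relIndex
      (stabP (P, zB M (Subgroup.centralizer (P : Set G)) c)) := by
  haveI : CharP (resField M) p := resField_charP hM
  obtain ⟨hp, hd⟩ := abelian_pair hM hPD hPC hc
  have hD := (isDefectGroup_iff hc.2.1 P).1 hPD
  have hsup : P ⊔ Subgroup.centralizer (P : Set G) = Subgroup.centralizer (P : Set G) :=
    sup_eq_right.2 hPC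
  have h := (defect_iff_not_dvd hM hD.pgroup (isBlk_zB _ hc.1)
    (by rw [hsup]; exact isBlk_zB _ hc.1) (by rw [hsup]; exact hd) hp).1 hD
  rwa [hsup] at h

end Abelian

section Cyclic

/-- A `p'`-element normalising a cyclic `p`-group and fixing an element of order `p` of it
centralises it. -/
theorem mem_centralizer_of_fix {P T : Subgroup G} (hP : IsPGroup p P) (hcyc : IsCyclic P)
    (hTN : T ≤ Subgroup.normalizer (P : Set G)) {m : ℕ} (hm : ¬ p ∣ m)
    (hpow : ∀ g ∈ T, g ^ m ∈ Subgroup.centralizer (P : Set G)) {g : G} (hg : g ∈ T) {x : G}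
    (hx : x ∈ P) (hx1 : x ≠ 1) (hfix : g * x * g⁻¹ = x) :
    g ∈ Subgroup.centralizer (P : Set G) := by
  obtain ⟨⟨y, hyP⟩, hy⟩ := IsCyclic.exists_generator (α := P)
  obtain ⟨n, hn⟩ := IsPGroup.iff_orderOf.1 hP ⟨y, hyP⟩
  rw [← Subgroup.orderOf_coe] at hn
  change orderOf y = p ^ n at hn
  have hgen : ∀ u ∈ P, ∃ i : ℤ, y ^ i = u := fun u hu => by
    obtain ⟨i, hi⟩ := Subgroup.mem_zpowers_iff.1 (hy ⟨u, hu⟩)
    exact ⟨i, by simpa using congrArg Subtype.val hi⟩
  obtain ⟨a, ha⟩ := hgen _ ((Subgroup.mem_normalizer_iff.1 (hTN hg) y).1 hyP)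
  obtain ⟨i, rfl⟩ := hgen x hx
  have hpp : (p : ℤ) ∣ a - 1 := by
    have h1 : y ^ ((a - 1) * i) = 1 := by
      rw [show (a - 1) * i = a * i - i by ring, zpow_sub, zpow_mul, ha, conj_zpow, hfix,
        mul_inv_cancel]
    rw [← orderOf_dvd_iff_zpow_eq_one, hn] at h1
    have h2 : ¬ ((p ^ n : ℕ) : ℤ) ∣ i := by
      rw [← hn, orderOf_dvd_iff_zpow_eq_one]; exact hx1
    push_cast at h1 h2
    have hpr : Prime (p : ℤ) := Nat.prime_iff_prime_int.1 Fact.out
    by_contra hnd
    exact h2 (hpr.pow_dvd_of_dvd_mul_left n hnd h1)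
  have hk : ∀ k : ℕ, g ^ k * y * (g ^ k)⁻¹ = y ^ (a ^ k) := by
    intro k
    induction k with
    | zero => simp
    | succ k ih =>
      calc g ^ (k + 1) * y * (g ^ (k + 1))⁻¹ = g * (g ^ k * y * (g ^ k)⁻¹) * g⁻¹ := by
            rw [pow_succ']; group
        _ = (g * y * g⁻¹) ^ (a ^ k) := by rw [ih, conj_zpow]
        _ = _ := by rw [← ha, ← zpow_mul, ← pow_succ']
  have hq : g ^ p ^ n ∈ Subgroup.centralizer (P : Set G) := by
    have hd : ((p ^ n : ℕ) : ℤ) ∣ a ^ p ^ n - 1 := by
      push_cast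
      refine (pow_dvd_pow (p : ℤ) (Nat.le_succ n)).trans ?_
      simpa using dvd_sub_pow_of_dvd_sub hpp n
    have hfy : g ^ p ^ n * y * (g ^ p ^ n)⁻¹ = y := by
      rw [hk, show a ^ p ^ n = (a ^ p ^ n - 1) + 1 by ring, zpow_add, zpow_one,
        orderOf_dvd_iff_zpow_eq_one.1 (hn.symm ▸ hd), one_mul]
    refine Subgroup.mem_centralizer_iff.2 fun u hu => ?_
    obtain ⟨j, rfl⟩ := hgen u hu
    refine (Commute.zpow_left ?_ j).eq
    exact (mul_inv_eq_iff_eq_mul.1 hfy).symm
  have h2 := hpow g hg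
  have hco : Nat.gcd m (p ^ n) = 1 :=
    ((((Fact.out : p.Prime).coprime_iff_not_dvd).2 hm).symm.pow_right n)
  have h := Nat.gcd_eq_gcd_ab m (p ^ n)
  rw [hco, Nat.cast_one] at h
  rw [← zpow_one g, h, zpow_add, zpow_mul, zpow_mul, zpow_natCast, zpow_natCast]
  exact mul_mem (zpow_mem h2 _) (zpow_mem hq _)

end Cyclic

section Local

/-- A common pair exhibits induction inside a subgroup. -/
theorem inducedIn_of_pairOf (hM : IsPModular p M) {K H : Subgroup G} (hKH : K ≤ H)
    {e : Set (IrrCharacter K)} (he : IsPBlock M e) {f : Set (IrrCharacter H)} (hf : IsPBlock M f)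
    {a : Pr (resField M) G} (ha : IsPairOf p K (zB M K e) a)
    (hC : H ⊓ Subgroup.centralizer (a.1 : Set G) ≤ K) (hfa : IsPairOf p H (zB M H f) a) :
    IsInducedBlockIn M H K e f := by
  classical
  haveI : CharP (resField M) p := resField_charP hM
  refine ⟨he, hf, fun ξ hξ χ hχ t => ?_⟩
  have hcl : InZ H (classSumIn (resField M) H (t : G)) :=
    inZ_classSumIn le_rfl Subgroup.le_normalizer t.2
  have hcut : InZ K (emb K (restr K (classSumIn (resField M) H (t : G)))) :=
    inZ_emb (isClassElt_restr fun u hu => hcl.inv u (hKH hu))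
  let y0 : MonoidAlgebra (locRing M) K :=
    gaOfFun fun a => if ∃ x : H, (x : G) * (a : G) * (x : G)⁻¹ = t then 1 else 0
  have hy0c : IsClassElt y0 := isClassElt_gaOfFun fun a b => by
    refine if_congr ⟨?_, ?_⟩ rfl rfl
    · rintro ⟨x, hx⟩
      refine ⟨x * ⟨(b : G), hKH b.2⟩, ?_⟩
      rw [← hx]
      simp [mul_assoc]
    · rintro ⟨x, hx⟩
      refine ⟨x * ⟨(b : G), hKH b.2⟩⁻¹, ?_⟩
      rw [← hx]
      simp [mul_assoc]
  have hres : restr K (classSumIn (resField M) H (t : G)) = resG y0 := by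
    refine gaExt fun a => ?_
    rw [coeff_resG]
    show (classSumIn (resField M) H (t : G)).coeff (a : G) = _
    simp only [y0, coeff_gaOfFun]
    by_cases h : ∃ x : H, (x : G) * (a : G) * (x : G)⁻¹ = t
    · obtain ⟨x, hx⟩ := h
      rw [if_pos ⟨x, hx⟩, map_one, coeff_classSumIn_pos ⟨(x : G)⁻¹, inv_mem x.2, ?_⟩]
      rw [← hx]; group
    · rw [if_neg h, map_zero, coeff_classSumIn_neg]
      rintro ⟨n, hn, hna⟩
      exact h ⟨⟨n, hn⟩⁻¹, by rw [← hna]; simp [mul_assoc]⟩
  have h3 : brTrunc a.1 (emb K (restr K (classSumIn (resField M) H (t : G)))) =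
      brTrunc a.1 (classSumIn (resField M) H (t : G)) := by
    refine gaExt fun x => ?_
    by_cases hx : x ∈ Subgroup.centralizer (a.1 : Set G)
    · rw [coeff_brTrunc_pos hx, coeff_brTrunc_pos hx]
      by_cases hxH : x ∈ H
      · rw [coeff_emb_mem K _ (hC ⟨hxH, hx⟩)]
        rfl
      · rw [coeff_emb_notMem K _ fun h => hxH (hKH h), hcl.supp x hxH]
    · rw [coeff_brTrunc_neg hx, coeff_brTrunc_neg hx]
  have h4 := lam_brTrunc ha.pair.pgroup ha.pair.le ha.blk ha.pair.blk ha.occ hcut
  have h5 := lam_brTrunc hfa.pair.pgroup hfa.pair.le hfa.blk hfa.pair.blk hfa.occ hcl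
  rw [h3, h5] at h4
  rw [lam_zB K he hξ hcut, restr_emb, hres, omegaK_resG _ hy0c, lam_zB H hf hχ hcl,
    restr_classSumIn, omegaK_classSum, eq_comm, res_eq_res_iff] at h4
  rw [← omegaR_inducedIn (M := M) hKH ξ (t : G) (y := y0) fun a =>
    ⟨fun h => by simp only [y0, coeff_gaOfFun, if_pos h],
      fun h => by simp only [y0, coeff_gaOfFun, if_neg h]⟩]
  exact h4

variable {B : Set (IrrCharacter G)} {P : Subgroup G}
  {c : Set (IrrCharacter (Subgroup.centralizer (P : Set G)))}

/-- A local block over an abelian defect group exists. -/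
theorem exists_local_block (hM : IsPModular p M) (hPD : IsDefectGroup p M B P)
    (hPC : P ≤ Subgroup.centralizer (P : Set G))
    (hc : IsInducedBlock M (Subgroup.centralizer (P : Set G)) c B) {H : Subgroup G}
    (hCH : Subgroup.centralizer (P : Set G) ≤ H) :
    ∃ f : Set (IrrCharacter H), IsInducedBlockIn M H (Subgroup.centralizer (P : Set G)) c f := by
  haveI : CharP (resField M) p := resField_charP hM
  have hD := (isDefectGroup_iff hc.2.1 P).1 hPD
  have hp := pairOf_self (M := M) hc.1 hD.pgroup hPC rfl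
  have hpH : IsPair p H (P, zB M (Subgroup.centralizer (P : Set G)) c) :=
    (isPair_sub_iff hCH).2 ⟨(abelian_pair hM hPD hPC hc).1.pair, hPC.trans hCH⟩
  obtain ⟨z, hz, -⟩ := existsUnique_pairOf hpH
  obtain ⟨f, hf, rfl⟩ := exists_eq_zB hz.blk
  exact ⟨f, inducedIn_of_pairOf hM hCH hc.1 hf hp inf_le_right hz⟩

/-- Nilpotency of a local block with abelian defect group is triviality of its inertia. -/
theorem local_nilpotent_iff (hM : IsPModular p M) (hPD : IsDefectGroup p M B P)
    (hPC : P ≤ Subgroup.centralizer (P : Set G))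
    (hc : IsInducedBlock M (Subgroup.centralizer (P : Set G)) c B) {H : Subgroup G}
    (hCH : Subgroup.centralizer (P : Set G) ≤ H) {f : Set (IrrCharacter H)}
    (hf : IsInducedBlockIn M H (Subgroup.centralizer (P : Set G)) c f) :
    IsNilpotentBlock p M f ↔
      stabP (P, zB M (Subgroup.centralizer (P : Set G)) c) ⊓ H ≤
        Subgroup.centralizer (P : Set G) := by
  haveI : CharP (resField M) p := resField_charP hM
  let C := Subgroup.centralizer (P : Set G)
  let zc := zB M C c
  obtain ⟨hpB, -⟩ := abelian_pair hM hPD hPC hc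
  have hD := (isDefectGroup_iff hc.2.1 P).1 hPD
  have hp := pairOf_self (M := M) hc.1 hD.pgroup hPC rfl
  have hpf : IsPairOf p H (zB M H f) (P, zc) :=
    pairOf_of_inducedIn hM hCH hf hp inf_le_right
  have hnoT := hpB.noExt hD
  have hnoH : NoExt p H (P, zc) := fun b hb => by
    have hCb : Subgroup.centralizer (b.1 : Set G) ≤ H :=
      (Subgroup.centralizer_le hb.le).trans hCH
    exact hnoT b ⟨hpB.pair, ((isPair_sub_iff hCb).1 hb.right).1, hb.le, hb.normal, hb.inv, hb.occ⟩
  have hPH : P ≤ H := hPC.trans hCH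
  have hdf : IsDefectGroup p M f (P.subgroupOf H) :=
    (isDefectGroup_subgroupOf_iff hf.2.1 hPH).2 (hnoH.isDefGrp hpf)
  have hzs : ∀ g, g ∉ H → zc.coeff g = 0 := fun g hg =>
    (isBlk_zB C hc.1).inZ.supp g fun h => hg (hCH h)
  have hemb : emb H (restr H zc) = zc := emb_restr hzs
  have hmap : (P.subgroupOf H).map H.subtype = P := Subgroup.map_subgroupOf_eq_of_le hPH
  have hmax : IsMax p (Ek M f) ((P.subgroupOf H, restr H zc) : Pr (resField M) H) := by
    refine ⟨⟨⟨hD.pgroup.comap_of_injective _ Subtype.val_injective, le_top, ?_⟩,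
      isBlk_Ek hf.2.1, ?_⟩, (isDefectGroup_iff hf.2.1 _).1 hdf⟩
    · rw [top_inf_eq]
      refine isBlk_restr ?_
      rw [map_inf_centralizer, hmap, hemb, inf_eq_right.2 hCH]
      exact isBlk_zB C hc.1
    · refine emb_injective H ?_
      rw [map_mul, ← brTrunc_emb, hmap, hemb]
      exact hpf.occ
  have hcen : ∀ x : H, x ∈ Subgroup.centralizer ((P.subgroupOf H : Subgroup H) : Set H) ↔
      (x : G) ∈ C := fun x => by
    simp only [C, Subgroup.mem_centralizer_iff, SetLike.mem_coe, Subgroup.mem_subgroupOf]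
    exact ⟨fun h u hu => congrArg Subtype.val (h ⟨u, hPH hu⟩ hu),
      fun h u hu => Subtype.ext (h u hu)⟩
  have hstab : ∀ x : H, x ∈ stabP ((P.subgroupOf H, restr H zc) : Pr (resField M) H) ↔
      (x : G) ∈ stabP ((P, zc) : Pr (resField M) G) := by
    intro x
    constructor
    · rintro ⟨h1, h2⟩
      refine ⟨Subgroup.mem_normalizer_iff.2 fun g => ⟨fun hg => ?_, fun hg => ?_⟩, ?_⟩
      · exact (Subgroup.mem_normalizer_iff.1 h1 ⟨g, hPH hg⟩).1 hg
      · have hgH : g ∈ H := by
          simpa [mul_assoc] using mul_mem (mul_mem (inv_mem x.2) (hPH hg)) x.2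
        exact (Subgroup.mem_normalizer_iff.1 h1 ⟨g, hgH⟩).2 hg
      · refine gaExt fun g => ?_
        rw [coeff_cj]
        by_cases hg : g ∈ H
        · have h := congrArg (fun y : MonoidAlgebra (resField M) H => y.coeff ⟨g, hg⟩) h2
          simp only [coeff_cj] at h
          exact h
        · show zc.coeff _ = zc.coeff g
          rw [hzs g hg, hzs]
          exact fun h => hg (by simpa [mul_assoc] using mul_mem (mul_mem x.2 h) (inv_mem x.2))
    · rintro ⟨h1, h2⟩
      refine ⟨Subgroup.mem_normalizer_iff.2 fun g => Subgroup.mem_normalizer_iff.1 h1 (g : G),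
        gaExt fun g => ?_⟩
      rw [coeff_cj]
      have h := congrArg (fun y : MonoidAlgebra (resField M) G => y.coeff (g : G)) h2
      simp only [coeff_cj] at h
      exact h
  rw [isNilpotentBlock_iff hM, isNilB_iff_abelian hmax (fun x hx => (hcen x).2 (hPC hx))]
  exact ⟨fun h g hg => (hcen ⟨g, hg.2⟩).1 (h.2 ((hstab ⟨g, hg.2⟩).2 hg.1)),
    fun h => ⟨hf.2.1, fun x hx => (hcen x).2 (h ⟨(hstab x).1 hx, x.2⟩)⟩⟩

end Local

end Cfsg.Agent.BrauerPairs
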