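import Cfsg.Agent.Lib.BrauerPairs.Contribution
import Cfsg.Agent.Lib.Blocks.CentralDefect
import Cfsg.Agent.Lib.Blocks.Defect

/-!
A block with central defect group has a single Brauer character.
-/

set_option linter.unusedSectionVars false
set_option linter.style.haveILetI false

namespace Cfsg.Agent.BrauerPairs

open Cfsg Cfsg.Agent.Blocks Cfsg.Agent.Char
open scoped ComplexConjugate

universe u

variable {G : Type u} [Group G] [Fintype G] {p : ℕ} {M : Ideal AlgInt} [M.IsPrime]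

/-- The regular norm of a character is bounded by the index of a central `p`-subgroup. -/
theorem card_mul_regular_normSq_le [Fact p.Prime] (Z : Subgroup G) (hZ : Z ≤ Subgroup.center G)
    (hZp : IsPGroup p Z) (θ : IrrCharacter G) :
    (Nat.card Z : ℝ) * ∑ x ∈ Finset.univ.filter (fun x : G => ¬ p ∣ orderOf x),
      Complex.normSq ((θ : G → ℂ) x) ≤ (Nat.card G : ℝ) := by
  classical
  have hp : p.Prime := Fact.out
  set s := Finset.univ.filter (fun x : G => ¬ p ∣ orderOf x) with hs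
  have htot : ∑ x : G, Complex.normSq ((θ : G → ℂ) x) = (Nat.card G : ℝ) := by
    have h := classInner_self_eq (θ : G → ℂ)
    rw [classInner_self_irr θ.2] at h
    have h' : (1 : ℝ) = (Nat.card G : ℝ)⁻¹ * ∑ g : G, ‖(θ : G → ℂ) g‖ ^ 2 := by exact_mod_cast h
    have hne : (Nat.card G : ℝ) ≠ 0 := Nat.cast_ne_zero.2 Nat.card_pos.ne'
    simp only [Complex.normSq_eq_norm_sq]
    field_simp at h'
    exact h'.symm
  have hinv : ∀ z : Z, ∀ x : G,
      Complex.normSq ((θ : G → ℂ) ((z : G) * x)) = Complex.normSq ((θ : G → ℂ) x) := fun z x => by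
    obtain ⟨c, hn, hc, -⟩ := IsIrrCharacter.exists_central_scalar θ.2 (hZ z.2)
    rw [hc, map_mul, Complex.normSq_eq_norm_sq c, hn, one_pow, one_mul]
  have hinj : Set.InjOn (fun q : Z × G => (q.1 : G) * q.2) ↑((Finset.univ : Finset Z) ×ˢ s) := by
    rintro ⟨z, x⟩ hzx ⟨z', x'⟩ hzx' h
    simp only [Finset.coe_product, Set.mem_prod, Finset.mem_coe, hs, Finset.mem_filter] at hzx hzx'
    simp only at h
    have hx := (not_dvd_orderOf_iff_pow hp).1 hzx.2.2
    have hx' := (not_dvd_orderOf_iff_pow hp).1 hzx'.2.2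
    have hc : Commute ((z'⁻¹ * z : Z) : G) x :=
      (Subgroup.mem_center_iff.1 (hZ (z'⁻¹ * z : Z).2) x).symm
    have hu : ((z'⁻¹ * z : Z) : G) * x = x' := by
      rw [Subgroup.coe_mul, Subgroup.coe_inv, mul_assoc, h, inv_mul_cancel_left]
    have hu' : ((z'⁻¹ * z : Z) : G) ^ ordPrime p G = 1 := by
      rw [← hu, hc.mul_pow, hx, mul_one] at hx'; exact hx'
    have hu1 : z'⁻¹ * z = 1 := by
      obtain ⟨i, hi⟩ := (IsPGroup.iff_orderOf).1 hZp (z'⁻¹ * z)
      rw [← orderOf_eq_one_iff, hi]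
      have hd : p ^ i ∣ ordPrime p G := by
        rw [← hi, ← Subgroup.orderOf_coe]; exact orderOf_dvd_of_pow_eq_one hu'
      rcases Nat.eq_zero_or_pos i with h0 | h0
      · rw [h0, pow_zero]
      · exact absurd ((dvd_pow_self p h0.ne').trans hd) (not_dvd_ordPrime hp)
    have hzz : z = z' := (inv_mul_eq_one.1 hu1).symm
    subst hzz
    exact Prod.ext rfl (mul_left_cancel h)
  have h1 : ∑ q ∈ (Finset.univ : Finset Z) ×ˢ s,
      Complex.normSq ((θ : G → ℂ) ((q.1 : G) * q.2)) =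
        (Nat.card Z : ℝ) * ∑ x ∈ s, Complex.normSq ((θ : G → ℂ) x) := by
    rw [Finset.sum_product]
    simp only [hinv, Finset.sum_const, Finset.card_univ, Nat.card_eq_fintype_card, nsmul_eq_mul]
  rw [← h1, ← htot, ← Finset.sum_image (f := fun x => Complex.normSq ((θ : G → ℂ) x)) hinj]
  exact Finset.sum_le_univ_sum_of_nonneg fun x => Complex.normSq_nonneg _

theorem blockRank_eq_one_of_central (hM : IsPModular p M) {B : Set (IrrCharacter G)}
    (hB : IsPBlock M B) {P : Subgroup G} (hP : IsDefectGroup p M B P)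
    (hPZ : P ≤ Subgroup.center G) : blockRank p B = 1 := by
  classical
  haveI : Fact p.Prime := ⟨hM.1⟩
  have hp := hM.1
  have hcard := card_defectGroup hM hB hP
  set a := (Nat.card G).factorization p with ha
  set d := blockDefect p B with hd
  set s := Finset.univ.filter (fun x : G => ¬ p ∣ orderOf x) with hs
  obtain ⟨θ, hθ, h0⟩ := exists_heightZero hM hB
  obtain ⟨r, hr, hsymm, -⟩ := exists_gram hM hB
  have hO : (0 : ℝ) < ordPrime p G := Nat.cast_pos.2 (Nat.pos_of_ne_zero ordPrime_ne_zero)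
  have hp0 : (0 : ℝ) < (p : ℝ) ^ (a - d) := pow_pos (Nat.cast_pos.2 hp.pos) _
  have hinner : ∀ φ : IrrCharacter G, ∀ η ∈ B, ∑ x ∈ s, (φ : G → ℂ) x * conj ((η : G → ℂ) x) =
      (((r φ η : ℝ) * ((p : ℝ) ^ (a - d) * ordPrime p G) : ℝ) : ℂ) := by
    intro φ η hη
    have h := hr φ η hη
    rw [classInner_regTr hp, show Nat.card G / p ^ (Nat.card G).factorization p = ordPrime p G
      from rfl, div_eq_iff (Nat.cast_ne_zero.2 ordPrime_ne_zero)] at h
    rw [h]; push_cast; ring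
  have hnorm : ∀ φ ∈ B, ∑ x ∈ s, Complex.normSq ((φ : G → ℂ) x) =
      (r φ φ : ℝ) * ((p : ℝ) ^ (a - d) * ordPrime p G) := by
    intro φ hφ
    rw [← Complex.ofReal_inj, ← hinner φ φ hφ, Complex.ofReal_sum]
    exact Finset.sum_congr rfl fun x _ => (Complex.mul_conj _).symm
  have hrle : ∀ φ ∈ B, r φ φ ≤ 1 := by
    intro φ hφ
    have h := card_mul_regular_normSq_le P hPZ (isPGroup_defectGroup hP) φ
    have hn : (Nat.card G : ℝ) = (Nat.card P : ℝ) * ((p : ℝ) ^ (a - d) * ordPrime p G) := by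
      have h2 : Nat.card G = p ^ d * (p ^ (a - d) * ordPrime p G) := by
        rw [← mul_assoc, ← pow_add, Nat.add_sub_cancel' (blockDefect_le B), ordPrime,
          Nat.ordProj_mul_ordCompl_eq_self]
      rw [hcard]; exact_mod_cast h2
    rw [hnorm φ hφ, hn] at h
    have h3 : (r φ φ : ℝ) * ((p : ℝ) ^ (a - d) * ordPrime p G) ≤
        1 * ((p : ℝ) ^ (a - d) * ordPrime p G) := by
      rw [one_mul]
      exact le_of_mul_le_mul_left h (Nat.cast_pos.2 Nat.card_pos)
    exact_mod_cast le_of_mul_le_mul_right h3 (mul_pos hp0 hO)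
  have hprop : ∀ φ ∈ B, ∃ k : ℂ, ∀ x ∈ s, (φ : G → ℂ) x = k * (θ : G → ℂ) x := by
    intro φ hφ
    have hk0 : r θ φ ≠ 0 := by
      intro h
      obtain ⟨n, hn, hn0, -⟩ := (blockHeight_zero_iff_mult hM hB hθ hφ).1 h0
      refine hn0 ?_
      have := hn.symm.trans (hr θ φ hφ)
      rw [h, mul_zero] at this
      exact_mod_cast this
    have hk1 : (1 : ℝ) ≤ (r θ φ : ℝ) ^ 2 := by
      have h2 : 1 ≤ r θ φ ^ 2 := by
        have : 0 < r θ φ ^ 2 := by positivity
        omega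
      exact_mod_cast h2
    refine ⟨(r θ φ : ℂ), fun x hx => ?_⟩
    set K : ℝ := (p : ℝ) ^ (a - d) * ordPrime p G with hK
    have hsum : ∑ x ∈ s, Complex.normSq ((φ : G → ℂ) x - (r θ φ : ℂ) * (θ : G → ℂ) x) =
        ((r φ φ : ℝ) + (r θ φ : ℝ) ^ 2 * r θ θ - 2 * (r θ φ : ℝ) ^ 2) * K := by
      rw [← Complex.ofReal_inj, Complex.ofReal_sum]
      have e : ∀ y : G, ((Complex.normSq ((φ : G → ℂ) y - (r θ φ : ℂ) * (θ : G → ℂ) y) : ℝ) : ℂ) =
          (φ : G → ℂ) y * conj ((φ : G → ℂ) y) +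
            (r θ φ : ℂ) ^ 2 * ((θ : G → ℂ) y * conj ((θ : G → ℂ) y)) -
            (r θ φ : ℂ) * ((φ : G → ℂ) y * conj ((θ : G → ℂ) y)) -
            (r θ φ : ℂ) * ((θ : G → ℂ) y * conj ((φ : G → ℂ) y)) := fun y => by
        rw [← Complex.mul_conj, map_sub, map_mul, map_intCast]; ring
      simp only [e, Finset.sum_sub_distrib, Finset.sum_add_distrib, ← Finset.mul_sum,
        hinner φ φ hφ, hinner θ θ hθ, hinner φ θ hθ, hinner θ φ hφ, hsymm φ hφ θ hθ, hK]
      push_cast; ring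
    have hzero : ∑ x ∈ s, Complex.normSq ((φ : G → ℂ) x - (r θ φ : ℂ) * (θ : G → ℂ) x) = 0 := by
      refine le_antisymm ?_ (Finset.sum_nonneg fun y _ => Complex.normSq_nonneg _)
      rw [hsum]
      refine mul_nonpos_of_nonpos_of_nonneg ?_ (mul_pos hp0 hO).le
      have h1 : (r φ φ : ℝ) ≤ 1 := by exact_mod_cast hrle φ hφ
      have h2 : (r θ θ : ℝ) ≤ 1 := by exact_mod_cast hrle θ hθ
      nlinarith [mul_le_mul_of_nonneg_left h2 (sq_nonneg (r θ φ : ℝ))]
    exact sub_eq_zero.1 (Complex.normSq_eq_zero.1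
      ((Finset.sum_eq_zero_iff_of_nonneg fun y _ => Complex.normSq_nonneg _).1 hzero x hx))
  have hspan : Submodule.span ℂ ((fun χ : IrrCharacter G => pRegularPart p (χ : G → ℂ)) '' B) =
      ℂ ∙ pRegularPart p (θ : G → ℂ) := by
    refine le_antisymm (Submodule.span_le.2 ?_) (Submodule.span_mono ?_)
    · rintro _ ⟨φ, hφ, rfl⟩
      obtain ⟨k, hk⟩ := hprop φ hφ
      refine Submodule.mem_span_singleton.2 ⟨k, funext fun x => ?_⟩
      simp only [Pi.smul_apply, smul_eq_mul, pRegularPart]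
      split_ifs with hx
      · exact (hk x (Finset.mem_filter.2 ⟨Finset.mem_univ _, hx⟩)).symm
      · exact mul_zero _
    · exact Set.singleton_subset_iff.2 ⟨θ, hθ, rfl⟩
  rw [blockRank, hspan]
  refine finrank_span_singleton fun h => irr_one_ne_zero θ ?_
  have := congrFun h 1
  simpa [pRegularPart, IsPRegular, hp.ne_one] using this

end Cfsg.Agent.BrauerPairs
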