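/-
A nilpotent block with abelian defect group has a single Brauer character.
-/
import Cfsg.Agent.Lib.BrauerPairs.AbelianInertia
import Cfsg.Agent.Lib.BrauerPairs.CentralRankOne
import Cfsg.Agent.Lib.Blocks.SubsectionBound

set_option linter.unusedSectionVars false
set_option linter.style.haveILetI false

namespace Cfsg.Agent.BrauerPairs

open Cfsg MonoidAlgebra Cfsg.Agent.Blocks Cfsg.Agent.Char

universe u

variable {G : Type u} [Group G] [Fintype G] {p : ℕ} [Fact p.Prime] {M : Ideal AlgInt} [M.IsPrime]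

theorem one_le_blockRank (hM : IsPModular p M) {B : Set (IrrCharacter G)} (hB : IsPBlock M B) :
    1 ≤ blockRank p B := by
  classical
  obtain ⟨θ, hθ, -⟩ := exists_heightZero hM hB
  rw [blockRank]
  refine Submodule.one_le_finrank_iff.2 fun h => ?_
  have h1 : pRegularPart p (θ : G → ℂ) = 0 :=
    (Submodule.eq_bot_iff _).1 h _ (Submodule.subset_span ⟨θ, hθ, rfl⟩)
  refine irr_one_ne_zero θ ?_
  have := congrFun h1 1
  simpa [pRegularPart, IsPRegular, hM.1.ne_one] using this

/-- The subsections over the identity carry the rank of the block. -/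
theorem sum_blockRank_one (hM : IsPModular p M) {B : Set (IrrCharacter G)} (hB : IsPBlock M B) :
    ∑ᶠ b ∈ {b : Set (IrrCharacter ↥(Subgroup.centralizer ({(1 : G)} : Set G))) |
      IsInducedBlock M (Subgroup.centralizer ({(1 : G)} : Set G)) b B}, blockRank p b =
      blockRank p B := by
  classical
  have hx : ∃ k, orderOf (1 : G) = p ^ k := ⟨0, by simp⟩
  let C := Subgroup.centralizer ({(1 : G)} : Set G)
  haveI : Fintype C := fintypeSubgroupBP C
  have hC : C = ⊤ := top_le_iff.1 fun g _ => Subgroup.mem_centralizer_singleton_iff.2 (by simp)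
  have hcard : Nat.card C = Nat.card G := by rw [hC]; exact Subgroup.card_top
  rw [finsum_mem_eq_finite_toFinset_sum _ (Set.toFinite _), ← Nat.cast_inj (R := ℂ), Nat.cast_sum]
  rw [Finset.sum_congr (s₂ := unitBlocks M (restrictElt C (blockEltR M B))) (by
    ext b
    rw [Set.Finite.mem_toFinset]
    exact (mem_unitBlocks_iff_induced' hM hx rfl hB).symm) fun b hb =>
      blockRank_eq hM (mem_unitBlocks.1 hb).1, ← Finset.mul_sum, Finset.sum_comm,
    blockRank_eq hM hB, hcard]
  congr 1
  rw [Finset.sum_congr rfl fun u hu => (blockPair_local hM hB (1 : G) hx C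
    (by rw [centralizer_zpowers_eq]) u u (Finset.mem_filter.1 hu).2 (Finset.mem_filter.1 hu).2).symm]
  refine Finset.sum_bij (fun u _ => (u : G)) ?_ ?_ ?_ ?_
  · intro u hu
    rw [Finset.mem_filter, ← Subgroup.orderOf_coe] at hu
    exact Finset.mem_filter.2 ⟨Finset.mem_univ _, hu.2⟩
  · exact fun u _ v _ h => Subtype.ext h
  · intro g hg
    refine ⟨⟨g, hC.ge (Subgroup.mem_top g)⟩, ?_, rfl⟩
    rw [Finset.mem_filter, ← Subgroup.orderOf_coe]
    exact ⟨Finset.mem_univ _, (Finset.mem_filter.1 hg).2⟩
  · intro u _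
    rw [one_mul]

/-- An abelian nilpotent block has at least one subsection for each element of a defect group. -/
theorem rank_add_card_le (hM : IsPModular p M) {B : Set (IrrCharacter G)} (hB : IsPBlock M B)
    {a : Pr (resField M) G} (h : IsMax p (Ek M B) a) (hn : IsNilB p ⊤ (Ek M B))
    (hab : a.1 ≤ Subgroup.centralizer (a.1 : Set G)) :
    blockRank p B + Nat.card a.1 ≤ Nat.card B + 1 := by
  classical
  haveI : CharP (resField M) p := resField_charP hM
  let X : Finset G := Finset.univ.filter fun g =>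
    (∃ k : ℕ, orderOf g = p ^ k) ∧ (ConjClasses.mk g).out = g
  have hout : ∀ g : G, IsConj g (ConjClasses.mk g).out := fun g =>
    ConjClasses.mk_eq_mk_iff_isConj.1 (Quotient.out_eq _).symm
  have hX : ∀ x ∈ X, ∃ k : ℕ, orderOf x = p ^ k := fun x hx => (Finset.mem_filter.1 hx).2.1
  have hmem : ∀ g : G, (∃ k : ℕ, orderOf g = p ^ k) → (ConjClasses.mk g).out ∈ X := by
    intro g hg
    refine Finset.mem_filter.2 ⟨Finset.mem_univ _, ?_, by
      rw [ConjClasses.mk_eq_mk_iff_isConj.2 (hout g).symm]⟩
    obtain ⟨c, hc⟩ := isConj_iff.1 (hout g)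
    rw [← hc]
    simpa [← MulAut.conj_apply, MulEquiv.orderOf_eq] using hg
  have hrep : ∀ g : G, (∃ k : ℕ, orderOf g = p ^ k) → ∃! x, x ∈ X ∧ IsConj g x := fun g hg =>
    ⟨(ConjClasses.mk g).out, ⟨hmem g hg, hout g⟩, fun y hy => by
      rw [ConjClasses.mk_eq_mk_iff_isConj.2 hy.2, (Finset.mem_filter.1 hy.1).2.2]⟩
  have h1X : (1 : G) ∈ X := by
    have := hmem 1 ⟨0, by simp⟩
    rwa [isConj_one_right.1 (hout (1 : G))] at this
  have hsum := card_eq_sum_blockRank hM hB X hX hrep
  rw [← Finset.add_sum_erase _ _ h1X, sum_blockRank_one hM hB] at hsum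
  let S : Finset ((x : G) × Set (IrrCharacter ↥(Subgroup.centralizer ({x} : Set G)))) :=
    (X.erase 1).sigma fun x =>
      ({b : Set (IrrCharacter ↥(Subgroup.centralizer ({x} : Set G))) |
        IsInducedBlock M (Subgroup.centralizer ({x} : Set G)) b B} : Set _).toFinite.toFinset
  have hS : S.card ≤ ∑ x ∈ X.erase 1,
      ∑ᶠ b ∈ {b : Set (IrrCharacter ↥(Subgroup.centralizer ({x} : Set G))) |
        IsInducedBlock M (Subgroup.centralizer ({x} : Set G)) b B}, blockRank p b := by
    rw [Finset.card_sigma]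
    refine Finset.sum_le_sum fun x hx => ?_
    rw [finsum_mem_eq_finite_toFinset_sum _ (Set.toFinite _), Finset.card_eq_sum_ones]
    refine Finset.sum_le_sum fun b hb => ?_
    exact one_le_blockRank hM ((Set.Finite.mem_toFinset _).1 hb).1
  let T : Finset G := Finset.univ.filter fun v => v ∈ a.1 ∧ v ≠ 1
  have hT : T.card + 1 = Nat.card a.1 := by
    have e : T = (Finset.univ.filter fun v => v ∈ a.1).erase 1 := by
      ext v; simp [T, and_comm]
    rw [e, Finset.card_erase_add_one (Finset.mem_filter.2 ⟨Finset.mem_univ _, one_mem _⟩),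
      Nat.card_eq_fintype_card, Fintype.card_subtype]
  have hdata : ∀ v ∈ T, ∃ s ∈ S, ∃ (g : G) (f : MonoidAlgebra (resField M) G),
      SubLE p ⊤ (Subgroup.zpowers v, f) a ∧ g * v * g⁻¹ = s.1 ∧
      cj g f = zB M (Subgroup.centralizer ({s.1} : Set G)) s.2 := by
    intro v hv
    obtain ⟨-, hva, hv1⟩ := Finset.mem_filter.1 hv
    obtain ⟨f, hf, -⟩ := existsUnique_below h.pair (Subgroup.zpowers_le.2 hva)
    obtain ⟨k, hk⟩ := IsPGroup.iff_orderOf.1 h.pair.pgroup ⟨v, hva⟩
    rw [← Subgroup.orderOf_coe] at hk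
    obtain ⟨g, hg⟩ := isConj_iff.1 (hout v)
    have hp : IsPairOf p ⊤ (Ek M B) (Subgroup.zpowers (g * v * g⁻¹), cj g f) := by
      have := (hf.pairOf_iff.2 h.pairOf).cj' (Subgroup.mem_top g)
      rwa [show cjP g (Subgroup.zpowers v, f) = (Subgroup.zpowers (g * v * g⁻¹), cj g f) from
        Prod.ext (MonoidHom.map_zpowers _ _) rfl] at this
    have hblk := hp.pair.blkC
    have hCz : Subgroup.centralizer ((Subgroup.zpowers (g * v * g⁻¹) : Subgroup G) : Set G) =
        Subgroup.centralizer ({g * v * g⁻¹} : Set G) := centralizer_zpowers_eq _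
    rw [show ((Subgroup.zpowers (g * v * g⁻¹), cj g f) : Pr (resField M) G).2 = cj g f from rfl,
      show ((Subgroup.zpowers (g * v * g⁻¹), cj g f) : Pr (resField M) G).1 =
        Subgroup.zpowers (g * v * g⁻¹) from rfl, hCz] at hblk
    obtain ⟨b, hb, hbe⟩ := exists_eq_zB hblk
    have hpC : IsPairOf p (Subgroup.centralizer ({g * v * g⁻¹} : Set G))
        (zB M (Subgroup.centralizer ({g * v * g⁻¹} : Set G)) b)
        (Subgroup.zpowers (g * v * g⁻¹), cj g f) := by
      have hsb := pairOf_self (M := M) hb hp.pair.pgroup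
        (Subgroup.zpowers_le.2 (Subgroup.mem_centralizer_singleton_iff.2 rfl)) hCz.symm
      rw [hbe] at hsb ⊢
      exact hsb
    have hind : IsInducedBlock M (Subgroup.centralizer ({g * v * g⁻¹} : Set G)) b B :=
      induced_of_pairOf hM hb hB hpC hCz.le hp
    refine ⟨⟨g * v * g⁻¹, b⟩, Finset.mem_sigma.2 ⟨Finset.mem_erase.2 ⟨?_, ?_⟩,
      (Set.Finite.mem_toFinset _).2 hind⟩, g, f, hf, rfl, hbe.symm⟩
    · simpa using hv1
    · show g * v * g⁻¹ ∈ X
      rw [hg]; exact hmem v ⟨k, hk⟩
  choose s hs g f hf hgs hgf using hdata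
  have hTS : T.card ≤ S.card := by
    refine Finset.card_le_card_of_injOn (fun v => if hv : v ∈ T then s v hv else ⟨1, ∅⟩) ?_ ?_
    · intro v hv
      simp only [Finset.mem_coe] at hv ⊢
      rw [dif_pos hv]
      exact hs v hv
    · intro v hv w hw hvw
      simp only [Finset.mem_coe] at hv hw
      simp only [dif_pos hv, dif_pos hw] at hvw
      have e1 : g v hv * v * (g v hv)⁻¹ = g w hw * w * (g w hw)⁻¹ := by rw [hgs, hgs, hvw]
      have e2 : cj (g v hv) (f v hv) = cj (g w hw) (f w hw) := by
        rw [hgf, hgf]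
        exact congrArg (fun q : (x : G) × Set (IrrCharacter ↥(Subgroup.centralizer ({x} : Set G))) =>
          zB M (Subgroup.centralizer ({q.1} : Set G)) q.2) hvw
      let x := (g w hw)⁻¹ * g v hv
      have hx1 : x * v * x⁻¹ = w := by
        calc x * v * x⁻¹ = (g w hw)⁻¹ * (g v hv * v * (g v hv)⁻¹) * g w hw := by
              simp only [x]; group
          _ = w := by rw [e1]; group
      have hm : conjHom (Subgroup.zpowers v) x ∈ (blockFusion h).Hom (Subgroup.zpowers v) := by
        refine ⟨x, fun u => rfl, f v hv, hf v hv, ?_⟩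
        have : cjP x (Subgroup.zpowers v, f v hv) = (Subgroup.zpowers w, f w hw) := by
          refine Prod.ext ?_ ?_
          · show cjS x (Subgroup.zpowers v) = Subgroup.zpowers w
            rw [cjS, MonoidHom.map_zpowers]
            exact congrArg Subgroup.zpowers hx1
          · show cj x (f v hv) = f w hw
            rw [← cj_cj, e2, cj_inv_cj]
        rw [this]
        exact hf w hw
      rw [fusion_inner_of_isNilB h hn] at hm
      obtain ⟨-, y, hy, hye⟩ := hm
      have h3 := hye ⟨v, Subgroup.mem_zpowers v⟩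
      rw [conjHom_apply'] at h3
      rw [← hx1, h3, ← Subgroup.mem_centralizer_iff.1 (hab hy) v (Finset.mem_filter.1 hv).2.1,
        mul_inv_cancel_right]
  omega

/-- A nilpotent block with abelian defect group has rank one. -/
theorem blockRank_eq_one_of_nilpotent_abelian (hM : IsPModular p M) {B : Set (IrrCharacter G)}
    {P : Subgroup G} (hn : IsNilpotentBlock p M B) (hPD : IsDefectGroup p M B P)
    (hPC : P ≤ Subgroup.centralizer (P : Set G)) : blockRank p B = 1 := by
  induction hN : Nat.card G using Nat.strong_induction_on generalizing G with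
  | _ N ih =>
    classical
    haveI : CharP (resField M) p := resField_charP hM
    obtain ⟨hB, hnB⟩ := (isNilpotentBlock_iff hM).1 hn
    by_cases hPZ : P ≤ Subgroup.center G
    · exact blockRank_eq_one_of_central hM hB hPD hPZ
    obtain ⟨v, hvP, hvZ⟩ := SetLike.not_le_iff_exists.1 hPZ
    have hD := (isDefectGroup_iff hB P).1 hPD
    obtain ⟨e, he⟩ := exists_pairOf_defGrp (isBlk_Ek hB) hD
    obtain ⟨c, hcb, hce⟩ := exists_eq_zB he.pair.blkC
    replace hce : zB M (Subgroup.centralizer (P : Set G)) c = e := hce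
    rw [← hce] at he
    let C := Subgroup.centralizer (P : Set G)
    let H := Subgroup.centralizer ({v} : Set G)
    have hp := pairOf_self (M := M) hcb hD.pgroup hPC rfl
    have hc : IsInducedBlock M C c B := induced_of_pairOf hM hcb hB hp le_rfl he
    have hmax : IsMax p (Ek M B) (P, zB M C c) := ⟨he, hD⟩
    have hstab := (isNilB_iff_abelian hmax hPC).1 hnB
    have hCH : C ≤ H := Subgroup.centralizer_le (Set.singleton_subset_iff.2 hvP)
    obtain ⟨f, hf⟩ := exists_local_block hM hPD hPC hc hCH
    have hfn : IsNilpotentBlock p M f :=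
      (local_nilpotent_iff hM hPD hPC hc hCH hf).2 (inf_le_left.trans hstab)
    have hpf : IsPairOf p H (zB M H f) (P, zB M C c) :=
      pairOf_of_inducedIn hM hCH hf hp inf_le_right
    have hPH : P ≤ H := hPC.trans hCH
    have hnoT := he.noExt hD
    have hnoH : NoExt p H (P, zB M C c) := fun b hb => by
      have hCb : Subgroup.centralizer (b.1 : Set G) ≤ H :=
        (Subgroup.centralizer_le hb.le).trans hCH
      exact hnoT b ⟨he.pair, ((isPair_sub_iff hCb).1 hb.right).1, hb.le, hb.normal, hb.inv, hb.occ⟩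
    have hdf : IsDefectGroup p M f (P.subgroupOf H) :=
      (isDefectGroup_subgroupOf_iff hf.2.1 hPH).2 (hnoH.isDefGrp hpf)
    have hlt : Nat.card H < N := by
      rw [← hN]
      refine lt_of_le_of_ne (Subgroup.card_le_card_group H) fun heq => hvZ ?_
      have htop := Subgroup.eq_top_of_card_eq H heq
      refine Subgroup.mem_center_iff.2 fun g => ?_
      exact Subgroup.mem_centralizer_singleton_iff.1 (show g ∈ H from htop ▸ Subgroup.mem_top g)
    have hlf : blockRank p f = 1 := ih (Nat.card H) hlt (G := H) hfn hdf (fun x hx => by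
      rw [Subgroup.mem_centralizer_iff]
      exact fun y hy => Subtype.ext (Subgroup.mem_centralizer_iff.1
        (hPC (Subgroup.mem_subgroupOf.1 hx)) y hy)) rfl
    have hindf : IsInducedBlock M H f B := induced_of_pairOf hM hf.2.1 hB hpf hCH he
    have hdd := blockDefect_eq_of_subgroupOf hM hindf hPD hPH hdf
    obtain ⟨k, hk⟩ := IsPGroup.iff_orderOf.1 hD.pgroup ⟨v, hvP⟩
    rw [← Subgroup.orderOf_coe] at hk
    obtain ⟨D⟩ := nonempty_subData (x := v) hM ⟨k, hk⟩ rfl hindf
    have hup := D.card_le_of_rank_le_two hdd (by omega)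
    have hlow := rank_add_card_le hM hB hmax hnB hPC
    rw [card_defectGroup hM hB hPD] at hlow
    have := one_le_blockRank hM hB
    omega

/-- A nilpotent block with abelian defect group has as many characters as the defect group has
elements. -/
theorem card_eq_of_nilpotent_abelian (hM : IsPModular p M) {B : Set (IrrCharacter G)}
    {P : Subgroup G} (hn : IsNilpotentBlock p M B) (hPD : IsDefectGroup p M B P)
    (hPC : P ≤ Subgroup.centralizer (P : Set G)) : Nat.card B = Nat.card P := by
  classical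
  haveI : CharP (resField M) p := resField_charP hM
  obtain ⟨hB, hnB⟩ := (isNilpotentBlock_iff hM).1 hn
  have hvP : (1 : G) ∈ P := one_mem P
  have hD := (isDefectGroup_iff hB P).1 hPD
  obtain ⟨e, he⟩ := exists_pairOf_defGrp (isBlk_Ek hB) hD
  obtain ⟨c, hcb, hce⟩ := exists_eq_zB he.pair.blkC
  replace hce : zB M (Subgroup.centralizer (P : Set G)) c = e := hce
  rw [← hce] at he
  let C := Subgroup.centralizer (P : Set G)
  let H := Subgroup.centralizer ({(1 : G)} : Set G)
  have hp := pairOf_self (M := M) hcb hD.pgroup hPC rfl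
  have hc : IsInducedBlock M C c B := induced_of_pairOf hM hcb hB hp le_rfl he
  have hmax : IsMax p (Ek M B) (P, zB M C c) := ⟨he, hD⟩
  have hstab := (isNilB_iff_abelian hmax hPC).1 hnB
  have hCH : C ≤ H := Subgroup.centralizer_le (Set.singleton_subset_iff.2 hvP)
  obtain ⟨f, hf⟩ := exists_local_block hM hPD hPC hc hCH
  have hfn : IsNilpotentBlock p M f :=
    (local_nilpotent_iff hM hPD hPC hc hCH hf).2 (inf_le_left.trans hstab)
  have hpf : IsPairOf p H (zB M H f) (P, zB M C c) :=
    pairOf_of_inducedIn hM hCH hf hp inf_le_right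
  have hPH : P ≤ H := hPC.trans hCH
  have hnoT := he.noExt hD
  have hnoH : NoExt p H (P, zB M C c) := fun b hb => by
    have hCb : Subgroup.centralizer (b.1 : Set G) ≤ H :=
      (Subgroup.centralizer_le hb.le).trans hCH
    exact hnoT b ⟨he.pair, ((isPair_sub_iff hCb).1 hb.right).1, hb.le, hb.normal, hb.inv, hb.occ⟩
  have hdf : IsDefectGroup p M f (P.subgroupOf H) :=
    (isDefectGroup_subgroupOf_iff hf.2.1 hPH).2 (hnoH.isDefGrp hpf)
  have hlf : blockRank p f = 1 := blockRank_eq_one_of_nilpotent_abelian hM hfn hdf fun x hx => by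
    rw [Subgroup.mem_centralizer_iff]
    exact fun y hy => Subtype.ext (Subgroup.mem_centralizer_iff.1
      (hPC (Subgroup.mem_subgroupOf.1 hx)) y hy)
  have hindf : IsInducedBlock M H f B := induced_of_pairOf hM hf.2.1 hB hpf hCH he
  have hdd := blockDefect_eq_of_subgroupOf hM hindf hPD hPH hdf
  obtain ⟨D⟩ := nonempty_subData (x := (1 : G)) hM ⟨0, by simp⟩ rfl hindf
  have hup := D.card_le_of_rank_le_two hdd (by omega)
  have hlow := rank_add_card_le hM hB hmax hnB hPC
  rw [card_defectGroup hM hB hPD] at hlow ⊢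
  have := one_le_blockRank hM hB
  omega

end Cfsg.Agent.BrauerPairs
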