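/-
Blocks of rank one with abelian defect group and free inertia have trivial inertia.
-/
import Cfsg.Agent.Lib.BrauerPairs.NilpotentRankOne

set_option linter.unusedSectionVars false
set_option linter.style.haveILetI false

namespace Cfsg.Agent.BrauerPairs

open Cfsg MonoidAlgebra Cfsg.Agent.Blocks

universe u

variable {G : Type u} [Group G] [Fintype G] {p : ℕ} [Fact p.Prime] {M : Ideal AlgInt} [M.IsPrime]
  {B : Set (IrrCharacter G)} {P : Subgroup G}
  {c : Set (IrrCharacter (Subgroup.centralizer (P : Set G)))}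

/-- The stabiliser of a pair acts on the group of the pair with no fixed points outside the
centraliser. -/
def FreeInertia (P : Subgroup G) (z : MonoidAlgebra (resField M) G) : Prop :=
  ∀ g ∈ stabP (P, z), ∀ x ∈ P, x ≠ 1 → g * x * g⁻¹ = x → g ∈ Subgroup.centralizer (P : Set G)

theorem FreeInertia.cj {P : Subgroup G} {z : MonoidAlgebra (resField M) G}
    (h : FreeInertia P z) (u : G) : FreeInertia (cjS u P) (Cfsg.Agent.BrauerPairs.cj u z) := by
  intro g hg x hx hx1 hfix
  have hg' : u⁻¹ * g * u ∈ stabP (P, z) := by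
    have h1 : g ∈ cjS u (stabP (P, z)) := by rw [cjS_stabP]; exact hg
    obtain ⟨t, ht, rfl⟩ := h1
    simpa [mul_assoc] using ht
  obtain ⟨y, hy, rfl⟩ := hx
  have hC := h _ hg' y hy (fun e => hx1 (by simp [e])) (by
    have e : g * (u * y * u⁻¹) * g⁻¹ = u * y * u⁻¹ := hfix
    calc u⁻¹ * g * u * y * (u⁻¹ * g * u)⁻¹ = u⁻¹ * (g * (u * y * u⁻¹) * g⁻¹) * u := by group
      _ = y := by rw [e]; group)
  rw [← cjS_centralizer]
  exact ⟨_, hC, by simp [mul_assoc]⟩

/-- Local blocks at nonidentity elements of a abelian defect group with free inertia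
have rank one. -/
theorem free_local_rank_one (hM : IsPModular p M) (hPD : IsDefectGroup p M B P)
    (hPC : P ≤ Subgroup.centralizer (P : Set G))
    (hc : IsInducedBlock M (Subgroup.centralizer (P : Set G)) c B)
    (hfree : FreeInertia P (zB M (Subgroup.centralizer (P : Set G)) c)) {x : G}
    (hx : x ∈ P) (hx1 : x ≠ 1) {f : Set (IrrCharacter (Subgroup.centralizer ({x} : Set G)))}
    (hf : IsInducedBlockIn M (Subgroup.centralizer ({x} : Set G))
      (Subgroup.centralizer (P : Set G)) c f) : blockRank p f = 1 := by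
  classical
  haveI : CharP (resField M) p := resField_charP hM
  let C := Subgroup.centralizer (P : Set G)
  let H := Subgroup.centralizer ({x} : Set G)
  have hCH : C ≤ H := Subgroup.centralizer_le (Set.singleton_subset_iff.2 hx)
  have hPH : P ≤ H := hPC.trans hCH
  obtain ⟨hpB, -⟩ := abelian_pair hM hPD hPC hc
  have hD := (isDefectGroup_iff hc.2.1 P).1 hPD
  have hp := pairOf_self (M := M) hc.1 hD.pgroup hPC rfl
  have hnil : IsNilpotentBlock p M f := (local_nilpotent_iff hM hPD hPC hc hCH hf).2 fun g hg =>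
    hfree g hg.1 x hx hx1 (by
      rw [Subgroup.mem_centralizer_singleton_iff.1 hg.2, mul_inv_cancel_right])
  have hpf : IsPairOf p H (zB M H f) (P, zB M C c) :=
    pairOf_of_inducedIn hM hCH hf hp inf_le_right
  have hnoT := hpB.noExt hD
  have hnoH : NoExt p H (P, zB M C c) := fun b hb => by
    have hCb : Subgroup.centralizer (b.1 : Set G) ≤ H := (Subgroup.centralizer_le hb.le).trans hCH
    exact hnoT b ⟨hpB.pair, ((isPair_sub_iff hCb).1 hb.right).1, hb.le, hb.normal, hb.inv, hb.occ⟩
  have hdf : IsDefectGroup p M f (P.subgroupOf H) :=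
    (isDefectGroup_subgroupOf_iff hf.2.1 hPH).2 (hnoH.isDefGrp hpf)
  refine blockRank_eq_one_of_nilpotent_abelian hM hnil hdf fun y hy => ?_
  rw [Subgroup.mem_centralizer_iff]
  exact fun z hz => Subtype.ext (Subgroup.mem_centralizer_iff.1
    (hPC (Subgroup.mem_subgroupOf.1 hy)) z hz)

/-- The characters of a block with abelian defect group and free inertia are counted by the rank
and by elements of the defect group, no two of them conjugate under the stabiliser. -/
theorem exists_orbit_reps (hM : IsPModular p M) (hPD : IsDefectGroup p M B P)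
    (hPC : P ≤ Subgroup.centralizer (P : Set G))
    (hc : IsInducedBlock M (Subgroup.centralizer (P : Set G)) c B)
    (hfree : FreeInertia P (zB M (Subgroup.centralizer (P : Set G)) c)) :
    ∃ (n : ℕ) (v : Fin n → G), Nat.card B = blockRank p B + n ∧
      (∀ i, v i ∈ P ∧ v i ≠ 1) ∧
      ∀ i j, ∀ t ∈ stabP (P, zB M (Subgroup.centralizer (P : Set G)) c),
        t * v i * t⁻¹ = v j → i = j := by
  classical
  haveI : CharP (resField M) p := resField_charP hM
  set zc := zB M (Subgroup.centralizer (P : Set G)) c with hzc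
  have hB := hc.2.1
  obtain ⟨hpB, -⟩ := abelian_pair hM hPD hPC hc
  have hD := (isDefectGroup_iff hB P).1 hPD
  have hmax : IsMax p (Ek M B) (P, zc) := ⟨hpB, hD⟩
  let X : Finset G := Finset.univ.filter fun g =>
    (∃ k : ℕ, orderOf g = p ^ k) ∧ (ConjClasses.mk g).out = g
  have hout : ∀ g : G, IsConj g (ConjClasses.mk g).out := fun g =>
    ConjClasses.mk_eq_mk_iff_isConj.1 (Quotient.out_eq _).symm
  have hX : ∀ x ∈ X, ∃ k : ℕ, orderOf x = p ^ k := fun x hx => (Finset.mem_filter.1 hx).2.1
  have hmem : ∀ g : G, (∃ k : ℕ, orderOf g = p ^ k) → (ConjClasses.mk g).out ∈ X := by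
    intro g hg
    refine Finset.mem_filter.2 ⟨Finset.mem_univ _, ?_, by
      rw [ConjClasses.mk_eq_mk_iff_isConj.2 (hout g).symm]⟩
    obtain ⟨c, hc⟩ := isConj_iff.1 (hout g)
    rw [← hc]
    simpa [← MulAut.conj_apply, MulEquiv.orderOf_eq] using hg
  have huniq : ∀ {x y}, x ∈ X → y ∈ X → IsConj x y → x = y := fun {x y} hx hy h => by
    rw [← (Finset.mem_filter.1 hx).2.2, ← (Finset.mem_filter.1 hy).2.2,
      ConjClasses.mk_eq_mk_iff_isConj.2 h]
  have hrep : ∀ g : G, (∃ k : ℕ, orderOf g = p ^ k) → ∃! x, x ∈ X ∧ IsConj g x := fun g hg =>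
    ⟨(ConjClasses.mk g).out, ⟨hmem g hg, hout g⟩, fun y hy =>
      huniq hy.1 (hmem g hg) (hy.2.symm.trans (hout g))⟩
  have h1X : (1 : G) ∈ X := by
    have := hmem 1 ⟨0, by simp⟩
    rwa [isConj_one_right.1 (hout (1 : G))] at this
  have hsum := card_eq_sum_blockRank hM hB X hX hrep
  rw [← Finset.add_sum_erase _ _ h1X, sum_blockRank_one hM hB] at hsum
  let S : Finset ((x : G) × Set (IrrCharacter ↥(Subgroup.centralizer ({x} : Set G)))) :=
    (X.erase 1).sigma fun x =>
      ({b : Set (IrrCharacter ↥(Subgroup.centralizer ({x} : Set G))) |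
        IsInducedBlock M (Subgroup.centralizer ({x} : Set G)) b B} : Set _).toFinite.toFinset
  have hdata : ∀ s ∈ S, ∃ g : G, SubLE p ⊤
      (cjP g (Subgroup.zpowers s.1, zB M (Subgroup.centralizer ({s.1} : Set G)) s.2)) (P, zc) ∧
      blockRank p s.2 = 1 := by
    rintro ⟨x, b⟩ hs
    obtain ⟨hx, hb⟩ := Finset.mem_sigma.1 hs
    rw [Set.Finite.mem_toFinset] at hb
    obtain ⟨hx1, hxX⟩ := Finset.mem_erase.1 hx
    obtain ⟨j, hj⟩ := hX x hxX
    let H := Subgroup.centralizer ({x} : Set G)
    have hH : H = Subgroup.centralizer ((Subgroup.zpowers x : Subgroup G) : Set G) :=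
      (centralizer_zpowers_eq x).symm
    have hbp := pairOf_self (M := M) hb.1 (IsPGroup.of_card (n := j) (by rw [Nat.card_zpowers, hj]))
      (Subgroup.zpowers_le.2 (Subgroup.mem_centralizer_singleton_iff.2 rfl)) hH
    have hbB := pairOf_of_induced hM hb hbp hH.ge
    obtain ⟨g, -, hg⟩ := exists_conj_subLE hpB hbB hD
    refine ⟨g, hg, ?_⟩
    -- the conjugate maximal pair above the subsection
    have ha' := hpB.cj' (Subgroup.mem_top g⁻¹)
    have hsub : SubLE p ⊤ (Subgroup.zpowers x, zB M H b) (cjP g⁻¹ (P, zc)) := by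
      have := hg.cjT g⁻¹
      rwa [cjP_cjP, inv_mul_cancel, cjP_one] at this
    set P' := cjS g⁻¹ P
    have hD' : IsDefGrp p ⊤ (Ek M B) P' := hD.cj' ha'.blk (Subgroup.mem_top g⁻¹)
    have hPD' : IsDefectGroup p M B P' := (isDefectGroup_iff hB P').2 hD'
    have hblk := ha'.pair.blkC
    change IsBlk (Subgroup.centralizer (P' : Set G)) (cj g⁻¹ zc) at hblk
    obtain ⟨c', hc'b, hc'e⟩ := exists_eq_zB hblk
    have hPC' : P' ≤ Subgroup.centralizer (P' : Set G) := by
      rw [← cjS_centralizer]; exact cjS_mono g⁻¹ hPC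
    have hp' := pairOf_self (M := M) hc'b hD'.pgroup hPC' rfl
    have heq : (P', zB M (Subgroup.centralizer (P' : Set G)) c') = cjP g⁻¹ (P, zc) := by
      rw [hc'e]
    rw [← heq] at ha' hsub
    have hc' : IsInducedBlock M (Subgroup.centralizer (P' : Set G)) c' B :=
      induced_of_pairOf hM hc'b hB hp' le_rfl ha'
    have hxP' : x ∈ P' := hsub.le (Subgroup.mem_zpowers x)
    have hCH : Subgroup.centralizer (P' : Set G) ≤ H :=
      Subgroup.centralizer_le (Set.singleton_subset_iff.2 hxP')
    have hPH : P' ≤ H := hPC'.trans hCH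
    have hz : IsPairOf p H (zB M H b) (P', zB M (Subgroup.centralizer (P' : Set G)) c') :=
      ⟨(isPair_sub_iff hCH).2 ⟨ha'.pair, hPH⟩, isBlk_zB H hb.1,
        (hsub.nsub ha'.pair (hPH.trans (hH.le.trans (Subgroup.centralizer_le_normalizer _)))).occ⟩
    have hfree' : FreeInertia P' (zB M (Subgroup.centralizer (P' : Set G)) c') := by
      rw [hc'e]; exact hfree.cj g⁻¹
    exact free_local_rank_one hM hPD' hPC' hc' hfree' hxP' hx1
      (inducedIn_of_pairOf hM hCH hc'b hb.1 hp' inf_le_right hz)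
  choose g hg hrank using hdata
  have hk : Nat.card B = blockRank p B + S.card := by
    rw [hsum, Finset.card_sigma]
    congr 1
    refine Finset.sum_congr rfl fun x hx => ?_
    rw [finsum_mem_eq_finite_toFinset_sum _ (Set.toFinite _), Finset.card_eq_sum_ones]
    exact Finset.sum_congr rfl fun b hb => hrank ⟨x, b⟩ (Finset.mem_sigma.2 ⟨hx, hb⟩)
  let e := S.equivFin
  refine ⟨S.card, fun i => g (e.symm i).1 (e.symm i).2 * (e.symm i).1.1 *
    (g (e.symm i).1 (e.symm i).2)⁻¹, hk, fun i => ?_, fun i j t ht he => ?_⟩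
  · refine ⟨(hg _ (e.symm i).2).le (mem_cjS_of_eq (Subgroup.mem_zpowers _)), ?_⟩
    simpa using (Finset.mem_erase.1 (Finset.mem_sigma.1 (e.symm i).2).1).1
  refine e.symm.injective (Subtype.ext ?_)
  beta_reduce at he
  generalize e.symm i = si at he ⊢
  generalize e.symm j = sj at he ⊢
  obtain ⟨⟨x, b⟩, hs⟩ := si
  obtain ⟨⟨x', b'⟩, hs'⟩ := sj
  have h1 := (hg _ hs).cjT t
  rw [cjP_cjP, cjP_eq_self ht] at h1
  have h2 := hg _ hs'
  set H1 := t * g _ hs with hH1
  set H2 := g _ hs' with hH2
  have he' : H1 * x * H1⁻¹ = H2 * x' * H2⁻¹ := by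
    rw [← he, hH1]; simp only; group
  have e1 : cjS H1 (Subgroup.zpowers x) = cjS H2 (Subgroup.zpowers x') := by
    rw [cjS, cjS, MonoidHom.map_zpowers, MonoidHom.map_zpowers]
    exact congrArg Subgroup.zpowers he'
  have hpair := eq_of_same_fst hpB.pair h1 h2 e1
  obtain rfl : x = x' := huniq (Finset.mem_erase.1 (Finset.mem_sigma.1 hs).1).2
    (Finset.mem_erase.1 (Finset.mem_sigma.1 hs').1).2
    (isConj_iff.2 ⟨H2⁻¹ * H1, by
      calc H2⁻¹ * H1 * x * (H2⁻¹ * H1)⁻¹ = H2⁻¹ * (H1 * x * H1⁻¹) * H2 := by group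
        _ = x' := by rw [he']; group⟩)
  have hC : H2⁻¹ * H1 ∈ Subgroup.centralizer ({x} : Set G) := by
    rw [Subgroup.mem_centralizer_singleton_iff]
    calc H2⁻¹ * H1 * x = H2⁻¹ * (H1 * x * H1⁻¹) * H1 := by group
      _ = x * (H2⁻¹ * H1) := by rw [he']; group
  have hbi : IsInducedBlock M (Subgroup.centralizer ({x} : Set G)) b B := by
    simpa using (Finset.mem_sigma.1 hs).2
  have hbi' : IsInducedBlock M (Subgroup.centralizer ({x} : Set G)) b' B := by
    simpa using (Finset.mem_sigma.1 hs').2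
  have hz := congrArg (cj H2⁻¹) (congrArg Prod.snd hpair)
  change cj H2⁻¹ (cj H1 _) = cj H2⁻¹ (cj H2 _) at hz
  rw [cj_cj, cj_inv_cj, cj_eq_of_inZ (isBlk_zB _ hbi.1).inZ hC] at hz
  obtain rfl : b = b' := zB_injective _ hbi.1 hbi'.1 hz
  rfl

/-- A block of rank one with abelian defect group, free inertia and enough characters has trivial
inertia. -/
theorem stabP_le_centralizer_of_free (hM : IsPModular p M) (hl : blockRank p B = 1)
    (hPD : IsDefectGroup p M B P) (hPC : P ≤ Subgroup.centralizer (P : Set G))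
    (hc : IsInducedBlock M (Subgroup.centralizer (P : Set G)) c B)
    (hfree : FreeInertia P (zB M (Subgroup.centralizer (P : Set G)) c))
    (hlow : Nat.card P ≤ Nat.card B) :
    stabP (P, zB M (Subgroup.centralizer (P : Set G)) c) ≤
      Subgroup.centralizer (P : Set G) := by
  classical
  intro t ht
  by_contra htC
  obtain ⟨n, v, hk, hv, huniq⟩ := exists_orbit_reps hM hPD hPC hc hfree
  have hTN := stabP_le_normalizer _ ht
  let T₀ : Finset G := Finset.univ.filter fun w => w ∈ P ∧ w ≠ 1
  have hT₀ : T₀.card + 1 = Nat.card P := by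
    have e : T₀ = (Finset.univ.filter fun w => w ∈ P).erase 1 := by
      ext w; simp [T₀, and_comm]
    rw [e, Finset.card_erase_add_one (Finset.mem_filter.2 ⟨Finset.mem_univ _, one_mem _⟩),
      Nat.card_eq_fintype_card, Fintype.card_subtype]
  have hle : ((Finset.univ : Finset (Fin n)) ×ˢ (Finset.univ : Finset Bool)).card ≤ T₀.card := by
    refine Finset.card_le_card_of_injOn
      (fun q => if q.2 then t * v q.1 * t⁻¹ else v q.1) ?_ ?_
    · rintro ⟨i, b⟩ -
      cases b
      · exact Finset.mem_filter.2 ⟨Finset.mem_univ _, hv i⟩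
      · refine Finset.mem_filter.2 ⟨Finset.mem_univ _, ?_, ?_⟩
        · exact (Subgroup.mem_normalizer_iff.1 hTN _).1 (hv i).1
        · simpa using (hv i).2
    · rintro ⟨i, b⟩ - ⟨j, b'⟩ - he
      cases b <;> cases b' <;> simp only [Bool.false_eq_true, if_false, if_true] at he
      · rw [huniq i j 1 (one_mem _) (by simpa using he)]
      · obtain rfl := huniq j i t ht he.symm
        exact absurd (hfree t ht _ (hv j).1 (hv j).2 he.symm) htC
      · obtain rfl := huniq i j t ht he
        exact absurd (hfree t ht _ (hv i).1 (hv i).2 he) htC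
      · rw [huniq i j 1 (one_mem _) (by simpa using he)]
  rw [Finset.card_product, Finset.card_univ, Finset.card_univ, Fintype.card_fin,
    Fintype.card_bool] at hle
  have hP2 : 1 < Nat.card P := by
    refine lt_of_le_of_ne Nat.card_pos fun h1 => htC ?_
    rw [Subgroup.eq_bot_of_card_eq P h1.symm]
    simp [Subgroup.mem_centralizer_iff]
  omega

end Cfsg.Agent.BrauerPairs
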