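/-
Contributions of a major subsection to a block, after Brauer: integrality, units, Galois action.
-/
import Cfsg.Agent.Lib.Blocks.Subsections
import Cfsg.Agent.Lib.Blocks.AlgGalois
import Cfsg.Agent.Lib.Char.DegreeCenter

set_option linter.unusedSectionVars false
set_option linter.style.haveILetI false

namespace Cfsg.Agent.BrauerPairs

open Cfsg Cfsg.Agent.Blocks Cfsg.Agent.Char Cfsg.Agent.CharGalois
open scoped ComplexConjugate

universe u

/-- AM-GM for a family of cyclotomic integers with constant square sum over the conjugates. -/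
theorem card_le_of_conj_sum {ι : Type*} (s : Finset ι) (a : ι → ℂ) {n : ℕ} (hn : n ≠ 0)
    (hint : ∀ i ∈ s, IsIntegral ℤ (a i)) (hne : ∀ i ∈ s, a i ≠ 0)
    (hcyc : ∀ σ τ : ℂ ≃+* ℂ, (∀ z : ℂ, z ^ n = 1 → σ z = τ z) → ∀ i ∈ s, σ (a i) = τ (a i))
    {S : ℝ} (hsum : ∀ σ : ℂ ≃+* ℂ, ∑ i ∈ s, ‖σ (a i)‖ ^ 2 ≤ S) : (s.card : ℝ) ≤ S := by
  classical
  haveI : NeZero n := ⟨hn⟩
  choose σ hσ using fun u : (ZMod n)ˣ => exists_galoisAut hn (ZMod.val_coe_unit_coprime u)
  let t : Finset ((ZMod n)ˣ × ι) := Finset.univ ×ˢ s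
  let f : (ZMod n)ˣ × ι → ℂ := fun x => σ x.1 (a x.2)
  have h := card_le_sum_normSq t f (fun x hx => ?_) (fun x hx => ?_) fun τ => ?_
  · have h2 := h.trans (show ∑ x ∈ t, ‖f x‖ ^ 2 ≤ ∑ _u : (ZMod n)ˣ, S by
      simp only [t, f, Finset.sum_product]
      exact Finset.sum_le_sum fun u _ => hsum _)
    simp only [t, Finset.sum_const, Finset.card_product, Finset.card_univ, nsmul_eq_mul,
      Nat.cast_mul] at h2
    exact le_of_mul_le_mul_left h2 (by exact_mod_cast Fintype.card_pos)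
  · exact map_isIntegral_int (σ x.1).toRingHom (hint x.2 (Finset.mem_product.1 hx).2)
  · exact fun h => hne x.2 (Finset.mem_product.1 hx).2 ((map_eq_zero _).1 h)
  · obtain ⟨k, hk, hτ⟩ := exists_exponent τ.toRingHom hn
    simp only [t, f, Finset.prod_product, map_prod]
    refine Fintype.prod_equiv (Equiv.mulLeft (ZMod.unitOfCoprime k hk)) _ _ fun u => ?_
    refine Finset.prod_congr rfl fun i hi => ?_
    refine hcyc ((σ u).trans τ) _ (fun z hz => ?_) i hi
    have h1 : (z ^ ((u : ZMod n).val)) ^ n = 1 := by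
      rw [← pow_mul, mul_comm, pow_mul, hz, one_pow]
    have h2 := hτ _ h1
    simp only [RingEquiv.toRingHom_eq_coe, RingEquiv.coe_toRingHom] at h2
    rw [RingEquiv.trans_apply, hσ u z hz, h2, hσ _ z hz, ← pow_mul, pow_eq_pow_mod _ hz,
      pow_eq_pow_mod (_ : ZMod n).val hz]
    congr 1
    rw [← ZMod.natCast_eq_natCast_iff']
    simp [ZMod.natCast_zmod_val, mul_comm]

variable {G : Type u} [Group G] [Fintype G] {p : ℕ} {M : Ideal AlgInt} [M.IsPrime]

/-- The normalised Gram entries of the regular restrictions of a block. -/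
theorem exists_gram (hM : IsPModular p M) {b : Set (IrrCharacter G)} (hb : IsPBlock M b) :
    ∃ r : IrrCharacter G → IrrCharacter G → ℤ,
      (∀ φ : IrrCharacter G, ∀ η ∈ b, classInner (regTr p (φ : G → ℂ)) (η : G → ℂ) =
        (((p : ℤ) ^ ((Nat.card G).factorization p - blockDefect p b) * r φ η : ℤ) : ℂ)) ∧
      (∀ φ ∈ b, ∀ η ∈ b, r φ η = r η φ) ∧
      (∀ φ ∈ b, ∀ η ∈ b, ∀ η₀ ∈ b,
        (p : ℤ) ∣ r η₀ η₀ * r φ η - r φ η₀ * r η₀ η) := by
  classical
  set e := (Nat.card G).factorization p - blockDefect p b with he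
  have hp0 : ((p : ℤ) ^ e) ≠ 0 := pow_ne_zero _ (by exact_mod_cast hM.1.ne_zero)
  have hdvd : ∀ φ η : IrrCharacter G, ∃ r : ℤ, η ∈ b →
      classInner (regTr p (φ : G → ℂ)) (η : G → ℂ) = (((p : ℤ) ^ e * r : ℤ) : ℂ) := by
    intro φ η
    by_cases hη : η ∈ b
    · obtain ⟨m, hm, hmd, -⟩ := exists_mult hM (irr_isCharacter φ) η
      obtain ⟨r, hr⟩ := (pow_dvd_pow (p : ℤ) (degExp_ge hM hb hη)).trans hmd
      exact ⟨r, fun _ => by rw [hm, hr]⟩
    · exact ⟨0, fun h => absurd h hη⟩
  choose r hr using hdvd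
  refine ⟨r, hr, fun φ hφ η hη => ?_, fun φ hφ η hη η₀ hη₀ => ?_⟩
  · have h1 : classInner (regTr p (φ : G → ℂ)) (η : G → ℂ) =
        conj (classInner (regTr p (η : G → ℂ)) (φ : G → ℂ)) := by
      rw [classInner_regTr hM.1, classInner_regTr hM.1, map_div₀, map_natCast, map_sum]
      congr 1
      exact Finset.sum_congr rfl fun x _ => by rw [map_mul, Complex.conj_conj, mul_comm]
    rw [hr φ η hη, hr η φ hφ, map_intCast, Int.cast_inj] at h1
    exact mul_left_cancel₀ hp0 h1
  · let W : IrrCharacter G → IrrCharacter G → ℂ := fun φ η =>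
      omegaR η (regElt M p (φ : G → ℂ) (irr_isCharacter φ))
    let δ : IrrCharacter G → ℂ := fun η =>
      (ordPrime p G : ℂ)⁻¹ * ((charDegree (η : G → ℂ) : ℂ) / ((p ^ e : ℕ) : ℂ))
    have hδ : ∀ η ∈ b, MemLocalRing M (δ η) := fun η hη =>
      mem_locRing.1 ((locRing M).mul_mem (inv_ordPrime_mem hM) (memLocalRing_natDiv hM (by
        rw [hM.1.factorization_pow, Finsupp.single_eq_same]
        exact degExp_ge hM hb hη)))
    have hrW : ∀ φ : IrrCharacter G, ∀ η ∈ b, (r φ η : ℂ) = W φ η * δ η := by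
      intro φ η hη
      have h1 := (hr φ η hη).symm.trans (classInner_regTr_eq hM (irr_isCharacter φ) η)
      rw [irr_one_eq_charDegree, Int.cast_mul, Int.cast_pow, Int.cast_natCast] at h1
      have hp : ((p : ℂ) ^ e) ≠ 0 := pow_ne_zero _ (Nat.cast_ne_zero.2 hM.1.ne_zero)
      refine mul_left_cancel₀ hp (h1.trans ?_)
      simp only [W, δ, Nat.cast_pow]
      field_simp
    have hres : ∀ φ, ∀ η ∈ b, MemLocalIdeal M ((W φ η - W φ η₀) * δ η) := fun φ η hη =>
      MemLocalIdeal.mul_right (omegaR_congr (isPBlock_sameBlock hb hη hη₀)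
        (isClassElt_regElt _)) (hδ η hη)
    have hint : ∀ z : ℤ, MemLocalRing M (z : ℂ) := fun z =>
      mem_locRing.1 (intCast_mem (locRing M) z)
    have h := MemLocalIdeal.sub (MemLocalIdeal.mul_left (hint (r η₀ η₀)) (hres φ η hη))
      (MemLocalIdeal.mul_left (hint (r φ η₀)) (hres η₀ η hη))
    have e1 : ((r η₀ η₀ * r φ η - r φ η₀ * r η₀ η : ℤ) : ℂ) =
        (r η₀ η₀ : ℂ) * ((W φ η - W φ η₀) * δ η) -
          (r φ η₀ : ℂ) * ((W η₀ η - W η₀ η₀) * δ η) := by
      push_cast
      rw [hrW φ η hη, hrW η₀ η hη, hrW η₀ η₀ hη₀, hrW φ η₀ hη₀]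
      ring
    rw [← e1] at h
    rw [← intCast_mem_iff hM, ← memLocalIdeal_coe_iff]
    simpa using h

/-- On a centraliser of a `p`-element the translated characters have root-of-unity multiplicities. -/
theorem exists_section_mult {y : G} (hy : ∃ k, orderOf y = p ^ k)
    {C : Subgroup G} (hC : C = Subgroup.centralizer ({y} : Set G)) [Fintype C] :
    ∃ c : IrrCharacter C → ℂ, (∃ k, ∀ φ, c φ ^ (p ^ k) = 1 ∧ p ^ k ∣ Nat.card G) ∧
      ∀ (χ : IrrCharacter G) (φ : IrrCharacter C),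
        classInner (secFun y C (χ : G → ℂ)) (φ : C → ℂ) =
          classInner (fun h : C => (χ : G → ℂ) h) (φ : C → ℂ) * c φ := by
  classical
  obtain ⟨k, hk⟩ := hy
  have hyC : y ∈ C := by rw [hC]; exact zpowers_le_centralizer_self y (Subgroup.mem_zpowers y)
  have hz : (⟨y, hyC⟩ : C) ∈ Subgroup.center C := Subgroup.mem_center_iff.2 fun g =>
    Subtype.ext (Subgroup.mem_centralizer_iff.1 (hC.le g.2) y rfl).symm
  choose c _ hc _ using fun φ : IrrCharacter C =>
    IsIrrCharacter.exists_central_scalar φ.2 hz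
  refine ⟨c, ⟨k, fun φ => ⟨?_, hk ▸ orderOf_dvd_natCard y⟩⟩, fun χ φ => ?_⟩
  · have h1 : ∀ n : ℕ, (φ : C → ℂ) ((⟨y, hyC⟩ : C) ^ n) = c φ ^ n * (φ : C → ℂ) 1 := by
      intro n
      induction n with
      | zero => simp
      | succ n ih => rw [pow_succ', hc, ih, pow_succ]; ring
    have h2 := h1 (p ^ k)
    rw [show ((⟨y, hyC⟩ : C) ^ (p ^ k)) = 1 from Subtype.ext (by
      rw [SubmonoidClass.coe_pow, ← hk, pow_orderOf_eq_one, OneMemClass.coe_one])] at h2
    exact mul_right_cancel₀ (irr_one_ne_zero φ) (by rw [← h2, one_mul])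
  · have hres := IsCharacter.restrict (irr_isCharacter χ) C
    have e : secFun y C (χ : G → ℂ) = ∑ η : IrrCharacter C,
        (classInner (fun h : C => (χ : G → ℂ) h) (η : C → ℂ) * c η) • (η : C → ℂ) := by
      funext s
      have h1 := congrFun (classFunction_eq_sum (IsCharacter.isClassFunction hres))
        ((⟨y, hyC⟩ : C) * s)
      simp only [Finset.sum_apply, Pi.smul_apply, smul_eq_mul] at h1 ⊢
      refine (show secFun y C (χ : G → ℂ) s = _ from h1).trans ?_
      exact Finset.sum_congr rfl fun η _ => by rw [hc, mul_assoc]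
    rw [e, classInner_sum_left, Finset.sum_eq_single φ, classInner_smul_left,
      classInner_self_irr φ.2, mul_one]
    · intro η _ hne
      rw [classInner_smul_left, classInner_irr_of_ne η.2 φ.2 fun h => hne (Subtype.ext h),
        mul_zero]
    · exact fun h => absurd (Finset.mem_univ φ) h

variable {C : Subgroup G} [Fintype C] {B : Set (IrrCharacter G)} {b : Set (IrrCharacter C)}

/-- The contribution of the subsection `(y, b)` at two characters. -/
noncomputable def contrib (p : ℕ) (y : G) (b : Set (IrrCharacter C)) (χ ψ : IrrCharacter G) : ℂ := by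
  classical
  exact (p : ℂ) ^ blockDefect p b / (Nat.card C : ℂ) *
    ∑ s ∈ Finset.univ.filter (fun s : C => ¬ p ∣ orderOf s),
      blockPart b (secFun y C (χ : G → ℂ)) s * conj (blockPart b (secFun y C (ψ : G → ℂ)) s)

theorem contrib_conj (y : G) (χ ψ : IrrCharacter G) :
    conj (contrib p y b χ ψ) = contrib p y b ψ χ := by
  classical
  unfold contrib
  rw [map_mul, map_div₀, map_pow, map_natCast, map_natCast, map_sum]
  congr 1
  exact Finset.sum_congr rfl fun s _ => by rw [map_mul, Complex.conj_conj, mul_comm]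

/-- The contributions as integral combinations of products of roots of unity. -/
theorem exists_contrib_expansion (hM : IsPModular p M) {y : G} (hy : ∃ k, orderOf y = p ^ k)
    (hC : C = Subgroup.centralizer ({y} : Set G)) (hb : IsPBlock M b)
    [DecidablePred (· ∈ b)] :
    ∃ (n : ℕ) (R : IrrCharacter G → IrrCharacter G → IrrCharacter C → IrrCharacter C → ℤ)
      (c : IrrCharacter C → ℂ),
      (∀ φ, c φ ^ n = 1) ∧ n ∣ Nat.card G ∧ (∃ k, n = p ^ k) ∧
      (∀ χ ψ, contrib p y b χ ψ = ∑ φ ∈ Finset.univ.filter (· ∈ b),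
        ∑ η ∈ Finset.univ.filter (· ∈ b), (R χ ψ φ η : ℂ) * (c φ * conj (c η))) ∧
      (∀ {B : Set (IrrCharacter G)}, IsInducedBlock M C b B → ∀ χ ∈ B, ∀ ψ ∈ B,
        blockHeight p B (χ : G → ℂ) = 0 → blockHeight p B (ψ : G → ℂ) = 0 →
        ¬ (p : ℤ) ∣ ∑ φ ∈ Finset.univ.filter (· ∈ b),
          ∑ η ∈ Finset.univ.filter (· ∈ b), R χ ψ φ η) := by
  classical
  haveI := Fact.mk hM.1
  obtain ⟨r, hr, hsymm, hrank⟩ := exists_gram hM hb
  obtain ⟨c, ⟨k, hc⟩, hcm⟩ := exists_section_mult hy hC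
  choose N hN using fun (χ : IrrCharacter G) (φ : IrrCharacter C) =>
    IsCharacter.exists_classInner_nat (IsCharacter.restrict (irr_isCharacter χ) C)
      (irr_isCharacter φ)
  set s := Finset.univ.filter (· ∈ b) with hs
  refine ⟨p ^ k, fun χ ψ φ η => (N χ φ : ℤ) * N ψ η * r φ η, c, fun φ => (hc φ).1, ?_, ⟨k, rfl⟩,
    fun χ ψ => ?_, ?_⟩
  · obtain ⟨ξ, -⟩ := isPBlock_nonempty hb
    exact (hc ξ).2
  · have hG : (Nat.card C : ℂ) ≠ 0 := Nat.cast_ne_zero.2 Nat.card_pos.ne'
    have hp : (p : ℂ) ≠ 0 := Nat.cast_ne_zero.2 hM.1.ne_zero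
    have hcard : (Nat.card C : ℂ) =
        (p : ℂ) ^ (Nat.card C).factorization p * (ordPrime p C : ℂ) := by
      rw [← Nat.cast_pow, ← Nat.cast_mul, ordPrime, Nat.ordProj_mul_ordCompl_eq_self]
    have key : ∀ φ ∈ s, ∀ η ∈ s, (p : ℂ) ^ blockDefect p b / (Nat.card C : ℂ) *
        ∑ x ∈ Finset.univ.filter (fun x : C => ¬ p ∣ orderOf x),
          (φ : C → ℂ) x * conj ((η : C → ℂ) x) = (r φ η : ℂ) := by
      intro φ hφ η hη
      have h := hr φ η (Finset.mem_filter.1 hη).2
      rw [classInner_regTr hM.1, div_eq_iff (Nat.cast_ne_zero.2 ordPrime_ne_zero)] at h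
      refine Eq.trans (congrArg _ h) ?_
      rw [hcard, Int.cast_mul, Int.cast_pow, Int.cast_natCast]
      have ho : (ordPrime p C : ℂ) ≠ 0 := Nat.cast_ne_zero.2 ordPrime_ne_zero
      field_simp
      rw [← pow_add, Nat.add_sub_cancel' (blockDefect_le b)]
      simp only [ordPrime]
      ring
    have hpart : ∀ (χ : IrrCharacter G) (x : C), blockPart b (secFun y C (χ : G → ℂ)) x =
        ∑ φ ∈ s, (N χ φ : ℂ) * c φ * (φ : C → ℂ) x := fun χ x => by
      rw [blockPart_eq_sum]
      exact Finset.sum_congr rfl fun φ _ => by rw [hcm, hN]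
    unfold contrib
    simp only [hpart, map_sum, map_mul, map_natCast, Finset.sum_mul, Finset.mul_sum]
    rw [Finset.sum_comm]
    conv_rhs => rw [Finset.sum_comm]
    refine Finset.sum_congr rfl fun φ hφ => ?_
    rw [Finset.sum_comm]
    refine Finset.sum_congr rfl fun η hη => ?_
    push_cast
    rw [← key η hη φ hφ]
    simp only [Finset.mul_sum, Finset.sum_mul]
    exact Finset.sum_congr rfl fun x _ => by ring
  · intro B hind χ hχ ψ hψ h0χ h0ψ hdvd
    obtain ⟨η₀, hη₀, h00⟩ := exists_heightZero hM hb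
    have hx : ∀ χ ∈ B, blockHeight p B (χ : G → ℂ) = 0 →
        ¬ (p : ℤ) ∣ ∑ φ ∈ s, (N χ φ : ℤ) * r φ η₀ := by
      intro χ hχ h0 hd
      have hres := IsCharacter.restrict (irr_isCharacter χ) C
      obtain ⟨m, hm, -, hiff⟩ := exists_mult hM hres η₀
      obtain ⟨φ₀, hφ₀⟩ := isPBlock_nonempty hind.2.1
      have hu : ¬ MemLocalIdeal M (omegaR η₀ (regElt M p _ hres)) := fun h => by
        have h1 := MemLocalIdeal.sub h
          (omegaR_regElt_restrict (p := p) hind hη₀ hφ₀ (irr_isCharacter χ))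
        rw [sub_sub_cancel] at h1
        exact (omegaR_regElt_mem_iff hM hind.2.1 hχ hφ₀).1 h1 h0
      obtain ⟨hm0, hv⟩ := hiff.1 hu
      set e := (Nat.card C).factorization p - blockDefect p b with he
      have hv0 : (charDegree (η₀ : C → ℂ)).factorization p = e := by
        have := degExp_ge hM hb hη₀
        rw [blockHeight, sInf_degExp_eq' hM hb] at h00
        omega
      have hsum : m = (p : ℤ) ^ e * ∑ φ ∈ s, (N χ φ : ℤ) * r φ η₀ := by
        have hlin : regTr p (fun h : C => (χ : G → ℂ) h) =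
            ∑ η : IrrCharacter C, (N χ η : ℂ) • regTr p (η : C → ℂ) := by
          funext x
          have hx : (χ : G → ℂ) x = ∑ η : IrrCharacter C, (N χ η : ℂ) * (η : C → ℂ) x := by
            have := congrFun (IsCharacter.eq_sum hres) x
            simp only [Finset.sum_apply, Pi.smul_apply, smul_eq_mul, hN] at this
            exact this
          simp only [Finset.sum_apply, Pi.smul_apply, smul_eq_mul, regTr]
          split_ifs
          · simp
          · rw [hx, Finset.mul_sum]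
            exact Finset.sum_congr rfl fun η _ => by ring
        rw [hlin, classInner_sum_left] at hm
        have h2 : ∑ η : IrrCharacter C,
            classInner ((N χ η : ℂ) • regTr p (η : C → ℂ)) (η₀ : C → ℂ) =
            ∑ η ∈ s, classInner ((N χ η : ℂ) • regTr p (η : C → ℂ)) (η₀ : C → ℂ) := by
          refine (Finset.sum_subset (Finset.subset_univ s) fun η _ hη => ?_).symm
          rw [classInner_smul_left, regTr_orth hM fun h => hη (Finset.mem_filter.2
            ⟨Finset.mem_univ _, isPBlock_mem_of_sameBlock hb hη₀ (sameBlock_symm h)⟩), mul_zero]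
        rw [h2] at hm
        rw [← Int.cast_inj (α := ℂ), ← hm, Int.cast_mul, Int.cast_sum, Finset.mul_sum]
        refine Finset.sum_congr rfl fun φ _ => ?_
        rw [classInner_smul_left, hr φ η₀ hη₀]
        push_cast
        ring
      have h3 : (p : ℤ) ^ (padicValInt p m + 1) ∣ m := by
        rw [hv, hv0, pow_succ, hsum]
        exact mul_dvd_mul_left _ hd
      have h4 := (padicValInt_dvd_iff (p := p) _ m).1 h3
      omega
    refine absurd ?_ (hx χ hχ h0χ)
    refine ((Nat.prime_iff_prime_int.1 hM.1).dvd_or_dvd (?_ : (p : ℤ) ∣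
      (∑ φ ∈ s, (N χ φ : ℤ) * r φ η₀) * ∑ η ∈ s, (N ψ η : ℤ) * r η η₀)).resolve_right
        (hx ψ hψ h0ψ)
    have e : (∑ φ ∈ s, (N χ φ : ℤ) * r φ η₀) * ∑ η ∈ s, (N ψ η : ℤ) * r η η₀ =
        r η₀ η₀ * (∑ φ ∈ s, ∑ η ∈ s, (N χ φ : ℤ) * N ψ η * r φ η) -
        ∑ φ ∈ s, ∑ η ∈ s, (N χ φ : ℤ) * N ψ η *
          (r η₀ η₀ * r φ η - r φ η₀ * r η₀ η) := by
      rw [Finset.sum_mul_sum, Finset.mul_sum, ← Finset.sum_sub_distrib]
      refine Finset.sum_congr rfl fun φ hφ => ?_
      rw [Finset.mul_sum, ← Finset.sum_sub_distrib]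
      refine Finset.sum_congr rfl fun η hη => ?_
      rw [hsymm η (Finset.mem_filter.1 hη).2 η₀ hη₀]
      ring
    rw [e]
    exact dvd_sub (dvd_mul_of_dvd_right hdvd _) (Finset.dvd_sum fun φ hφ => Finset.dvd_sum
      fun η hη => dvd_mul_of_dvd_right (hrank φ (Finset.mem_filter.1 hφ).2 η
        (Finset.mem_filter.1 hη).2 η₀ hη₀) _)

theorem contrib_isIntegral (hM : IsPModular p M) {y : G} (hy : ∃ k, orderOf y = p ^ k)
    (hC : C = Subgroup.centralizer ({y} : Set G)) (hb : IsPBlock M b) (χ ψ : IrrCharacter G) :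
    IsIntegral ℤ (contrib p y b χ ψ) := by
  classical
  obtain ⟨n, R, c, hc, hn, -, hA, -⟩ := exists_contrib_expansion hM hy hC hb
  rw [hA]
  have hn0 : 0 < n := Nat.pos_of_ne_zero fun h => Nat.card_pos.ne' (zero_dvd_iff.1 (h ▸ hn))
  have h1 : ∀ z : ℂ, z ^ n = 1 → IsIntegral ℤ z := fun z hz =>
    IsIntegral.of_pow hn0 (hz ▸ isIntegral_one)
  exact IsIntegral.sum _ fun φ _ => IsIntegral.sum _ fun η _ =>
    isIntegral_algebraMap.mul ((h1 _ (hc φ)).mul (h1 _ (by rw [← map_pow, hc, map_one])))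

/-- Contributions of height zero characters are units at `M`. -/
theorem contrib_not_mem (hM : IsPModular p M) {y : G} (hy : ∃ k, orderOf y = p ^ k)
    (hC : C = Subgroup.centralizer ({y} : Set G)) (hind : IsInducedBlock M C b B)
    {χ ψ : IrrCharacter G} (hχ : χ ∈ B) (hψ : ψ ∈ B) (h0χ : blockHeight p B (χ : G → ℂ) = 0)
    (h0ψ : blockHeight p B (ψ : G → ℂ) = 0) : ¬ MemLocalIdeal M (contrib p y b χ ψ) := by
  classical
  obtain ⟨n, R, c, hc, -, ⟨k, rfl⟩, hA, hunit⟩ := exists_contrib_expansion hM hy hC hind.1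
  intro hmem
  refine hunit hind χ hχ ψ hψ h0χ h0ψ ?_
  rw [← intCast_mem_iff hM, ← memLocalIdeal_coe_iff]
  have h1 : MemLocalIdeal M (contrib p y b χ ψ -
      ((∑ φ ∈ Finset.univ.filter (· ∈ b),
        ∑ η ∈ Finset.univ.filter (· ∈ b), R χ ψ φ η : ℤ) : ℂ)) := by
    rw [hA, Int.cast_sum, ← Finset.sum_sub_distrib]
    refine memLocalIdeal_sum _ _ fun φ _ => ?_
    rw [Int.cast_sum, ← Finset.sum_sub_distrib]
    refine memLocalIdeal_sum _ _ fun η _ => ?_
    rw [← mul_sub_one]
    exact MemLocalIdeal.mul_left (mem_locRing.1 (intCast_mem (locRing M) _))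
      (memLocalIdeal_sub_one_of_pow_eq_one hM (k := k) (by
        rw [mul_pow, ← map_pow, hc, hc, map_one, mul_one]))
  simpa using MemLocalIdeal.sub hmem h1

/-- Automorphisms agreeing on roots of unity agree on contributions, and commute with conjugation. -/
theorem contrib_galois (hM : IsPModular p M) {y : G} (hy : ∃ k, orderOf y = p ^ k)
    (hC : C = Subgroup.centralizer ({y} : Set G)) (hb : IsPBlock M b) :
    (∀ σ τ : ℂ ≃+* ℂ, (∀ z : ℂ, z ^ Nat.card G = 1 → σ z = τ z) → ∀ χ ψ : IrrCharacter G,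
      σ (contrib p y b χ ψ) = τ (contrib p y b χ ψ)) ∧
    ∀ (σ : ℂ ≃+* ℂ) (χ ψ : IrrCharacter G),
      σ (conj (contrib p y b χ ψ)) = conj (σ (contrib p y b χ ψ)) := by
  classical
  obtain ⟨n, R, c, hc, hn, -, hA, -⟩ := exists_contrib_expansion hM hy hC hb
  have hG : ∀ z : ℂ, z ^ n = 1 → z ^ Nat.card G = 1 := fun z hz => by
    obtain ⟨m, hm⟩ := hn
    rw [hm, pow_mul, hz, one_pow]
  have hn0 : n ≠ 0 := fun h => Nat.card_pos.ne' (zero_dvd_iff.1 (h ▸ hn))
  have hinv : ∀ z : ℂ, z ^ n = 1 → conj z = z⁻¹ := fun z hz => by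
    rw [Complex.inv_eq_conj (Complex.norm_eq_one_of_pow_eq_one hz hn0)]
  refine ⟨fun σ τ h χ ψ => ?_, fun σ χ ψ => ?_⟩
  · rw [hA, map_sum, map_sum]
    refine Finset.sum_congr rfl fun φ _ => ?_
    rw [map_sum, map_sum]
    refine Finset.sum_congr rfl fun η _ => ?_
    have h1 : conj (c η) ^ n = 1 := by rw [← map_pow, hc, map_one]
    simp only [map_mul, map_intCast]
    rw [h _ (hG _ (hc φ)),
      h _ (hG _ h1)]
  · have hcσ : ∀ z : ℂ, z ^ n = 1 → σ (conj z) = conj (σ z) := fun z hz => by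
      rw [hinv z hz, hinv (σ z) (by rw [← map_pow, hz, map_one]), map_inv₀]
    simp only [hA, map_sum, map_mul, map_intCast]
    refine Finset.sum_congr rfl fun φ _ => Finset.sum_congr rfl fun η _ => ?_
    rw [hcσ _ (hc φ), hcσ (conj (c η)) (by rw [← map_pow, hc, map_one])]

theorem sum_contrib_diag (hM : IsPModular p M) {y : G} (hy : ∃ k, orderOf y = p ^ k)
    (hC : C = Subgroup.centralizer ({y} : Set G)) (hind : IsInducedBlock M C b B)
    [DecidablePred (· ∈ B)] :
    ∑ χ ∈ Finset.univ.filter (· ∈ B), contrib p y b χ χ =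
      (p : ℂ) ^ blockDefect p b * (blockRank p b : ℂ) := by
  classical
  have hU := (mem_unitBlocks_iff_induced' hM hy hC hind.2.1).2 hind
  unfold contrib
  rw [← Finset.mul_sum, Finset.sum_comm, blockRank_eq hM hind.1, div_mul_eq_mul_div,
    ← mul_assoc, mul_comm _ (Nat.card C : ℂ)⁻¹, mul_assoc, ← div_eq_inv_mul]
  congr 2
  refine Finset.sum_congr rfl fun s hs => ?_
  have h := blockPart_secFun_gram hM hy hC hind.2.1 hind.1 (Finset.mem_filter.1 hs).2
    (Finset.mem_filter.1 hs).2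
  rwa [if_pos hU] at h

theorem sum_contrib_normSq (hM : IsPModular p M) {y : G} (hy : ∃ k, orderOf y = p ^ k)
    (hC : C = Subgroup.centralizer ({y} : Set G)) (hind : IsInducedBlock M C b B)
    [DecidablePred (· ∈ B)] :
    ∑ χ ∈ Finset.univ.filter (· ∈ B), ∑ ψ ∈ Finset.univ.filter (· ∈ B),
      contrib p y b χ ψ * conj (contrib p y b χ ψ) =
      (p : ℂ) ^ (2 * blockDefect p b) * (blockRank p b : ℂ) := by
  classical
  have hU := (mem_unitBlocks_iff_induced' hM hy hC hind.2.1).2 hind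
  have hG : (Nat.card C : ℂ) ≠ 0 := Nat.cast_ne_zero.2 Nat.card_pos.ne'
  set S := Finset.univ.filter (fun s : C => ¬ p ∣ orderOf s) with hS
  set T := Finset.univ.filter (· ∈ B) with hT
  set f : IrrCharacter G → C → ℂ := fun χ => blockPart b (secFun y C (χ : G → ℂ)) with hf
  have hgram : ∀ u ∈ S, ∀ v ∈ S, ∑ χ ∈ T, f χ u * conj (f χ v) = blockPair b u v := by
    intro u hu v hv
    have h := blockPart_secFun_gram hM hy hC hind.2.1 hind.1 (Finset.mem_filter.1 hu).2
      (Finset.mem_filter.1 hv).2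
    rwa [if_pos hU] at h
  set K := (p : ℂ) ^ blockDefect p b / (Nat.card C : ℂ) with hK
  have hA : ∀ χ ψ, contrib p y b χ ψ = K * ∑ s ∈ S, f χ s * conj (f ψ s) := fun _ _ => rfl
  calc ∑ χ ∈ T, ∑ ψ ∈ T, contrib p y b χ ψ * conj (contrib p y b χ ψ)
      = K * K * ∑ s ∈ S, ∑ t ∈ S, (∑ χ ∈ T, f χ s * conj (f χ t)) *
          ∑ ψ ∈ T, f ψ t * conj (f ψ s) := by
        have e : ∀ χ ψ, contrib p y b χ ψ * conj (contrib p y b χ ψ) = K * K *
            ∑ s ∈ S, ∑ t ∈ S, f χ s * conj (f χ t) * (f ψ t * conj (f ψ s)) := fun χ ψ => by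
          rw [contrib_conj, hA, hA, mul_mul_mul_comm, Finset.sum_mul_sum]
          congr 1
          exact Finset.sum_congr rfl fun s _ => Finset.sum_congr rfl fun t _ => by ring
        simp only [e, ← Finset.mul_sum]
        congr 1
        rw [Finset.sum_congr rfl fun χ _ => Finset.sum_comm, Finset.sum_comm]
        refine Finset.sum_congr rfl fun s _ => ?_
        rw [Finset.sum_congr rfl fun χ _ => Finset.sum_comm, Finset.sum_comm]
        exact Finset.sum_congr rfl fun t _ => by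
          rw [Finset.sum_mul]
          exact Finset.sum_congr rfl fun χ _ => by rw [Finset.mul_sum]
    _ = K * K * ∑ s ∈ S, (Nat.card C : ℂ) * blockPair b s s := by
        congr 1
        refine Finset.sum_congr rfl fun s hs => ?_
        rw [Finset.sum_congr rfl fun t ht => show _ = blockPair b s t * blockPair b t s by
          rw [hgram s hs t ht, hgram t ht s hs]]
        refine Eq.trans ?_ ((sum_blockPair_mul b b (Or.inl rfl) s s).trans (if_pos rfl))
        refine Finset.sum_subset (Finset.subset_univ _) fun t _ ht => ?_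
        rw [hS, Finset.mem_filter, not_and, not_not] at ht
        rw [blockPair_regular_singular hM hind.1 (Finset.mem_filter.1 hs).2
          (ht (Finset.mem_univ _)), zero_mul]
    _ = _ := by
        rw [blockRank_eq hM hind.1, ← Finset.mul_sum, hK, two_mul, pow_add]
        field_simp
        rfl

/-- Brauer's bound for a major subsection: the height zero characters. -/
theorem card_heightZero_sq_le (hM : IsPModular p M) {y : G} (hy : ∃ k, orderOf y = p ^ k)
    (hC : C = Subgroup.centralizer ({y} : Set G)) (hind : IsInducedBlock M C b B)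
    [DecidablePred (fun χ => χ ∈ B ∧ blockHeight p B (χ : G → ℂ) = 0)] :
    (Finset.univ.filter fun χ : IrrCharacter G => χ ∈ B ∧ blockHeight p B (χ : G → ℂ) = 0).card ^ 2
      ≤ p ^ (2 * blockDefect p b) * blockRank p b := by
  classical
  set T := Finset.univ.filter (· ∈ B) with hT
  set Z := Finset.univ.filter fun χ : IrrCharacter G => χ ∈ B ∧ blockHeight p B (χ : G → ℂ) = 0
    with hZ
  obtain ⟨hg1, hg2⟩ := contrib_galois hM hy hC hind.1
  let a : IrrCharacter G × IrrCharacter G → ℂ := fun x => contrib p y b x.1 x.2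
  have key : ∀ σ : ℂ ≃+* ℂ, ∑ x ∈ T ×ˢ T, ‖σ (a x)‖ ^ 2 =
      ((p ^ (2 * blockDefect p b) * blockRank p b : ℕ) : ℝ) := by
    intro σ
    have h := congrArg σ (sum_contrib_normSq hM hy hC hind)
    simp_rw [map_sum, map_mul, hg2, map_pow, map_natCast, Complex.mul_conj',
      ← Complex.ofReal_pow, ← Complex.ofReal_sum] at h
    rw [Finset.sum_product, ← Complex.ofReal_inj, Complex.ofReal_natCast]
    push_cast
    rw [← h, Complex.ofReal_sum]
    simp [a, T]
  have hsub : Z ⊆ T := fun x hx =>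
    Finset.mem_filter.2 ⟨Finset.mem_univ _, (Finset.mem_filter.1 hx).2.1⟩
  have h := card_le_of_conj_sum (Z ×ˢ Z) a (Nat.card_pos (α := G)).ne'
    (fun x _ => contrib_isIntegral hM hy hC hind.1 _ _) (fun x hx h0 => ?_)
    (fun σ τ h x _ => hg1 σ τ h _ _) (S := ((p ^ (2 * blockDefect p b) * blockRank p b : ℕ) : ℝ))
    (fun σ => le_trans (Finset.sum_le_sum_of_subset_of_nonneg
      (Finset.product_subset_product hsub hsub) fun _ _ _ => sq_nonneg _) (key σ).le)
  · rw [Finset.card_product, ← sq] at h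
    exact_mod_cast h
  · obtain ⟨h1, h2⟩ := Finset.mem_product.1 hx
    simp only [hZ, Finset.mem_filter] at h1 h2
    exact contrib_not_mem hM hy hC hind h1.2.1 h2.2.1 h1.2.2 h2.2.2 (by
      rw [show contrib p y b x.1 x.2 = 0 from h0]; exact memLocalIdeal_zero)

end Cfsg.Agent.BrauerPairs
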