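/-
The major subsections at the centre of a defect group bound the height by the inertial index.
-/
import Cfsg.Agent.Lib.Star.Sections
import Cfsg.Agent.Lib.Blocks.ExtFirstMain
import Cfsg.Agent.Lib.Blocks.SubsectionBound
import Cfsg.Agent.Lib.Blocks.AlgGalois

set_option linter.unusedSectionVars false
set_option linter.style.haveILetI false

namespace Cfsg.Agent.InertiaHeight

open Cfsg Cfsg.Agent.Blocks Cfsg.Agent.BrauerPairs Cfsg.Agent.Char Cfsg.Agent.Star
open scoped ComplexConjugate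

universe u

variable {G : Type u} [Group G] [Fintype G] {p : ℕ} {M : Ideal AlgInt} [M.IsPrime]

/-! ## The contributions along the powers of an element -/

section Diag

variable {x : G} {C : Subgroup G} [Fintype C] {b : Set (IrrCharacter C)} [DecidablePred (· ∈ b)]
  {B : Set (IrrCharacter G)} [DecidablePred (· ∈ B)]

/-- The data of a subsection with roots of unity of a given level. -/
theorem exists_subData_level (hM : IsPModular p M) (hx : ∃ k, orderOf x = p ^ k)
    (hC : C = Subgroup.centralizer ({x} : Set G)) (hind : IsInducedBlock M C b B) {J : ℕ}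
    (hJ : x ^ p ^ (J + 1) = 1) : ∃ D : SubData p M x C b B, D.j = J := by
  have hζ := Complex.isPrimitiveRoot_exp (p ^ (J + 1)) (pow_ne_zero _ hM.1.ne_zero)
  obtain ⟨e, he⟩ := exists_exponents hM.1.ne_zero hC hJ hζ
  choose n hn using exists_mults (G := G) C
  obtain ⟨r, hr, hsymm, hrank, hunit⟩ := exists_rMat hM hind.1
  obtain ⟨ψ, hψ, hψ0⟩ := exists_heightZero hM hind.1
  exact ⟨{ hM := hM, hx := hx, hC := hC, hind := hind, j := J, ζ := _, hζ := hζ, e := e,
           he := he, n := n, hn := fun χ => (hn χ).1, r := r, hr := hr, hsymm := hsymm,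
           hrank := hrank, ψ := ψ, hψ := hψ, hψ0 := hψ0,
           hψψ := (hunit ψ hψ ψ hψ hψ0).2 hψ0 }, rfl⟩

theorem diag_ne_zero (D : SubData p M x C b B) (hd : blockDefect p b = blockDefect p B)
    {χ : IrrCharacter G} (hχ : χ ∈ B) {t : ℕ} (ht : t ∈ primExps p (p ^ (D.j + 1))) :
    D.diag χ t ≠ 0 := by
  classical
  intro hz
  obtain ⟨χ₀, hχ₀, h0⟩ := exists_heightZero D.hM D.hind.2.1
  have hlam : 0 < blockScale p b :=
    div_pos (pow_pos (Nat.cast_pos.2 D.hM.1.pos) _) (Nat.cast_pos.2 Nat.card_pos)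
  have hzero : ∀ u : C, pRegularPart p (D.fn (D.coef χ t)) u = 0 := by
    intro u
    have h' : qn (blockScale p b) (pRegularPart p (D.fn (D.coef χ t))) = 0 :=
      Complex.ofReal_injective (by rw [qn_eq_regPair, ← D.diag_eq, hz])
    rw [qn, mul_eq_zero, or_iff_right hlam.ne',
      Finset.sum_eq_zero_iff_of_nonneg fun _ _ => Complex.normSq_nonneg _] at h'
    exact Complex.normSq_eq_zero.1 (h' u (Finset.mem_univ _))
  let c : {θ // θ ∈ b} → ℂ := fun a => if (a : IrrCharacter C) = D.ψ then 1 else 0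
  have hcR : ∀ a, MemLocalRing M (conj (c a)) := fun a => by
    simp only [c]
    split_ifs
    · rw [map_one]; exact (locRing M).one_mem
    · rw [map_zero]; exact (locRing M).zero_mem
  have hL : regPair p (blockScale p b) (D.fn (D.coef χ t)) (D.fn c) = 0 := by
    rw [regPair]; simp [hzero]
  obtain ⟨hC', hx'⟩ := D.centralizer_eq ht
  have h1 := (regPair_major D.hM hx' hC' D.hind hd hχ hχ₀ h0 (D.isClassFunction_fn c)
    (D.fn_conj_memLocalRing hcR)).2.1
    (by rw [D.regPair_secFun, hL, zero_div]; exact memLocalIdeal_zero)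
  rw [D.regPair_secFun] at h1
  refine (D.dvd_row_iff hχ₀).1 ?_ h0
  rw [← intCast_memLocalIdeal_iff D.hM]
  have h2 : regPair p (blockScale p b) (D.fn (D.coef χ₀ t)) (D.fn c) =
      ∑ a : {θ // θ ∈ b}, D.ζ ^ (t * D.e a) * ((D.nv χ₀ a * D.r a D.ψ : ℤ) : ℂ) := by
    rw [D.regPair_fn]
    refine Finset.sum_congr rfl fun a _ => ?_
    rw [Finset.sum_eq_single ⟨D.ψ, D.hψ⟩]
    · simp [c, SubData.coef, SubData.nv]; ring
    · intro a' _ ha'
      simp [c, show (a' : IrrCharacter C) ≠ D.ψ from fun h => ha' (Subtype.ext h)]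
    · exact fun h => absurd (Finset.mem_univ _) h
  have h3 := MemLocalIdeal.sub h1 (h2 ▸ (sum_root_congr D.hM Finset.univ D.zeta_pow_eq_one
    (fun a : {θ // θ ∈ b} => t * D.e a) fun a => D.nv χ₀ a * D.r a D.ψ))
  rwa [sub_sub_cancel] at h3

theorem diag_div_memLocalRing (D : SubData p M x C b B) (hd : blockDefect p b = blockDefect p B)
    {χ : IrrCharacter G} (hχ : χ ∈ B) {t : ℕ} (ht : t ∈ primExps p (p ^ (D.j + 1))) :
    MemLocalRing M ((D.diag χ t : ℂ) / (p : ℂ) ^ blockHeight p B (χ : G → ℂ)) := by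
  obtain ⟨χ₀, hχ₀, h0⟩ := exists_heightZero D.hM D.hind.2.1
  obtain ⟨hC', hx'⟩ := D.centralizer_eq ht
  have h := (regPair_major D.hM hx' hC' D.hind hd hχ hχ₀ h0 (D.isClassFunction_fn (D.coef χ t))
    (D.fn_conj_memLocalRing (D.coef_conj_memLocalRing χ t))).1
  rwa [D.regPair_secFun, ← D.diag_eq] at h

theorem diag_eq_poly (D : SubData p M x C b B) (χ : IrrCharacter G) (t : ℕ) :
    (D.diag χ t : ℂ) = ∑ a, D.ζ ^ (t * D.expPair a) * (D.coefPair χ χ a : ℂ) := by
  rw [D.diag_eq]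
  exact (D.twist_pair χ χ t).symm

/-- The product of a contribution along the Galois orbit is an integer. -/
theorem exists_int_prod_diag (D : SubData p M x C b B) (χ : IrrCharacter G) :
    ∃ m : ℤ, ∏ t ∈ primExps p (p ^ (D.j + 1)), (D.diag χ t : ℂ) = (m : ℂ) := by
  classical
  set T := primExps p (p ^ (D.j + 1)) with hT
  have hp := D.hM.1
  have hq : p ^ (D.j + 1) ≠ 0 := pow_ne_zero _ hp.ne_zero
  have hint : IsIntegral ℤ (∏ t ∈ T, (D.diag χ t : ℂ)) := by
    refine IsIntegral.prod _ fun t _ => ?_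
    rw [diag_eq_poly D]
    refine IsIntegral.sum _ fun a _ => IsIntegral.mul ?_ ?_
    · exact (IsIntegral.of_pow (pow_pos hp.pos _)
        (by rw [D.zeta_pow_eq_one]; exact isIntegral_one)).pow _
    · rw [← eq_intCast (algebraMap ℤ ℂ)]; exact isIntegral_algebraMap
  have hfix : ∀ σ : ℂ ≃+* ℂ, σ (∏ t ∈ T, (D.diag χ t : ℂ)) = ∏ t ∈ T, (D.diag χ t : ℂ) := by
    intro σ
    haveI : NeZero (p ^ (D.j + 1)) := ⟨hq⟩
    have hσζ : IsPrimitiveRoot (σ D.ζ) (p ^ (D.j + 1)) := D.hζ.map_of_injective σ.injective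
    obtain ⟨k, hkq, hkc, hk⟩ := (D.hζ.isPrimitiveRoot_iff).1 hσζ
    have hkp : ¬ p ∣ k := fun h => hp.not_dvd_one (by
      rw [← hkc.gcd_eq_one]; exact Nat.dvd_gcd h (dvd_pow_self p (Nat.succ_ne_zero _)))
    have hq1 : 1 < p ^ (D.j + 1) := Nat.one_lt_pow (Nat.succ_ne_zero _) hp.one_lt
    obtain ⟨k', -, hk'⟩ := Nat.exists_mul_mod_eq_one_of_coprime hkc hq1
    have hk'p : ¬ p ∣ k' := fun h => hp.not_dvd_one (by
      rw [← hk']
      exact (Nat.dvd_mod_iff (dvd_pow_self p (Nat.succ_ne_zero _))).2 (h.mul_left k))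
    have hmaps : ∀ i : ℕ, ¬ p ∣ i → ∀ t ∈ T, t * i % p ^ (D.j + 1) ∈ T := by
      intro i hi t ht
      refine Finset.mem_filter.2 ⟨Finset.mem_range.2 (Nat.mod_lt _ hq.bot_lt), ?_⟩
      rw [Nat.dvd_mod_iff (dvd_pow_self p (Nat.succ_ne_zero _)), hp.dvd_mul, not_or]
      exact ⟨(Finset.mem_filter.1 ht).2, hi⟩
    rw [map_prod]
    refine Finset.prod_nbij' (fun t => t * k % p ^ (D.j + 1)) (fun t => t * k' % p ^ (D.j + 1))
      (hmaps k hkp) (hmaps k' hk'p) ?_ ?_ ?_
    · intro t ht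
      simp only [Nat.mod_mul_mod, mul_assoc]
      rw [Nat.mul_mod, hk', mul_one, Nat.mod_mod, Nat.mod_eq_of_lt
        (Finset.mem_range.1 (Finset.mem_filter.1 ht).1)]
    · intro t ht
      simp only [Nat.mod_mul_mod, mul_assoc, mul_comm k' k]
      rw [Nat.mul_mod, hk', mul_one, Nat.mod_mod, Nat.mod_eq_of_lt
        (Finset.mem_range.1 (Finset.mem_filter.1 ht).1)]
    · intro t _
      rw [diag_eq_poly D, diag_eq_poly D, map_sum]
      refine Finset.sum_congr rfl fun a _ => ?_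
      rw [map_mul, map_pow, map_intCast, ← hk, ← pow_mul]
      congr 1
      rw [pow_eq_pow_mod (k * (t * D.expPair a)) D.zeta_pow_eq_one,
        pow_eq_pow_mod (t * k % p ^ (D.j + 1) * D.expPair a) D.zeta_pow_eq_one, Nat.mod_mul_mod]
      congr 2
      ring
  exact exists_int_of_fixed hint hfix

/-- The trace of a contribution of a major subsection is divisible by the height. -/
theorem le_sum_diag (D : SubData p M x C b B) (hd : blockDefect p b = blockDefect p B)
    {χ : IrrCharacter G} (hχ : χ ∈ B) :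
    ((primExps p (p ^ (D.j + 1))).card : ℝ) * (p : ℝ) ^ blockHeight p B (χ : G → ℂ) ≤
      ∑ t ∈ primExps p (p ^ (D.j + 1)), D.diag χ t := by
  classical
  set T := primExps p (p ^ (D.j + 1)) with hT
  set h := blockHeight p B (χ : G → ℂ) with hh
  have hp := D.hM.1
  have hq : p ^ (D.j + 1) ≠ 0 := pow_ne_zero _ hp.ne_zero
  have hpos : ∀ t ∈ T, 0 < D.diag χ t := fun t ht =>
    lt_of_le_of_ne (D.diag_nonneg χ t) (diag_ne_zero D hd hχ ht).symm
  obtain ⟨m, hm⟩ := exists_int_prod_diag D χ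
  have hm' : (m : ℝ) = ∏ t ∈ T, D.diag χ t := by
    apply Complex.ofReal_injective
    rw [Complex.ofReal_intCast, Complex.ofReal_prod, ← hm]
  have hm0 : 0 < m := by
    have : (0 : ℝ) < (m : ℝ) := hm' ▸ Finset.prod_pos hpos
    exact_mod_cast this
  obtain ⟨m', rfl⟩ := Int.eq_ofNat_of_zero_le hm0.le
  have hloc : MemLocalRing M ((m' : ℂ) / ((p ^ (h * T.card) : ℕ) : ℂ)) := by
    have h1 : MemLocalRing M (∏ t ∈ T, (D.diag χ t : ℂ) / (p : ℂ) ^ h) :=
      (locRing M).prod_mem fun t ht => diag_div_memLocalRing D hd hχ ht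
    rwa [Finset.prod_div_distrib, Finset.prod_const, hm, ← pow_mul, Int.cast_natCast,
      ← Nat.cast_pow] at h1
  have hle : p ^ (h * T.card) ≤ m' := by
    have h1 := (memLocalRing_natDiv_iff D.hM (pow_ne_zero _ hp.ne_zero)
      (show m' ≠ 0 by omega)).1 hloc
    rw [hp.factorization_pow, Finsupp.single_eq_same] at h1
    exact Nat.le_of_dvd (by omega) ((hp.pow_dvd_iff_le_factorization (by omega)).2 h1)
  have hlog : 0 ≤ ∑ t ∈ T, Real.log (D.diag χ t / (p : ℝ) ^ h) := by
    rw [← Real.log_prod fun t ht => (div_pos (hpos t ht) (pow_pos (Nat.cast_pos.2 hp.pos) _)).ne']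
    refine Real.log_nonneg ?_
    rw [Finset.prod_div_distrib, Finset.prod_const, ← hm', ← pow_mul, Int.cast_natCast,
      one_le_div (pow_pos (Nat.cast_pos.2 hp.pos) _)]
    exact_mod_cast hle
  have hsum : 0 ≤ ∑ t ∈ T, (D.diag χ t / (p : ℝ) ^ h - 1) :=
    hlog.trans (Finset.sum_le_sum fun t ht => Real.log_le_sub_one_of_pos
      (div_pos (hpos t ht) (pow_pos (Nat.cast_pos.2 hp.pos) _)))
  rw [Finset.sum_sub_distrib, ← Finset.sum_div, Finset.sum_const, nsmul_eq_mul, mul_one,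
    sub_nonneg, le_div_iff₀ (pow_pos (Nat.cast_pos.2 hp.pos) _)] at hsum
  exact hsum

end Diag

/-! ## The major subsection at a central element of a maximal pair -/

variable {B : Set (IrrCharacter G)} [Fact p.Prime] [CharP (resField M) p]

theorem major (hM : IsPModular p M) (hB : IsPBlock M B) {a : Pr (resField M) G}
    (hmax : IsMax p (Ek M B) a) {x : G} (hx : x ∈ a.1)
    (hxc : x ∈ Subgroup.centralizer (a.1 : Set G)) (hxp : ∃ i, orderOf x = p ^ i)
    {b : Set (IrrCharacter (secC x))} (hb : IsPBlock M b)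
    (hf : SubLE p ⊤ (Subgroup.zpowers x, zB M (secC x) b) a) :
    IsInducedBlock M (secC x) b B ∧ blockDefect p b = blockDefect p B ∧
      IsPairOf p (secC x) (zB M (secC x) b) a ∧
      IsDefGrp p (secC x) (zB M (secC x) b) a.1 := by
  classical
  have hp := hf.pairOf_iff.2 hmax.pairOf
  have hind := (induced_iff_pairOf hM hB hxp (secC_eq x) hb).2 hp
  have hPC : a.1 ≤ secC x := fun v hv => mem_secC.2 (Subgroup.mem_centralizer_iff.1 hxc v hv)
  have hCa : Subgroup.centralizer (a.1 : Set G) ≤ secC x := fun v hv =>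
    mem_secC.2 (Subgroup.mem_centralizer_iff.1 hv x hx).symm
  have hN : a.1 ≤ Subgroup.normalizer (Subgroup.zpowers x : Set G) :=
    hPC.trans (inf_le_right.trans (Subgroup.centralizer_le_normalizer _))
  obtain ⟨f', hf', -⟩ := existsUnique_nsub hmax.pair (Subgroup.zpowers_le.2 hx) hN
  obtain rfl : f' = zB M (secC x) b :=
    (existsUnique_below hmax.pair (Subgroup.zpowers_le.2 hx)).unique
      (Relation.ReflTransGen.single hf') hf
  have hpH : IsPairOf p (secC x) (zB M (secC x) b) a :=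
    ⟨(isPair_sub_iff hCa).2 ⟨hmax.pair, hPC⟩, isBlk_zB _ hb, hf'.occ⟩
  have hnoT := hmax.pairOf.noExt hmax.isDef
  have hnoH : NoExt p (secC x) a := fun c hc => by
    have hCc : Subgroup.centralizer (c.1 : Set G) ≤ secC x :=
      (Subgroup.centralizer_le hc.le).trans hCa
    exact hnoT c ⟨hmax.pair, ((isPair_sub_iff hCc).1 hc.right).1, hc.le, hc.normal, hc.inv, hc.occ⟩
  have hDb : IsDefectGroup p M b (a.1.subgroupOf (secC x)) :=
    (isDefectGroup_subgroupOf_iff hb hPC).2 (hnoH.isDefGrp hpH)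
  exact ⟨hind, blockDefect_eq_of_subgroupOf hM hind
    ((isDefectGroup_iff hB _).2 hmax.isDef) hPC hDb, hpH, hnoH.isDefGrp hpH⟩

/-! ## Keys -/

open scoped Classical in
/-- The block below a pair at a cyclic subgroup. -/
noncomputable def belowAt (p : ℕ) (a : Pr (resField M) G) (x : G) :
    MonoidAlgebra (resField M) G :=
  if h : ∃ f, SubLE p ⊤ (Subgroup.zpowers x, f) a then h.choose else 0

theorem belowAt_spec {a : Pr (resField M) G} (ha : IsPair p ⊤ a) {x : G} (hx : x ∈ a.1) :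
    SubLE p ⊤ (Subgroup.zpowers x, belowAt p a x) a := by
  classical
  have h : ∃ f, SubLE p ⊤ (Subgroup.zpowers x, f) a :=
    (existsUnique_below ha (Subgroup.zpowers_le.2 hx)).exists
  rw [belowAt, dif_pos h]
  exact h.choose_spec

theorem belowAt_congr {a : Pr (resField M) G} (ha : IsPair p ⊤ a) {x y : G} (hx : x ∈ a.1)
    (hy : Subgroup.zpowers y = Subgroup.zpowers x) : belowAt p a y = belowAt p a x := by
  have hy' : y ∈ a.1 := Subgroup.zpowers_le.1 (hy.le.trans (Subgroup.zpowers_le.2 hx))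
  have h := belowAt_spec ha hy'
  rw [hy] at h
  exact (existsUnique_below ha (Subgroup.zpowers_le.2 hx)).unique h (belowAt_spec ha hx)

/-- The subsection of a conjugate of a central element. -/
noncomputable def key (p : ℕ) (a : Pr (resField M) G) (gu : G × G) :
    G × MonoidAlgebra (resField M) G :=
  (gu.1 * gu.2 * gu.1⁻¹, belowAt p (cjP gu.1 a) (gu.1 * gu.2 * gu.1⁻¹))

theorem isMax_cjP {a : Pr (resField M) G} (hmax : IsMax p (Ek M B) a) (g : G) :
    IsMax p (Ek M B) (cjP g a) :=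
  ⟨hmax.pairOf.cjT g, hmax.isDef.cj' hmax.pairOf.blk (Subgroup.mem_top g)⟩

theorem conj_mem_center {a : Pr (resField M) G} {u : G} (hu : u ∈ a.1)
    (huc : u ∈ Subgroup.centralizer (a.1 : Set G)) (g : G) :
    g * u * g⁻¹ ∈ (cjP g a).1 ∧ g * u * g⁻¹ ∈ Subgroup.centralizer ((cjP g a).1 : Set G) := by
  refine ⟨mem_cjS.2 (by simpa [mul_assoc] using hu), ?_⟩
  rw [← cjS_centralizer, mem_cjS]
  simpa [mul_assoc] using huc

theorem pPow_of_mem {a : Pr (resField M) G} (ha : IsPair p ⊤ a) {x : G} (hx : x ∈ a.1) :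
    ∃ i, orderOf x = p ^ i := by
  obtain ⟨i, hi⟩ := IsPGroup.iff_orderOf.1 ha.pgroup ⟨x, hx⟩
  exact ⟨i, by rwa [← Subgroup.orderOf_coe] at hi⟩

/-- Two maximal pairs with the same subsection at a central element are conjugate by an element
of the centraliser. -/
theorem exists_stab_of_key_eq (hM : IsPModular p M) (hB : IsPBlock M B) {a : Pr (resField M) G}
    (hmax : IsMax p (Ek M B) a) {g g₀ u u₀ : G} (hu : u ∈ a.1)
    (huc : u ∈ Subgroup.centralizer (a.1 : Set G)) (hu₀ : u₀ ∈ a.1)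
    (hu₀c : u₀ ∈ Subgroup.centralizer (a.1 : Set G)) (hk : key p a (g, u) = key p a (g₀, u₀)) :
    ∃ t ∈ stabP a, t * u₀ * t⁻¹ = u := by
  classical
  obtain ⟨hx₀, hxc₀⟩ := conj_mem_center hu₀ hu₀c g₀
  obtain ⟨hx₁, hxc₁⟩ := conj_mem_center hu huc g
  have e1 : g * u * g⁻¹ = g₀ * u₀ * g₀⁻¹ := congrArg Prod.fst hk
  have hm₀ := isMax_cjP hmax g₀
  have hm₁ := isMax_cjP hmax g
  have e2 : belowAt p (cjP g a) (g * u * g⁻¹) = belowAt p (cjP g₀ a) (g₀ * u₀ * g₀⁻¹) :=
    congrArg Prod.snd hk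
  rw [e1] at hx₁ hxc₁ e2
  set x := g₀ * u₀ * g₀⁻¹ with hxdef
  have hf₀ := belowAt_spec hm₀.pair hx₀
  have hf₁ := belowAt_spec hm₁.pair hx₁
  rw [e2] at hf₁
  obtain ⟨b, hb, hbf⟩ := exists_eq_zB (H := secC x) (hf₀.left hm₀.pair).blk
  replace hbf : zB M (secC x) b = belowAt p (cjP g₀ a) x := hbf
  rw [← hbf] at hf₀ hf₁
  have hxp := pPow_of_mem hm₀.pair hx₀
  obtain ⟨-, -, hP₀, hD₀⟩ := major hM hB hm₀ hx₀ hxc₀ hxp hb hf₀
  obtain ⟨-, -, hP₁, hD₁⟩ := major hM hB hm₁ hx₁ hxc₁ hxp hb hf₁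
  obtain ⟨c, hc, hca⟩ := exists_conj_defect_pair hP₁ hP₀ hD₁ hD₀
  have hta : cjP (g⁻¹ * (c * g₀)) a = a := by
    rw [← cjP_cjP, ← cjP_cjP c g₀, hca, cjP_cjP, inv_mul_cancel, cjP_one]
  refine ⟨g⁻¹ * (c * g₀), ⟨mem_normalizer_of_cjS_eq (congrArg Prod.fst hta),
    congrArg Prod.snd hta⟩, ?_⟩
  have hcx : c * x = x * c := mem_secC.1 hc
  calc g⁻¹ * (c * g₀) * u₀ * (g⁻¹ * (c * g₀))⁻¹ = g⁻¹ * (c * x * c⁻¹) * g := by
        rw [hxdef]; group
    _ = g⁻¹ * (g * u * g⁻¹) * g := by rw [hcx, mul_inv_cancel_right, e1]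
    _ = u := by group

/-! ## The mass of a subsection -/

open scoped Classical in
/-- The squared norm of the part of a character at a subsection. -/
noncomputable def mass (p : ℕ) (χ : IrrCharacter G) (C : Subgroup G) (y : G)
    (f : MonoidAlgebra (resField M) G) : ℝ :=
  ∑ b ∈ blocks M C, if zB M C b = f then
    ∑ s ∈ (Finset.univ : Finset C).filter (fun s => ¬ p ∣ orderOf s),
      Complex.normSq (blockPart b (secFun y C (χ : G → ℂ)) s)
    else 0

open scoped Classical in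
theorem sum_mass_le (hM : IsPModular p M) (χ : IrrCharacter G)
    (S : Finset (G × MonoidAlgebra (resField M) G)) (hS : ∀ k ∈ S, ∃ i, orderOf k.1 = p ^ i) :
    ∑ k ∈ S, mass p χ (secC k.1) k.1 k.2 ≤ (Nat.card G : ℝ) := by
  classical
  have hsec : ∀ x : G, (∃ i, orderOf x = p ^ i) →
      ∑ s ∈ (Finset.univ : Finset (secC x)).filter (fun s => ¬ p ∣ orderOf s),
        Complex.normSq ((χ : G → ℂ) (x * (s : G))) =
      ∑ b ∈ blocks M (secC x), ∑ s ∈ (Finset.univ : Finset (secC x)).filter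
        (fun s => ¬ p ∣ orderOf s),
        Complex.normSq (blockPart b (secFun x (secC x) (χ : G → ℂ)) s) := by
    intro x _
    have hcl : IsClassFunction (secC x) (secFun x (secC x) (χ : G → ℂ)) :=
      isClassFunction_secFun (secC_eq x) (IsCharacter.isClassFunction (irr_isCharacter χ))
    apply Complex.ofReal_injective
    simp only [Complex.ofReal_sum, ← Complex.mul_conj]
    rw [Finset.sum_congr rfl fun s _ => by
      rw [show (χ : G → ℂ) (x * (s : G)) = secFun x (secC x) (χ : G → ℂ) s from rfl,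
        ← sum_blockPart (M := M) hcl s, map_sum, Finset.sum_mul_sum]]
    rw [Finset.sum_comm]
    refine Finset.sum_congr rfl fun b hb => ?_
    rw [Finset.sum_comm, Finset.sum_eq_single b]
    · intro b' hb' hne
      exact blockPart_regular_orth hM (mem_blocks.1 hb) (mem_blocks.1 hb') (Ne.symm hne) _ _
    · exact fun h => absurd hb h
  have htot : ∑ g : G, Complex.normSq ((χ : G → ℂ) g) = (Nat.card G : ℝ) := by
    apply Complex.ofReal_injective
    simp only [Complex.ofReal_sum, ← Complex.mul_conj, Complex.ofReal_natCast]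
    have h := classInner_self_irr χ.2
    rw [classInner, inv_mul_eq_iff_eq_mul₀ (Nat.cast_ne_zero.2 Nat.card_pos.ne'), mul_one] at h
    exact h
  rw [← htot]
  have h1 := sum_eq_sum_sections (p := p) fun g : G => (Complex.normSq ((χ : G → ℂ) g) : ℂ)
  have h2 : ∑ g : G, Complex.normSq ((χ : G → ℂ) g) = ∑ x : G, if (∃ i, orderOf x = p ^ i) then
      ∑ s ∈ (Finset.univ : Finset (secC x)).filter (fun s => ¬ p ∣ orderOf s),
        Complex.normSq ((χ : G → ℂ) (x * (s : G))) else 0 := by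
    apply Complex.ofReal_injective
    rw [Complex.ofReal_sum, Complex.ofReal_sum, h1]
    refine Finset.sum_congr rfl fun x _ => ?_
    split_ifs <;> simp
  rw [h2, ← Finset.sum_fiberwise S Prod.fst]
  refine Finset.sum_le_sum fun x _ => ?_
  rcases (S.filter fun k => k.1 = x).eq_empty_or_nonempty with he | ⟨k, hk⟩
  · rw [he, Finset.sum_empty]
    split_ifs
    exacts [Finset.sum_nonneg fun _ _ => Complex.normSq_nonneg _, le_rfl]
  obtain ⟨hkS, rfl⟩ := Finset.mem_filter.1 hk
  rw [if_pos (hS k hkS), hsec _ (hS k hkS), Finset.sum_congr rfl fun l hl => by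
    rw [(Finset.mem_filter.1 hl).2]]
  simp only [mass]
  rw [Finset.sum_comm]
  refine Finset.sum_le_sum fun b _ => ?_
  rw [← Finset.sum_filter, Finset.sum_const, nsmul_eq_mul]
  refine mul_le_of_le_one_left (Finset.sum_nonneg fun _ _ => Complex.normSq_nonneg _) ?_
  have hc : ((S.filter fun l => l.1 = k.1).filter fun l => zB M (secC k.1) b = l.2).card ≤ 1 := by
    refine Finset.card_le_one.2 fun l hl l' hl' => ?_
    simp only [Finset.mem_filter] at hl hl'
    exact Prod.ext (hl.1.2.trans hl'.1.2.symm) (hl.2.symm.trans hl'.2)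
  exact_mod_cast hc

/-! ## The bound -/

theorem height_add_center_le (hM : IsPModular p M) (hB : IsPBlock M B) {a : Pr (resField M) G}
    (hmax : IsMax p (Ek M B) a) {H : Subgroup G}
    (hH : H = a.1 ⊔ Subgroup.centralizer (a.1 : Set G)) {c : ℕ}
    (hc : Nat.card (Subgroup.center a.1) = p ^ c) {χ : IrrCharacter G} (hχ : χ ∈ B) :
    p ^ (blockHeight p B (χ : G → ℂ) + c) ≤ H.relIndex (stabP a) * p ^ blockDefect p B := by
  classical
  have hp := hM.1
  set h := blockHeight p B (χ : G → ℂ) with hh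
  set U := (Finset.univ : Finset G).filter
    (fun u => u ∈ a.1 ∧ u ∈ Subgroup.centralizer (a.1 : Set G)) with hU
  have hUcard : U.card = p ^ c := by
    rw [← hc, hU, ← Fintype.card_subtype, ← Nat.card_eq_fintype_card]
    refine Nat.card_congr
      { toFun := fun u => ⟨⟨u.1, u.2.1⟩, Subgroup.mem_center_iff.2 fun v =>
          Subtype.ext (Subgroup.mem_centralizer_iff.1 u.2.2 v v.2)⟩
        invFun := fun w => ⟨((w : a.1) : G), (w : a.1).2, Subgroup.mem_centralizer_iff.2 fun v hv =>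
          congrArg Subtype.val (Subgroup.mem_center_iff.1 w.2 ⟨v, hv⟩)⟩
        left_inv := fun u => rfl
        right_inv := fun w => rfl }
  set q := p ^ (c + 1) with hq
  have hUq : ∀ u ∈ U, u ^ q = 1 := by
    intro u hu
    obtain ⟨h1, h2⟩ := (Finset.mem_filter.1 hu).2
    have hz : (⟨u, h1⟩ : a.1) ∈ Subgroup.center a.1 := Subgroup.mem_center_iff.2 fun v =>
      Subtype.ext (Subgroup.mem_centralizer_iff.1 h2 v v.2)
    have hord := congrArg (Subtype.val ∘ Subtype.val)
      (pow_card_eq_one' (x := (⟨⟨u, h1⟩, hz⟩ : Subgroup.center a.1)))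
    simp only [hc, Function.comp_apply, SubmonoidClass.coe_pow, OneMemClass.coe_one] at hord
    rw [hq, pow_succ, pow_mul, hord, one_pow]
  set S := ((Finset.univ : Finset G) ×ˢ U).image (key p a) with hS
  have hkeyS : ∀ g u, u ∈ U → key p a (g, u) ∈ S := fun g u hu =>
    Finset.mem_image_of_mem _ (Finset.mk_mem_product (Finset.mem_univ g) hu)
  have hSp : ∀ k ∈ S, ∃ i, orderOf k.1 = p ^ i := by
    intro k hk
    obtain ⟨⟨g, u⟩, hgu, rfl⟩ := Finset.mem_image.1 hk
    obtain ⟨h1, h2⟩ := (Finset.mem_filter.1 (Finset.mem_product.1 hgu).2).2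
    exact pPow_of_mem (isMax_cjP hmax g).pair (conj_mem_center h1 h2 g).1
  have hperm : ∀ t ∈ primExps p q, ∀ k ∈ S,
      (k.1 ^ t, k.2) ∈ S ∧ secC (k.1 ^ t) = secC k.1 := by
    intro t ht k hk
    have hSp' := hSp k hk
    obtain ⟨⟨g, u⟩, hgu, rfl⟩ := Finset.mem_image.1 hk
    have hu := (Finset.mem_product.1 hgu).2
    obtain ⟨h1, h2⟩ := (Finset.mem_filter.1 hu).2
    have htp := (Finset.mem_filter.1 ht).2
    refine ⟨?_, by rw [secC_eq, secC_eq, centralizer_pow_eq hp hSp' htp]⟩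
    have hut : u ^ t ∈ U :=
      Finset.mem_filter.2 ⟨Finset.mem_univ _, pow_mem h1 t, pow_mem h2 t⟩
    convert hkeyS g (u ^ t) hut using 1
    have hxt : g * u ^ t * g⁻¹ = (g * u * g⁻¹) ^ t := conj_pow.symm
    refine Prod.ext hxt.symm ?_
    show belowAt p (cjP g a) (g * u * g⁻¹) = belowAt p (cjP g a) (g * u ^ t * g⁻¹)
    rw [hxt]
    refine (belowAt_congr (isMax_cjP hmax g).pair (conj_mem_center h1 h2 g).1 ?_).symm
    obtain ⟨i, hi⟩ := hSp'
    obtain ⟨m, hm⟩ := exists_pow_eq_self_of_coprime (x := g * u * g⁻¹) (n := t) (by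
      rw [show orderOf (g * u * g⁻¹) = p ^ i from hi]
      exact Nat.Coprime.pow_right _ ((hp.coprime_iff_not_dvd.2 htp).symm))
    exact le_antisymm (Subgroup.zpowers_le.2 (Subgroup.npow_mem_zpowers _ t))
      (Subgroup.zpowers_le.2 (by
        have h' := Subgroup.npow_mem_zpowers ((g * u * g⁻¹) ^ t) m
        rwa [hm] at h'))
  have hpow : ∀ k ∈ S, k.1 ^ q = 1 := by
    intro k hk
    obtain ⟨⟨g, u⟩, hgu, rfl⟩ := Finset.mem_image.1 hk
    show (g * u * g⁻¹) ^ q = 1
    rw [conj_pow, hUq u (Finset.mem_product.1 hgu).2, mul_one, mul_inv_cancel]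
  have htwist : ∀ t ∈ primExps p q,
      ∑ k ∈ S, mass p χ (secC k.1) (k.1 ^ t) k.2 ≤ (Nat.card G : ℝ) := by
    intro t ht
    refine le_of_eq_of_le ?_ (sum_mass_le hM χ S hSp)
    have hinj : Set.InjOn (fun k : G × MonoidAlgebra (resField M) G => (k.1 ^ t, k.2)) S := by
      intro k hk l hl e
      obtain ⟨m, -, hm⟩ := Nat.exists_mul_mod_eq_one_of_coprime
        (Nat.Coprime.pow_right (c + 1) (hp.coprime_iff_not_dvd.2 (Finset.mem_filter.1 ht).2).symm)
        (Nat.one_lt_pow (Nat.succ_ne_zero c) hp.one_lt)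
      have hback : ∀ y : G, y ^ q = 1 → (y ^ t) ^ m = y := fun y hy => by
        rw [← pow_mul, ← Nat.div_add_mod (t * m) (p ^ (c + 1)), hm, pow_add, pow_one, pow_mul, hy,
          one_pow, one_mul]
      have e1 : k.1 ^ t = l.1 ^ t := (congrArg Prod.fst e :)
      exact Prod.ext (by rw [← hback _ (hpow k hk), e1, hback _ (hpow l hl)])
        (congrArg Prod.snd e :)
    have himg : S.image (fun k => (k.1 ^ t, k.2)) = S :=
      Finset.eq_of_subset_of_card_le (Finset.image_subset_iff.2 fun k hk => (hperm t ht k hk).1)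
        (Finset.card_image_of_injOn hinj).ge
    conv_rhs => rw [← himg, Finset.sum_image hinj]
    refine Finset.sum_congr rfl fun k hk => ?_
    rw [(hperm t ht k hk).2]
  have hlow : ∀ k ∈ S, (Nat.card (secC k.1) : ℝ) * ((primExps p q).card * (p : ℝ) ^ h) ≤
      (p : ℝ) ^ blockDefect p B * ∑ t ∈ primExps p q, mass p χ (secC k.1) (k.1 ^ t) k.2 := by
    intro k hk
    obtain ⟨⟨g, u⟩, hgu, rfl⟩ := Finset.mem_image.1 hk
    obtain ⟨h1, h2⟩ := (Finset.mem_filter.1 (Finset.mem_product.1 hgu).2).2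
    obtain ⟨hx, hxc⟩ := conj_mem_center h1 h2 g
    have hm' := isMax_cjP hmax g
    have hf := belowAt_spec hm'.pair hx
    have hq' := hpow _ hk
    show (Nat.card (secC (g * u * g⁻¹)) : ℝ) * _ ≤ _ * ∑ t ∈ primExps p q,
      mass p χ (secC (g * u * g⁻¹)) ((g * u * g⁻¹) ^ t) (belowAt p (cjP g a) (g * u * g⁻¹))
    change (g * u * g⁻¹) ^ q = 1 at hq'
    generalize g * u * g⁻¹ = x at hx hxc hf hq' ⊢
    obtain ⟨b, hb, hbf⟩ := exists_eq_zB (H := secC x) (hf.left hm'.pair).blk
    replace hbf : zB M (secC x) b = belowAt p (cjP g a) x := hbf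
    rw [← hbf] at hf ⊢
    have hxp := pPow_of_mem hm'.pair hx
    obtain ⟨hind, hbd, -, -⟩ := major hM hB hm' hx hxc hxp hb hf
    obtain ⟨D, hDj⟩ := exists_subData_level hM hxp (secC_eq x) hind hq'
    have hle := le_sum_diag D hbd hχ
    rw [hDj] at hle
    have hdiag : ∀ t : ℕ, (p : ℝ) ^ blockDefect p B * mass p χ (secC x) (x ^ t)
        (zB M (secC x) b) = (Nat.card (secC x) : ℝ) * D.diag χ t := by
      intro t
      rw [mass, Finset.sum_eq_single b, if_pos rfl]
      · apply Complex.ofReal_injective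
        rw [Complex.ofReal_mul, Complex.ofReal_mul, D.diag_eq, regPair_eq_sum, blockScale, hbd,
          D.blockPart_secFun, Complex.ofReal_sum]
        simp only [← Complex.mul_conj]
        push_cast
        field_simp
      · intro b' hb' hne
        rw [if_neg fun e => hne (zB_injective _ (mem_blocks.1 hb') hb e)]
      · exact fun e => absurd (mem_blocks.2 hb) e
    rw [Finset.mul_sum, Finset.sum_congr rfl fun t _ => hdiag t, ← Finset.mul_sum]
    exact mul_le_mul_of_nonneg_left hle (Nat.cast_nonneg _)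
  have hanalytic : p ^ h * ∑ k ∈ S, Nat.card (secC k.1) ≤
      p ^ blockDefect p B * Nat.card G := by
    set φ : ℝ := ((primExps p q).card : ℝ) with hφ
    have hφ0 : 0 < φ := Nat.cast_pos.2 (Finset.card_pos.2 ⟨1, one_mem_primExps hp.one_lt⟩)
    have h1 : ((p : ℝ) ^ h * ∑ k ∈ S, (Nat.card (secC k.1) : ℝ)) * φ ≤
        ((p : ℝ) ^ blockDefect p B * Nat.card G) * φ := by
      calc ((p : ℝ) ^ h * ∑ k ∈ S, (Nat.card (secC k.1) : ℝ)) * φ
          = ∑ k ∈ S, (Nat.card (secC k.1) : ℝ) * (φ * (p : ℝ) ^ h) := by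
            rw [Finset.mul_sum, Finset.sum_mul]
            exact Finset.sum_congr rfl fun _ _ => by ring
        _ ≤ ∑ k ∈ S, (p : ℝ) ^ blockDefect p B *
              ∑ t ∈ primExps p q, mass p χ (secC k.1) (k.1 ^ t) k.2 := Finset.sum_le_sum hlow
        _ ≤ (p : ℝ) ^ blockDefect p B * (φ * Nat.card G) := by
            rw [← Finset.mul_sum, Finset.sum_comm]
            refine mul_le_mul_of_nonneg_left ?_ (pow_nonneg (Nat.cast_nonneg _) _)
            refine (Finset.sum_le_sum htwist).trans ?_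
            rw [Finset.sum_const, nsmul_eq_mul]
        _ = _ := by ring
    have h2 := le_of_mul_le_mul_right h1 hφ0
    exact_mod_cast h2
  have hcount : Nat.card G * p ^ c ≤ H.relIndex (stabP a) * ∑ k ∈ S, Nat.card (secC k.1) := by
    rw [← hUcard, Nat.card_eq_fintype_card, ← Finset.card_univ, ← Finset.card_product,
      Finset.mul_sum,
      Finset.card_eq_sum_card_fiberwise (f := key p a) (t := S)
        (fun gu hgu => Finset.mem_image_of_mem _ hgu)]
    refine Finset.sum_le_sum fun k hk => ?_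
    obtain ⟨⟨g₀, u₀⟩, hgu₀, rfl⟩ := Finset.mem_image.1 hk
    obtain ⟨h1, h2⟩ := (Finset.mem_filter.1 (Finset.mem_product.1 hgu₀).2).2
    set F := ((Finset.univ : Finset G) ×ˢ U).filter (fun gu => key p a gu = key p a (g₀, u₀))
    let O := (Finset.univ : Finset (stabP a ⧸ H.subgroupOf (stabP a))).image
      (fun z => ((z.out : stabP a) : G) * u₀ * ((z.out : stabP a) : G)⁻¹)
    have hO : F.image Prod.snd ⊆ O := by
      intro v hv
      obtain ⟨⟨g, v'⟩, hgv, rfl⟩ := Finset.mem_image.1 hv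
      obtain ⟨hgv1, hgv2⟩ := Finset.mem_filter.1 hgv
      obtain ⟨hv1, hv2⟩ := (Finset.mem_filter.1 (Finset.mem_product.1 hgv1).2).2
      obtain ⟨t, ht, rfl⟩ := exists_stab_of_key_eq hM hB hmax hv1 hv2 h1 h2 hgv2
      refine Finset.mem_image.2 ⟨QuotientGroup.mk ⟨t, ht⟩, Finset.mem_univ _, ?_⟩
      obtain ⟨w, hw⟩ := QuotientGroup.mk_out_eq_mul (H.subgroupOf (stabP a)) ⟨t, ht⟩
      have hHu : H ≤ Subgroup.centralizer ({u₀} : Set G) := by
        rw [hH]
        exact sup_le (le_centralizer_singleton_iff.2 h2) (fun v hv =>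
          Subgroup.mem_centralizer_singleton_iff.2 (Subgroup.mem_centralizer_iff.1 hv u₀ h1).symm)
      have hwu := Subgroup.mem_centralizer_singleton_iff.1 (hHu (Subgroup.mem_subgroupOf.1 w.2))
      rw [hw]
      simp only [Subgroup.coe_mul, mul_inv_rev]
      calc t * ((w : stabP a) : G) * u₀ * (((w : stabP a) : G)⁻¹ * t⁻¹)
          = t * (((w : stabP a) : G) * u₀ * ((w : stabP a) : G)⁻¹) * t⁻¹ := by group
        _ = _ := by rw [hwu, mul_inv_cancel_right]
    have hfib : ∀ v ∈ F.image Prod.snd,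
        (F.filter fun gu => gu.2 = v).card ≤ Nat.card (secC (key p a (g₀, u₀)).1) := by
      intro v hv
      obtain ⟨⟨g₁, v'⟩, hgv, rfl⟩ := Finset.mem_image.1 hv
      set x := (key p a (g₀, u₀)).1
      rw [Nat.card_eq_fintype_card, Fintype.card_subtype (fun g : G => g ∈ secC x)]
      refine Finset.card_le_card_of_injOn (fun gu => gu.1 * g₁⁻¹) (fun gu hgu => ?_)
        (fun gu hgu gu' hgu' e => Prod.ext (mul_right_cancel e)
          ((Finset.mem_filter.1 hgu).2.trans (Finset.mem_filter.1 hgu').2.symm))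
      obtain ⟨g, v''⟩ := gu
      obtain ⟨hgF, hv'' : v'' = v'⟩ := Finset.mem_filter.1 hgu
      subst hv''
      have e1 : g * v'' * g⁻¹ = x := congrArg Prod.fst (Finset.mem_filter.1 hgF).2
      have e2 : g₁ * v'' * g₁⁻¹ = x := congrArg Prod.fst (Finset.mem_filter.1 hgv).2
      refine Finset.mem_filter.2 ⟨Finset.mem_univ _, mem_secC.2 ?_⟩
      calc g * g₁⁻¹ * x = g * g₁⁻¹ * (g₁ * v'' * g₁⁻¹) := by rw [e2]
        _ = g * v'' * g⁻¹ * (g * g₁⁻¹) := by group
        _ = x * (g * g₁⁻¹) := by rw [e1]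
    calc F.card = ∑ v ∈ F.image Prod.snd, (F.filter fun gu => gu.2 = v).card :=
          Finset.card_eq_sum_card_image _ _
      _ ≤ ∑ _v ∈ F.image Prod.snd, Nat.card (secC (key p a (g₀, u₀)).1) := Finset.sum_le_sum hfib
      _ ≤ H.relIndex (stabP a) * Nat.card (secC (key p a (g₀, u₀)).1) := by
        rw [Finset.sum_const, smul_eq_mul]
        refine Nat.mul_le_mul_right _ ((Finset.card_le_card hO).trans (Finset.card_image_le.trans ?_))
        rw [Finset.card_univ, ← Nat.card_eq_fintype_card]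
        exact le_rfl
  refine Nat.le_of_mul_le_mul_left ?_ (Nat.card_pos (α := G))
  calc Nat.card G * p ^ (h + c) = p ^ h * (Nat.card G * p ^ c) := by ring
    _ ≤ p ^ h * (H.relIndex (stabP a) * ∑ k ∈ S, Nat.card (secC k.1)) :=
        Nat.mul_le_mul_left _ hcount
    _ = H.relIndex (stabP a) * (p ^ h * ∑ k ∈ S, Nat.card (secC k.1)) := by ring
    _ ≤ H.relIndex (stabP a) * (p ^ blockDefect p B * Nat.card G) :=
        Nat.mul_le_mul_left _ hanalytic
    _ = _ := by ring

end Cfsg.Agent.InertiaHeight
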