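/-
The subsections of a block with abelian defect group, sorted by a stable retraction of the defect
group.
-/
import Cfsg.Agent.Lib.BrauerPairs.InertiaHeight
import Cfsg.Agent.Lib.BrauerPairs.FreeInertia
import Cfsg.Agent.Lib.Star.CenterCount

set_option linter.unusedSectionVars false
set_option linter.style.haveILetI false

namespace Cfsg.Agent.AbelianSections

open Cfsg Cfsg.Agent.Blocks Cfsg.Agent.BrauerPairs Cfsg.Agent.Char Cfsg.Agent.Star
  Cfsg.Agent.InertiaHeight
open scoped ComplexConjugate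

universe u

variable {G : Type u} [Group G] [Fintype G] {p : ℕ} [Fact p.Prime] {M : Ideal AlgInt} [M.IsPrime]
  [CharP (resField M) p] {B : Set (IrrCharacter G)} {a : Pr (resField M) G}

/-! ## Fusion -/

/-- With an abelian defect group the stabiliser of the maximal pair controls the fusion. -/
theorem exists_stab_of_fusion (hmax : IsMax p (Ek M B) a)
    (hab : a.1 ≤ Subgroup.centralizer (a.1 : Set G)) {g : G} {b : Pr (resField M) G}
    (hb : SubLE p ⊤ b a) (hgb : SubLE p ⊤ (cjP g b) a) :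
    ∃ t ∈ stabP a, ∀ u ∈ b.1, g * u * g⁻¹ = t * u * t⁻¹ := by
  set C := Subgroup.centralizer (b.1 : Set G) with hC
  have hPC : a.1 ≤ C := hab.trans (Subgroup.centralizer_le hb.le)
  have hmax' := isMax_cjP hmax g⁻¹
  have hb' : SubLE p ⊤ b (cjP g⁻¹ a) := by
    have h := hgb.cjT g⁻¹
    rwa [cjP_cjP, inv_mul_cancel, cjP_one] at h
  have hPC' : (cjP g⁻¹ a).1 ≤ C := by
    refine le_trans ?_ (Subgroup.centralizer_le hb'.le)
    show cjS g⁻¹ a.1 ≤ Subgroup.centralizer (cjS g⁻¹ a.1 : Set G)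
    rw [← cjS_centralizer]
    exact cjS_mono g⁻¹ hab
  have hpo : ∀ u : Pr (resField M) G, IsPair p ⊤ u → SubLE p ⊤ b u → u.1 ≤ C →
      IsPairOf p C b.2 u := by
    intro u hu hbu huC
    exact ⟨(isPair_sub_iff (Subgroup.centralizer_le hbu.le)).2 ⟨hu, huC⟩,
      (hb.left hmax.pair).blkC,
      (hbu.nsub hu (huC.trans (Subgroup.centralizer_le_normalizer _))).occ⟩
  obtain ⟨c, hc, hce⟩ := exists_conj_defect_pair (hpo a hmax.pair hb hPC)
    (hpo _ hmax'.pair hb' hPC') (abelian_defect hmax hb hPC) (abelian_defect hmax' hb' hPC')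
  rw [cjP_cjP] at hce
  have hst : c * g⁻¹ ∈ stabP a :=
    ⟨mem_normalizer_of_cjS_eq (congrArg Prod.fst hce), congrArg Prod.snd hce⟩
  refine ⟨(c * g⁻¹)⁻¹, inv_mem hst, fun u hu => ?_⟩
  have hcu : c * u = u * c := (Subgroup.mem_centralizer_iff.1 hc u hu).symm
  calc g * u * g⁻¹ = g * c⁻¹ * (c * u) * g⁻¹ := by group
    _ = g * c⁻¹ * (u * c) * g⁻¹ := by rw [hcu]
    _ = _ := by group

/-- A stable retraction of an abelian normal subgroup. -/
theorem exists_retraction {T P : Subgroup G} (hTN : T ≤ Subgroup.normalizer (P : Set G))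
    (hPC : P ≤ Subgroup.centralizer (P : Set G)) (hP : IsPGroup p P)
    (he : ¬ p ∣ (Subgroup.centralizer (P : Set G)).relIndex T) :
    ∃ π : P →* P, (∀ t ∈ T, ∀ (v : P) (h : t * (v : G) * t⁻¹ ∈ P), π ⟨_, h⟩ = π v) ∧
      (∀ t ∈ T, ∀ v : P, t * ((π v : P) : G) * t⁻¹ = (π v : G)) ∧
      ∀ v : P, (∀ t ∈ T, t * (v : G) * t⁻¹ = v) → π v = v := by
  classical
  letI : CommGroup P :=
    { (inferInstance : Group P) with
      mul_comm := fun x y => Subtype.ext (Subgroup.mem_centralizer_iff.1 (hPC y.2) x x.2) }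
  let f : T →* MulAut P := (P.normalizerMonoidHom).comp (Subgroup.inclusion hTN)
  have hf : ∀ (t : T) (v : P), ((f t v : P) : G) = (t : G) * v * (t : G)⁻¹ := fun t v => rfl
  have hker : f.ker = (Subgroup.centralizer (P : Set G)).subgroupOf T := by
    rw [← MonoidHom.comap_ker, Subgroup.normalizerMonoidHom_ker]
    rfl
  have hcard : Nat.card f.range = (Subgroup.centralizer (P : Set G)).relIndex T := by
    rw [← Subgroup.index_ker, hker]; rfl
  obtain ⟨n, hn⟩ := IsPGroup.iff_card.1 hP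
  obtain ⟨m, -, hm⟩ := Nat.exists_mul_mod_eq_one_of_coprime
    (Nat.Coprime.pow_right (n + 1)
      ((Fact.out : p.Prime).coprime_iff_not_dvd.2 (hcard ▸ he)).symm)
    (Nat.one_lt_pow (Nat.succ_ne_zero n) (Fact.out : p.Prime).one_lt)
  have hpow : ∀ v : P, v ^ (Nat.card f.range * m) = v := fun v => by
    have hq : v ^ p ^ (n + 1) = 1 := by
      rw [pow_succ, pow_mul, ← hn, pow_card_eq_one', one_pow]
    rw [← Nat.div_add_mod (Nat.card f.range * m) (p ^ (n + 1)), hm, pow_add, pow_one, pow_mul, hq,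
      one_pow, one_mul]
  let N : P →* P :=
    { toFun := fun v => (∏ σ : f.range, (σ : MulAut P) v) ^ m
      map_one' := by simp
      map_mul' := fun v w => by simp [Finset.prod_mul_distrib, mul_pow] }
  have hleft : ∀ (s : f.range) (v : P), (s : MulAut P) (N v) = N v := fun s v => by
    show (s : MulAut P) ((∏ σ : f.range, (σ : MulAut P) v) ^ m) = _
    rw [map_pow, map_prod]
    congr 1
    exact Fintype.prod_equiv (Equiv.mulLeft s) _ _ fun σ => rfl
  have hright : ∀ (s : f.range) (v : P), N ((s : MulAut P) v) = N v := fun s v => by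
    show (∏ σ : f.range, (σ : MulAut P) ((s : MulAut P) v)) ^ m = _
    congr 1
    exact Fintype.prod_equiv (Equiv.mulRight s) _ _ fun σ => rfl
  refine ⟨N, fun t ht v h => ?_, fun t ht v => ?_, fun v hv => ?_⟩
  · rw [← hright ⟨f ⟨t, ht⟩, ⟨_, rfl⟩⟩ v]
    exact congrArg N (Subtype.ext (hf ⟨t, ht⟩ v).symm)
  · have h := congrArg (fun w : P => (w : G)) (hleft ⟨f ⟨t, ht⟩, ⟨_, rfl⟩⟩ v)
    rwa [hf] at h
  · have hfix : ∀ σ : f.range, (σ : MulAut P) v = v := by
      rintro ⟨_, t, rfl⟩
      exact Subtype.ext ((hf t v).trans (hv t t.2))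
    show (∏ σ : f.range, (σ : MulAut P) v) ^ m = v
    rw [Finset.prod_congr rfl fun σ _ => hfix σ, Finset.prod_const, Finset.card_univ,
      ← Nat.card_eq_fintype_card, ← pow_mul, hpow]

/-! ## Blocks below the maximal pair -/

/-- The span of the regular parts transported along an isomorphism. -/
theorem blockRank_pullB {H H' : Type u} [Group H] [Fintype H] [Group H'] [Fintype H'] (e : H ≃* H')
    (b : Set (IrrCharacter H')) : blockRank p (pullB e b) = blockRank p b := by
  classical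
  let L : (H' → ℂ) ≃ₗ[ℂ] (H → ℂ) := LinearEquiv.funCongrLeft ℂ ℂ e.toEquiv
  have hL : ∀ χ : IrrCharacter H', pRegularPart p (pullIrr e χ : H → ℂ) =
      L (pRegularPart p (χ : H' → ℂ)) := by
    intro χ
    funext h
    show _ = pRegularPart p (χ : H' → ℂ) (e h)
    rw [pRegularPart_apply, pRegularPart_apply, pullIrr_apply, MulEquiv.orderOf_eq]
  have himg : (fun χ : IrrCharacter H => pRegularPart p (χ : H → ℂ)) '' pullB e b =
      L.toLinearMap '' ((fun χ : IrrCharacter H' => pRegularPart p (χ : H' → ℂ)) '' b) := by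
    ext f
    constructor
    · rintro ⟨χ, hχ, rfl⟩
      refine ⟨_, ⟨pullIrr e.symm χ, hχ, rfl⟩, ?_⟩
      show L _ = pRegularPart p (χ : H → ℂ)
      rw [← hL, pullIrr_pullIrr]
    · rintro ⟨_, ⟨χ, hχ, rfl⟩, rfl⟩
      exact ⟨pullIrr e χ, (pullIrr_mem_pullB e b χ).2 hχ, hL χ⟩
  rw [blockRank, blockRank, himg, ← Submodule.map_span]
  exact LinearEquiv.finrank_map_eq L _

theorem card_pullB {H H' : Type u} [Group H] [Fintype H] [Group H'] [Fintype H'] (e : H ≃* H')
    (b : Set (IrrCharacter H')) : Nat.card (pullB e b) = Nat.card b :=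
  Nat.card_congr
    { toFun := fun χ => ⟨pullIrr e.symm χ.1, χ.2⟩
      invFun := fun χ => ⟨pullIrr e χ.1, (pullIrr_mem_pullB e b χ.1).2 χ.2⟩
      left_inv := fun χ => Subtype.ext (pullIrr_pullIrr e χ.1)
      right_inv := fun χ => Subtype.ext (pullIrr_symm_pullIrr e χ.1) }

open scoped Classical in
/-- The rank of the block of a subgroup with a given pair. -/
noncomputable def lr (p : ℕ) (a : Pr (resField M) G) (K : Subgroup G) : ℕ :=
  ∑ b ∈ blocks M K, if IsPairOf p K (zB M K b) a then blockRank p b else 0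

open scoped Classical in
/-- The size of the block of a subgroup with a given pair. -/
noncomputable def kr (p : ℕ) (a : Pr (resField M) G) (K : Subgroup G) : ℕ :=
  ∑ b ∈ blocks M K, if IsPairOf p K (zB M K b) a then Nat.card b else 0

theorem lr_eq {K : Subgroup G} {b : Set (IrrCharacter K)} (hb : IsPBlock M b)
    (hp : IsPairOf p K (zB M K b) a) :
    lr p a K = blockRank p b ∧ kr p a K = Nat.card b := by
  classical
  constructor <;>
  · simp only [lr, kr]
    rw [Finset.sum_eq_single b, if_pos hp]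
    · intro b' hb' hne
      rw [if_neg fun h => hne (zB_injective _ (mem_blocks.1 hb') hb
        ((existsUnique_pairOf hp.pair).unique h hp))]
    · exact fun h => absurd (mem_blocks.2 hb) h

theorem exists_loc {K : Subgroup G} (hp : IsPair p K a) :
    ∃ b : Set (IrrCharacter K), IsPBlock M b ∧ IsPairOf p K (zB M K b) a := by
  obtain ⟨z, hz, -⟩ := existsUnique_pairOf hp
  obtain ⟨b, hb, rfl⟩ := exists_eq_zB hz.blk
  exact ⟨b, hb, hz⟩

theorem le_secC (hab : a.1 ≤ Subgroup.centralizer (a.1 : Set G)) {u : G} (hu : u ∈ a.1) :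
    a.1 ≤ secC u ∧ Subgroup.centralizer (a.1 : Set G) ≤ secC u :=
  ⟨fun _ hv => mem_secC.2 ((Subgroup.mem_centralizer_iff.1 (hab hv) u hu).symm),
    fun _ hv => mem_secC.2 ((Subgroup.mem_centralizer_iff.1 hv u hu).symm)⟩

/-- The block below the maximal pair is the block with that pair. -/
theorem pairOf_belowAt (ha : IsPair p ⊤ a) (hab : a.1 ≤ Subgroup.centralizer (a.1 : Set G))
    {u : G} (hu : u ∈ a.1) {b : Set (IrrCharacter (secC u))} (hb : IsPBlock M b)
    (hbf : zB M (secC u) b = belowAt p a u) : IsPairOf p (secC u) (zB M (secC u) b) a := by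
  have h := belowAt_spec ha hu
  rw [← hbf] at h
  obtain ⟨hPC, hCa⟩ := le_secC hab hu
  exact ⟨(isPair_sub_iff hCa).2 ⟨ha, hPC⟩, isBlk_zB _ hb,
    (h.nsub ha (hPC.trans (inf_le_right.trans (Subgroup.centralizer_le_normalizer _)))).occ⟩

/-- Conjugation does not change the local rank. -/
theorem lr_cjP (hmax : IsMax p (Ek M B) a) (hab : a.1 ≤ Subgroup.centralizer (a.1 : Set G))
    (g : G) {u : G} (hu : u ∈ a.1) {b : Set (IrrCharacter (secC (g * u * g⁻¹)))}
    (hb : IsPBlock M b) (hbf : zB M (secC (g * u * g⁻¹)) b = belowAt p (cjP g a) (g * u * g⁻¹)) :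
    lr p a (secC u) = blockRank p b := by
  have h : cjS g (secC u) = secC (g * u * g⁻¹) := cjS_secC g u
  have hb0 : IsPBlock M (pullB (cjEquiv g h) b) := isPBlock_pullB _ hb
  have hz : zB M (secC u) (pullB (cjEquiv g h) b) = belowAt p a u := by
    have hg : g * u * g⁻¹ ∈ (cjP g a).1 := mem_cjS_of_eq hu
    have h1 := (belowAt_spec (isMax_cjP hmax g).pair hg).cjT g⁻¹
    rw [cjP_cjP, inv_mul_cancel, cjP_one, ← hbf, zB_pullB g h hb] at h1
    have e : cjP g⁻¹ ((Subgroup.zpowers (g * u * g⁻¹),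
        cj g (zB M (secC u) (pullB (cjEquiv g h) b))) : Pr (resField M) G) =
        (Subgroup.zpowers u, zB M (secC u) (pullB (cjEquiv g h) b)) := by
      refine Prod.ext ?_ (cj_inv_cj g _)
      show cjS g⁻¹ (Subgroup.zpowers (g * u * g⁻¹)) = Subgroup.zpowers u
      rw [cjS_zpowers]
      congr 1
      group
    rw [e] at h1
    exact (existsUnique_below hmax.pair (Subgroup.zpowers_le.2 hu)).unique h1
      (belowAt_spec hmax.pair hu)
  rw [(lr_eq hb0 (pairOf_belowAt hmax.pair hab hu hb0 hz)).1, blockRank_pullB]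

/-! ## Keys -/

theorem key_fst_mem {g u : G} (hu : u ∈ a.1) : (key p a (g, u)).1 ∈ (cjP g a).1 :=
  mem_cjS_of_eq hu

theorem key_back (hmax : IsMax p (Ek M B) a) {g u : G} (hu : u ∈ a.1) :
    SubLE p ⊤ (cjP g⁻¹ ((Subgroup.zpowers (key p a (g, u)).1, (key p a (g, u)).2) :
      Pr (resField M) G)) a := by
  have h := (belowAt_spec (isMax_cjP hmax g).pair (key_fst_mem hu)).cjT g⁻¹
  rwa [cjP_cjP, inv_mul_cancel, cjP_one] at h

theorem exists_key_eq (hmax : IsMax p (Ek M B) a) {x : G} {z : MonoidAlgebra (resField M) G}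
    (hz : IsPairOf p ⊤ (Ek M B) (Subgroup.zpowers x, z)) :
    ∃ g, g⁻¹ * x * g ∈ a.1 ∧ key p a (g, g⁻¹ * x * g) = (x, z) := by
  obtain ⟨g, hg⟩ := exists_subLE_of_pairOf hmax hz
  refine ⟨g⁻¹, by simpa using hg.le (mem_cjS_of_eq (g := g) (Subgroup.mem_zpowers x)), ?_⟩
  have e : g⁻¹ * (g⁻¹⁻¹ * x * g⁻¹) * g⁻¹⁻¹ = x := by group
  refine Prod.ext e ?_
  show belowAt p (cjP g⁻¹ a) (g⁻¹ * (g⁻¹⁻¹ * x * g⁻¹) * g⁻¹⁻¹) = z
  rw [e]
  have h := hg.cjT g⁻¹
  rw [cjP_cjP, inv_mul_cancel, cjP_one] at h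
  have hx : x ∈ (cjP g⁻¹ a).1 := h.le (Subgroup.mem_zpowers x)
  exact (existsUnique_below (isMax_cjP hmax g⁻¹).pair (Subgroup.zpowers_le.2 hx)).unique
    (belowAt_spec (isMax_cjP hmax g⁻¹).pair hx) h

theorem key_move (hmax : IsMax p (Ek M B) a) {g u : G} (hu : u ∈ a.1) {c t : G}
    (hc : c ∈ secC (key p a (g, u)).1) (ht : t ∈ stabP a) :
    key p a (c * g * t⁻¹, t * u * t⁻¹) = key p a (g, u) := by
  set x := (key p a (g, u)).1 with hx
  have hcx : c * x * c⁻¹ = x := by rw [mem_secC.1 hc, mul_inv_cancel_right]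
  have e1 : c * g * t⁻¹ * (t * u * t⁻¹) * (c * g * t⁻¹)⁻¹ = x := by
    rw [show c * g * t⁻¹ * (t * u * t⁻¹) * (c * g * t⁻¹)⁻¹ = c * (g * u * g⁻¹) * c⁻¹ by group]
    exact hcx
  refine Prod.ext e1 ?_
  show belowAt p (cjP (c * g * t⁻¹) a) (c * g * t⁻¹ * (t * u * t⁻¹) * (c * g * t⁻¹)⁻¹) =
    (key p a (g, u)).2
  rw [e1]
  have ha : cjP (c * g * t⁻¹) a = cjP c (cjP g a) := by
    rw [cjP_cjP]
    conv_rhs => rw [show c * g = c * g * t⁻¹ * t by group, ← cjP_cjP, cjP_eq_self ht]
  have hspec := belowAt_spec (isMax_cjP hmax g).pair (key_fst_mem (g := g) hu)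
  rw [ha]
  have h2 : SubLE p ⊤ ((Subgroup.zpowers x, (key p a (g, u)).2) : Pr (resField M) G)
      (cjP c (cjP g a)) := by
    have h3 := hspec.cjT c
    have e : cjP c ((Subgroup.zpowers x, (key p a (g, u)).2) : Pr (resField M) G) =
        (Subgroup.zpowers x, (key p a (g, u)).2) := by
      refine Prod.ext ?_ ?_
      · show cjS c (Subgroup.zpowers x) = Subgroup.zpowers x
        rw [cjS_zpowers, hcx]
      · have hblk := (hspec.left (isMax_cjP hmax g).pair).blk
        exact cj_eq_of_inZ hblk.inZ hc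
    rw [show (key p a (g, u)).2 = belowAt p (cjP g a) x from rfl] at e ⊢
    rwa [e] at h3
  have hm := isMax_cjP (isMax_cjP hmax g) c
  exact (existsUnique_below hm.pair (Subgroup.zpowers_le.2 (h2.le (Subgroup.mem_zpowers x)))).unique
    (belowAt_spec hm.pair (h2.le (Subgroup.mem_zpowers x))) h2

open scoped Classical in
/-- The pairs with a given key. -/
theorem card_fiber (hmax : IsMax p (Ek M B) a) (hab : a.1 ≤ Subgroup.centralizer (a.1 : Set G))
    {g u : G} (hu : u ∈ a.1) :
    (((Finset.univ : Finset G) ×ˢ (Finset.univ.filter (· ∈ a.1))).filter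
        (fun w => key p a w = key p a (g, u))).card *
        Nat.card (stabP a ⊓ secC u : Subgroup G) =
      Nat.card (secC (key p a (g, u)).1) * Nat.card (stabP a) := by
  set x := (key p a (g, u)).1 with hx
  set F := ((Finset.univ : Finset G) ×ˢ (Finset.univ.filter (· ∈ a.1))).filter
    (fun w => key p a w = key p a (g, u)) with hF
  have hmem : ∀ q : secC x × stabP a,
      (((q.1 : G) * g * (q.2 : G)⁻¹, (q.2 : G) * u * (q.2 : G)⁻¹) : G × G) ∈ F := fun q =>
    Finset.mem_filter.2 ⟨Finset.mk_mem_product (Finset.mem_univ _) (Finset.mem_filter.2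
      ⟨Finset.mem_univ _, (Subgroup.mem_normalizer_iff.1 (stabP_le_normalizer _ q.2.2) u).1 hu⟩),
      key_move hmax hu q.1.2 q.2.2⟩
  have hfib : ∀ w ∈ F, ((Finset.univ : Finset (secC x × stabP a)).filter fun q =>
      (((q.1 : G) * g * (q.2 : G)⁻¹, (q.2 : G) * u * (q.2 : G)⁻¹) : G × G) = w).card =
      Nat.card (stabP a ⊓ secC u : Subgroup G) := by
    rintro ⟨g', u'⟩ hw
    obtain ⟨hw1, hw2⟩ := Finset.mem_filter.1 hw
    have hu' : u' ∈ a.1 := (Finset.mem_filter.1 (Finset.mem_product.1 hw1).2).2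
    have ex : g' * u' * g'⁻¹ = x := congrArg Prod.fst hw2
    obtain ⟨t₀, ht₀, ht₀u⟩ : ∃ t₀ ∈ stabP a, t₀ * u * t₀⁻¹ = u' := by
      have h1 := key_back hmax (g := g) hu
      have h2 := key_back hmax (g := g') hu'
      rw [hw2] at h2
      obtain ⟨t, ht, hte⟩ := exists_stab_of_fusion hmax hab (g := g'⁻¹ * g) h1 (by
        rw [cjP_cjP, mul_inv_cancel_right]; exact h2)
      refine ⟨t, ht, ?_⟩
      rw [← hte u (mem_cjS.2 (by simp [key, mul_assoc]))]
      calc g'⁻¹ * g * u * (g'⁻¹ * g)⁻¹ = g'⁻¹ * (g * u * g⁻¹) * g' := by group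
        _ = g'⁻¹ * x * g' := rfl
        _ = u' := by rw [← ex]; group
    rw [Nat.card_eq_fintype_card,
      Fintype.card_subtype (fun s : G => s ∈ stabP a ⊓ secC u)]
    refine Finset.card_bij (fun q _ => t₀⁻¹ * (q.2 : G)) ?_ ?_ ?_
    · intro q hq
      have hq2 : (q.2 : G) * u * (q.2 : G)⁻¹ = u' :=
        congrArg Prod.snd (Finset.mem_filter.1 hq).2
      refine Finset.mem_filter.2 ⟨Finset.mem_univ _, Subgroup.mem_inf.2
        ⟨(stabP a).mul_mem ((stabP a).inv_mem ht₀) q.2.2, mem_secC.2 ?_⟩⟩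
      calc t₀⁻¹ * (q.2 : G) * u = t₀⁻¹ * ((q.2 : G) * u * (q.2 : G)⁻¹) * q.2 := by group
        _ = u * (t₀⁻¹ * (q.2 : G)) := by rw [hq2, ← ht₀u]; group
    · intro q hq q' hq' e
      have et : (q.2 : G) = q'.2 := mul_left_cancel e
      have e1 : (q.1 : G) * g * (q.2 : G)⁻¹ = g' := congrArg Prod.fst (Finset.mem_filter.1 hq).2
      have e2 : (q'.1 : G) * g * (q'.2 : G)⁻¹ = g' :=
        congrArg Prod.fst (Finset.mem_filter.1 hq').2
      rw [← e2, et] at e1
      exact Prod.ext (Subtype.ext (mul_right_cancel (mul_right_cancel e1))) (Subtype.ext et)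
    · intro s hs
      obtain ⟨hs1, hs2⟩ := Subgroup.mem_inf.1 (Finset.mem_filter.1 hs).2
      have hsu : t₀ * s * u * (t₀ * s)⁻¹ = u' := by
        calc t₀ * s * u * (t₀ * s)⁻¹ = t₀ * (s * u) * s⁻¹ * t₀⁻¹ := by group
          _ = u' := by rw [mem_secC.1 hs2, ← ht₀u]; group
      refine ⟨(⟨g' * (t₀ * s) * g⁻¹, mem_secC.2 ?_⟩, ⟨t₀ * s, mul_mem ht₀ hs1⟩),
        Finset.mem_filter.2 ⟨Finset.mem_univ _, Prod.ext ?_ hsu⟩, by simp⟩
      · show g' * (t₀ * s) * g⁻¹ * x = x * (g' * (t₀ * s) * g⁻¹)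
        calc g' * (t₀ * s) * g⁻¹ * x
            = g' * (t₀ * s * u * (t₀ * s)⁻¹) * g'⁻¹ * (g' * (t₀ * s) * g⁻¹) := by
              rw [hx]; simp only [key]; group
          _ = x * (g' * (t₀ * s) * g⁻¹) := by rw [hsu, ex]
      · show g' * (t₀ * s) * g⁻¹ * g * (t₀ * s)⁻¹ = g'
        group
  have h := Finset.card_eq_sum_card_fiberwise (s := (Finset.univ : Finset (secC x × stabP a)))
    (t := F) (f := fun q => (((q.1 : G) * g * (q.2 : G)⁻¹, (q.2 : G) * u * (q.2 : G)⁻¹) : G × G))
    (fun q _ => hmem q)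
  rw [Finset.sum_congr rfl hfib, Finset.sum_const, smul_eq_mul, Finset.card_univ,
    Fintype.card_prod, ← Nat.card_eq_fintype_card, ← Nat.card_eq_fintype_card] at h
  exact h.symm

/-! ## The star product of two functions -/

theorem classInner_star_keys (hM : IsPModular p M) (hB : IsPBlock M B)
    (hmax : IsMax p (Ek M B) a) {η η' : G → ℂ} {χ : IrrCharacter G} (hχ : χ ∈ B)
    (S : Finset (G × MonoidAlgebra (resField M) G))
    (hS : ∀ k, k ∈ S ↔ ∃ g u, u ∈ a.1 ∧ key p a (g, u) = k) :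
    classInner (star p a η χ) (star p a η' χ) = (Nat.card G : ℂ)⁻¹ *
      ∑ k ∈ S, val p a η k.1 k.2 * conj (val p a η' k.1 k.2) *
        (mass p χ (secC k.1) k.1 k.2 : ℂ) := by
  classical
  rw [classInner_star hM, ← Finset.sum_fiberwise S Prod.fst]
  refine congrArg _ (Finset.sum_congr rfl fun x _ => ?_)
  split_ifs with hx
  · have hF' : ∀ k ∈ S.filter (fun k => k.1 = x),
        val p a η k.1 k.2 * conj (val p a η' k.1 k.2) * (mass p χ (secC k.1) k.1 k.2 : ℂ) =
        ∑ b ∈ blocks M (secC x), if zB M (secC x) b = k.2 then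
          val p a η x k.2 * conj (val p a η' x k.2) *
            ∑ s ∈ (Finset.univ : Finset (secC x)).filter (fun s => ¬ p ∣ orderOf s),
              blockPart b (secFun x (secC x) (χ : G → ℂ)) s *
                conj (blockPart b (secFun x (secC x) (χ : G → ℂ)) s) else 0 := by
      intro k hk
      obtain rfl := (Finset.mem_filter.1 hk).2
      rw [mass, Complex.ofReal_sum, Finset.mul_sum]
      refine Finset.sum_congr rfl fun b _ => ?_
      split_ifs
      · simp only [Complex.ofReal_sum, Complex.mul_conj]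
      · rw [Complex.ofReal_zero, mul_zero]
    rw [Finset.sum_congr rfl hF', Finset.sum_comm]
    refine Finset.sum_congr rfl fun b hb => ?_
    by_cases hp : IsPairOf p ⊤ (Ek M B) (Subgroup.zpowers x, zB M (secC x) b)
    · obtain ⟨g, hg, hk⟩ := exists_key_eq hmax hp
      have hm : ((x, zB M (secC x) b) : G × MonoidAlgebra (resField M) G) ∈
          S.filter (fun k => k.1 = x) :=
        Finset.mem_filter.2 ⟨(hS _).2 ⟨g, _, hg, hk⟩, rfl⟩
      rw [Finset.sum_eq_single_of_mem _ hm, if_pos rfl]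
      intro k hk' hne
      rw [if_neg]
      intro e
      exact hne (Prod.ext (Finset.mem_filter.1 hk').2 e.symm)
    · have hz : ∀ s ∈ (Finset.univ : Finset (secC x)).filter (fun s => ¬ p ∣ orderOf s),
          blockPart b (secFun x (secC x) (χ : G → ℂ)) s *
            conj (blockPart b (secFun x (secC x) (χ : G → ℂ)) s) = 0 := fun s hs => by
        rw [blockPart_eq_zero_of_not_pair hM hB hx hχ (mem_blocks.1 hb) hp
          (Finset.mem_filter.1 hs).2, zero_mul]
      simp [Finset.sum_eq_zero hz]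
  · refine (Finset.sum_eq_zero fun k hk => absurd ?_ hx).symm
    obtain ⟨hkS, rfl⟩ := Finset.mem_filter.1 hk
    obtain ⟨g, u, hu, rfl⟩ := (hS k).1 hkS
    exact pPow_of_mem (isMax_cjP hmax g).pair (key_fst_mem hu)

/-- The contributions of all characters of the block at a subsection. -/
theorem sum_mass_eq (hM : IsPModular p M) (hB : IsPBlock M B) (hmax : IsMax p (Ek M B) a)
    (hab : a.1 ≤ Subgroup.centralizer (a.1 : Set G)) {g u : G} (hu : u ∈ a.1)
    [DecidablePred (· ∈ B)] :
    ∑ χ ∈ Finset.univ.filter (· ∈ B),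
        (mass p χ (secC (key p a (g, u)).1) (key p a (g, u)).1 (key p a (g, u)).2 : ℂ) =
      (Nat.card (secC (key p a (g, u)).1) : ℂ) * (lr p a (secC u) : ℂ) := by
  classical
  have hxp := pPow_of_mem (isMax_cjP hmax g).pair (key_fst_mem (g := g) hu)
  have hspec := belowAt_spec (isMax_cjP hmax g).pair (key_fst_mem (g := g) hu)
  obtain ⟨b, hb, hbf⟩ := exists_eq_zB (H := secC (key p a (g, u)).1)
    (hspec.left (isMax_cjP hmax g).pair).blk
  replace hbf : zB M (secC (key p a (g, u)).1) b = (key p a (g, u)).2 := hbf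
  have hind : IsInducedBlock M (secC (key p a (g, u)).1) b B :=
    (induced_iff_pairOf hM hB hxp (secC_eq _) hb).2
      (by rw [hbf]; exact hspec.pairOf_iff.2 (isMax_cjP hmax g).pairOf)
  have hm : ∀ χ : IrrCharacter G, (p : ℂ) ^ blockDefect p b *
      (mass p χ (secC (key p a (g, u)).1) (key p a (g, u)).1 (key p a (g, u)).2 : ℂ) =
      (Nat.card (secC (key p a (g, u)).1) : ℂ) * regPair p (blockScale p b)
        (blockPart b (secFun (key p a (g, u)).1 _ (χ : G → ℂ)))
        (blockPart b (secFun (key p a (g, u)).1 _ (χ : G → ℂ))) := fun χ => by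
    rw [mass, Finset.sum_eq_single b, if_pos hbf]
    · rw [regPair_eq_sum, blockScale, Complex.ofReal_sum]
      simp only [← Complex.mul_conj]
      push_cast
      field_simp
    · intro b' hb' hne
      rw [if_neg fun e => hne (zB_injective _ (mem_blocks.1 hb') hb (e.trans hbf.symm))]
    · exact fun e => absurd (mem_blocks.2 hb) e
  refine mul_left_cancel₀ (pow_ne_zero (blockDefect p b)
    (Nat.cast_ne_zero.2 (Fact.out : p.Prime).ne_zero) : (p : ℂ) ^ blockDefect p b ≠ 0) ?_
  rw [Finset.mul_sum, Finset.sum_congr rfl fun χ _ => hm χ, ← Finset.mul_sum,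
    sum_regPair_self hM hxp (secC_eq _) hind, Nat.cast_pow, lr_cjP hmax hab g hu hb hbf]
  exact mul_left_comm _ _ _

/-- The weighted local ranks over a fibre of the retraction. -/
theorem card_mul_eq_fiber_sum (hM : IsPModular p M) (hB : IsPBlock M B)
    (hmax : IsMax p (Ek M B) a) (hab : a.1 ≤ Subgroup.centralizer (a.1 : Set G))
    (π : a.1 →* a.1)
    (hinv : ∀ t ∈ stabP a, ∀ (v : a.1) (h : t * (v : G) * t⁻¹ ∈ a.1), π ⟨_, h⟩ = π v)
    (hidem : ∀ z : π.range, π z = z) (z : π.range) [DecidableEq a.1] :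
    Nat.card B * Nat.card (stabP a) = Nat.card π.range *
      ∑ v ∈ Finset.univ.filter (fun v : a.1 => π v = z),
        lr p a (secC (v : G)) * Nat.card (stabP a ⊓ secC (v : G) : Subgroup G) := by
  classical
  letI : CommGroup a.1 :=
    { (inferInstance : Group a.1) with
      mul_comm := fun x y => Subtype.ext (Subgroup.mem_centralizer_iff.1 (hab y.2) x x.2) }
  let Λ := π.range →* ℂˣ
  haveI : Finite Λ := inferInstance
  haveI : Fintype Λ := Fintype.ofFinite _
  set W : π.range → ℕ := fun w => ∑ v ∈ Finset.univ.filter (fun v : a.1 => π v = w),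
    lr p a (secC (v : G)) * Nat.card (stabP a ⊓ secC (v : G) : Subgroup G) with hW
  have htriv : ∀ lam : Λ, IsTriv p a (lam.comp π.rangeRestrict) := by
    intro lam g b hb hgb u hu h₁ h₂
    obtain ⟨t, ht, hte⟩ := exists_stab_of_fusion hmax hab hb hgb
    refine congrArg lam (Subtype.ext ?_)
    show π ⟨g * u * g⁻¹, h₂⟩ = π ⟨u, h₁⟩
    have e := hte u hu
    rw [← hinv t ht ⟨u, h₁⟩ (e ▸ h₂)]
    exact congrArg π (Subtype.ext e)
  set S := ((Finset.univ : Finset G) ×ˢ (Finset.univ.filter (· ∈ a.1))).image (key p a) with hS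
  have hSmem : ∀ k, k ∈ S ↔ ∃ g u, u ∈ a.1 ∧ key p a (g, u) = k := by
    intro k
    simp only [hS, Finset.mem_image, Finset.mem_product, Finset.mem_filter, Finset.mem_univ,
      true_and, Prod.exists]
  -- the transform of the weights
  have hfour : ∀ lam : Λ, ∑ w : π.range, (lam w : ℂ) * (W w : ℂ) =
      if lam = 1 then (Nat.card B : ℂ) * (Nat.card (stabP a) : ℂ) else 0 := by
    intro lam
    set mu := lam.comp π.rangeRestrict with hmu
    have hinner : ∀ χ ∈ Finset.univ.filter (· ∈ B),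
        classInner (star p a (chFun mu) χ) (star p a (chFun (1 : a.1 →* ℂˣ)) χ) =
          if lam = 1 then 1 else 0 := by
      intro χ hχ
      have hχB := (Finset.mem_filter.1 hχ).2
      split_ifs with hl
      · rw [hmu, hl, MonoidHom.one_comp, star_chFun_one hM hB hmax hχB, classInner_self_irr χ.2]
      · obtain ⟨ψ, -, hψ⟩ := exists_linMul hM hB hmax (htriv lam) hχB
        rw [star_chFun_one hM hB hmax hχB, ← hψ]
        refine classInner_irr_of_ne ψ.2 χ.2 fun e => hl (MonoidHom.ext fun w => ?_)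
        have h := lam_eq_one_of_fixed hM hB hmax (htriv lam) hχB (hψ.symm.trans e) (z := (w.1 : G))
          w.1.2 (hab w.1.2)
        rw [MonoidHom.one_apply]
        rw [show w = π.rangeRestrict w.1 from Subtype.ext (hidem w).symm]
        exact h
    have hval : ∀ (g u : G) (hu : u ∈ a.1),
        val p a (chFun mu) (key p a (g, u)).1 (key p a (g, u)).2 = (lam (π.rangeRestrict ⟨u, hu⟩) : ℂ) ∧
        val p a (chFun (1 : a.1 →* ℂˣ)) (key p a (g, u)).1 (key p a (g, u)).2 = 1 := by
      intro g u hu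
      have e : g⁻¹ * (g * u * g⁻¹) * g⁻¹⁻¹ = u := by group
      rw [val_eq (isStarFn_chFun (htriv lam)) (key_back hmax hu),
        val_eq (isStarFn_chFun isTriv_one) (key_back hmax hu)]
      show chFun mu (g⁻¹ * (g * u * g⁻¹) * g⁻¹⁻¹) = _ ∧
        chFun (1 : a.1 →* ℂˣ) (g⁻¹ * (g * u * g⁻¹) * g⁻¹⁻¹) = _
      rw [e, chFun_mem mu hu, chFun_mem _ hu]
      exact ⟨rfl, by rw [MonoidHom.one_apply, Units.val_one]⟩
    set U := (Finset.univ : Finset G).filter (· ∈ a.1) with hU
    let wt : G → ℂ := fun u => if hu : u ∈ a.1 then (lam (π.rangeRestrict ⟨u, hu⟩) : ℂ) *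
      ((lr p a (secC u) * Nat.card (stabP a ⊓ secC u : Subgroup G) : ℕ) : ℂ) else 0
    have hstep : ∀ k ∈ S, (∑ χ ∈ Finset.univ.filter (· ∈ B),
          val p a (chFun mu) k.1 k.2 * conj (val p a (chFun (1 : a.1 →* ℂˣ)) k.1 k.2) *
            (mass p χ (secC k.1) k.1 k.2 : ℂ)) * (Nat.card (stabP a) : ℂ) =
        ∑ w ∈ ((Finset.univ : Finset G) ×ˢ U).filter (fun w => key p a w = k), wt w.2 := by
      intro k hk
      obtain ⟨g, u, hu, rfl⟩ := (hSmem k).1 hk
      obtain ⟨h1, h2⟩ := hval g u hu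
      rw [← Finset.mul_sum, sum_mass_eq hM hB hmax hab hu, h1, h2, map_one, mul_one]
      have hconst : ∀ w ∈ ((Finset.univ : Finset G) ×ˢ U).filter
          (fun w => key p a w = key p a (g, u)), wt w.2 = wt u := by
        rintro ⟨g', u'⟩ hw
        obtain ⟨hw1, hw2⟩ := Finset.mem_filter.1 hw
        have hu' : u' ∈ a.1 := (Finset.mem_filter.1 (Finset.mem_product.1 hw1).2).2
        obtain ⟨t, ht, hte⟩ := exists_stab_of_fusion hmax hab (g := g'⁻¹ * g)
          (key_back hmax (g := g) hu) (by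
            rw [cjP_cjP, mul_inv_cancel_right, ← hw2]; exact key_back hmax hu')
        have etu : t * u * t⁻¹ = u' := by
          rw [← hte u (mem_cjS.2 (by simp [key, mul_assoc]))]
          have ex : g' * u' * g'⁻¹ = g * u * g⁻¹ := congrArg Prod.fst hw2
          calc g'⁻¹ * g * u * (g'⁻¹ * g)⁻¹ = g'⁻¹ * (g * u * g⁻¹) * g' := by group
            _ = u' := by rw [← ex]; group
        subst etu
        have hlr : lr p a (secC (t * u * t⁻¹)) = lr p a (secC u) := by
          obtain ⟨b, hb, hbp⟩ := exists_eq_zB (H := secC (t * u * t⁻¹))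
            ((belowAt_spec hmax.pair hu').left hmax.pair).blk
          replace hbp : zB M (secC (t * u * t⁻¹)) b = belowAt p a (t * u * t⁻¹) := hbp
          rw [(lr_eq hb (pairOf_belowAt hmax.pair hab hu' hb hbp)).1,
            lr_cjP hmax hab t hu hb (by rw [cjP_eq_self ht]; exact hbp)]
        have hst : Nat.card (stabP a ⊓ secC (t * u * t⁻¹) : Subgroup G) =
            Nat.card (stabP a ⊓ secC u : Subgroup G) := by
          rw [← card_cjS t (stabP a ⊓ secC u), cjS_inf, cjS_self ht, cjS_secC]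
        simp only [wt]
        rw [dif_pos hu', dif_pos hu, hlr, hst]
        congr 2
        refine congrArg lam (Subtype.ext ?_)
        exact hinv t ht ⟨u, hu⟩ hu'
      rw [Finset.sum_congr rfl hconst, Finset.sum_const, nsmul_eq_mul]
      have hc : ((((Finset.univ : Finset G) ×ˢ U).filter
          (fun w => key p a w = key p a (g, u))).card : ℂ) *
          (Nat.card (stabP a ⊓ secC u : Subgroup G) : ℂ) =
          (Nat.card (secC (key p a (g, u)).1) : ℂ) * (Nat.card (stabP a) : ℂ) := by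
        rw [hU]; exact_mod_cast card_fiber hmax hab hu
      simp only [wt]
      rw [dif_pos hu]
      push_cast
      linear_combination -((lam (π.rangeRestrict ⟨u, hu⟩) : ℂ) * (lr p a (secC u) : ℂ)) * hc
    have hG0 : (Nat.card G : ℂ) ≠ 0 := Nat.cast_ne_zero.2 Nat.card_pos.ne'
    have htot : (∑ χ ∈ Finset.univ.filter (· ∈ B),
        classInner (star p a (chFun mu) χ) (star p a (chFun (1 : a.1 →* ℂˣ)) χ)) *
          (Nat.card (stabP a) : ℂ) = ∑ v : a.1, wt (v : G) := by
      rw [Finset.sum_congr rfl fun χ hχ =>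
        classInner_star_keys hM hB hmax (Finset.mem_filter.1 hχ).2 S hSmem, ← Finset.mul_sum,
        Finset.sum_comm, mul_assoc, Finset.sum_mul, Finset.sum_congr rfl hstep,
        Finset.sum_fiberwise_of_maps_to (fun w hw => Finset.mem_image_of_mem _ hw),
        Finset.sum_product]
      dsimp only
      rw [Finset.sum_const, Finset.card_univ, ← Nat.card_eq_fintype_card,
        nsmul_eq_mul, inv_mul_cancel_left₀ hG0,
        Finset.sum_subtype _ (p := (· ∈ a.1)) (fun x => by simp)]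
    have hlhs : ∑ w : π.range, (lam w : ℂ) * (W w : ℂ) = ∑ v : a.1, wt (v : G) := by
      rw [← Finset.sum_fiberwise (Finset.univ : Finset a.1) π.rangeRestrict fun v => wt (v : G)]
      refine Finset.sum_congr rfl fun w _ => ?_
      rw [hW, Nat.cast_sum, Finset.mul_sum]
      refine Finset.sum_congr ?_ fun v hv => ?_
      · ext v
        simp only [Finset.mem_filter, Finset.mem_univ, true_and]
        exact ⟨fun h => Subtype.ext h, fun h => congrArg Subtype.val h⟩
      · simp only [Finset.mem_filter, Finset.mem_univ, true_and] at hv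
        simp only [wt]
        rw [dif_pos v.2]
        rw [show π.rangeRestrict v = w from hv]
    rw [hlhs, ← htot, Finset.sum_congr rfl hinner, Finset.sum_const, nsmul_eq_mul]
    split_ifs with hl
    · rw [mul_one, ← Fintype.card_subtype, ← Nat.card_eq_fintype_card]
    · rw [mul_zero, zero_mul]
  -- inversion
  have hsum : ∀ w : π.range, w ≠ 1 → ∑ lam : Λ, (lam w : ℂ) = 0 := by
    intro w hw
    obtain ⟨nu, hnu⟩ := CommGroup.exists_apply_ne_one_of_hasEnoughRootsOfUnity π.range ℂ hw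
    have h1 : (nu w : ℂ) * ∑ lam : Λ, (lam w : ℂ) = ∑ lam : Λ, (lam w : ℂ) := by
      rw [Finset.mul_sum]
      refine Fintype.sum_equiv (Equiv.mulLeft nu) _ _ fun lam => ?_
      rw [Equiv.coe_mulLeft, MonoidHom.mul_apply, Units.val_mul]
    by_contra h0
    exact hnu (Units.ext ((mul_right_cancel₀ h0 (h1.trans (one_mul _).symm)).trans
      Units.val_one.symm))
  have hcard : (Fintype.card Λ : ℂ) = (Nat.card π.range : ℂ) := by
    rw [← Nat.card_eq_fintype_card, CommGroup.card_monoidHom_of_hasEnoughRootsOfUnity π.range ℂ]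
  have hmain : ∑ lam : Λ, (lam z⁻¹ : ℂ) * ∑ w : π.range, (lam w : ℂ) * (W w : ℂ) =
      (Nat.card π.range : ℂ) * (W z : ℂ) := by
    simp only [Finset.mul_sum, ← mul_assoc, ← Units.val_mul, ← map_mul]
    rw [Finset.sum_comm, Finset.sum_eq_single z]
    · rw [← Finset.sum_mul, inv_mul_cancel]
      simp only [map_one, Units.val_one, Finset.sum_const, Finset.card_univ, nsmul_eq_mul, mul_one,
        hcard]
    · intro w _ hw
      rw [← Finset.sum_mul, hsum _ (fun e => hw (inv_mul_eq_one.1 e).symm), zero_mul]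
    · exact fun h => absurd (Finset.mem_univ _) h
  rw [Finset.sum_congr rfl fun lam _ => by rw [hfour lam, mul_ite, mul_zero],
    Finset.sum_ite_eq', if_pos (Finset.mem_univ _), MonoidHom.one_apply, Units.val_one,
    one_mul] at hmain
  exact_mod_cast hmain

end Cfsg.Agent.AbelianSections
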