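import Cfsg.Agent.Lib.BrauerPairs.PrincipalNormSum
import Cfsg.Agent.Lib.Blocks.Heights

/-!
The rank of the principal block modulo a normal `p`-subgroup `Q` with `G = Q C(Q)`.
-/

set_option linter.unusedSectionVars false
set_option linter.style.haveILetI false

namespace Cfsg.Agent.BrauerPairs

open Cfsg Cfsg.Agent.Blocks Cfsg.Agent.Char
open scoped ComplexConjugate

universe u

variable {G : Type u} [Group G] [Fintype G] {p : ℕ} {M : Ideal AlgInt} [M.IsPrime]
  (Q : Subgroup G) [Q.Normal]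

theorem regular_mk (hp : p.Prime) {g : G} (hg : ¬ p ∣ orderOf g) :
    ¬ p ∣ orderOf (g : G ⧸ Q) := fun h =>
  hg (h.trans (orderOf_map_dvd (QuotientGroup.mk' Q) g))

theorem mem_centralizer_of_regular (hp : p.Prime) (hQ : IsPGroup p Q)
    (hsup : Q ⊔ Subgroup.centralizer (Q : Set G) = ⊤) {g : G} (hg : ¬ p ∣ orderOf g) :
    g ∈ Subgroup.centralizer (Q : Set G) := by
  classical
  haveI := Fact.mk hp
  haveI := Blocks.centralizer_normal_of_normal Q
  set C := Subgroup.centralizer (Q : Set G) with hC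
  have hmem : g ∈ ((Q ⊔ C : Subgroup G) : Set G) := by rw [hsup]; exact Subgroup.mem_top g
  rw [Subgroup.normal_mul] at hmem
  obtain ⟨q, hq, c, hc, e⟩ := Set.mem_mul.1 hmem
  rw [← QuotientGroup.eq_one_iff, ← orderOf_eq_one_iff]
  obtain ⟨k, hk⟩ := IsPGroup.iff_orderOf.1 hQ ⟨q, hq⟩
  rw [Subgroup.orderOf_mk] at hk
  refine Nat.eq_one_of_dvd_coprimes (a := p ^ k) (b := orderOf g)
    ((hp.coprime_iff_not_dvd.2 hg).pow_left k) ?_ (orderOf_map_dvd (QuotientGroup.mk' C) g)
  rw [← e, QuotientGroup.mk_mul, (QuotientGroup.eq_one_iff c).2 hc, mul_one, ← hk]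
  exact orderOf_map_dvd (QuotientGroup.mk' C) q

theorem exists_regular_lift [Fintype (G ⧸ Q)] (hp : p.Prime) {y : G ⧸ Q}
    (hy : ¬ p ∣ orderOf y) : ∃ g : G, ¬ p ∣ orderOf g ∧ (g : G ⧸ Q) = y := by
  obtain ⟨g, rfl⟩ := QuotientGroup.mk_surjective y
  obtain ⟨a, b, hab, hc, ⟨k, hk⟩, hb⟩ := exists_isPPart hp g
  refine ⟨b, hb, ?_⟩
  have ha : (a : G ⧸ Q) = 1 := by
    rw [← orderOf_eq_one_iff]
    refine Nat.eq_one_of_dvd_coprimes (a := p ^ k) (b := orderOf (g : G ⧸ Q))
      ((hp.coprime_iff_not_dvd.2 hy).pow_left k) (hk ▸ orderOf_map_dvd (QuotientGroup.mk' Q) a) ?_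
    have h1 : Commute (a : G ⧸ Q) (b : G ⧸ Q) := hc.map (QuotientGroup.mk' Q)
    rw [← hab, QuotientGroup.mk_mul, h1.orderOf_mul_eq_mul_orderOf_of_coprime]
    · exact dvd_mul_right _ _
    · exact Nat.Coprime.of_dvd (hk ▸ orderOf_map_dvd (QuotientGroup.mk' Q) a)
        (orderOf_map_dvd (QuotientGroup.mk' Q) b) ((hp.coprime_iff_not_dvd.2 hb).pow_left k)
  rw [← hab, QuotientGroup.mk_mul, ha, one_mul]

theorem regular_lift_unique (hp : p.Prime) (hQ : IsPGroup p Q)
    (hsup : Q ⊔ Subgroup.centralizer (Q : Set G) = ⊤) {g g' : G} (hg : ¬ p ∣ orderOf g)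
    (hg' : ¬ p ∣ orderOf g') (e : (g : G ⧸ Q) = (g' : G ⧸ Q)) : g = g' := by
  haveI := Fact.mk hp
  rw [QuotientGroup.eq] at e
  obtain ⟨k, hk⟩ := IsPGroup.iff_orderOf.1 hQ ⟨_, e⟩
  rw [Subgroup.orderOf_mk] at hk
  have hcomm : Commute g (g⁻¹ * g') :=
    (Subgroup.mem_centralizer_iff.1 (mem_centralizer_of_regular Q hp hQ hsup hg) _ e).symm
  have h2 : (g⁻¹ * g') ^ (orderOf g * orderOf g') = 1 := by
    have h3 : g' ^ (orderOf g * orderOf g') = 1 := by
      rw [mul_comm, pow_mul, pow_orderOf_eq_one, one_pow]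
    have h4 : g ^ (orderOf g * orderOf g') = 1 := by rw [pow_mul, pow_orderOf_eq_one, one_pow]
    have h5 : (g * (g⁻¹ * g')) ^ (orderOf g * orderOf g') = 1 := by
      rwa [mul_inv_cancel_left]
    rwa [hcomm.mul_pow, h4, one_mul] at h5
  refine inv_mul_eq_one.1 (orderOf_eq_one_iff.1 ?_)
  exact Nat.eq_one_of_dvd_coprimes ((Nat.Coprime.mul_right (hp.coprime_iff_not_dvd.2 hg)
    (hp.coprime_iff_not_dvd.2 hg')).pow_left k) (hk ▸ dvd_rfl) (orderOf_dvd_of_pow_eq_one h2)

theorem index_centralizer_regular (hp : p.Prime) (hQ : IsPGroup p Q)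
    (hsup : Q ⊔ Subgroup.centralizer (Q : Set G) = ⊤) {g : G} (hg : ¬ p ∣ orderOf g) :
    (Subgroup.centralizer ({(g : G ⧸ Q)} : Set (G ⧸ Q))).index =
      (Subgroup.centralizer ({g} : Set G)).index := by
  rw [← Subgroup.index_comap_of_surjective (f := QuotientGroup.mk' Q) _
    (QuotientGroup.mk'_surjective Q)]
  congr 1
  ext h
  simp only [Subgroup.mem_comap, QuotientGroup.mk'_apply, Subgroup.mem_centralizer_singleton_iff,
    ← QuotientGroup.mk_mul]
  refine ⟨fun e => ?_, fun e => by rw [e]⟩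
  have hg' : ¬ p ∣ orderOf (MulAut.conj h g) := by rwa [MulEquiv.orderOf_eq]
  have h1 := regular_lift_unique Q hp hQ hsup hg hg' (by
    rw [MulAut.conj_apply, QuotientGroup.mk_mul, e, QuotientGroup.mk_mul, QuotientGroup.mk_inv,
      mul_inv_cancel_right])
  rw [MulAut.conj_apply] at h1
  exact (eq_mul_inv_iff_mul_eq.1 h1).symm

theorem infl_mem_principal_iff (hM : IsPModular p M) (hQ : IsPGroup p Q)
    (hsup : Q ⊔ Subgroup.centralizer (Q : Set G) = ⊤) [Fintype (G ⧸ Q)]
    (χ' : IrrCharacter (G ⧸ Q)) :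
    Cfsg.Agent.CharX.infl Q χ' ∈ principalBlock M G ↔ χ' ∈ principalBlock M (G ⧸ Q) := by
  classical
  refine ⟨fun h => ?_, fun h => sameBlock_inflate Q (principal (G ⧸ Q)) χ' h⟩
  haveI : Finite (ConjClasses (G ⧸ Q)) := Finite.of_surjective _ ConjClasses.mk_surjective
  haveI : Fintype (ConjClasses (G ⧸ Q)) := Fintype.ofFinite _
  set B := principalBlock M (G ⧸ Q) with hBdef
  have hB : IsPBlock M B := isPBlock_principalBlock M (G ⧸ Q)
  have hx := isClassElt_blockEltR (M := M) B
  have hdiff : MemLocalIdeal M (omegaR (principal (G ⧸ Q)) (blockEltR M B) -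
      omegaR χ' (blockEltR M B)) := by
    rw [omegaR_eq_sum _ hx, omegaR_eq_sum _ hx, ← Finset.sum_sub_distrib]
    refine memLocalIdeal_sum _ _ fun C _ => ?_
    rw [← mul_sub]
    by_cases hC : p ∣ orderOf C.out
    · rw [coeff_blockEltR hB, blockCoeff_eq_zero_of_singular hM hB hC, zero_mul]
      exact memLocalIdeal_zero
    · refine MemLocalIdeal.mul_left (Subtype.prop _) ?_
      obtain ⟨g, hg, e⟩ := exists_regular_lift Q hM.1 hC
      rw [← e]
      have h1 := h g
      simp only [centralChar, Cfsg.Agent.CharX.infl_apply, QuotientGroup.mk_one,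
        ← index_centralizer_regular Q hM.1 hQ hsup hg] at h1
      simpa [centralChar, principal] using h1
  rw [omegaR_blockEltR hB, omegaR_blockEltR hB, if_pos principal_mem_principalBlock] at hdiff
  by_contra hn
  rw [if_neg hn, sub_zero] at hdiff
  exact not_memLocalIdeal_one hdiff

theorem blockRank_quotient (hM : IsPModular p M) (hQ : IsPGroup p Q)
    (hsup : Q ⊔ Subgroup.centralizer (Q : Set G) = ⊤) [Fintype (G ⧸ Q)] :
    blockRank p (principalBlock M G) = blockRank p (principalBlock M (G ⧸ Q)) := by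
  classical
  let T : (G ⧸ Q → ℂ) →ₗ[ℂ] (G → ℂ) :=
    { toFun := fun f g => if p ∣ orderOf g then 0 else f (g : G ⧸ Q)
      map_add' := fun f f' => funext fun g => by by_cases h : p ∣ orderOf g <;> simp [h]
      map_smul' := fun c f => funext fun g => by by_cases h : p ∣ orderOf g <;> simp [h] }
  let R : IrrCharacter G → (G → ℂ) := fun χ => pRegularPart p (χ : G → ℂ)
  have hT : ∀ χ' : IrrCharacter (G ⧸ Q),
      T (pRegularPart p (χ' : G ⧸ Q → ℂ)) = R (Cfsg.Agent.CharX.infl Q χ') := by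
    intro χ'; funext g
    simp only [T, R, LinearMap.coe_mk, AddHom.coe_mk, pRegularPart, IsPRegular]
    by_cases h : p ∣ orderOf g
    · simp [h]
    · simp [h, regular_mk Q hM.1 h, Cfsg.Agent.CharX.infl_apply]
  set S' := Submodule.span ℂ ((fun χ : IrrCharacter (G ⧸ Q) => pRegularPart p (χ : G ⧸ Q → ℂ)) ''
    principalBlock M (G ⧸ Q)) with hS'
  set S := Submodule.span ℂ (R '' principalBlock M G) with hS
  -- the map is injective on regular functions
  have hker : ∀ f ∈ S', T f = 0 → f = 0 := by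
    intro f hf h0
    have hsupp : ∀ y : G ⧸ Q, p ∣ orderOf y → f y = 0 := by
      clear h0
      induction hf using Submodule.span_induction with
      | mem f hf => obtain ⟨χ, -, rfl⟩ := hf; exact fun y hy => by simp [pRegularPart, IsPRegular, hy]
      | zero => simp
      | add a b _ _ h1 h2 => exact fun y hy => by simp [h1 y hy, h2 y hy]
      | smul c a _ h1 => exact fun y hy => by simp [h1 y hy]
    funext y
    by_cases hy : p ∣ orderOf y
    · exact hsupp y hy
    · obtain ⟨g, hg, rfl⟩ := exists_regular_lift Q hM.1 hy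
      simpa [T, hg] using congrFun h0 g
  have hmap : S'.map T = S := by
    refine le_antisymm ?_ (Submodule.span_le.2 ?_)
    · rw [hS', Submodule.map_span, Submodule.span_le]
      rintro _ ⟨_, ⟨χ', hχ', rfl⟩, rfl⟩
      rw [hT]
      exact Submodule.subset_span ⟨_, (infl_mem_principal_iff Q hM hQ hsup χ').2 hχ', rfl⟩
    rintro _ ⟨χ, hχ, rfl⟩
    let lift : G ⧸ Q → G := fun y => if h : ¬ p ∣ orderOf y
      then (exists_regular_lift Q hM.1 h).choose else 1
    let f : G ⧸ Q → ℂ := fun y => if p ∣ orderOf y then 0 else (χ : G → ℂ) (lift y)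
    have hf : IsClassFunction (G ⧸ Q) f := by
      intro y c
      obtain ⟨c, rfl⟩ := QuotientGroup.mk_surjective c
      have horder : orderOf ((c : G ⧸ Q) * y * (c : G ⧸ Q)⁻¹) = orderOf y := by
        rw [← MulAut.conj_apply, MulEquiv.orderOf_eq]
      simp only [f, horder]
      by_cases hy : p ∣ orderOf y
      · simp [hy]
      · have hy' : ¬ p ∣ orderOf ((c : G ⧸ Q) * y * (c : G ⧸ Q)⁻¹) := by rwa [horder]
        simp only [if_neg hy, lift, dif_pos hy, dif_pos hy']
        obtain ⟨hg, he⟩ := (exists_regular_lift Q hM.1 hy).choose_spec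
        obtain ⟨hg', he'⟩ := (exists_regular_lift Q hM.1 hy').choose_spec
        generalize (exists_regular_lift Q hM.1 hy).choose = g at hg he ⊢
        generalize (exists_regular_lift Q hM.1 hy').choose = g' at hg' he' ⊢
        have e : (g' : G ⧸ Q) = ((c * g * c⁻¹ : G) : G ⧸ Q) := by
          rw [he', QuotientGroup.mk_mul, QuotientGroup.mk_mul, QuotientGroup.mk_inv, he]
        have hreg : ¬ p ∣ orderOf (c * g * c⁻¹) := by
          rwa [← MulAut.conj_apply, MulEquiv.orderOf_eq]
        have heq : g' = c * g * c⁻¹ := regular_lift_unique Q hM.1 hQ hsup hg' hreg e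
        rw [heq]
        exact IsCharacter.isClassFunction (irr_isCharacter χ) g c
    have hlift : ∀ g : G, ¬ p ∣ orderOf g → lift (g : G ⧸ Q) = g := by
      intro g hg
      simp only [lift, dif_pos (regular_mk Q hM.1 hg)]
      obtain ⟨h1, h2⟩ := (exists_regular_lift Q hM.1 (regular_mk Q hM.1 hg)).choose_spec
      exact regular_lift_unique Q hM.1 hQ hsup h1 hg h2
    -- expand on the quotient
    let c : IrrCharacter (G ⧸ Q) → ℂ := fun ψ => classInner f (ψ : G ⧸ Q → ℂ)
    have hexp : ∀ g : G, R χ g = ∑ ψ, c ψ * R (Cfsg.Agent.CharX.infl Q ψ) g := by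
      intro g
      simp only [R, pRegularPart, IsPRegular]
      by_cases hg : p ∣ orderOf g
      · simp [hg]
      · simp only [hg, not_false_eq_true, if_true, Cfsg.Agent.CharX.infl_apply]
        have h1 := congrFun (classFunction_eq_sum hf) (g : G ⧸ Q)
        simp only [f, if_neg (regular_mk Q hM.1 hg), hlift g hg, Finset.sum_apply, Pi.smul_apply,
          smul_eq_mul] at h1
        exact h1
    set I := Finset.univ.filter fun ψ : IrrCharacter (G ⧸ Q) =>
      Cfsg.Agent.CharX.infl Q ψ ∈ principalBlock M G with hI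
    let D : G → ℂ := fun g => R χ g - ∑ ψ ∈ I, c ψ * R (Cfsg.Agent.CharX.infl Q ψ) g
    have hD : ∀ g, D g = ∑ ψ ∈ Iᶜ, c ψ * R (Cfsg.Agent.CharX.infl Q ψ) g := fun g => by
      simp only [D, hexp g, ← Finset.sum_add_sum_compl I (fun ψ => c ψ * R (Cfsg.Agent.CharX.infl Q ψ) g)]
      ring
    have horth : ∀ φ ∈ principalBlock M G, ∀ ψ ∈ Iᶜ,
        ∑ g : G, R (Cfsg.Agent.CharX.infl Q ψ) g * conj (R φ g) = 0 := by
      intro φ hφ ψ hψ
      have hns : ¬ SameBlock M ((Cfsg.Agent.CharX.infl Q ψ : IrrCharacter G) : G → ℂ) (φ : G → ℂ) :=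
        fun h => Finset.mem_compl.1 hψ (Finset.mem_filter.2 ⟨Finset.mem_univ _,
          isPBlock_mem_of_sameBlock (isPBlock_principalBlock M G) hφ
            (fun g => by simpa using MemLocalIdeal.neg (h g))⟩)
      rw [← sum_regular_eq_zero hM hns, Finset.sum_filter]
      refine Finset.sum_congr rfl fun g _ => ?_
      simp only [R, pRegularPart, IsPRegular]
      by_cases hg : p ∣ orderOf g <;> simp [hg]
    have hzero : ∑ g : G, D g * conj (D g) = 0 := by
      calc ∑ g : G, D g * conj (D g)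
          = ∑ g : G, (∑ ψ ∈ Iᶜ, c ψ * R (Cfsg.Agent.CharX.infl Q ψ) g) *
              conj (R χ g - ∑ φ ∈ I, c φ * R (Cfsg.Agent.CharX.infl Q φ) g) :=
            Finset.sum_congr rfl fun g _ => by rw [← hD g]
        _ = 0 := by
          simp only [map_sub, map_sum, map_mul, mul_sub, Finset.sum_mul, Finset.mul_sum,
            Finset.sum_sub_distrib]
          rw [Finset.sum_comm (s := Finset.univ), Finset.sum_eq_zero (s := Iᶜ) (fun ψ hψ => ?_),
            zero_sub, neg_eq_zero, Finset.sum_comm (s := Finset.univ)]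
          · refine Finset.sum_eq_zero fun φ hφ => ?_
            rw [Finset.sum_comm]
            refine Finset.sum_eq_zero fun ψ hψ => ?_
            have h0 := horth _ (Finset.mem_filter.1 hφ).2 ψ hψ
            calc _ = c ψ * conj (c φ) * ∑ g : G, R (Cfsg.Agent.CharX.infl Q ψ) g *
                  conj (R (Cfsg.Agent.CharX.infl Q φ) g) := by
                    rw [Finset.mul_sum]; exact Finset.sum_congr rfl fun g _ => by ring
              _ = 0 := by rw [h0, mul_zero]
          · simp only [mul_assoc, ← Finset.mul_sum, horth χ hχ ψ hψ, mul_zero]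
    have hD0 : ∀ g, D g = 0 := fun g => by
      simp only [Complex.mul_conj, ← Complex.ofReal_sum, Complex.ofReal_eq_zero] at hzero
      exact Complex.normSq_eq_zero.1 ((Finset.sum_eq_zero_iff_of_nonneg
        fun g _ => Complex.normSq_nonneg _).1 hzero g (Finset.mem_univ _))
    refine ⟨∑ ψ ∈ I, c ψ • pRegularPart p (ψ : G ⧸ Q → ℂ),
      S'.sum_mem fun ψ hψ => S'.smul_mem _ (Submodule.subset_span ⟨ψ,
        (infl_mem_principal_iff Q hM hQ hsup ψ).1 (Finset.mem_filter.1 hψ).2, rfl⟩), ?_⟩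
    rw [map_sum]
    funext g
    simp only [map_smul, hT, Finset.sum_apply, Pi.smul_apply, smul_eq_mul]
    exact (sub_eq_zero.1 (hD0 g)).symm
  show Module.finrank ℂ S = Module.finrank ℂ S'
  rw [← hmap]
  refine LinearEquiv.finrank_eq (LinearEquiv.ofBijective (T.submoduleMap S') ⟨?_, ?_⟩).symm
  · rw [← LinearMap.ker_eq_bot, LinearMap.ker_eq_bot']
    exact fun f h => Subtype.ext (hker f f.2 (congrArg Subtype.val h))
  · exact LinearMap.submoduleMap_surjective T S'

end Cfsg.Agent.BrauerPairs
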