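/-
Integer vectors with the Gram matrix of the singular columns of a block with dihedral defect
group.
-/
import Mathlib.Algebra.BigOperators.Ring.Finset
import Mathlib.Algebra.Order.BigOperators.Ring.Finset
import Mathlib.Tactic

set_option linter.style.haveILetI false

namespace Cfsg.Agent.DihedralVectors

variable {ι : Type*}

/-- The column at the central involution. -/
def cz (v : ℕ → ι → ℤ) (h : ℕ) (χ : ι) : ℤ :=
  2 * ∑ j ∈ Finset.Ico 1 h, (-1) ^ j * v j χ + v h χ

theorem cz_odd_iff (v : ℕ → ι → ℤ) (h : ℕ) (χ : ι) : (2 : ℤ) ∣ cz v h χ ↔ (2 : ℤ) ∣ v h χ := by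
  unfold cz
  exact ⟨fun d => (dvd_add_right (dvd_mul_right 2 _)).1 d,
    fun d => dvd_add (dvd_mul_right 2 _) d⟩

theorem sign_eq {a : ℤ} (h : a * a = 1) : a = 1 ∨ a = -1 := Int.eq_one_or_neg_one_of_mul_eq_one h

variable [DecidableEq ι]

theorem pair_sum {S P : Finset ι} (hP : P ⊆ S) (f : ι → ℤ) :
    ∑ χ ∈ S, (if χ ∈ P then f χ else 0) = ∑ χ ∈ P, f χ := by
  rw [Finset.sum_ite_mem, Finset.inter_eq_right.2 hP]

/-- The shape of the vectors. -/
theorem shape (T : Finset ι) (v : ℕ → ι → ℤ) (D : ι → ℕ) (ht : ι → ℕ) {h : ℕ}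
    (h3 : h = 2 ∨ h = 4 ∨ 8 ≤ h) (hD : ∀ χ ∈ T, 0 < D χ)
    (gram : ∀ j k, 1 ≤ j → j ≤ h → 1 ≤ k → k ≤ h → ∑ χ ∈ T, v j χ * v k χ =
      2 + (if j = k then 1 else 0) + if j = h ∧ k = h then 1 else 0)
    (deg : ∀ j, 1 ≤ j → j ≤ h → ∑ χ ∈ T, v j χ * (D χ : ℤ) = 0)
    (hc : ∀ χ ∈ T, (2 : ℤ) ^ ht χ ∣ cz v h χ ∧ ¬ (2 : ℤ) ^ (ht χ + 1) ∣ cz v h χ)
    (h0 : ∃ χ ∈ T, ht χ = 0) :
    (T.card = h + 3 ∧ (T.filter fun χ => ht χ = 0).card = 4 ∧ ∀ χ ∈ T, ht χ ≤ 1) ∨
      (h = 4 ∧ ∃ χ₀ ∈ T, ht χ₀ = 0 ∧ ∃ e : ℚ, (e = 1 ∨ e = -1) ∧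
        (∑ χ ∈ T, ((6 * (v 1 χ - v 3 χ) ^ 2 * (-v 4 χ) + (-v 4 χ) ^ 3 : ℤ) : ℚ) / (D χ : ℚ) =
            e * 44 / (3 * (D χ₀ : ℚ))) ∧
        ∑ χ ∈ T, ((2 * (v 1 χ - v 3 χ) ^ 3 + 3 * (v 1 χ - v 3 χ) * (-v 4 χ) ^ 2 : ℤ) : ℚ) /
          (D χ : ℚ) = 0) := by
  classical
  have h2 : 2 ≤ h := by omega
  -- height zero means odd
  have hodd : ∀ χ ∈ T, ht χ = 0 ↔ ¬ (2 : ℤ) ∣ v h χ := by
    intro χ hχ
    rw [← cz_odd_iff v h χ]
    constructor
    · intro e
      have := (hc χ hχ).2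
      rw [e] at this
      simpa using this
    · intro e
      by_contra hne
      exact e ((dvd_pow_self (2 : ℤ) hne).trans (hc χ hχ).1)
  -- the vector at the middle
  have hnh := gram h h (by omega) le_rfl (by omega) le_rfl
  simp only [if_true, and_self] at hnh
  have hh_le : ∀ χ ∈ T, v h χ * v h χ ≤ 4 := fun χ hχ => by
    have := Finset.single_le_sum (f := fun χ => v h χ * v h χ) (fun y _ => mul_self_nonneg (v h y)) hχ
    simp only [hnh] at this
    simpa using this
  obtain ⟨w, hw, hw0⟩ := h0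
  have hwodd := (hodd w hw).1 hw0
  set S := T.filter fun χ => v h χ ≠ 0 with hS
  have hwS : w ∈ S := Finset.mem_filter.2 ⟨hw, fun e => hwodd (by simp [e])⟩
  have hsq : ∀ χ ∈ S, v h χ * v h χ = 1 := by
    intro χ hχ
    obtain ⟨hχT, hne⟩ := Finset.mem_filter.1 hχ
    have h4 := hh_le χ hχT
    have hb : -2 ≤ v h χ ∧ v h χ ≤ 2 := ⟨by nlinarith, by nlinarith⟩
    by_contra h1
    have h22 : v h χ * v h χ = 4 := by
      rcases hb with ⟨hb1, hb2⟩
      interval_cases hv : v h χ <;> omega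
    have hwχ : w ≠ χ := by
      rintro rfl
      apply hwodd
      rcases hb with ⟨hb1, hb2⟩
      interval_cases hv : v h w <;> omega
    have := Finset.sum_le_sum_of_subset_of_nonneg
      (show ({w, χ} : Finset ι) ⊆ T from by
        intro y hy
        rcases Finset.mem_insert.1 hy with rfl | hy
        · exact hw
        · rw [Finset.mem_singleton.1 hy]; exact hχT)
      (f := fun y => v h y * v h y) (fun y _ _ => mul_self_nonneg (v h y))
    rw [Finset.sum_pair hwχ, hnh, h22] at this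
    have : 0 < v h w * v h w := mul_self_pos.2 fun e => hwodd (by simp [e])
    omega
  have hS4 : S.card = 4 := by
    have e : ∑ χ ∈ S, v h χ * v h χ = ∑ χ ∈ T, v h χ * v h χ :=
      Finset.sum_filter_of_ne fun χ _ hne => left_ne_zero_of_mul hne
    rw [Finset.sum_congr rfl hsq, hnh, Finset.sum_const, nsmul_eq_mul, mul_one] at e
    exact_mod_cast e
  have hS0 : ∀ χ ∈ S, ht χ = 0 := fun χ hχ => (hodd χ (Finset.mem_filter.1 hχ).1).2 fun d => by
    rcases sign_eq (hsq χ hχ) with e | e <;> rw [e] at d <;> omega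
  have hSout : ∀ χ ∈ T, χ ∉ S → v h χ = 0 := fun χ hχ hne => by
    by_contra e
    exact hne (Finset.mem_filter.2 ⟨hχ, e⟩)
  -- the other vectors
  have hshape : ∀ j, 1 ≤ j → j < h → ∃ (P : Finset ι) (q : ι) (τ : ℤ), P ⊆ S ∧ P.card = 2 ∧
      q ∈ T ∧ q ∉ S ∧ (τ = 1 ∨ τ = -1) ∧
      ∀ χ ∈ T, v j χ = (if χ ∈ P then v h χ else 0) + (if χ = q then τ else 0) := by
    intro j hj hjh
    have hnj := gram j j hj hjh.le hj hjh.le
    rw [if_pos rfl, if_neg (fun e => absurd e.1 hjh.ne), add_zero] at hnj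
    have hpm : ∀ χ ∈ T, v j χ = -1 ∨ v j χ = 0 ∨ v j χ = 1 := fun χ hχ => by
      have := Finset.single_le_sum (f := fun χ => v j χ * v j χ)
        (fun y _ => mul_self_nonneg (v j y)) hχ
      simp only [hnj] at this
      have h1 : -2 < v j χ ∧ v j χ < 2 := ⟨by nlinarith, by nlinarith⟩
      omega
    set U := T.filter fun χ => v j χ ≠ 0 with hU
    have hU3 : U.card = 3 := by
      have e : ∑ χ ∈ U, v j χ * v j χ = ∑ χ ∈ T, v j χ * v j χ :=
        Finset.sum_filter_of_ne fun χ _ hne => left_ne_zero_of_mul hne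
      rw [hnj, Finset.sum_congr rfl (g := fun _ => (1 : ℤ)) fun χ hχ => by
        obtain ⟨hχT, hne⟩ := Finset.mem_filter.1 hχ
        rcases hpm χ hχT with e' | e' | e' <;> first | exact absurd e' hne | (rw [e']; norm_num),
        Finset.sum_const, nsmul_eq_mul, mul_one] at e
      exact_mod_cast e
    have hcross := gram j h hj hjh.le (by omega) le_rfl
    rw [if_neg hjh.ne, if_neg (fun e => absurd e.1 hjh.ne), add_zero, add_zero] at hcross
    set K := U ∩ S with hK
    have hKsum : ∑ χ ∈ K, v j χ * v h χ = 2 := by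
      rw [← hcross]
      refine Finset.sum_subset (fun χ hχ => (Finset.mem_filter.1 (Finset.mem_inter.1 hχ).1).1)
        fun χ hχ hne => ?_
      by_contra hne0
      exact hne (Finset.mem_inter.2 ⟨Finset.mem_filter.2 ⟨hχ, left_ne_zero_of_mul hne0⟩,
        Finset.mem_filter.2 ⟨hχ, right_ne_zero_of_mul hne0⟩⟩)
    have hterm : ∀ χ ∈ K, v j χ * v h χ = 1 ∨ v j χ * v h χ = -1 := fun χ hχ => by
      obtain ⟨hχU, hχS⟩ := Finset.mem_inter.1 hχ
      obtain ⟨hχT, hne⟩ := Finset.mem_filter.1 hχU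
      rcases sign_eq (hsq χ hχS) with e | e <;> rcases hpm χ hχT with e' | e' | e' <;>
        first | exact absurd e' hne | (rw [e, e']; norm_num)
    have hKeven : (K.card : ℤ) % 2 = 0 := by
      have : (∑ χ ∈ K, (v j χ * v h χ - 1)) % 2 = 0 := by
        refine Int.emod_eq_zero_of_dvd (Finset.dvd_sum fun χ hχ => ?_)
        rcases hterm χ hχ with e | e <;> rw [e] <;> norm_num
      rw [Finset.sum_sub_distrib, hKsum, Finset.sum_const, nsmul_eq_mul, mul_one] at this
      omega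
    have hKle : (2 : ℤ) ≤ K.card := by
      rw [← hKsum, ← nsmul_one K.card, ← Finset.sum_const]
      exact Finset.sum_le_sum fun χ hχ => by rcases hterm χ hχ with e | e <;> omega
    have hK3 : K.card ≤ 3 := hU3 ▸ Finset.card_le_card Finset.inter_subset_left
    have hK2 : K.card = 2 := by omega
    have hKone : ∀ χ ∈ K, v j χ * v h χ = 1 := by
      have e : ∑ χ ∈ K, v j χ * v h χ = ∑ _χ ∈ K, (1 : ℤ) := by
        rw [hKsum, Finset.sum_const, nsmul_eq_mul, mul_one, hK2]; norm_num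
      exact (Finset.sum_eq_sum_iff_of_le fun χ hχ => by
        rcases hterm χ hχ with e | e <;> omega).1 e
    have hUK : (U \ S).card = 1 := by
      have := Finset.card_sdiff_add_card_inter U S
      rw [← hK, hK2, hU3] at this
      omega
    obtain ⟨q, hq⟩ := Finset.card_eq_one.1 hUK
    obtain ⟨hqU, hqS⟩ := Finset.mem_sdiff.1 (hq.ge (Finset.mem_singleton_self q))
    obtain ⟨hqT, hq0⟩ := Finset.mem_filter.1 hqU
    refine ⟨K, q, v j q, Finset.inter_subset_right, hK2, hqT, hqS, ?_, fun χ hχ => ?_⟩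
    · rcases hpm q hqT with e | e | e <;> omega
    · by_cases hχq : χ = q
      · subst hχq
        rw [if_neg fun e => hqS (Finset.mem_inter.1 e).2, if_pos rfl, zero_add]
      rw [if_neg hχq, add_zero]
      by_cases hχK : χ ∈ K
      · rw [if_pos hχK]
        calc v j χ = v j χ * (v h χ * v h χ) := by
              rw [hsq χ (Finset.mem_inter.1 hχK).2, mul_one]
          _ = v j χ * v h χ * v h χ := (mul_assoc _ _ _).symm
          _ = v h χ := by rw [hKone χ hχK, one_mul]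
      · rw [if_neg hχK]
        by_contra hne
        have hχU : χ ∈ U := Finset.mem_filter.2 ⟨hχ, hne⟩
        by_cases hχS : χ ∈ S
        · exact hχK (Finset.mem_inter.2 ⟨hχU, hχS⟩)
        · exact hχq (Finset.mem_singleton.1 (hq.le (Finset.mem_sdiff.2 ⟨hχU, hχS⟩)))
  haveI : Nonempty ι := ⟨w⟩
  choose! P q τ hPS hP2 hqT hqS hτ hv using hshape
  have hrel : ∀ j k, 1 ≤ j → j < h → 1 ≤ k → k < h → j ≠ k →
      (P j = P k ∧ q j ≠ q k) ∨ ((P j ∩ P k).card = 1 ∧ q j = q k ∧ τ j = τ k) := by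
    intro j k hj hjh hk hkh hjk
    have hg := gram j k hj hjh.le hk hkh.le
    rw [if_neg hjk, if_neg (fun e => absurd e.1 hjh.ne), add_zero, add_zero] at hg
    have e : ∀ χ ∈ T, v j χ * v k χ = (if χ ∈ P j ∩ P k then (1 : ℤ) else 0) +
        (if χ = q j then (if q j = q k then τ j * τ k else 0) else 0) := by
      intro χ hχ
      rw [hv j hj hjh χ hχ, hv k hk hkh χ hχ]
      have hnS : ∀ i, 1 ≤ i → i < h → χ ∈ P i → χ ∈ S ∧ χ ≠ q j ∧ χ ≠ q k := fun i hi hih hm =>
        ⟨hPS i hi hih hm, fun e => hqS j hj hjh (e ▸ hPS i hi hih hm),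
          fun e => hqS k hk hkh (e ▸ hPS i hi hih hm)⟩
      by_cases h1 : χ ∈ P j
      · obtain ⟨hs, hnq, hnq'⟩ := hnS j hj hjh h1
        by_cases h2' : χ ∈ P k
        · rw [if_pos h1, if_pos h2', if_neg hnq, if_neg hnq', if_pos (Finset.mem_inter.2 ⟨h1, h2'⟩),
            if_neg hnq, add_zero, hsq χ hs, add_zero]
        · rw [if_pos h1, if_neg h2', if_neg hnq, if_neg hnq',
            if_neg (fun e => h2' (Finset.mem_inter.1 e).2), if_neg hnq]
          ring
      · rw [if_neg h1, if_neg (fun e => h1 (Finset.mem_inter.1 e).1)]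
        by_cases h2' : χ ∈ P k
        · obtain ⟨-, hnq, hnq'⟩ := hnS k hk hkh h2'
          rw [if_neg hnq, if_neg hnq]
          ring
        · rw [if_neg h2']
          by_cases h3' : χ = q j
          · subst h3'
            rw [if_pos rfl, if_pos rfl]
            split_ifs <;> ring
          · rw [if_neg h3', if_neg h3']
            ring
    rw [Finset.sum_congr rfl e, Finset.sum_add_distrib, Finset.sum_ite_eq' T (q j),
      if_pos (hqT j hj hjh), pair_sum (fun χ hχ =>
        (Finset.mem_filter.1 (hPS j hj hjh (Finset.mem_inter.1 hχ).1)).1),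
      Finset.sum_const, nsmul_eq_mul, mul_one] at hg
    have hle : (P j ∩ P k).card ≤ 2 :=
      hP2 j hj hjh ▸ Finset.card_le_card Finset.inter_subset_left
    have hττ : τ j * τ k = 1 ∨ τ j * τ k = -1 := by
      rcases hτ j hj hjh with e | e <;> rcases hτ k hk hkh with e' | e' <;> rw [e, e'] <;> norm_num
    by_cases hqq : q j = q k
    · rw [if_pos hqq] at hg
      right
      have h1 : (P j ∩ P k).card = 1 := by omega
      refine ⟨h1, hqq, ?_⟩
      rw [h1] at hg
      rcases hτ j hj hjh with e | e <;> rcases hτ k hk hkh with e' | e' <;> rw [e, e'] at hg ⊢ <;>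
        norm_num at hg
    · rw [if_neg hqq] at hg
      left
      refine ⟨?_, hqq⟩
      have h2' : (P j ∩ P k).card = 2 := by omega
      exact (Finset.eq_of_subset_of_card_le Finset.inter_subset_left
        (by rw [h2', hP2 j hj hjh])).symm.trans
        (Finset.eq_of_subset_of_card_le Finset.inter_subset_right (by rw [h2', hP2 k hk hkh]))
  -- every character occurs
  have hcover : ∀ χ ∈ T, χ ∈ S ∨ ∃ j, 1 ≤ j ∧ j < h ∧ χ = q j := by
    intro χ hχ
    by_contra hcon
    push Not at hcon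
    refine (hc χ hχ).2 ?_
    have : cz v h χ = 0 := by
      rw [cz, hSout χ hχ hcon.1, Finset.sum_eq_zero fun j hj => ?_]
      · ring
      obtain ⟨hj, hjh⟩ := Finset.mem_Ico.1 hj
      rw [hv j hj hjh χ hχ, if_neg fun e => hcon.1 (hPS j hj hjh e), if_neg (hcon.2 j hj hjh)]
      ring
    rw [this]; exact dvd_zero _
  by_cases hall : ∀ j k, 1 ≤ j → j < h → 1 ≤ k → k < h → P j = P k
  · left
    have hinj : ∀ j k, 1 ≤ j → j < h → 1 ≤ k → k < h → q j = q k → j = k := by
      intro j k hj hjh hk hkh e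
      by_contra hne
      rcases hrel j k hj hjh hk hkh hne with ⟨-, h'⟩ | ⟨h', -, -⟩
      · exact h' e
      · rw [hall j k hj hjh hk hkh, Finset.inter_self, hP2 k hk hkh] at h'
        omega
    have hq1 : ∀ j, 1 ≤ j → j < h → ht (q j) = 1 := by
      intro j hj hjh
      have hczq : cz v h (q j) = 2 * ((-1) ^ j * τ j) := by
        rw [cz, hSout _ (hqT j hj hjh) (hqS j hj hjh), add_zero,
          Finset.sum_eq_single_of_mem j (Finset.mem_Ico.2 ⟨hj, hjh⟩) fun k hk hkj => ?_]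
        · rw [hv j hj hjh _ (hqT j hj hjh), if_neg fun e => hqS j hj hjh (hPS j hj hjh e),
            if_pos rfl, zero_add]
        · obtain ⟨hk, hkh⟩ := Finset.mem_Ico.1 hk
          rw [hv k hk hkh _ (hqT j hj hjh), if_neg fun e => hqS j hj hjh (hPS k hk hkh e),
            if_neg fun e => hkj (hinj k j hk hkh hj hjh e.symm), add_zero, mul_zero]
      obtain ⟨ha, hb⟩ := hc _ (hqT j hj hjh)
      have hne : ht (q j) ≠ 0 := fun e => by
        rw [hodd _ (hqT j hj hjh), hSout _ (hqT j hj hjh) (hqS j hj hjh)] at e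
        exact e (dvd_zero _)
      by_contra h1
      have h4 : (2 : ℤ) ^ 2 ∣ cz v h (q j) :=
        (pow_dvd_pow 2 (show 2 ≤ ht (q j) by omega)).trans ha
      rw [hczq] at h4
      rcases neg_one_pow_eq_or ℤ j with e | e <;> rcases hτ j hj hjh with e' | e' <;>
        rw [e, e'] at h4 <;> norm_num at h4
    set Q := (Finset.Ico 1 h).image q with hQ
    have hTeq : T = S ∪ Q := by
      ext χ
      simp only [Finset.mem_union, hQ, Finset.mem_image, Finset.mem_Ico]
      constructor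
      · intro hχ
        rcases hcover χ hχ with e | ⟨j, hj, hjh, e⟩
        · exact Or.inl e
        · exact Or.inr ⟨j, ⟨hj, hjh⟩, e.symm⟩
      · rintro (e | ⟨j, ⟨hj, hjh⟩, rfl⟩)
        · exact (Finset.mem_filter.1 e).1
        · exact hqT j hj hjh
    refine ⟨?_, ?_, ?_⟩
    · rw [hTeq, Finset.card_union_of_disjoint, Finset.card_image_of_injOn, Nat.card_Ico, hS4]
      · omega
      · intro j hj k hk e
        simp only [Finset.coe_Ico, Set.mem_Ico] at hj hk
        exact hinj j k hj.1 hj.2 hk.1 hk.2 e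
      · refine Finset.disjoint_right.2 fun χ hχ hχS => ?_
        obtain ⟨j, hj, rfl⟩ := Finset.mem_image.1 hχ
        obtain ⟨hj, hjh⟩ := Finset.mem_Ico.1 hj
        exact hqS j hj hjh hχS
    · rw [← hS4]
      congr 1
      ext χ
      simp only [Finset.mem_filter]
      refine ⟨fun ⟨hχ, e⟩ => ?_, fun e => ⟨(Finset.mem_filter.1 e).1, hS0 χ e⟩⟩
      rcases hcover χ hχ with e' | ⟨j, hj, hjh, rfl⟩
      · exact e'
      · rw [hq1 j hj hjh] at e; omega
    · intro χ hχ
      rcases hcover χ hχ with e' | ⟨j, hj, hjh, rfl⟩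
      · rw [hS0 χ e']; omega
      · rw [hq1 j hj hjh]
  right
  have hdist : ∀ j k, 1 ≤ j → j < h → 1 ≤ k → k < h → j ≠ k →
      (P j ∩ P k).card = 1 ∧ q j = q k ∧ τ j = τ k := by
    intro j k hj hjh hk hkh hjk
    rcases hrel j k hj hjh hk hkh hjk with ⟨hP, hq⟩ | hgood
    · exfalso
      obtain ⟨l, hl, hlh, hne⟩ : ∃ l, 1 ≤ l ∧ l < h ∧ P l ≠ P j := by
        by_contra hcon
        push Not at hcon
        exact hall fun a b ha hah hb hbh => (hcon a ha hah).trans (hcon b hb hbh).symm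
      have h1 : q l = q j := by
        rcases hrel l j hl hlh hj hjh (fun e => hne (by rw [e])) with ⟨e, -⟩ | ⟨-, e, -⟩
        · exact absurd e hne
        · exact e
      have h2' : q l = q k := by
        rcases hrel l k hl hlh hk hkh (fun e => hne (by rw [e, hP])) with ⟨e, -⟩ | ⟨-, e, -⟩
        · exact absurd (e.trans hP.symm) hne
        · exact e
      exact hq (h1.symm.trans h2')
    · exact hgood
  have hh4 : h = 4 := by
    have hle : (Finset.Ico 1 h).card ≤ (S.powersetCard 2).card := by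
      refine Finset.card_le_card_of_injOn P (fun j hj => ?_) fun j hj k hk e => ?_
      · obtain ⟨hj, hjh⟩ := Finset.mem_Ico.1 hj
        exact Finset.mem_powersetCard.2 ⟨hPS j hj hjh, hP2 j hj hjh⟩
      · simp only [Finset.coe_Ico, Set.mem_Ico] at hj hk
        by_contra hne
        have h1 := (hdist j k hj.1 hj.2 hk.1 hk.2 hne).1
        rw [e, Finset.inter_self, hP2 k hk.1 hk.2] at h1
        omega
    rw [Nat.card_Ico, Finset.card_powersetCard, hS4] at hle
    have : Nat.choose 4 2 = 6 := rfl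
    rcases h3 with e | e | e
    · exact absurd (fun a b ha hah hb hbh => by
        rw [show a = b by omega]) hall
    · exact e
    · omega
  subst hh4
  obtain ⟨h12, hq12, hτ12⟩ := hdist 1 2 le_rfl (by omega) (by omega) (by omega) (by omega)
  obtain ⟨h13, hq13, hτ13⟩ := hdist 1 3 le_rfl (by omega) (by omega) (by omega) (by omega)
  obtain ⟨h23, -, -⟩ := hdist 2 3 (by omega) (by omega) (by omega) (by omega) (by omega)
  obtain ⟨c, hc12⟩ := Finset.card_eq_one.1 h12
  have hcP : c ∈ P 1 ∧ c ∈ P 2 := Finset.mem_inter.1 (hc12.ge (Finset.mem_singleton_self c))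
  obtain ⟨a, ha⟩ := Finset.card_eq_one.1
    (show ((P 1).erase c).card = 1 by rw [Finset.card_erase_of_mem hcP.1, hP2 1 le_rfl (by omega)])
  obtain ⟨b, hb⟩ := Finset.card_eq_one.1
    (show ((P 2).erase c).card = 1 by
      rw [Finset.card_erase_of_mem hcP.2, hP2 2 (by omega) (by omega)])
  obtain ⟨hac, haP⟩ := Finset.mem_erase.1 (ha.ge (Finset.mem_singleton_self a))
  obtain ⟨hbc, hbP⟩ := Finset.mem_erase.1 (hb.ge (Finset.mem_singleton_self b))
  have hab : a ≠ b := fun e =>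
    hac (Finset.mem_singleton.1 (hc12.le (Finset.mem_inter.2 ⟨haP, e.symm ▸ hbP⟩)))
  have hP1 : P 1 = {c, a} := by rw [← Finset.insert_erase hcP.1, ha]
  have hP2' : P 2 = {c, b} := by rw [← Finset.insert_erase hcP.2, hb]
  have haS := hPS 1 le_rfl (by omega) haP
  have hbS := hPS 2 (by omega) (by omega) hbP
  have hcS := hPS 1 le_rfl (by omega) hcP.1
  obtain ⟨e₀, he₀⟩ := Finset.card_eq_one.1 (show (S \ {c, a, b}).card = 1 by
    rw [Finset.card_sdiff_of_subset (by
      intro y hy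
      simp only [Finset.mem_insert, Finset.mem_singleton] at hy
      rcases hy with rfl | rfl | rfl <;> assumption), hS4,
      Finset.card_insert_of_notMem (by simp [hac.symm, hbc.symm]), Finset.card_pair hab])
  obtain ⟨heS, hen⟩ := Finset.mem_sdiff.1 (he₀.ge (Finset.mem_singleton_self e₀))
  simp only [Finset.mem_insert, Finset.mem_singleton, not_or] at hen
  obtain ⟨hec, hea, heb⟩ := hen
  have hSeq : S = {c, a, b, e₀} := by
    refine (Finset.eq_of_subset_of_card_le (fun y hy => ?_) ?_).symm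
    · simp only [Finset.mem_insert, Finset.mem_singleton] at hy
      rcases hy with rfl | rfl | rfl | rfl <;> assumption
    · rw [hS4, Finset.card_insert_of_notMem (by simp [hac.symm, hbc.symm, Ne.symm hec]),
        Finset.card_insert_of_notMem (by simp [hab, Ne.symm hea]),
        Finset.card_pair (Ne.symm heb)]
  have hP3S := hPS 3 (by omega) (by omega)
  have hP33 := hP2 3 (by omega) (by omega)
  have hP3 : P 3 = {c, e₀} ∨ P 3 = {a, b} := by
    by_cases hc3 : c ∈ P 3
    · left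
      obtain ⟨d, hd⟩ := Finset.card_eq_one.1
        (show ((P 3).erase c).card = 1 by rw [Finset.card_erase_of_mem hc3, hP33])
      obtain ⟨hdc, hdP⟩ := Finset.mem_erase.1 (hd.ge (Finset.mem_singleton_self d))
      have hd4 := hP3S hdP
      rw [hSeq] at hd4
      simp only [Finset.mem_insert, Finset.mem_singleton] at hd4
      rcases hd4 with e | e | e | e
      · exact absurd e hdc
      · exfalso
        have := Finset.card_le_card (show ({c, a} : Finset ι) ⊆ P 1 ∩ P 3 by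
          intro y hy
          simp only [Finset.mem_insert, Finset.mem_singleton] at hy
          rcases hy with rfl | rfl
          · exact Finset.mem_inter.2 ⟨hcP.1, hc3⟩
          · exact Finset.mem_inter.2 ⟨haP, e ▸ hdP⟩)
        rw [Finset.card_pair hac.symm, h13] at this
        omega
      · exfalso
        have := Finset.card_le_card (show ({c, b} : Finset ι) ⊆ P 2 ∩ P 3 by
          intro y hy
          simp only [Finset.mem_insert, Finset.mem_singleton] at hy
          rcases hy with rfl | rfl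
          · exact Finset.mem_inter.2 ⟨hcP.2, hc3⟩
          · exact Finset.mem_inter.2 ⟨hbP, e ▸ hdP⟩)
        rw [Finset.card_pair hbc.symm, h23] at this
        omega
      · rw [← Finset.insert_erase hc3, hd, e]
    · right
      obtain ⟨d, hd⟩ := Finset.card_eq_one.1 h13
      obtain ⟨hd1, hd3⟩ := Finset.mem_inter.1 (hd.ge (Finset.mem_singleton_self d))
      obtain ⟨d', hd'⟩ := Finset.card_eq_one.1 h23
      obtain ⟨hd2, hd3'⟩ := Finset.mem_inter.1 (hd'.ge (Finset.mem_singleton_self d'))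
      have ea : a ∈ P 3 := by
        rw [hP1] at hd1
        simp only [Finset.mem_insert, Finset.mem_singleton] at hd1
        rcases hd1 with e | e
        · exact absurd (e ▸ hd3) hc3
        · exact e ▸ hd3
      have eb : b ∈ P 3 := by
        rw [hP2'] at hd2
        simp only [Finset.mem_insert, Finset.mem_singleton] at hd2
        rcases hd2 with e | e
        · exact absurd (e ▸ hd3') hc3
        · exact e ▸ hd3'
      refine (Finset.eq_of_subset_of_card_le ?_ ?_).symm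
      · intro y hy
        simp only [Finset.mem_insert, Finset.mem_singleton] at hy
        rcases hy with rfl | rfl <;> assumption
      · rw [hP33, Finset.card_pair hab]
  set p := q 1 with hp
  have hpT : p ∈ T := hqT 1 le_rfl (by omega)
  have hpS : p ∉ S := hqS 1 le_rfl (by omega)
  have hTeq : T = {c, a, b, e₀, p} := by
    ext χ
    simp only [Finset.mem_insert, Finset.mem_singleton]
    constructor
    · intro hχ
      rcases hcover χ hχ with e | ⟨j, hj, hjh, e⟩
      · rw [hSeq] at e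
        simp only [Finset.mem_insert, Finset.mem_singleton] at e
        tauto
      · have hj3 : j = 1 ∨ j = 2 ∨ j = 3 := by omega
        rcases hj3 with rfl | rfl | rfl
        · exact Or.inr (Or.inr (Or.inr (Or.inr e)))
        · exact Or.inr (Or.inr (Or.inr (Or.inr (e.trans hq12.symm))))
        · exact Or.inr (Or.inr (Or.inr (Or.inr (e.trans hq13.symm))))
    · have hST : ∀ y ∈ S, y ∈ T := fun y hy => (Finset.mem_filter.1 hy).1
      rintro (rfl | rfl | rfl | rfl | rfl)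
      exacts [hST _ hcS, hST _ haS, hST _ hbS, hST _ heS, hpT]
  have ncp : c ≠ p := fun e => hpS (e ▸ hcS)
  have nap : a ≠ p := fun e => hpS (e ▸ haS)
  have nbp : b ≠ p := fun e => hpS (e ▸ hbS)
  have nep : e₀ ≠ p := fun e => hpS (e ▸ heS)
  have hsum : ∀ (β : Type) (_ : AddCommMonoid β) (f : ι → β),
      ∑ χ ∈ T, f χ = f c + (f a + (f b + (f e₀ + f p))) := by
    intro β _ f
    rw [hTeq, Finset.sum_insert (by simp [hac.symm, hbc.symm, Ne.symm hec, ncp]),
      Finset.sum_insert (by simp [hab, Ne.symm hea, nap]),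
      Finset.sum_insert (by simp [Ne.symm heb, nbp]), Finset.sum_pair nep]
  have hST : ∀ y ∈ S, y ∈ T := fun y hy => (Finset.mem_filter.1 hy).1
  have v4p : v 4 p = 0 := hSout p hpT hpS
  have hv1 := hv 1 le_rfl (by omega)
  have hv2 := hv 2 (by omega) (by omega)
  have hv3 := hv 3 (by omega) (by omega)
  rw [hP1] at hv1
  rw [hP2', ← hq12, ← hτ12] at hv2
  rw [← hq13, ← hτ13] at hv3
  rw [← hp] at hv1
  have hval1 : v 1 c = v 4 c ∧ v 1 a = v 4 a ∧ v 1 b = 0 ∧ v 1 e₀ = 0 ∧ v 1 p = τ 1 := by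
    refine ⟨?_, ?_, ?_, ?_, ?_⟩ <;> rw [hv1 _ (by first | exact hST _ (by assumption) | exact hpT)] <;>
      simp [hab.symm, hbc, hec, hea, ncp, nap, nbp, nep, ncp.symm, nap.symm]
  have hval2 : v 2 c = v 4 c ∧ v 2 a = 0 ∧ v 2 b = v 4 b ∧ v 2 e₀ = 0 ∧ v 2 p = τ 1 := by
    refine ⟨?_, ?_, ?_, ?_, ?_⟩ <;> rw [hv2 _ (by first | exact hST _ (by assumption) | exact hpT)] <;>
      simp [hab, hac, hec, heb, ncp, nap, nbp, nep, ncp.symm, nbp.symm]
  obtain ⟨c1, a1, b1, e1, p1⟩ := hval1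
  obtain ⟨c2, a2, b2, e2, p2⟩ := hval2
  have d1 := deg 1 le_rfl (by omega)
  have d2 := deg 2 (by omega) (by omega)
  have d3 := deg 3 (by omega) (by omega)
  have d4 := deg 4 (by omega) le_rfl
  rw [hsum ℤ _] at d1 d2 d3 d4
  rw [c1, a1, b1, e1, p1] at d1
  rw [c2, a2, b2, e2, p2] at d2
  rw [v4p] at d4
  simp only [zero_mul, add_zero, zero_add] at d1 d2 d4
  have hDq : ∀ y ∈ S, (D y : ℚ) ≠ 0 := fun y hy =>
    Nat.cast_ne_zero.2 (hD y (hST y hy)).ne'
  have sq : ∀ y ∈ S, ((v 4 y : ℤ) : ℚ) = 1 ∨ ((v 4 y : ℤ) : ℚ) = -1 := fun y hy => by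
    rcases sign_eq (hsq y hy) with e | e <;> [left; right] <;> rw [e] <;> norm_num
  have sq2 : ∀ y ∈ S, ((v 4 y : ℤ) : ℚ) ^ 2 = 1 := fun y hy => by
    rcases sq y hy with e | e <;> rw [e] <;> norm_num
  have hinv : ∀ y ∈ S, ((v 4 y : ℤ) : ℚ) / (D y : ℚ) = 1 / ((v 4 y : ℤ) * (D y : ℚ)) :=
    fun y hy => by rcases sq y hy with e | e <;> rw [e] <;> ring
  have hcube : ∀ y ∈ S, ((v 4 y : ℤ) : ℚ) ^ 3 = (v 4 y : ℤ) := fun y hy => by
    rw [pow_succ, sq2 y hy, one_mul]
  have hneg3 : ∀ x : ℚ, (-x) ^ 3 = -(x ^ 3) := fun x => by ring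
  refine ⟨rfl, a, hST a haS, hS0 a haS, -((v 4 a : ℤ) : ℚ), by
    rcases sq a haS with e | e <;> rw [e] <;> norm_num, ?_⟩
  have eab : (v 4 b : ℤ) * (D b : ℤ) = v 4 a * (D a : ℤ) := by linarith
  have qab : ((v 4 b : ℤ) : ℚ) * (D b : ℚ) = (v 4 a : ℤ) * (D a : ℚ) := by exact_mod_cast eab
  have hta : (1 : ℚ) / ((v 4 a : ℤ) * (D a : ℚ)) = ((v 4 a : ℤ) : ℚ) / (D a : ℚ) :=
    (hinv a haS).symm
  rcases hP3 with hP3 | hP3 <;> rw [hP3] at hv3
  · have hval3 : v 3 c = v 4 c ∧ v 3 a = 0 ∧ v 3 b = 0 ∧ v 3 e₀ = v 4 e₀ ∧ v 3 p = τ 1 := by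
      refine ⟨?_, ?_, ?_, ?_, ?_⟩ <;>
        rw [hv3 _ (by first | exact hST _ (by assumption) | exact hpT)] <;>
        simp [hac, hbc, Ne.symm hea, Ne.symm heb, ncp, nap, nbp, nep, ncp.symm, nep.symm]
    obtain ⟨c3, a3, b3, e3, p3⟩ := hval3
    rw [c3, a3, b3, e3, p3] at d3
    simp only [zero_mul, add_zero, zero_add] at d3
    have eae : (v 4 e₀ : ℤ) * (D e₀ : ℤ) = v 4 a * (D a : ℤ) := by linarith
    have qae : ((v 4 e₀ : ℤ) : ℚ) * (D e₀ : ℚ) = (v 4 a : ℤ) * (D a : ℚ) := by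
      exact_mod_cast eae
    have ecc : (v 4 c : ℤ) * (D c : ℤ) = -3 * (v 4 a * (D a : ℤ)) := by linarith
    have qcc : ((v 4 c : ℤ) : ℚ) * (D c : ℚ) = -3 * ((v 4 a : ℤ) * (D a : ℚ)) := by
      exact_mod_cast ecc
    have ib : ((v 4 b : ℤ) : ℚ) / D b = ((v 4 a : ℤ) : ℚ) / D a := by
      rw [hinv b hbS, qab, hta]
    have ie : ((v 4 e₀ : ℤ) : ℚ) / D e₀ = ((v 4 a : ℤ) : ℚ) / D a := by
      rw [hinv e₀ heS, qae, hta]
    have ic : ((v 4 c : ℤ) : ℚ) / D c = -(((v 4 a : ℤ) : ℚ) / D a) / 3 := by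
      rw [hinv c hcS, qcc, ← hta]
      ring
    constructor
    · rw [hsum ℚ _, c1, c3, a1, a3, b1, b3, e1, e3, p1, p3, v4p]
      simp only [sub_self, sub_zero, zero_sub, neg_sq]
      push_cast
      simp only [sq2 a haS, sq2 e₀ heS, hneg3, hcube c hcS, hcube a haS, hcube b hbS,
        hcube e₀ heS]
      linear_combination (-7 : ℚ) * ie + (-1 : ℚ) * ib + (-1 : ℚ) * ic
    · rw [hsum ℚ _, c1, c3, a1, a3, b1, b3, e1, e3, p1, p3, v4p]
      simp only [sub_self, sub_zero, zero_sub, neg_sq]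
      push_cast
      simp only [sq2 a haS, sq2 e₀ heS, hneg3, hcube a haS, hcube e₀ heS]
      linear_combination (-5 : ℚ) * ie
  · have hval3 : v 3 c = 0 ∧ v 3 a = v 4 a ∧ v 3 b = v 4 b ∧ v 3 e₀ = 0 ∧ v 3 p = τ 1 := by
      refine ⟨?_, ?_, ?_, ?_, ?_⟩ <;>
        rw [hv3 _ (by first | exact hST _ (by assumption) | exact hpT)] <;>
        simp [hac.symm, hbc.symm, hea, heb, ncp, nap, nbp, nep, nap.symm, nbp.symm]
    obtain ⟨c3, a3, b3, e3, p3⟩ := hval3
    rw [c3, a3, b3, e3, p3] at d3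
    simp only [zero_mul, add_zero, zero_add] at d3
    have eac : (v 4 c : ℤ) * (D c : ℤ) = v 4 a * (D a : ℤ) := by linarith
    have qac : ((v 4 c : ℤ) : ℚ) * (D c : ℚ) = (v 4 a : ℤ) * (D a : ℚ) := by
      exact_mod_cast eac
    have eee : (v 4 e₀ : ℤ) * (D e₀ : ℤ) = -3 * (v 4 a * (D a : ℤ)) := by linarith
    have qee : ((v 4 e₀ : ℤ) : ℚ) * (D e₀ : ℚ) = -3 * ((v 4 a : ℤ) * (D a : ℚ)) := by
      exact_mod_cast eee
    have ib : ((v 4 b : ℤ) : ℚ) / D b = ((v 4 a : ℤ) : ℚ) / D a := by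
      rw [hinv b hbS, qab, hta]
    have ic : ((v 4 c : ℤ) : ℚ) / D c = ((v 4 a : ℤ) : ℚ) / D a := by
      rw [hinv c hcS, qac, hta]
    have ie : ((v 4 e₀ : ℤ) : ℚ) / D e₀ = -(((v 4 a : ℤ) : ℚ) / D a) / 3 := by
      rw [hinv e₀ heS, qee, ← hta]
      ring
    constructor
    · rw [hsum ℚ _, c1, c3, a1, a3, b1, b3, e1, e3, p1, p3, v4p]
      simp only [sub_self, sub_zero, zero_sub, neg_sq]
      push_cast
      simp only [sq2 c hcS, sq2 b hbS, hneg3, hcube c hcS, hcube a haS, hcube b hbS,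
        hcube e₀ heS]
      linear_combination (-7 : ℚ) * ic + (-7 : ℚ) * ib + (-1 : ℚ) * ie
    · rw [hsum ℚ _, c1, c3, a1, a3, b1, b3, e1, e3, p1, p3, v4p]
      simp only [sub_self, sub_zero, zero_sub, neg_sq]
      push_cast
      simp only [sq2 c hcS, sq2 b hbS, hneg3, hcube c hcS, hcube b hbS]
      linear_combination (5 : ℚ) * ic + (-5 : ℚ) * ib

end Cfsg.Agent.DihedralVectors
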