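/-
Integer vectors from the columns of the cyclic part of a dihedral defect group.
-/
import Cfsg.Agent.Lib.BrauerPairs.DihedralVectors
import Mathlib.RingTheory.RootsOfUnity.PrimitiveRoots
import Mathlib.Analysis.Complex.Basic
import Mathlib.LinearAlgebra.Dimension.Finrank

set_option linter.style.haveILetI false

namespace Cfsg.Agent.DihedralFourier

open scoped ComplexConjugate

theorem pow_sub_eq {ζ : ℂ} {m : ℕ} (hm : ζ ^ m = 1) {i : ℕ} (hi : i ≤ m) (j : ℕ) :
    ζ ^ ((m - i) * j) * ζ ^ (i * j) = 1 := by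
  rw [← pow_add, ← Nat.add_mul, Nat.sub_add_cancel hi, pow_mul, hm, one_pow]

theorem geom {ζ : ℂ} {m : ℕ} (hζ : IsPrimitiveRoot ζ m) (c : ℕ) :
    ∑ i ∈ Finset.range m, ζ ^ (i * c) = if m ∣ c then (m : ℂ) else 0 := by
  simp only [fun i : ℕ => show ζ ^ (i * c) = (ζ ^ c) ^ i by rw [← pow_mul, mul_comm]]
  split_ifs with hc
  · rw [(hζ.pow_eq_one_iff_dvd c).2 hc]
    simp
  · rw [geom_sum_eq (fun e => hc ((hζ.pow_eq_one_iff_dvd c).1 e)), ← pow_mul, mul_comm c m,
      pow_mul, hζ.pow_eq_one, one_pow, sub_self, zero_div]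

/-- Symmetric expansions and their integer vectors. -/
theorem exists_vectors {ι : Type*} (T : Finset ι) {m h : ℕ} (hh : m = 2 * h) (hh1 : 1 ≤ h)
    (hev : 2 ∣ h) {ζ : ℂ} (hζ : IsPrimitiveRoot ζ m) (Ψ : ι → ℕ → ℂ) (A : ι → ℕ → ℕ)
    (hA : ∀ χ i, Ψ χ i = ∑ j ∈ Finset.range m, (A χ j : ℂ) * ζ ^ (i * j))
    (hsym : ∀ χ i, i ≤ m → Ψ χ (m - i) = Ψ χ i)
    (hgram : ∀ i ∈ Finset.Ico 1 m, ∀ k ∈ Finset.Ico 1 m, ∑ χ ∈ T, Ψ χ i * Ψ χ k =
      (m : ℂ) * ((if k = i then 1 else 0) + if k = m - i then 1 else 0)) :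
    ∃ v : ℕ → ι → ℤ,
      (∀ χ, v 0 χ = 0) ∧ (∀ χ j, j < m → 0 < j → v (m - j) χ = v j χ) ∧
      (∀ χ i, ¬ m ∣ i → Ψ χ i = ∑ j ∈ Finset.range m, (v j χ : ℂ) * ζ ^ (i * j)) ∧
      (∀ χ, (DihedralVectors.cz v h χ : ℂ) = Ψ χ h) ∧
      (∀ j k, 1 ≤ j → j ≤ h → 1 ≤ k → k ≤ h → ∑ χ ∈ T, v j χ * v k χ =
        2 + (if j = k then 1 else 0) + if j = h ∧ k = h then 1 else 0) ∧
      ∀ f : ι → ℂ, (∀ i ∈ Finset.Ico 1 m, ∑ χ ∈ T, Ψ χ i * f χ = 0) →
        ∀ j, 1 ≤ j → j ≤ h → ∑ χ ∈ T, (v j χ : ℂ) * f χ = 0 := by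
  classical
  have hm0 : 0 < m := by omega
  have hmC : (m : ℂ) ≠ 0 := Nat.cast_ne_zero.2 hm0.ne'
  have hζm := hζ.pow_eq_one
  -- inversion
  have hinv : ∀ χ l, 0 < l → l < m →
      ∑ i ∈ Finset.range m, Ψ χ i * ζ ^ (i * l) = (m : ℂ) * (A χ (m - l) : ℂ) := by
    intro χ l hl0 hl
    simp only [hA χ, Finset.sum_mul, mul_assoc, ← pow_add, ← mul_add]
    rw [Finset.sum_comm]
    simp only [← Finset.mul_sum, geom hζ]
    rw [Finset.sum_eq_single (m - l) (fun j hj hne => ?_)
      (fun hn => absurd (Finset.mem_range.2 (by omega)) hn), if_pos ⟨1, by omega⟩, mul_comm]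
    rw [if_neg, mul_zero]
    rintro ⟨c, hc⟩
    have hjm := Finset.mem_range.1 hj
    rcases c with _ | _ | c
    · omega
    · omega
    · have : m * (c + 1 + 1) = m * c + m + m := by ring
      omega
  have hinv0 : ∀ χ, ∑ i ∈ Finset.range m, Ψ χ i = (m : ℂ) * (A χ 0 : ℂ) := by
    intro χ
    simp only [hA χ]
    rw [Finset.sum_comm]
    simp only [← Finset.mul_sum, geom hζ]
    rw [Finset.sum_eq_single 0 (fun j hj hne => ?_)
      (fun hn => absurd (Finset.mem_range.2 hm0) hn), if_pos (dvd_zero _), mul_comm]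
    rw [if_neg (fun hd => hne (Nat.eq_zero_of_dvd_of_lt hd (Finset.mem_range.1 hj))), mul_zero]
  -- sums against sub-roots are symmetric
  have hflip : ∀ χ l, l ≤ m → ∑ i ∈ Finset.range m, Ψ χ i * ζ ^ (i * (m - l)) =
      ∑ i ∈ Finset.range m, Ψ χ i * ζ ^ (i * l) := by
    intro χ l hl
    have key : ∀ i, i < m → Ψ χ ((m - i) % m) * ζ ^ ((m - i) % m * l) =
        Ψ χ i * ζ ^ (i * (m - l)) := by
      intro i hi
      rcases Nat.eq_zero_or_pos i with rfl | hpos
      · simp
      rw [Nat.mod_eq_of_lt (by omega), hsym χ i hi.le]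
      congr 1
      refine mul_right_cancel₀ (b := ζ ^ (i * l)) (pow_ne_zero _ (hζ.ne_zero hm0.ne')) ?_
      rw [pow_sub_eq hζm hi.le, ← pow_add, ← mul_add, Nat.sub_add_cancel hl, mul_comm, pow_mul,
        hζm, one_pow]
    refine Finset.sum_nbij' (fun i => (m - i) % m) (fun i => (m - i) % m)
      (fun i _ => Finset.mem_range.2 (Nat.mod_lt _ hm0))
      (fun i _ => Finset.mem_range.2 (Nat.mod_lt _ hm0)) ?_ ?_
      (fun i hi => (key i (Finset.mem_range.1 hi)).symm)
    · intro i hi
      have hi' := Finset.mem_range.1 hi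
      rcases Nat.eq_zero_or_pos i with rfl | hpos
      · simp
      · show (m - (m - i) % m) % m = i
        rw [Nat.mod_eq_of_lt (show m - i < m by omega), Nat.mod_eq_of_lt (by omega)]
        omega
    · intro i hi
      have hi' := Finset.mem_range.1 hi
      rcases Nat.eq_zero_or_pos i with rfl | hpos
      · simp
      · show (m - (m - i) % m) % m = i
        rw [Nat.mod_eq_of_lt (show m - i < m by omega), Nat.mod_eq_of_lt (by omega)]
        omega
  have hAsym : ∀ χ l, 0 < l → l < m → A χ (m - l) = A χ l := by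
    intro χ l hl0 hl
    have h1 := hinv χ (m - l) (by omega) (by omega)
    rw [hflip χ l hl.le, hinv χ l hl0 hl, Nat.sub_sub_self hl.le] at h1
    exact_mod_cast mul_left_cancel₀ hmC h1
  set v : ℕ → ι → ℤ := fun j χ => (A χ j : ℤ) - A χ 0 with hv
  have hmv : ∀ χ j, 0 < j → j < m →
      (m : ℂ) * (v j χ : ℂ) = ∑ i ∈ Finset.Ico 1 m, Ψ χ i * (ζ ^ (i * j) - 1) := by
    intro χ j hj0 hj
    have e : ∑ i ∈ Finset.range m, Ψ χ i * (ζ ^ (i * j) - 1) =
        ∑ i ∈ Finset.Ico 1 m, Ψ χ i * (ζ ^ (i * j) - 1) := by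
      rw [Finset.range_eq_Ico, Finset.sum_eq_sum_Ico_succ_bot hm0]
      simp
    rw [← e]
    simp only [mul_sub, mul_one, Finset.sum_sub_distrib, hinv χ j hj0 hj, hinv0, hAsym χ j hj0 hj,
      hv]
    push_cast
    ring
  refine ⟨v, fun χ => sub_self _, fun χ j hj hj0 => by simp only [hv]; rw [hAsym χ j hj0 hj],
    fun χ i hi => ?_, fun χ => ?_, fun j k hj hjh hk hkh => ?_, fun f hf j hj hjh => ?_⟩
  · simp only [hv]
    push_cast
    simp only [sub_mul, Finset.sum_sub_distrib, ← Finset.mul_sum]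
    rw [show ∑ j ∈ Finset.range m, ζ ^ (i * j) = 0 by
      simp only [mul_comm i]; rw [geom hζ, if_neg hi], mul_zero, sub_zero, hA]
  · have hi : ¬ m ∣ h := fun hd => by have := Nat.le_of_dvd (by omega) hd; omega
    have hneg : ζ ^ h = -1 := by
      have h2 : ζ ^ h * ζ ^ h = 1 := by rw [← pow_add, ← two_mul, ← hh, hζm]
      rcases mul_self_eq_one_iff.1 h2 with e | e
      · exact absurd ((hζ.pow_eq_one_iff_dvd h).1 e) hi
      · exact e
    have hΨ : Ψ χ h = ∑ j ∈ Finset.range m, (v j χ : ℂ) * ζ ^ (h * j) := by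
      simp only [hv]
      push_cast
      simp only [sub_mul, Finset.sum_sub_distrib, ← Finset.mul_sum]
      rw [show ∑ j ∈ Finset.range m, ζ ^ (h * j) = 0 by
        simp only [mul_comm h]; rw [geom hζ, if_neg hi], mul_zero, sub_zero, hA]
    simp only [pow_mul, hneg] at hΨ
    rw [hΨ]
    have hpart : ∑ j ∈ Finset.Ico (h + 1) m, (v j χ : ℂ) * (-1) ^ j =
        ∑ j ∈ Finset.Ico 1 h, (v j χ : ℂ) * (-1) ^ j := by
      refine Finset.sum_nbij' (fun j => m - j) (fun j => m - j)
        (fun j hj => Finset.mem_Ico.2 (by have := Finset.mem_Ico.1 hj; omega))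
        (fun j hj => Finset.mem_Ico.2 (by have := Finset.mem_Ico.1 hj; omega))
        (fun j hj => by have := Finset.mem_Ico.1 hj; show m - (m - j) = j; omega)
        (fun j hj => by have := Finset.mem_Ico.1 hj; show m - (m - j) = j; omega) (fun j hj => ?_)
      have hj' := Finset.mem_Ico.1 hj
      have hp : (-1 : ℂ) ^ (m - j) = (-1) ^ j := by
        refine mul_right_cancel₀ (b := (-1 : ℂ) ^ j) (pow_ne_zero _ (by norm_num)) ?_
        rw [← pow_add, ← pow_add, Nat.sub_add_cancel (by omega), hh, ← two_mul, pow_mul,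
          pow_mul]
        norm_num
      rw [hp]
      congr 1
      exact_mod_cast (show v j χ = v (m - j) χ by
        simp only [hv]; rw [hAsym χ j (by omega) (by omega)])
    rw [Finset.range_eq_Ico,
      ← Finset.sum_Ico_consecutive _ (show 0 ≤ h by omega) (show h ≤ m by omega),
      Finset.sum_eq_sum_Ico_succ_bot (show 0 < h by omega),
      Finset.sum_eq_sum_Ico_succ_bot (show h < m by omega), hpart]
    obtain ⟨q, hq⟩ := hev
    have hph : (-1 : ℂ) ^ h = 1 := by rw [hq, pow_mul]; norm_num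
    rw [hph, DihedralVectors.cz, show v 0 χ = 0 from sub_self _]
    push_cast
    simp only [zero_add, zero_mul, mul_comm ((-1 : ℂ) ^ _)]
    ring
  · have key : (m : ℂ) * (m : ℂ) * (∑ χ ∈ T, v j χ * v k χ : ℤ) = (m : ℂ) * (m : ℂ) *
        ((2 + (if j = k then 1 else 0) + if j = h ∧ k = h then 1 else 0 : ℤ) : ℂ) := by
      calc (m : ℂ) * (m : ℂ) * (∑ χ ∈ T, v j χ * v k χ : ℤ)
          = ∑ i ∈ Finset.Ico 1 m, ∑ l ∈ Finset.Ico 1 m,
              (ζ ^ (i * j) - 1) * (ζ ^ (l * k) - 1) * ∑ χ ∈ T, Ψ χ i * Ψ χ l := by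
            push_cast
            simp only [Finset.mul_sum]
            simp only [show ∀ χ, (m : ℂ) * (m : ℂ) * ((v j χ : ℂ) * (v k χ : ℂ)) =
              ((m : ℂ) * (v j χ : ℂ)) * ((m : ℂ) * (v k χ : ℂ)) from fun χ => by ring,
              fun χ => hmv χ j (by omega) (by omega), fun χ => hmv χ k (by omega) (by omega),
              Finset.mul_sum, Finset.sum_mul]
            conv_rhs => arg 2; intro i; rw [Finset.sum_comm]
            conv_rhs => rw [Finset.sum_comm]
            refine Finset.sum_congr rfl fun χ _ => ?_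
            rw [Finset.sum_comm]
            refine Finset.sum_congr rfl fun i _ => Finset.sum_congr rfl fun l _ => ?_
            ring
        _ = ∑ i ∈ Finset.Ico 1 m, (ζ ^ (i * j) - 1) * (m : ℂ) *
              ((ζ ^ (i * k) - 1) + (ζ ^ (i * (m - k)) - 1)) := by
            refine Finset.sum_congr rfl fun i hi => ?_
            rw [Finset.sum_congr rfl fun l hl => by rw [hgram i hi l hl]]
            have hi' := Finset.mem_Ico.1 hi
            have e : ζ ^ (i * (m - k)) = ζ ^ ((m - i) * k) := by
              refine mul_right_cancel₀ (b := ζ ^ (i * k)) (pow_ne_zero _ (hζ.ne_zero hm0.ne')) ?_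
              rw [pow_sub_eq hζm hi'.2.le, ← pow_add, ← mul_add, Nat.sub_add_cancel (by omega),
                mul_comm, pow_mul, hζm, one_pow]
            simp only [mul_add, Finset.sum_add_distrib, mul_ite, mul_one, mul_zero,
              Finset.sum_ite_eq', hi, if_true, e]
            rw [if_pos (Finset.mem_Ico.2 ⟨by omega, by omega⟩)]
            ring
        _ = ∑ i ∈ Finset.range m, (ζ ^ (i * j) - 1) * (m : ℂ) *
              ((ζ ^ (i * k) - 1) + (ζ ^ (i * (m - k)) - 1)) := by
            rw [Finset.range_eq_Ico, Finset.sum_eq_sum_Ico_succ_bot hm0]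
            simp
        _ = _ := by
            simp only [show ∀ i, (ζ ^ (i * j) - 1) * (m : ℂ) *
              ((ζ ^ (i * k) - 1) + (ζ ^ (i * (m - k)) - 1)) = (m : ℂ) *
              (ζ ^ (i * (j + k)) + ζ ^ (i * (j + (m - k))) - 2 * ζ ^ (i * j) - ζ ^ (i * k) -
                ζ ^ (i * (m - k)) + 2) from fun i => by
                rw [mul_add i j k, mul_add i j (m - k), pow_add, pow_add]; ring,
              ← Finset.mul_sum, Finset.sum_add_distrib, Finset.sum_sub_distrib, geom hζ,
              Finset.sum_const, Finset.card_range, nsmul_eq_mul]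
            have hn : ∀ c, 0 < c → c < m → ¬ m ∣ c := fun c h1 h2 hd => by
              have := Nat.le_of_dvd h1 hd; omega
            rw [if_neg (hn j (by omega) (by omega)), if_neg (hn k (by omega) (by omega)),
              if_neg (hn (m - k) (by omega) (by omega))]
            by_cases hjk : j = k
            · subst hjk
              rw [if_pos (show m ∣ j + (m - j) from ⟨1, by omega⟩)]
              by_cases hjh' : j = h
              · subst hjh'
                rw [if_pos (show m ∣ j + j from ⟨1, by omega⟩)]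
                simp only [and_self, if_true]
                push_cast; ring
              · rw [if_neg (hn (j + j) (by omega) (by omega))]
                simp only [hjh', and_self, if_true, if_false]
                push_cast; ring
            · have hnot : ¬ (j = h ∧ k = h) := fun e => hjk (e.1.trans e.2.symm)
              rw [if_neg (hn (j + k) (by omega) (by omega)), if_neg hjk, if_neg hnot, if_neg]
              · push_cast; ring
              rintro ⟨c, hc⟩
              rcases c with _ | _ | c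
              · omega
              · omega
              · have : m * (c + 1 + 1) = m * c + m + m := by ring
                omega
    exact_mod_cast mul_left_cancel₀ (mul_ne_zero hmC hmC) key
  · refine mul_left_cancel₀ hmC ?_
    rw [mul_zero, Finset.mul_sum]
    simp only [← mul_assoc, fun χ => hmv χ j (by omega) (by omega), Finset.sum_mul]
    rw [Finset.sum_comm]
    refine Finset.sum_eq_zero fun i hi => ?_
    calc ∑ χ ∈ T, Ψ χ i * (ζ ^ (i * j) - 1) * f χ
        = (ζ ^ (i * j) - 1) * ∑ χ ∈ T, Ψ χ i * f χ := by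
          rw [Finset.mul_sum]; exact Finset.sum_congr rfl fun χ _ => by ring
      _ = 0 := by rw [hf i hi, mul_zero]

/-- The vectors are independent, so they cut down the span of functions orthogonal to them. -/
theorem finrank_add_le {ι : Type*} (T : Finset ι) {W : Type*} [AddCommGroup W] [Module ℂ W]
    (φ : ι → W) {h : ℕ} (hh : 1 ≤ h) (v : ℕ → ι → ℤ)
    (gram : ∀ j k, 1 ≤ j → j ≤ h → 1 ≤ k → k ≤ h → ∑ χ ∈ T, v j χ * v k χ =
      2 + (if j = k then 1 else 0) + if j = h ∧ k = h then 1 else 0)
    (orth : ∀ j, 1 ≤ j → j ≤ h → ∑ χ ∈ T, (v j χ : ℂ) • φ χ = 0) :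
    Module.finrank ℂ (Submodule.span ℂ (φ '' (T : Set ι))) + h ≤ T.card := by
  classical
  set L : (T → ℂ) →ₗ[ℂ] W := Fintype.linearCombination ℂ (fun χ : T => φ χ) with hL
  have hrange : LinearMap.range L = Submodule.span ℂ (φ '' (T : Set ι)) := by
    rw [hL, Fintype.range_linearCombination]
    congr 1
    ext w
    simp
  let w : Fin h → (T → ℂ) := fun j χ => (v (j + 1) χ : ℂ)
  have hker : ∀ j, w j ∈ LinearMap.ker L := by
    intro j
    rw [LinearMap.mem_ker, hL, Fintype.linearCombination_apply]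
    rw [← orth (j + 1) (by omega) (by omega)]
    exact Finset.sum_coe_sort T (fun χ => (v (j + 1) χ : ℂ) • φ χ)
  have hindep : LinearIndependent ℂ w := by
    rw [Fintype.linearIndependent_iff]
    intro c hc
    have hg : ∀ l : Fin h, ∑ j : Fin h, c j *
        ((2 + (if (j : ℕ) + 1 = l + 1 then 1 else 0) +
          if (j : ℕ) + 1 = h ∧ (l : ℕ) + 1 = h then 1 else 0 : ℤ) : ℂ) = 0 := by
      intro l
      calc _ = ∑ j : Fin h, c j * ∑ χ : T, w j χ * w l χ := by
            refine Finset.sum_congr rfl fun j _ => ?_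
            rw [← gram (j + 1) (l + 1) (by omega) (by omega) (by omega) (by omega)]
            push_cast
            rw [← Finset.sum_coe_sort T]
        _ = ∑ χ : T, (∑ j : Fin h, c j • w j) χ * w l χ := by
            simp only [Finset.sum_apply, Pi.smul_apply, smul_eq_mul, Finset.mul_sum, Finset.sum_mul]
            rw [Finset.sum_comm]
            exact Finset.sum_congr rfl fun χ _ => Finset.sum_congr rfl fun j _ => by ring
        _ = 0 := by rw [hc]; simp
    set S := ∑ j : Fin h, c j with hS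
    have hl : ∀ l : Fin h, 2 * S + c l + (if (l : ℕ) + 1 = h then c l else 0) = 0 := by
      intro l
      have e1 : ∑ j : Fin h, (if (j : ℕ) + 1 = (l : ℕ) + 1 then c j else 0) = c l := by
        rw [Finset.sum_eq_single_of_mem l (Finset.mem_univ l)
          (fun j _ hne => if_neg fun e => hne (Fin.ext (by omega))), if_pos rfl]
      have e2 : ∑ j : Fin h, (if (j : ℕ) + 1 = h ∧ (l : ℕ) + 1 = h then c j else 0) =
          if (l : ℕ) + 1 = h then c l else 0 := by
        rw [Finset.sum_eq_single_of_mem l (Finset.mem_univ l)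
          (fun j _ hne => if_neg fun e => hne (Fin.ext (by omega)))]
        simp only [and_self]
      calc 2 * S + c l + (if (l : ℕ) + 1 = h then c l else 0)
          = ∑ j : Fin h, (2 * c j + (if (j : ℕ) + 1 = (l : ℕ) + 1 then c j else 0) +
              if (j : ℕ) + 1 = h ∧ (l : ℕ) + 1 = h then c j else 0) := by
            rw [Finset.sum_add_distrib, Finset.sum_add_distrib, e1, e2, ← Finset.mul_sum, hS]
        _ = 0 := by
            refine (Finset.sum_congr rfl fun j _ => ?_).trans (hg l)
            push_cast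
            split_ifs <;> ring
    set last : Fin h := ⟨h - 1, by omega⟩ with hlast
    have hlc : ∀ l : Fin h, l ≠ last → c l = -2 * S := by
      intro l hne
      have := hl l
      rw [if_neg (fun e => hne (Fin.ext (by simp only [hlast]; omega)))] at this
      linear_combination this
    have hlast' : c last = -S := by
      have := hl last
      rw [if_pos (show (last : ℕ) + 1 = h by simp only [hlast]; omega)] at this
      linear_combination this / 2
    have hS0 : S = 0 := by
      have e : S = c last + ∑ l ∈ Finset.univ.erase last, c l := by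
        rw [hS, Finset.add_sum_erase _ _ (Finset.mem_univ _)]
      rw [Finset.sum_congr rfl fun l hl' => hlc l (Finset.ne_of_mem_erase hl'), Finset.sum_const,
        Finset.card_erase_of_mem (Finset.mem_univ _), Finset.card_univ, Fintype.card_fin,
        nsmul_eq_mul, hlast'] at e
      have h2 : S * ((2 + 2 * (h - 1) : ℕ) : ℂ) = 0 := by
        push_cast
        linear_combination e
      exact (mul_eq_zero.1 h2).resolve_right (Nat.cast_ne_zero.2 (by omega))
    intro l
    by_cases e : l = last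
    · rw [e, hlast', hS0, neg_zero]
    · rw [hlc l e, hS0, mul_zero]
  have hk : h ≤ Module.finrank ℂ (LinearMap.ker L) := by
    have h1 := finrank_span_eq_card hindep
    rw [Fintype.card_fin] at h1
    rw [← h1]
    exact Submodule.finrank_mono (Submodule.span_le.2 (by rintro _ ⟨j, rfl⟩; exact hker j))
  have hrn := L.finrank_range_add_finrank_ker
  rw [hrange, Module.finrank_fintype_fun_eq_card, Fintype.card_coe] at hrn
  omega

end Cfsg.Agent.DihedralFourier
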