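/-
A character of height zero vanishes on no subsection of its block.
-/
import Cfsg.Agent.Lib.Star.Focal

set_option linter.unusedSectionVars false
set_option linter.style.haveILetI false

namespace Cfsg.Agent.HeightZeroPairs

open Cfsg MonoidAlgebra Cfsg.Agent.Blocks Cfsg.Agent.BrauerPairs Cfsg.Agent.Char Cfsg.Agent.Star
open scoped ComplexConjugate

universe u

variable {G : Type u} [Group G] [Fintype G] {p : ℕ} [Fact p.Prime] {M : Ideal AlgInt} [M.IsPrime]
  [CharP (resField M) p]

/-- The value of a character modulo the local ideal. -/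
noncomputable def rv (χ : IrrCharacter G) (g : G) : resField M :=
  res M ⟨(χ : G → ℂ) g, irr_memLocalRing χ g⟩

theorem rv_conj (χ : IrrCharacter G) (g h : G) :
    rv (M := M) χ (h * g * h⁻¹) = rv χ g :=
  congrArg (res M) (Subtype.ext (irr_conj_invariant χ g h))

/-- The functional of a character on the group algebra modulo the local ideal. -/
noncomputable def tk (χ : IrrCharacter G) (w : MonoidAlgebra (resField M) G) : resField M :=
  ∑ g, w.coeff g * rv χ g

theorem tk_sum (χ : IrrCharacter G) {ι : Type*} (s : Finset ι)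
    (f : ι → MonoidAlgebra (resField M) G) : tk χ (∑ i ∈ s, f i) = ∑ i ∈ s, tk χ (f i) := by
  simp only [tk, MonoidAlgebra.coeff_sum, Finset.sum_apply', Finset.sum_mul]
  rw [Finset.sum_comm]

theorem tk_cj (χ : IrrCharacter G) (u : G) (w : MonoidAlgebra (resField M) G) :
    tk χ (cj u w) = tk χ w := by
  refine (Fintype.sum_equiv (MulAut.conj u).toEquiv _ _ fun g => ?_).symm
  simp only [MulEquiv.toEquiv_eq_coe, MulEquiv.coe_toEquiv, MulAut.conj_apply, coeff_cj, rv_conj]
  congr 2
  group

theorem tk_brTrunc (χ : IrrCharacter G) {P : Subgroup G} (hP : IsPGroup p P)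
    {w : MonoidAlgebra (resField M) G} (hw : IsInvElt P w) : tk χ (brTrunc P w) = tk χ w := by
  classical
  letI : MulAction P G :=
    { smul := fun u g => (u : G) * g * (u : G)⁻¹
      one_smul := fun g => show ((1 : P) : G) * g * ((1 : P) : G)⁻¹ = g by simp
      mul_smul := fun u v g => show ((u * v : P) : G) * g * ((u * v : P) : G)⁻¹ =
        (u : G) * ((v : G) * g * (v : G)⁻¹) * (u : G)⁻¹ by rw [Subgroup.coe_mul]; group }
  simp only [tk]
  rw [sum_eq_sum_fixed (p := p) hP (fun g => w.coeff g * rv χ g) fun u g => by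
    show w.coeff ((u : G) * g * (u : G)⁻¹) * rv χ ((u : G) * g * (u : G)⁻¹) = _
    rw [hw u u.2 g, rv_conj], Finset.sum_filter]
  refine Finset.sum_congr rfl fun g _ => ?_
  have hiff : g ∈ MulAction.fixedPoints P G ↔ g ∈ Subgroup.centralizer (P : Set G) := by
    rw [MulAction.mem_fixedPoints, Subgroup.mem_centralizer_iff]
    exact ⟨fun h u hu => mul_inv_eq_iff_eq_mul.1 (h ⟨u, hu⟩ : u * g * u⁻¹ = g),
      fun h u => (mul_inv_eq_iff_eq_mul.2 (h u u.2) : (u : G) * g * (u : G)⁻¹ = g)⟩
  by_cases h : g ∈ Subgroup.centralizer (P : Set G)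
  · rw [if_pos (hiff.2 h), coeff_brTrunc_pos h]
  · rw [if_neg fun e => h (hiff.1 e), coeff_brTrunc_neg h, zero_mul]

theorem tk_resG (χ : IrrCharacter G) (x : MonoidAlgebra (locRing M) G) :
    tk χ (resG x) = res M ⟨∑ g, (x.coeff g : ℂ) * (χ : G → ℂ) g, memLocalRing_sum _ _ fun g _ =>
      (locRing M).mul_mem (x.coeff g).2 (mem_locRing.2 (irr_memLocalRing χ g))⟩ := by
  simp only [tk, rv, coeff_resG, ← map_mul, ← map_sum]
  refine congrArg _ (Subtype.ext ?_)
  rw [AddSubmonoidClass.coe_finsetSum]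
  rfl

theorem tk_Ek_mul {B : Set (IrrCharacter G)} (hB : IsPBlock M B) {χ : IrrCharacter G}
    (hχ : χ ∈ B) (w : MonoidAlgebra (resField M) G) : tk χ (Ek M B * w) = tk χ w := by
  classical
  rw [← resG_liftR w, Ek, ← map_mul, tk_resG, tk_resG]
  refine congrArg _ (Subtype.ext ?_)
  show ∑ g, ((blockEltR M B * liftR w).coeff g : ℂ) * (χ : G → ℂ) g =
    ∑ g, ((liftR w).coeff g : ℂ) * (χ : G → ℂ) g
  rw [(isClassElt_blockEltR (M := M) B).comm (liftR w)]
  simp only [coeff_mul_univ, AddSubmonoidClass.coe_finsetSum, MulMemClass.coe_mul, Finset.sum_mul]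
  rw [Finset.sum_comm]
  refine Finset.sum_congr rfl fun a _ => ?_
  have hself : blockPart B (χ : G → ℂ) = (χ : G → ℂ) := by
    rw [← bcomb_single B hχ, blockPart_bcomb]
  have hχa : (χ : G → ℂ) a = ∑ c, blockCoeff B c * (χ : G → ℂ) (a * c) := by
    rw [sum_blockCoeff_shift B (IsCharacter.isClassFunction (irr_isCharacter χ)) a, hself]
  rw [hχa, Finset.mul_sum]
  refine Fintype.sum_equiv (Equiv.mulLeft a⁻¹) _ _ fun c => ?_
  simp only [Equiv.coe_mulLeft, coeff_blockEltR hB, mul_assoc, mul_inv_cancel_left]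

theorem mul_supp {H : Subgroup G} {y w : MonoidAlgebra (resField M) G}
    (hy : ∀ g, g ∉ H → y.coeff g = 0) (hw : ∀ g, g ∉ H → w.coeff g = 0) (g : G) (hg : g ∉ H) :
    (y * w).coeff g = 0 := by
  rw [← emb_restr hy, ← emb_restr hw, ← map_mul, coeff_emb_notMem H _ hg]

/-- A character of height zero does not vanish at any pair below a maximal one. -/
theorem exists_tk_ne_zero (hM : IsPModular p M) {B : Set (IrrCharacter G)} (hB : IsPBlock M B)
    {a : Pr (resField M) G} (hmax : IsMax p (Ek M B) a) {χ : IrrCharacter G} (hχ : χ ∈ B)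
    (h0 : blockHeight p B (χ : G → ℂ) = 0) {b : Pr (resField M) G} (hb : SubLE p ⊤ b a) :
    ∃ w : MonoidAlgebra (resField M) G,
      (∀ g, g ∉ Subgroup.centralizer (b.1 : Set G) → w.coeff g = 0) ∧ tk χ (b.2 * w) ≠ 0 := by
  classical
  induction hb using Relation.ReflTransGen.head_induction_on with
  | refl =>
    obtain ⟨t, -, ht, hl, hS⟩ := hmax.isDef
    have htP : t ∈ Subgroup.centralizer (a.1 : Set G) :=
      le_centralizer_singleton_iff.1 (hS.le.trans inf_le_right)
    rw [top_inf_eq] at hS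
    have hrv : rv (M := M) χ t ≠ 0 := by
      intro h
      rw [rv, res_eq_zero_iff] at h
      rw [classSumIn_top, lam_Ek hB hχ (isClassElt_classSum t), omegaK_classSum, Ne,
        res_eq_zero_iff] at hl
      apply hl
      show MemLocalIdeal M (centralChar (χ : G → ℂ) t)
      rw [centralChar, mul_div_right_comm, irr_one_eq_charDegree χ]
      refine MemLocalIdeal.mul_left (memLocalRing_natDiv hM ?_) h
      have hD := card_defectGroup hM hB ((isDefectGroup_iff hB _).2 hmax.isDef)
      obtain ⟨S, hSe⟩ := exists_sylow_of_isSylowIn hS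
      have hSc : Nat.card a.1 = p ^ (Nat.card (Subgroup.centralizer ({t} : Set G))).factorization p := by
        rw [hSe, Subgroup.card_map_of_injective (Subgroup.subtype_injective _)]
        exact S.card_eq_multiplicity
      have hd := Nat.pow_right_injective hM.1.two_le (hSc.symm.trans hD)
      have hidx := congrArg (fun m => Nat.factorization m p)
        (Subgroup.centralizer ({t} : Set G)).card_mul_index
      simp only [Nat.factorization_mul Nat.card_pos.ne' Subgroup.index_ne_zero_of_finite,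
        Finsupp.add_apply, hd] at hidx
      rw [degExp_eq_add_height hM hB hχ, h0]
      omega
    set P := a.1
    set δ : MonoidAlgebra (resField M) G := gaOfFun fun g => if g = t then 1 else 0 with hδ
    have hδs : ∀ g, g ∉ Subgroup.centralizer (P : Set G) → δ.coeff g = 0 := fun g hg => by
      rw [hδ, coeff_gaOfFun, if_neg fun e : g = t => hg (e ▸ htP)]
    have htk : tk χ δ = rv χ t := by
      rw [tk, Finset.sum_eq_single t, hδ, coeff_gaOfFun, if_pos rfl, one_mul]
      · intro g _ hg
        rw [hδ, coeff_gaOfFun, if_neg hg, zero_mul]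
      · exact fun h => absurd (Finset.mem_univ t) h
    have hinv : IsInvElt P (Ek M B) := IsClassElt.isInvElt (isClassElt_Ek B) P
    set z := brTrunc P (Ek M B)
    have hz : tk χ (z * δ) ≠ 0 := by
      rw [← brTrunc_eq_self hδs, ← brTrunc_mul hmax.pair.pgroup hinv
        (isInvElt_of_supp_centralizer hδs), tk_brTrunc χ hmax.pair.pgroup
        (isInvElt_mul' hinv (isInvElt_of_supp_centralizer hδs)), tk_Ek_mul hB hχ, htk]
      exact hrv
    have hsum : z * δ = ∑ e ∈ blks (resField M) (⊤ ⊓ Subgroup.centralizer (P : Set G)), z * e * δ := by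
      rw [← Finset.sum_mul, ← Finset.mul_sum, sum_blks, mul_one]
    rw [hsum, tk_sum] at hz
    obtain ⟨e, he, hne⟩ := Finset.exists_ne_zero_of_sum_ne_zero hz
    have heb := isBlk_of_mem he
    have hze : z * e = e := (heb.prim z ((isBlk_Ek hB).inZ.brTrunc P)
      (by rw [← brTrunc_mul hmax.pair.pgroup hinv hinv, Ek_idem hB])).resolve_left fun h => hne (by
        rw [h, zero_mul]; simp [tk])
    rw [hze] at hne
    have hp : IsPairOf p ⊤ (Ek M B) (P, e) := ⟨⟨hmax.pair.pgroup, le_top, heb⟩, isBlk_Ek hB, hze⟩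
    obtain ⟨n, -, hn⟩ := exists_conj_defect_pair hp hmax.pairOf hmax.isDef hmax.isDef
    have hne' : cj n a.2 = e := congrArg Prod.snd hn
    have hnP : cjS n P = P := congrArg Prod.fst hn
    refine ⟨cj n⁻¹ δ, fun g hg => ?_, ?_⟩
    · rw [coeff_cj, inv_inv, hδs]
      intro h
      apply hg
      have h2 : g ∈ cjS n⁻¹ (Subgroup.centralizer (P : Set G)) :=
        mem_cjS.2 (by simpa [mul_assoc] using h)
      rwa [cjS_centralizer, cjS_eq_of_mem_normalizer (inv_mem (mem_normalizer_of_cjS_eq hnP))] at h2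
    · rw [show a.2 = cj n⁻¹ e by rw [← hne', cj_inv_cj], ← map_mul, tk_cj]
      exact hne
  | @head b c h1 _ ih =>
    obtain ⟨w, hw, hne⟩ := ih
    have hsC : ∀ g, g ∉ Subgroup.centralizer (c.1 : Set G) → c.2.coeff g = 0 :=
      h1.right.blkC.inZ.supp
    have hcw := mul_supp hsC hw
    refine ⟨c.2 * w, fun g hg => hcw g fun h => hg (Subgroup.centralizer_le h1.le h), ?_⟩
    have hwi := isInvElt_of_supp_centralizer hcw
    rwa [← tk_brTrunc χ h1.right.pgroup (isInvElt_mul' h1.inv hwi),
      brTrunc_mul h1.right.pgroup h1.inv hwi, brTrunc_eq_self hcw, ← mul_assoc, h1.occ]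

/-- A character of height zero vanishes on no subsection of its block. -/
theorem exists_part_ne_zero (hM : IsPModular p M) {B : Set (IrrCharacter G)} (hB : IsPBlock M B)
    {a : Pr (resField M) G} (hmax : IsMax p (Ek M B) a) {χ : IrrCharacter G} (hχ : χ ∈ B)
    (h0 : blockHeight p B (χ : G → ℂ) = 0) {x : G} (hx : ∃ k, orderOf x = p ^ k) {C : Subgroup G}
    (hC : C = Subgroup.centralizer ({x} : Set G)) {b : Set (IrrCharacter C)} (hb : IsPBlock M b)
    (hf : SubLE p ⊤ (Subgroup.zpowers x, zB M C b) a) :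
    ∃ s : C, ¬ p ∣ orderOf s ∧ blockPart b (secFun x C (χ : G → ℂ)) s ≠ 0 := by
  classical
  have hp := hM.1
  obtain ⟨w, hw, hne⟩ := exists_tk_ne_zero hM hB hmax hχ h0 hf
  have hC' : Subgroup.centralizer (Subgroup.zpowers x : Set G) = C := by
    rw [centralizer_zpowers_eq, hC]
  simp only [hC'] at hw
  have hfw := mul_supp (isBlk_zB C hb).inZ.supp hw
  set cf := secFun x C (χ : G → ℂ) with hcf
  have hcl : IsClassFunction C cf :=
    isClassFunction_secFun hC (IsCharacter.isClassFunction (irr_isCharacter χ))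
  have hxh : ∀ h ∈ C, MemLocalIdeal M ((χ : G → ℂ) (x * h) - (χ : G → ℂ) h) := by
    intro h hh
    obtain ⟨u, hu⟩ := exists_isPPart hp h
    have huz := Subgroup.zpowers_le.2 hh (Cfsg.Agent.Blocks.IsPPart.mem_zpowers hp hu)
    obtain ⟨s, hus, hc, ⟨i, hi⟩, hs⟩ := hu
    rw [hC] at hh huz
    have hhx : Commute x h := (Subgroup.mem_centralizer_singleton_iff.1 hh : h * x = x * h).symm
    have hux : Commute x u := (Subgroup.mem_centralizer_singleton_iff.1 huz : u * x = x * u).symm
    have hxs : Commute x s := by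
      have h2 := hux.inv_right.mul_right hhx
      rwa [← hus, inv_mul_cancel_left] at h2
    obtain ⟨k, hk⟩ := hx
    obtain ⟨m, -, hm⟩ := (Nat.dvd_prime_pow hp).1 (show orderOf (x * u) ∣ p ^ (k + i) from
      orderOf_dvd_of_pow_eq_one (by
        rw [hux.mul_pow]
        conv_lhs => rw [pow_add, pow_mul, ← hk, pow_orderOf_eq_one, one_pow, one_mul, mul_comm,
          pow_mul, ← hi, pow_orderOf_eq_one, one_pow]))
    have h1 := char_congr_regular hM (irr_isCharacter χ) (x := x * u) (y := s)
      ((hxs.mul_left hc).eq) hm hs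
    have h2 := char_congr_regular hM (irr_isCharacter χ) (x := u) (y := s) hc.eq hi hs
    rw [mul_assoc, hus] at h1
    rw [hus] at h2
    simpa using MemLocalIdeal.sub h1 h2
  -- the functional through the block part
  have hpart : ∀ g : C, blockPart b cf g = ∑ φ ∈ Finset.univ.filter (· ∈ b),
      classInner cf (φ : C → ℂ) * (φ : C → ℂ) g := blockPart_eq_sum b cf
  obtain ⟨c, ⟨m, hcu⟩, hcm⟩ := exists_section_mult hx hC
  have hloc : ∀ φ : IrrCharacter C, MemLocalRing M (classInner cf (φ : C → ℂ)) := by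
    intro φ
    refine mem_locRing_of_isIntegral ?_
    rw [hcf, hcm]
    obtain ⟨n, hn⟩ := IsCharacter.exists_classInner_nat
      (IsCharacter.restrict (irr_isCharacter χ) C) (irr_isCharacter φ)
    rw [hn]
    exact IsIntegral.mul (by exact_mod_cast isIntegral_algebraMap (R := ℤ) (A := ℂ) (x := (n : ℤ)))
      (IsIntegral.of_pow (pow_pos hp.pos m) ((hcu φ).1 ▸ isIntegral_one))
  by_contra hzero
  push Not at hzero
  refine hne ?_
  set W := restr C w
  have hfw' : zB M C b * w = emb C (resG (liftR W * blockEltR M b)) := by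
    conv_lhs => rw [← emb_restr hw]
    rw [map_mul resG, resG_liftR, zB, Ek, ← map_mul (emb C)]
    have hR : IsClassElt (resG (blockEltR M b)) := IsClassElt.map (isClassElt_blockEltR b) (res M)
    exact congrArg (emb C) (hR.comm (restr C w))
  rw [show tk χ (zB M C b * w) = ∑ g, (zB M C b * w).coeff g * rv χ (x * g) from
    Finset.sum_congr rfl fun g _ => by
      by_cases hg : g ∈ C
      · congr 1
        rw [rv, rv, res_eq_res_iff]
        simpa using MemLocalIdeal.neg (hxh g hg)
      · rw [hfw g hg, zero_mul, zero_mul]]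
  rw [hfw', ← resG_emb]
  simp only [rv, coeff_resG, ← map_mul, ← map_sum, res_eq_zero_iff, AddSubmonoidClass.coe_finsetSum,
    MulMemClass.coe_mul]
  have e := chiTr_emb_mul_blockEltR hb χ (liftR W) x hcl 1
  rw [OneMemClass.coe_one, mul_one] at e
  rw [show ∑ g, ((emb C (liftR W * blockEltR M b)).coeff g : ℂ) * (χ : G → ℂ) (x * g) =
    chiTr χ (emb C (liftR W * blockEltR M b)) x from rfl, e]
  refine memLocalIdeal_sum _ _ fun g _ => MemLocalIdeal.mul_left ((liftR W).coeff g).2 ?_
  rw [one_mul]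
  obtain ⟨u, s, hus, hc, ⟨i, hi⟩, hs⟩ := exists_isPPart hp g
  have h1 : MemLocalIdeal M (blockPart b cf g - blockPart b cf s) := by
    rw [hpart, hpart, ← Finset.sum_sub_distrib]
    refine memLocalIdeal_sum _ _ fun φ _ => ?_
    rw [← mul_sub]
    refine MemLocalIdeal.mul_left (hloc φ) ?_
    rw [← hus]
    exact char_congr_regular hM (irr_isCharacter φ) hc.eq hi hs
  rw [hzero s hs, sub_zero] at h1
  exact h1

end Cfsg.Agent.HeightZeroPairs
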