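/-
The subsections of a block with inner fusion: every contribution of a character of height zero
is one.
-/
import Cfsg.Agent.Lib.BrauerPairs.InertiaHeight
import Cfsg.Agent.Lib.BrauerPairs.HeightZeroPairs

set_option linter.unusedSectionVars false
set_option linter.style.haveILetI false

namespace Cfsg.Agent.NilpotentKeys

open Cfsg Cfsg.Agent.Blocks Cfsg.Agent.BrauerPairs Cfsg.Agent.Char Cfsg.Agent.Star
  Cfsg.Agent.InertiaHeight
open scoped ComplexConjugate

universe u

variable {G : Type u} [Group G] [Fintype G] {p : ℕ} [Fact p.Prime] {M : Ideal AlgInt} [M.IsPrime]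
  [CharP (resField M) p] {B : Set (IrrCharacter G)} {a : Pr (resField M) G}

/-- The fusion of a maximal pair is induced by its subgroup. -/
def IsInner (p : ℕ) (a : Pr (resField M) G) : Prop :=
  ∀ (g : G) (b : Pr (resField M) G), SubLE p ⊤ b a → SubLE p ⊤ (cjP g b) a →
    ∃ t ∈ a.1, ∀ u ∈ b.1, g * u * g⁻¹ = t * u * t⁻¹

theorem isInner_of_isNilB (hmax : IsMax p (Ek M B) a) (hn : IsNilB p ⊤ (Ek M B)) : IsInner p a := by
  intro g b hb hgb
  have hm : conjHom b.1 g ∈ (blockFusion hmax).Hom b.1 :=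
    ⟨g, fun u => rfl, b.2, hb, hgb⟩
  rw [fusion_inner_of_isNilB hmax hn] at hm
  obtain ⟨-, t, ht, hte⟩ := hm
  exact ⟨t, ht, fun u hu => hte ⟨u, hu⟩⟩

/-- The order of the centraliser in the subgroup of the pair. -/
noncomputable def cu (a : Pr (resField M) G) (u : G) : ℕ :=
  Nat.card (a.1 ⊓ Subgroup.centralizer ({u} : Set G) : Subgroup G)

theorem cu_pos (u : G) : 0 < cu a u := Nat.card_pos

theorem key_fst_mem {g u : G} (hu : u ∈ a.1) : (key p a (g, u)).1 ∈ (cjP g a).1 :=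
  mem_cjS.2 (by simpa [key, mul_assoc] using hu)

theorem key_spec (hmax : IsMax p (Ek M B) a) {g u : G} (hu : u ∈ a.1) :
    SubLE p ⊤ (Subgroup.zpowers (key p a (g, u)).1, (key p a (g, u)).2) (cjP g a) :=
  belowAt_spec (isMax_cjP hmax g).pair (key_fst_mem hu)

theorem key_back (hmax : IsMax p (Ek M B) a) {g u : G} (hu : u ∈ a.1) :
    SubLE p ⊤ (cjP g⁻¹ ((Subgroup.zpowers (key p a (g, u)).1, (key p a (g, u)).2) :
      Pr (resField M) G)) a := by
  have h := (key_spec hmax (g := g) hu).cjT g⁻¹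
  rwa [cjP_cjP g⁻¹ g a, inv_mul_cancel, cjP_one] at h

theorem key_pPow (hmax : IsMax p (Ek M B) a) {g u : G} (hu : u ∈ a.1) :
    ∃ i, orderOf (key p a (g, u)).1 = p ^ i :=
  pPow_of_mem (isMax_cjP hmax g).pair (key_fst_mem hu)

theorem key_pairOf (hmax : IsMax p (Ek M B) a) {g u : G} (hu : u ∈ a.1) :
    IsPairOf p ⊤ (Ek M B) (Subgroup.zpowers (key p a (g, u)).1, (key p a (g, u)).2) :=
  (key_spec hmax hu).pairOf_iff.2 (isMax_cjP hmax g).pairOf

theorem exists_block_key (hmax : IsMax p (Ek M B) a) {g u : G} (hu : u ∈ a.1) :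
    ∃ b : Set (IrrCharacter (secC (key p a (g, u)).1)), IsPBlock M b ∧
      zB M (secC (key p a (g, u)).1) b = (key p a (g, u)).2 := by
  obtain ⟨b, hb, hbf⟩ := exists_eq_zB (H := secC (key p a (g, u)).1)
    ((key_spec hmax hu).left (isMax_cjP hmax g).pair).blk
  exact ⟨b, hb, hbf⟩

/-- Every subsection of the block is a key. -/
theorem exists_key_eq (hmax : IsMax p (Ek M B) a) {x : G} {z : MonoidAlgebra (resField M) G}
    (hz : IsPairOf p ⊤ (Ek M B) (Subgroup.zpowers x, z)) :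
    ∃ g, g⁻¹ * x * g ∈ a.1 ∧ key p a (g, g⁻¹ * x * g) = (x, z) := by
  obtain ⟨g, hg⟩ := exists_subLE_of_pairOf hmax hz
  have hu : g * x * g⁻¹ ∈ a.1 :=
    hg.le (mem_cjS_of_eq (g := g) (Subgroup.mem_zpowers x))
  refine ⟨g⁻¹, by rwa [inv_inv], ?_⟩
  have e : g⁻¹ * (g⁻¹⁻¹ * x * g⁻¹) * g⁻¹⁻¹ = x := by group
  refine Prod.ext e ?_
  show belowAt p (cjP g⁻¹ a) (g⁻¹ * (g⁻¹⁻¹ * x * g⁻¹) * g⁻¹⁻¹) = z
  rw [e]
  have h := hg.cjT g⁻¹
  rw [cjP_cjP, inv_mul_cancel, cjP_one] at h
  have hx : x ∈ (cjP g⁻¹ a).1 := h.le (Subgroup.mem_zpowers x)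
  exact (existsUnique_below (isMax_cjP hmax g⁻¹).pair (Subgroup.zpowers_le.2 hx)).unique
    (belowAt_spec (isMax_cjP hmax g⁻¹).pair hx) h

/-- Equal keys come from conjugate elements of the pair. -/
theorem conj_of_key_eq (hmax : IsMax p (Ek M B) a) (hI : IsInner p a) {g g₀ u u₀ : G}
    (hu : u ∈ a.1) (hu₀ : u₀ ∈ a.1) (hk : key p a (g, u) = key p a (g₀, u₀)) :
    ∃ t ∈ a.1, t * u₀ * t⁻¹ = u := by
  have h1 := key_back hmax (g := g) hu
  have h0 := key_back hmax (g := g₀) hu₀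
  rw [hk] at h1
  obtain ⟨t, ht, hte⟩ := hI (g⁻¹ * g₀) _ h0 (by
    rw [cjP_cjP, mul_inv_cancel_right]; exact h1)
  refine ⟨t, ht, ?_⟩
  have hmem : u₀ ∈ cjS g₀⁻¹ (Subgroup.zpowers (key p a (g₀, u₀)).1) :=
    mem_cjS.2 (by simp [key, mul_assoc])
  rw [← hte u₀ hmem]
  have e : g * u * g⁻¹ = g₀ * u₀ * g₀⁻¹ := congrArg Prod.fst hk
  calc g⁻¹ * g₀ * u₀ * (g⁻¹ * g₀)⁻¹ = g⁻¹ * (g₀ * u₀ * g₀⁻¹) * g := by group
    _ = u := by rw [← e]; group

theorem cu_conj {t u : G} (ht : t ∈ a.1) : cu a (t * u * t⁻¹) = cu a u := by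
  rw [cu, cu, ← card_cjS t (a.1 ⊓ Subgroup.centralizer ({u} : Set G)), cjS_inf, cjS_self ht,
    cjS_centralizer_singleton]

theorem cu_pow (hmax : IsMax p (Ek M B) a) {u : G} (hu : u ∈ a.1) {t : ℕ} (ht : ¬ p ∣ t) :
    cu a (u ^ t) = cu a u := by
  rw [cu, cu, centralizer_pow_eq Fact.out (pPow_of_mem hmax.pair hu) ht]

/-- The pairs with equal keys. -/
noncomputable def fib (p : ℕ) (a : Pr (resField M) G) (gu : G × G) : Finset (G × G) := by
  classical
  exact ((Finset.univ : Finset G) ×ˢ (Finset.univ.filter (· ∈ a.1))).filter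
    (fun x => key p a x = key p a gu)

theorem card_fib_le (hmax : IsMax p (Ek M B) a) (hI : IsInner p a) {g₀ u₀ : G} (hu₀ : u₀ ∈ a.1) :
    (fib p a (g₀, u₀)).card * cu a u₀ ≤
      Nat.card a.1 * Nat.card (secC (key p a (g₀, u₀)).1) := by
  classical
  set F := fib p a (g₀, u₀)
  set O := ((Finset.univ : Finset G).filter (· ∈ a.1)).image (fun t => t * u₀ * t⁻¹)
  have hmemF : ∀ {x : G × G}, x ∈ F → x.2 ∈ a.1 ∧ key p a x = key p a (g₀, u₀) := fun {x} hx => by
    obtain ⟨h1, h2⟩ := Finset.mem_filter.1 hx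
    exact ⟨(Finset.mem_filter.1 (Finset.mem_product.1 h1).2).2, h2⟩
  have hO : F.image Prod.snd ⊆ O := by
    intro v hv
    obtain ⟨⟨g, v'⟩, hgv, rfl⟩ := Finset.mem_image.1 hv
    obtain ⟨t, ht, hte⟩ := conj_of_key_eq hmax hI (hmemF hgv).1 hu₀ (hmemF hgv).2
    exact Finset.mem_image.2 ⟨t, Finset.mem_filter.2 ⟨Finset.mem_univ _, ht⟩, hte⟩
  have hfib : ∀ v ∈ F.image Prod.snd,
      (F.filter fun gu => gu.2 = v).card ≤ Nat.card (secC (key p a (g₀, u₀)).1) := by
    intro v hv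
    obtain ⟨⟨g₁, v'⟩, hgv, rfl⟩ := Finset.mem_image.1 hv
    set x := (key p a (g₀, u₀)).1
    rw [Nat.card_eq_fintype_card, Fintype.card_subtype (fun g : G => g ∈ secC x)]
    refine Finset.card_le_card_of_injOn (fun gu => gu.1 * g₁⁻¹) (fun gu hgu => ?_)
      (fun gu hgu gu' hgu' e => Prod.ext (mul_right_cancel e)
        ((Finset.mem_filter.1 hgu).2.trans (Finset.mem_filter.1 hgu').2.symm))
    obtain ⟨g, v''⟩ := gu
    obtain ⟨hgF, hv'' : v'' = v'⟩ := Finset.mem_filter.1 hgu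
    subst hv''
    have e1 : g * v'' * g⁻¹ = x := congrArg Prod.fst (hmemF hgF).2
    have e2 : g₁ * v'' * g₁⁻¹ = x := congrArg Prod.fst (hmemF hgv).2
    refine Finset.mem_filter.2 ⟨Finset.mem_univ _, mem_secC.2 ?_⟩
    calc g * g₁⁻¹ * x = g * g₁⁻¹ * (g₁ * v'' * g₁⁻¹) := by rw [e2]
      _ = g * v'' * g⁻¹ * (g * g₁⁻¹) := by group
      _ = x * (g * g₁⁻¹) := by rw [e1]
  have horb : O.card * cu a u₀ ≤ Nat.card a.1 := by
    rw [Nat.card_eq_fintype_card, Fintype.card_subtype (· ∈ a.1),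
      Finset.card_eq_sum_card_image (fun t => t * u₀ * t⁻¹) (Finset.univ.filter (· ∈ a.1))]
    calc O.card * cu a u₀ = ∑ _v ∈ O, cu a u₀ := by rw [Finset.sum_const, smul_eq_mul]
      _ ≤ _ := Finset.sum_le_sum fun v hv => ?_
    obtain ⟨t₀, ht₀, rfl⟩ := Finset.mem_image.1 hv
    rw [cu, Nat.card_eq_fintype_card,
      Fintype.card_subtype (fun w : G => w ∈ a.1 ⊓ Subgroup.centralizer ({u₀} : Set G))]
    refine Finset.card_le_card_of_injOn (fun w => t₀ * w) (fun w hw => ?_)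
      (fun w _ w' _ e => mul_left_cancel e)
    obtain ⟨hwP, hwu⟩ := Subgroup.mem_inf.1 (Finset.mem_filter.1 hw).2
    refine Finset.mem_filter.2 ⟨Finset.mem_filter.2
      ⟨Finset.mem_univ _, mul_mem (Finset.mem_filter.1 ht₀).2 hwP⟩, ?_⟩
    have hwu' := Subgroup.mem_centralizer_singleton_iff.1 hwu
    calc t₀ * w * u₀ * (t₀ * w)⁻¹ = t₀ * (w * u₀ * w⁻¹) * t₀⁻¹ := by group
      _ = t₀ * u₀ * t₀⁻¹ := by rw [hwu', mul_inv_cancel_right]
  calc F.card * cu a u₀
      ≤ O.card * Nat.card (secC (key p a (g₀, u₀)).1) * cu a u₀ := by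
        refine Nat.mul_le_mul_right _ ?_
        rw [Finset.card_eq_sum_card_image Prod.snd F]
        refine (Finset.sum_le_sum hfib).trans ?_
        rw [Finset.sum_const, smul_eq_mul]
        exact Nat.mul_le_mul_right _ (Finset.card_le_card hO)
    _ = O.card * cu a u₀ * Nat.card (secC (key p a (g₀, u₀)).1) := by ring
    _ ≤ _ := Nat.mul_le_mul_right _ horb

/-- The defect of the block of a subsection. -/
theorem defect_le (hM : IsPModular p M) (hmax : IsMax p (Ek M B) a) (hI : IsInner p a) {g u : G}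
    (hu : u ∈ a.1) {b : Set (IrrCharacter (secC (key p a (g, u)).1))} (hb : IsPBlock M b)
    (hbf : zB M (secC (key p a (g, u)).1) b = (key p a (g, u)).2) :
    p ^ blockDefect p b ≤ cu a u := by
  classical
  have hp := key_pairOf hmax (g := g) hu
  have hblk : IsBlk (secC (key p a (g, u)).1) (key p a (g, u)).2 := hbf ▸ isBlk_zB _ hb
  obtain ⟨Q, hQ⟩ := exists_isDefGrp (p := p) hblk
  have hCx : Subgroup.centralizer (Subgroup.zpowers (key p a (g, u)).1 : Set G) ≤
      stabP ((Subgroup.zpowers (key p a (g, u)).1, (key p a (g, u)).2) : Pr (resField M) G) := centralizer_le_stabP hp.pair.blkC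
  obtain ⟨y, hy, hyQ⟩ := hmax.exists_conj_le hp hQ.pgroup
    ((hQ.le.trans inf_le_right).trans hCx) hQ.brTrunc_ne_zero
  have h0 := key_back hmax (g := g) hu
  obtain ⟨t, ht, hte⟩ := hI (y * g) _ h0 (by
    rw [cjP_cjP, mul_inv_cancel_right]; exact hy)
  have hmem : u ∈ cjS g⁻¹ (Subgroup.zpowers (key p a (g, u)).1) :=
    mem_cjS.2 (by simp [key, mul_assoc])
  have hyx : y * (key p a (g, u)).1 * y⁻¹ = t * u * t⁻¹ := by
    rw [← hte u hmem]
    simp only [key]
    group
  have hQle : cjS y Q ≤ a.1 ⊓ Subgroup.centralizer ({t * u * t⁻¹} : Set G) := by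
    refine le_inf hyQ ?_
    rw [← hyx, ← cjS_centralizer_singleton, ← secC_eq]
    exact cjS_mono y hQ.le
  have hcard : Nat.card Q = p ^ blockDefect p b := by
    rw [← card_defectGroup hM hb ((isDefectGroup_subgroupOf_iff hb hQ.le).2 (hbf.symm ▸ hQ))]
    exact (Nat.card_congr (Subgroup.subgroupOfEquivOfLe hQ.le).toEquiv).symm
  rw [← hcard, ← cu_conj ht, cu, ← card_cjS y Q]
  exact Subgroup.card_le_of_le hQle

/-! ## The equality -/

/-- The contributions of an orbit with product at least one. -/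
theorem card_le_sum_of_pos {T : Finset ℕ} {f : ℕ → ℝ} (hpos : ∀ t ∈ T, 0 < f t)
    (hprod : 1 ≤ ∏ t ∈ T, f t) :
    (T.card : ℝ) ≤ ∑ t ∈ T, f t ∧ ((∑ t ∈ T, f t = T.card) → ∀ t ∈ T, f t = 1) := by
  have hlog : 0 ≤ ∑ t ∈ T, Real.log (f t) := by
    rw [← Real.log_prod fun t ht => (hpos t ht).ne']
    exact Real.log_nonneg hprod
  have hsub : ∑ t ∈ T, (f t - 1) = (∑ t ∈ T, f t) - T.card := by
    rw [Finset.sum_sub_distrib, Finset.sum_const, nsmul_eq_mul, mul_one]
  have hle : ∀ t ∈ T, Real.log (f t) ≤ f t - 1 := fun t ht =>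
    Real.log_le_sub_one_of_pos (hpos t ht)
  refine ⟨?_, fun he t ht => ?_⟩
  · have := hlog.trans (Finset.sum_le_sum hle)
    rw [hsub, sub_nonneg] at this
    exact this
  · by_contra hne
    have h1 : ∑ t ∈ T, Real.log (f t) < ∑ t ∈ T, (f t - 1) :=
      Finset.sum_lt_sum hle ⟨t, ht, Real.log_lt_sub_one_of_pos (hpos t ht) hne⟩
    rw [hsub, he, sub_self] at h1
    exact absurd h1 (not_lt.2 hlog)

/-- The part of a character at a subsection paired with itself. -/
theorem mass_key (χ : IrrCharacter G) {C : Subgroup G} (y : G)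
    {b : Set (IrrCharacter C)} (hb : IsPBlock M b) :
    (p : ℂ) ^ blockDefect p b * (mass p χ C y (zB M C b) : ℂ) =
      (Nat.card C : ℂ) * regPair p (blockScale p b) (blockPart b (secFun y C (χ : G → ℂ)))
        (blockPart b (secFun y C (χ : G → ℂ))) := by
  classical
  rw [mass, Finset.sum_eq_single b, if_pos rfl]
  · rw [regPair_eq_sum, blockScale, Complex.ofReal_sum]
    simp only [← Complex.mul_conj]
    push_cast
    field_simp
  · intro b' hb' hne
    rw [if_neg fun e => hne (zB_injective _ (mem_blocks.1 hb') hb e)]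
  · exact fun e => absurd (mem_blocks.2 hb) e

/-- With inner fusion every contribution of a character of height zero is one. -/
theorem equality (hM : IsPModular p M) (hB : IsPBlock M B) (hmax : IsMax p (Ek M B) a)
    (hI : IsInner p a) {χ : IrrCharacter G} (hχ : χ ∈ B)
    (h0 : blockHeight p B (χ : G → ℂ) = 0) {g u : G} (hu : u ∈ a.1) :
    (∀ b : Set (IrrCharacter (secC (key p a (g, u)).1)), IsPBlock M b →
      zB M (secC (key p a (g, u)).1) b = (key p a (g, u)).2 →
      regPair p (blockScale p b) (blockPart b (secFun (key p a (g, u)).1 _ (χ : G → ℂ)))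
          (blockPart b (secFun (key p a (g, u)).1 _ (χ : G → ℂ))) = 1 ∧
        p ^ blockDefect p b = cu a u) ∧
      (fib p a (g, u)).card * cu a u = Nat.card a.1 * Nat.card (secC (key p a (g, u)).1) := by
  classical
  have hp := hM.1
  obtain ⟨d, hd⟩ := IsPGroup.iff_card.1 hmax.pair.pgroup
  set q := p ^ (d + 1) with hq
  set U := (Finset.univ : Finset G).filter (· ∈ a.1) with hU
  have hUcard : U.card = Nat.card a.1 := by
    rw [hU, ← Fintype.card_subtype, ← Nat.card_eq_fintype_card]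
  have hUq : ∀ u ∈ a.1, u ^ q = 1 := by
    intro u hu
    have h1 : (⟨u, hu⟩ : a.1) ^ p ^ d = 1 := by rw [← hd]; exact pow_card_eq_one'
    have h2 : u ^ p ^ d = 1 := congrArg Subtype.val h1
    rw [hq, pow_succ, pow_mul, h2, one_pow]
  set W := (Finset.univ : Finset G) ×ˢ U with hW
  have hWmem : ∀ {gu : G × G}, gu ∈ W → gu.2 ∈ a.1 := fun {gu} h =>
    (Finset.mem_filter.1 (Finset.mem_product.1 h).2).2
  set S := W.image (key p a) with hS
  have hSp : ∀ k ∈ S, ∃ i, orderOf k.1 = p ^ i := by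
    intro k hk
    obtain ⟨gu, hgu, rfl⟩ := Finset.mem_image.1 hk
    exact key_pPow hmax (hWmem hgu)
  set T := primExps p q with hT
  set A : G × G → ℝ := fun gu => mass p χ (secC (key p a gu).1) (key p a gu).1 (key p a gu).2 *
    (cu a gu.2 : ℝ) / (Nat.card (secC (key p a gu).1) : ℝ) with hA
  have hmass : ∀ k : G × MonoidAlgebra (resField M) G, 0 ≤ mass p χ (secC k.1) k.1 k.2 := fun k =>
    Finset.sum_nonneg fun b _ => by
      split_ifs
      exacts [Finset.sum_nonneg fun _ _ => Complex.normSq_nonneg _, le_rfl]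
  have hC0 : ∀ x : G, (0 : ℝ) < (Nat.card (secC x) : ℝ) := fun x => Nat.cast_pos.2 Nat.card_pos
  have hfibW : ∀ gu : G × G, W.filter (fun w => key p a w = key p a gu) = fib p a gu := fun gu => by
    simp only [fib, hW, hU]
  have htotal : ∑ gu ∈ W, A gu ≤ (Nat.card a.1 : ℝ) * (Nat.card G : ℝ) := by
    calc ∑ gu ∈ W, A gu = ∑ k ∈ S, ∑ gu ∈ W.filter (fun w => key p a w = k), A gu :=
          (Finset.sum_fiberwise_of_maps_to (fun gu hgu => Finset.mem_image_of_mem _ hgu) _).symm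
      _ ≤ ∑ k ∈ S, (Nat.card a.1 : ℝ) * mass p χ (secC k.1) k.1 k.2 := by
        refine Finset.sum_le_sum fun k hk => ?_
        obtain ⟨⟨g₀, u₀⟩, hgu₀, rfl⟩ := Finset.mem_image.1 hk
        have hu₀ := hWmem hgu₀
        rw [hfibW]
        set K := key p a (g₀, u₀) with hK
        have hconst : ∀ w ∈ fib p a (g₀, u₀),
            A w = mass p χ (secC K.1) K.1 K.2 * (cu a u₀ : ℝ) / (Nat.card (secC K.1) : ℝ) := by
          intro w hw
          rw [← hfibW] at hw
          obtain ⟨hwW, hwk⟩ := Finset.mem_filter.1 hw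
          obtain ⟨t, ht, hte⟩ := conj_of_key_eq hmax hI (g := w.1) (hWmem hwW) hu₀ hwk
          simp only [hA, hwk, ← hK, ← hte, cu_conj ht]
        rw [Finset.sum_congr rfl hconst, Finset.sum_const, nsmul_eq_mul]
        have h1 : ((fib p a (g₀, u₀)).card : ℝ) * (cu a u₀ : ℝ) ≤
            (Nat.card a.1 : ℝ) * (Nat.card (secC K.1) : ℝ) := by
          exact_mod_cast card_fib_le hmax hI (g₀ := g₀) hu₀
        calc _ = mass p χ (secC K.1) K.1 K.2 *
              ((fib p a (g₀, u₀)).card * (cu a u₀ : ℝ) / (Nat.card (secC K.1) : ℝ)) := by ring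
          _ ≤ mass p χ (secC K.1) K.1 K.2 * (Nat.card a.1 : ℝ) :=
              mul_le_mul_of_nonneg_left ((div_le_iff₀ (hC0 _)).2 h1) (hmass K)
          _ = _ := mul_comm _ _
      _ ≤ _ := by
        rw [← Finset.mul_sum]
        exact mul_le_mul_of_nonneg_left (sum_mass_le hM χ S hSp) (Nat.cast_nonneg _)
  have hperm : ∀ t ∈ T, ∑ gu ∈ W, A (gu.1, gu.2 ^ t) = ∑ gu ∈ W, A gu := by
    intro t ht
    obtain ⟨m, -, hm⟩ := Nat.exists_mul_mod_eq_one_of_coprime
      (Nat.Coprime.pow_right (d + 1) (hp.coprime_iff_not_dvd.2 (Finset.mem_filter.1 ht).2).symm)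
      (Nat.one_lt_pow (Nat.succ_ne_zero d) hp.one_lt)
    have hback : ∀ y ∈ a.1, y ^ (t * m) = y := fun y hy => by
      rw [← Nat.div_add_mod (t * m) (p ^ (d + 1)), hm, pow_add, pow_one, pow_mul, hUq y hy,
        one_pow, one_mul]
    have hmemW : ∀ i : ℕ, ∀ gu ∈ W, ((gu.1, gu.2 ^ i) : G × G) ∈ W := fun i gu hgu =>
      Finset.mk_mem_product (Finset.mem_univ _)
        (Finset.mem_filter.2 ⟨Finset.mem_univ _, pow_mem (hWmem hgu) i⟩)
    exact Finset.sum_nbij' (fun gu => (gu.1, gu.2 ^ t)) (fun gu => (gu.1, gu.2 ^ m))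
      (hmemW t) (hmemW m)
      (fun gu hgu => Prod.ext rfl (by
        show (gu.2 ^ t) ^ m = gu.2
        rw [← pow_mul, hback _ (hWmem hgu)]))
      (fun gu hgu => Prod.ext rfl (by
        show (gu.2 ^ m) ^ t = gu.2
        rw [← pow_mul, mul_comm, hback _ (hWmem hgu)]))
      fun _ _ => rfl
  -- one orbit
  have horbit : ∀ gu ∈ W, (T.card : ℝ) ≤ ∑ t ∈ T, A (gu.1, gu.2 ^ t) ∧
      ((∑ t ∈ T, A (gu.1, gu.2 ^ t) = T.card) → A gu = 1 ∧
        ∀ b : Set (IrrCharacter (secC (key p a gu).1)), IsPBlock M b →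
          zB M (secC (key p a gu).1) b = (key p a gu).2 →
          regPair p (blockScale p b) (blockPart b (secFun (key p a gu).1 _ (χ : G → ℂ)))
              (blockPart b (secFun (key p a gu).1 _ (χ : G → ℂ))) = 1 ∧
            p ^ blockDefect p b = cu a gu.2) := by
    rintro ⟨g, u⟩ hgu
    have hu := hWmem hgu
    have hq1 : (key p a (g, u)).1 ^ q = 1 := by
      show (g * u * g⁻¹) ^ q = 1
      rw [conj_pow, hUq u hu, mul_one, mul_inv_cancel]
    have hxp := key_pPow hmax (g := g) hu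
    obtain ⟨b, hb, hbf⟩ := exists_block_key hmax (g := g) hu
    have hspec := key_spec hmax (g := g) hu
    rw [← hbf] at hspec
    have hind : IsInducedBlock M (secC (key p a (g, u)).1) b B :=
      (induced_iff_pairOf hM hB hxp (secC_eq _) hb).2 (hbf ▸ key_pairOf hmax hu)
    obtain ⟨D, hDj⟩ := exists_subData_level hM hxp (secC_eq _) hind hq1
    have hTj : T = primExps p (p ^ (D.j + 1)) := by rw [hDj]
    have hpart : ∀ t, blockPart b (secFun ((key p a (g, u)).1 ^ t) _ (χ : G → ℂ)) =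
        D.fn (D.coef χ t) := fun t => D.blockPart_secFun χ t
    have hzp : ∀ t ∈ T, Subgroup.zpowers ((key p a (g, u)).1 ^ t) =
        Subgroup.zpowers (key p a (g, u)).1 := by
      intro t ht
      obtain ⟨i, hi⟩ := hxp
      obtain ⟨m, hm⟩ := exists_pow_eq_self_of_coprime (x := (key p a (g, u)).1) (n := t) (by
        rw [hi]
        exact Nat.Coprime.pow_right _
          ((hp.coprime_iff_not_dvd.2 (Finset.mem_filter.1 ht).2).symm))
      refine le_antisymm (Subgroup.zpowers_le.2 (Subgroup.npow_mem_zpowers _ t))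
        (Subgroup.zpowers_le.2 ?_)
      have h' := Subgroup.npow_mem_zpowers ((key p a (g, u)).1 ^ t) m
      rwa [hm] at h'
    have hkey : ∀ t ∈ T, key p a (g, u ^ t) = ((key p a (g, u)).1 ^ t, (key p a (g, u)).2) := by
      intro t ht
      refine Prod.ext (conj_pow).symm ?_
      show belowAt p (cjP g a) (g * u ^ t * g⁻¹) = _
      rw [show g * u ^ t * g⁻¹ = (key p a (g, u)).1 ^ t from conj_pow.symm]
      exact belowAt_congr (isMax_cjP hmax g).pair (key_fst_mem hu) (hzp t ht)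
    have hsecC : ∀ t ∈ T, secC ((key p a (g, u)).1 ^ t) = secC (key p a (g, u)).1 := fun t ht => by
      rw [secC_eq, secC_eq, centralizer_pow_eq hp hxp (Finset.mem_filter.1 ht).2]
    have hdpos : ∀ t ∈ T, 0 < D.diag χ t := by
      intro t ht
      refine lt_of_le_of_ne (D.diag_nonneg χ t) fun e => ?_
      obtain ⟨hC', hx'⟩ := D.centralizer_eq (hTj ▸ ht)
      obtain ⟨s, hs, hne⟩ := HeightZeroPairs.exists_part_ne_zero hM hB (isMax_cjP hmax g) hχ h0
        hx' hC' hb (by rw [hzp t ht]; exact hspec)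
      have h1 : qn (blockScale p b) (pRegularPart p (D.fn (D.coef χ t))) = 0 :=
        Complex.ofReal_injective (by rw [qn_eq_regPair, ← D.diag_eq, ← e])
      have hlam : 0 < blockScale p b :=
        div_pos (pow_pos (Nat.cast_pos.2 hp.pos) _) (Nat.cast_pos.2 Nat.card_pos)
      rw [qn, mul_eq_zero, or_iff_right hlam.ne',
        Finset.sum_eq_zero_iff_of_nonneg fun _ _ => Complex.normSq_nonneg _] at h1
      have h2 := Complex.normSq_eq_zero.1 (h1 s (Finset.mem_univ _))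
      rw [pRegularPart_apply, if_neg hs, ← hpart] at h2
      exact hne h2
    have hprod : 1 ≤ ∏ t ∈ T, D.diag χ t := by
      obtain ⟨m, hm⟩ := exists_int_prod_diag D χ
      rw [← hTj] at hm
      have hm' : (m : ℝ) = ∏ t ∈ T, D.diag χ t := by
        apply Complex.ofReal_injective
        rw [Complex.ofReal_intCast, Complex.ofReal_prod, ← hm]
      have h1 : (0 : ℝ) < (m : ℝ) := hm' ▸ Finset.prod_pos hdpos
      have h2 : (1 : ℤ) ≤ m := by exact_mod_cast h1
      rw [← hm']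
      exact_mod_cast h2
    obtain ⟨hge, heq⟩ := card_le_sum_of_pos hdpos hprod
    set e := p ^ blockDefect p b with he
    have he0 : (0 : ℝ) < (e : ℝ) := Nat.cast_pos.2 (pow_pos hp.pos _)
    have hce : e ≤ cu a u := defect_le hM hmax hI hu hb hbf
    have hAt : ∀ t ∈ T, A (g, u ^ t) = (cu a u : ℝ) / e * D.diag χ t := by
      intro t ht
      simp only [hA]
      rw [hkey t ht, hsecC t ht, ← hbf, cu_pow hmax hu (Finset.mem_filter.1 ht).2]
      have hm : (e : ℝ) * mass p χ (secC (key p a (g, u)).1) ((key p a (g, u)).1 ^ t)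
          (zB M (secC (key p a (g, u)).1) b) =
          (Nat.card (secC (key p a (g, u)).1) : ℝ) * D.diag χ t := by
        apply Complex.ofReal_injective
        rw [Complex.ofReal_mul, Complex.ofReal_mul, D.diag_eq, ← hpart, Complex.ofReal_natCast,
          Complex.ofReal_natCast, he, Nat.cast_pow]
        exact mass_key χ _ hb
      have := hC0 (key p a (g, u)).1
      field_simp
      linear_combination (cu a u : ℝ) * hm
    rw [Finset.sum_congr rfl hAt, ← Finset.mul_sum]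
    have hr : (1 : ℝ) ≤ (cu a u : ℝ) / e := (one_le_div he0).2 (by exact_mod_cast hce)
    have hT0 : (0 : ℝ) < (T.card : ℝ) :=
      Nat.cast_pos.2 (Finset.card_pos.2 ⟨1, one_mem_primExps hp.one_lt⟩)
    refine ⟨by nlinarith, fun htot => ?_⟩
    have hs1 : ∑ t ∈ T, D.diag χ t = T.card := le_antisymm (by nlinarith) hge
    have hr1 : (cu a u : ℝ) / e = 1 := by
      rw [hs1] at htot
      exact mul_right_cancel₀ hT0.ne' (htot.trans (one_mul _).symm)
    have hd1 : D.diag χ 1 = 1 := heq hs1 1 (one_mem_primExps hp.one_lt)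
    have hcast : (cu a u : ℝ) = (e : ℝ) := by
      rw [div_eq_one_iff_eq he0.ne'] at hr1; exact hr1
    refine ⟨?_, fun b' hb' hbf' => ?_⟩
    · have h := hAt 1 (one_mem_primExps hp.one_lt)
      rw [pow_one, hr1, hd1, one_mul] at h
      exact h
    · obtain rfl : b' = b := zB_injective _ hb' hb (hbf'.trans hbf.symm)
      refine ⟨?_, ?_⟩
      · have h := hpart 1
        rw [pow_one] at h
        rw [h, ← D.diag_eq, hd1, Complex.ofReal_one]
      · exact_mod_cast hcast.symm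
  -- every orbit attains the bound
  have hWcard : (W.card : ℝ) = (Nat.card a.1 : ℝ) * (Nat.card G : ℝ) := by
    rw [hW, Finset.card_product, Finset.card_univ, ← Nat.card_eq_fintype_card, hUcard]
    push_cast
    ring
  have hall : ∀ gu ∈ W, ∑ t ∈ T, A (gu.1, gu.2 ^ t) = T.card := by
    intro gu hgu
    refine ((Finset.sum_eq_sum_iff_of_le fun w hw => (horbit w hw).1).1 ?_ gu hgu).symm
    refine le_antisymm (Finset.sum_le_sum fun w hw => (horbit w hw).1) ?_
    rw [Finset.sum_comm, Finset.sum_congr rfl hperm, Finset.sum_const, Finset.sum_const,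
      nsmul_eq_mul, nsmul_eq_mul, hWcard]
    calc (T.card : ℝ) * ∑ gu ∈ W, A gu ≤ (T.card : ℝ) * ((Nat.card a.1 : ℝ) * Nat.card G) :=
          mul_le_mul_of_nonneg_left htotal (Nat.cast_nonneg _)
      _ = _ := by ring
  have hone : ∀ gu ∈ W, A gu = 1 := fun gu hgu => ((horbit gu hgu).2 (hall gu hgu)).1
  have hgu : (g, u) ∈ W :=
    Finset.mk_mem_product (Finset.mem_univ _) (Finset.mem_filter.2 ⟨Finset.mem_univ _, hu⟩)
  refine ⟨((horbit _ hgu).2 (hall _ hgu)).2, ?_⟩
  -- the fibres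
  have hB' : ∀ k ∈ S, ((W.filter (fun w => key p a w = k)).card : ℝ) ≤
      (Nat.card a.1 : ℝ) * mass p χ (secC k.1) k.1 k.2 := by
    intro k hk
    obtain ⟨⟨g₀, u₀⟩, hgu₀, rfl⟩ := Finset.mem_image.1 hk
    have h1 := hone _ hgu₀
    simp only [hA] at h1
    rw [hfibW]
    have h2 : ((fib p a (g₀, u₀)).card : ℝ) * (cu a u₀ : ℝ) ≤
        (Nat.card a.1 : ℝ) * (Nat.card (secC (key p a (g₀, u₀)).1) : ℝ) := by
      exact_mod_cast card_fib_le hmax hI (g₀ := g₀) (hWmem hgu₀)
    have hc : (0 : ℝ) < (cu a u₀ : ℝ) := Nat.cast_pos.2 (cu_pos u₀)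
    rw [div_eq_one_iff_eq (hC0 _).ne'] at h1
    rw [← h1] at h2
    nlinarith
  have hsumS : (Nat.card a.1 : ℝ) * ∑ k ∈ S, mass p χ (secC k.1) k.1 k.2 ≤
      ∑ k ∈ S, ((W.filter (fun w => key p a w = k)).card : ℝ) := by
    rw [← Nat.cast_sum, ← Finset.card_eq_sum_card_fiberwise (f := key p a) (t := S)
      (fun gu hgu => Finset.mem_image_of_mem _ hgu), hWcard]
    exact mul_le_mul_of_nonneg_left (sum_mass_le hM χ S hSp) (Nat.cast_nonneg _)
  have hkeq := (Finset.sum_eq_sum_iff_of_le hB').1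
    (le_antisymm (Finset.sum_le_sum hB') (by rwa [← Finset.mul_sum]))
    (key p a (g, u)) (Finset.mem_image_of_mem _ hgu)
  rw [hfibW] at hkeq
  have h1 := hone _ hgu
  simp only [hA] at h1
  rw [div_eq_one_iff_eq (hC0 _).ne'] at h1
  have : ((fib p a (g, u)).card : ℝ) * (cu a u : ℝ) =
      (Nat.card a.1 : ℝ) * (Nat.card (secC (key p a (g, u)).1) : ℝ) := by
    rw [hkeq, mul_assoc, h1]
  exact_mod_cast this

end Cfsg.Agent.NilpotentKeys
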