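/-
The characters of a block with inner fusion: the products of a character of height zero with the
characters of the subgroup of a maximal pair.
-/
import Cfsg.Agent.Lib.BrauerPairs.NilpotentKeys
import Cfsg.Agent.Lib.BrauerPairs.NilpotentRankOne
import Cfsg.Agent.Lib.BrauerPairs.NilBlock
import Cfsg.Agent.Lib.Char.DegreeCenter

set_option linter.unusedSectionVars false
set_option linter.style.haveILetI false

namespace Cfsg.Agent.NilpotentStructure

open Cfsg Cfsg.Agent.Blocks Cfsg.Agent.BrauerPairs Cfsg.Agent.Char Cfsg.Agent.Star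
  Cfsg.Agent.InertiaHeight Cfsg.Agent.NilpotentKeys
open scoped ComplexConjugate

universe u

variable {G : Type u} [Group G] [Fintype G] {p : ℕ} [Fact p.Prime] {M : Ideal AlgInt} [M.IsPrime]
  [CharP (resField M) p] {B : Set (IrrCharacter G)} {a : Pr (resField M) G}

/-! ## Characters of the subgroup of the pair -/

/-- A character of the subgroup of the pair, extended by zero. -/
noncomputable def cfn (a : Pr (resField M) G) (θ : IrrCharacter a.1) (x : G) : ℂ := by
  classical
  exact if h : x ∈ a.1 then (θ : a.1 → ℂ) ⟨x, h⟩ else 0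

theorem cfn_mem (θ : IrrCharacter a.1) {x : G} (h : x ∈ a.1) :
    cfn a θ x = (θ : a.1 → ℂ) ⟨x, h⟩ := by
  classical
  rw [cfn, dif_pos h]

theorem cfn_conj (θ : IrrCharacter a.1) {t x : G} (ht : t ∈ a.1) (hx : x ∈ a.1) :
    cfn a θ (t * x * t⁻¹) = cfn a θ x := by
  rw [cfn_mem θ hx, cfn_mem θ (mul_mem (mul_mem ht hx) (inv_mem ht))]
  exact IsCharacter.isClassFunction (irr_isCharacter θ) ⟨x, hx⟩ ⟨t, ht⟩

theorem isStarFn_cfn (hI : IsInner p a) (θ : IrrCharacter a.1) : IsStarFn p a (cfn a θ) := by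
  refine ⟨IsGeneralizedCharacter.of_isCharacter ?_, fun g b hb hgb u hu => ?_⟩
  · convert irr_isCharacter θ using 1
    funext v
    exact cfn_mem θ v.2
  · obtain ⟨t, ht, hte⟩ := hI g b hb hgb
    rw [hte u hu, cfn_conj θ ht (hb.le hu)]

theorem val_key (hmax : IsMax p (Ek M B) a) (hI : IsInner p a) (θ : IrrCharacter a.1) {g u : G}
    (hu : u ∈ a.1) :
    val p a (cfn a θ) (key p a (g, u)).1 (key p a (g, u)).2 = cfn a θ u := by
  rw [val_eq (isStarFn_cfn hI θ) (key_back hmax hu)]
  congr 1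
  show g⁻¹ * (g * u * g⁻¹) * g⁻¹⁻¹ = u
  group

theorem blockPart_self {H : Type u} [Group H] [Fintype H] (b : Set (IrrCharacter H)) (f : H → ℂ) :
    blockPart b (blockPart b f) = blockPart b f := by
  classical
  rw [show blockPart b f = bcomb b (fun φ => classInner f (φ : H → ℂ)) from
    funext fun u => blockPart_eq_sum b f u, blockPart_bcomb]

open scoped Classical in
theorem mass_cast (χ : IrrCharacter G) (C : Subgroup G) (y : G)
    (f : MonoidAlgebra (resField M) G) :
    (mass p χ C y f : ℂ) = ∑ b ∈ blocks M C, if zB M C b = f then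
      ∑ s ∈ (Finset.univ : Finset C).filter (fun s => ¬ p ∣ orderOf s),
        blockPart b (secFun y C (χ : G → ℂ)) s * conj (blockPart b (secFun y C (χ : G → ℂ)) s)
      else 0 := by
  rw [mass, Complex.ofReal_sum]
  refine Finset.sum_congr rfl fun b _ => ?_
  split_ifs
  · simp only [Complex.ofReal_sum, Complex.mul_conj]
  · exact Complex.ofReal_zero

/-- The inner product of two products with a character of height zero. -/
theorem classInner_star_cfn (hM : IsPModular p M) (hB : IsPBlock M B) (hmax : IsMax p (Ek M B) a)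
    (hI : IsInner p a) {χ : IrrCharacter G} (hχ : χ ∈ B) (h0 : blockHeight p B (χ : G → ℂ) = 0)
    (θ θ' : IrrCharacter a.1) :
    classInner (star p a (cfn a θ) χ) (star p a (cfn a θ') χ) =
      classInner (θ : a.1 → ℂ) (θ' : a.1 → ℂ) := by
  classical
  rw [classInner_star hM]
  set U := (Finset.univ : Finset G).filter (· ∈ a.1) with hU
  set W := (Finset.univ : Finset G) ×ˢ U with hW
  have hWmem : ∀ {gu : G × G}, gu ∈ W → gu.2 ∈ a.1 := fun {gu} h =>
    (Finset.mem_filter.1 (Finset.mem_product.1 h).2).2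
  set S := W.image (key p a) with hS
  set F : G × MonoidAlgebra (resField M) G → ℂ := fun k =>
    val p a (cfn a θ) k.1 k.2 * conj (val p a (cfn a θ') k.1 k.2) *
      (mass p χ (secC k.1) k.1 k.2 : ℂ) with hF
  have hSp : ∀ k ∈ S, ∃ i, orderOf k.1 = p ^ i := fun k hk => by
    obtain ⟨gu, hgu, rfl⟩ := Finset.mem_image.1 hk
    exact key_pPow hmax (hWmem hgu)
  have hstep : ∀ x : G, (if (∃ i, orderOf x = p ^ i) then
        ∑ b ∈ blocks M (secC x), val p a (cfn a θ) x (zB M (secC x) b) *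
          conj (val p a (cfn a θ') x (zB M (secC x) b)) *
          ∑ s ∈ (Finset.univ : Finset (secC x)).filter (fun s => ¬ p ∣ orderOf s),
            blockPart b (secFun x (secC x) (χ : G → ℂ)) s *
              conj (blockPart b (secFun x (secC x) (χ : G → ℂ)) s)
        else 0) = ∑ k ∈ S.filter (fun k => k.1 = x), F k := by
    intro x
    split_ifs with hx
    · have hF' : ∀ k ∈ S.filter (fun k => k.1 = x), F k =
          ∑ b ∈ blocks M (secC x), if zB M (secC x) b = k.2 then
            val p a (cfn a θ) x k.2 * conj (val p a (cfn a θ') x k.2) *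
              ∑ s ∈ (Finset.univ : Finset (secC x)).filter (fun s => ¬ p ∣ orderOf s),
                blockPart b (secFun x (secC x) (χ : G → ℂ)) s *
                  conj (blockPart b (secFun x (secC x) (χ : G → ℂ)) s) else 0 := by
        intro k hk
        obtain rfl := (Finset.mem_filter.1 hk).2
        simp only [hF, mass_cast, Finset.mul_sum, mul_ite, mul_zero]
      rw [Finset.sum_congr rfl hF', Finset.sum_comm]
      refine Finset.sum_congr rfl fun b hb => ?_
      by_cases hp : IsPairOf p ⊤ (Ek M B) (Subgroup.zpowers x, zB M (secC x) b)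
      · obtain ⟨g, hg, hk⟩ := exists_key_eq hmax hp
        have hmem : ((x, zB M (secC x) b) : G × MonoidAlgebra (resField M) G) ∈
            S.filter (fun k => k.1 = x) :=
          Finset.mem_filter.2 ⟨Finset.mem_image.2 ⟨(g, g⁻¹ * x * g),
            Finset.mk_mem_product (Finset.mem_univ _) (Finset.mem_filter.2 ⟨Finset.mem_univ _, hg⟩),
            hk⟩, rfl⟩
        rw [Finset.sum_eq_single_of_mem _ hmem, if_pos rfl]
        intro k hk' hne
        rw [if_neg]
        intro e
        exact hne (Prod.ext (Finset.mem_filter.1 hk').2 e.symm)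
      · have hz : ∀ s ∈ (Finset.univ : Finset (secC x)).filter (fun s => ¬ p ∣ orderOf s),
            blockPart b (secFun x (secC x) (χ : G → ℂ)) s *
              conj (blockPart b (secFun x (secC x) (χ : G → ℂ)) s) = 0 := fun s hs => by
          rw [blockPart_eq_zero_of_not_pair hM hB hx hχ (mem_blocks.1 hb) hp
            (Finset.mem_filter.1 hs).2, zero_mul]
        simp [Finset.sum_eq_zero hz]
    · refine (Finset.sum_eq_zero fun k hk => absurd ?_ hx).symm
      rw [← (Finset.mem_filter.1 hk).2]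
      exact hSp k (Finset.mem_filter.1 hk).1
  rw [Finset.sum_congr rfl fun x _ => hstep x, Finset.sum_fiberwise S Prod.fst F]
  have hP0 : (Nat.card a.1 : ℂ) ≠ 0 := Nat.cast_ne_zero.2 Nat.card_pos.ne'
  have hFk : ∀ k ∈ S, F k = (Nat.card a.1 : ℂ)⁻¹ *
      ∑ w ∈ W.filter (fun w => key p a w = k), cfn a θ w.2 * conj (cfn a θ' w.2) := by
    intro k hk
    obtain ⟨⟨g₀, u₀⟩, hgu₀, rfl⟩ := Finset.mem_image.1 hk
    have hu₀ := hWmem hgu₀
    obtain ⟨hpart, hfib⟩ := equality hM hB hmax hI hχ h0 (g := g₀) hu₀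
    obtain ⟨b, hb, hbf⟩ := exists_block_key hmax (g := g₀) hu₀
    obtain ⟨hreg, hdef⟩ := hpart b hb hbf
    have hm := mass_key (p := p) χ (key p a (g₀, u₀)).1 hb
    rw [hbf, hreg, mul_one, ← Nat.cast_pow, hdef] at hm
    have hfibW : W.filter (fun w => key p a w = key p a (g₀, u₀)) = fib p a (g₀, u₀) := by
      simp only [fib, hW, hU]
    have hconst : ∀ w ∈ fib p a (g₀, u₀),
        cfn a θ w.2 * conj (cfn a θ' w.2) = cfn a θ u₀ * conj (cfn a θ' u₀) := by
      intro w hw
      rw [← hfibW] at hw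
      obtain ⟨hwW, hwk⟩ := Finset.mem_filter.1 hw
      obtain ⟨t, ht, hte⟩ := conj_of_key_eq hmax hI (g := w.1) (hWmem hwW) hu₀ hwk
      rw [← hte, cfn_conj θ ht hu₀, cfn_conj θ' ht hu₀]
    have hfibC : ((fib p a (g₀, u₀)).card : ℂ) * (cu a u₀ : ℂ) =
        (Nat.card a.1 : ℂ) * (Nat.card (secC (key p a (g₀, u₀)).1) : ℂ) := by
      exact_mod_cast hfib
    have hc : (cu a u₀ : ℂ) ≠ 0 := Nat.cast_ne_zero.2 (cu_pos u₀).ne'
    rw [hfibW, Finset.sum_congr rfl hconst, Finset.sum_const, nsmul_eq_mul]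
    simp only [hF, val_key hmax hI _ hu₀]
    have hmass : (mass p χ (secC (key p a (g₀, u₀)).1) (key p a (g₀, u₀)).1
        (key p a (g₀, u₀)).2 : ℂ) = (Nat.card a.1 : ℂ)⁻¹ * ((fib p a (g₀, u₀)).card : ℂ) := by
      refine mul_left_cancel₀ hc ?_
      rw [hm]
      field_simp
      linear_combination -hfibC
    rw [hmass]
    ring
  rw [Finset.sum_congr rfl hFk, ← Finset.mul_sum,
    Finset.sum_fiberwise_of_maps_to (fun gu hgu => Finset.mem_image_of_mem _ hgu), hW,
    Finset.sum_product]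
  dsimp only
  rw [Finset.sum_const, Finset.card_univ, ← Nat.card_eq_fintype_card, nsmul_eq_mul]
  have hG0 : (Nat.card G : ℂ) ≠ 0 := Nat.cast_ne_zero.2 Nat.card_pos.ne'
  have e : ∑ u ∈ U, cfn a θ u * conj (cfn a θ' u) =
      ∑ v : a.1, (θ : a.1 → ℂ) v * conj ((θ' : a.1 → ℂ) v) := by
    rw [hU, Finset.sum_subtype _ (p := (· ∈ a.1)) (fun x => by simp)]
    exact Finset.sum_congr rfl fun v _ => by rw [cfn_mem θ v.2, cfn_mem θ' v.2]
  rw [e, classInner]
  field_simp

/-- The products are distinct characters of the block. -/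
theorem exists_phi (hM : IsPModular p M) (hB : IsPBlock M B) (hmax : IsMax p (Ek M B) a)
    (hI : IsInner p a) {χ : IrrCharacter G} (hχ : χ ∈ B) (h0 : blockHeight p B (χ : G → ℂ) = 0) :
    ∃ Φ : IrrCharacter a.1 → IrrCharacter G, (∀ θ, Φ θ ∈ B) ∧
      (∀ θ, (Φ θ : G → ℂ) = star p a (cfn a θ) χ) ∧ Function.Injective Φ := by
  classical
  have hex : ∀ θ : IrrCharacter a.1,
      ∃ ψ : IrrCharacter G, ψ ∈ B ∧ (ψ : G → ℂ) = star p a (cfn a θ) χ := by
    intro θ
    have hgen := isGeneralizedCharacter_star hM hmax (isStarFn_cfn hI θ) χ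
    have hnorm : classInner (star p a (cfn a θ) χ) (star p a (cfn a θ) χ) = 1 := by
      rw [classInner_star_cfn hM hB hmax hI hχ h0, classInner_self_irr θ.2]
    have hone : star p a (cfn a θ) χ 1 =
        ((charDegree (θ : a.1 → ℂ) * charDegree (χ : G → ℂ) : ℕ) : ℂ) := by
      rw [star_regular hM hB hmax (isStarFn_cfn hI θ) hχ (by simp [(Fact.out : p.Prime).ne_one]),
        cfn_mem θ a.1.one_mem, show (⟨1, a.1.one_mem⟩ : a.1) = 1 from rfl,
        irr_one_eq_charDegree θ, irr_one_eq_charDegree χ, Nat.cast_mul]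
    rcases IsGeneralizedCharacter.of_norm_one hgen hnorm with hi | hi
    · refine ⟨⟨_, hi⟩, ?_, rfl⟩
      by_contra hne
      have h1 := classInner_star_eq_zero (a := a) (η := cfn a θ) hM hB hχ hne
      rw [classInner_self_irr hi] at h1
      exact one_ne_zero h1
    · exfalso
      have h1 : (-star p a (cfn a θ) χ) 1 = _ := irr_one_eq_charDegree (⟨_, hi⟩ : IrrCharacter G)
      rw [Pi.neg_apply, hone] at h1
      have h4 : (0 : ℝ) < ((charDegree (θ : a.1 → ℂ) * charDegree (χ : G → ℂ) : ℕ) : ℝ) :=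
        Nat.cast_pos.2 (Nat.mul_pos (charDegree_pos θ) (charDegree_pos χ))
      have h3 := congrArg Complex.re h1
      simp only [Complex.neg_re, Complex.natCast_re] at h3
      linarith [Nat.cast_nonneg (α := ℝ)
        (charDegree (((⟨_, hi⟩ : IrrCharacter G) : IrrCharacter G) : G → ℂ))]
  choose Φ hΦB hΦ using hex
  refine ⟨Φ, hΦB, hΦ, fun θ θ' e => ?_⟩
  by_contra hne
  have h1 := classInner_self_irr (Φ θ).2
  conv_lhs at h1 => arg 2; rw [e]
  rw [hΦ, hΦ, classInner_star_cfn hM hB hmax hI hχ h0,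
    classInner_irr_of_ne θ.2 θ'.2 fun e' => hne (Subtype.ext e')] at h1
  exact zero_ne_one h1

/-- The products with the regular character vanish off the regular elements. -/
theorem sum_degree_star (hM : IsPModular p M) (hB : IsPBlock M B) (hmax : IsMax p (Ek M B) a)
    (hI : IsInner p a) {χ : IrrCharacter G} (hχ : χ ∈ B) (x : G) :
    ∑ θ : IrrCharacter a.1, (θ : a.1 → ℂ) 1 * star p a (cfn a θ) χ x =
      (Nat.card a.1 : ℂ) * pRegularPart p (χ : G → ℂ) x := by
  classical
  have hdeg : ∀ θ : IrrCharacter a.1, conj ((θ : a.1 → ℂ) 1) = (θ : a.1 → ℂ) 1 := fun θ => by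
    rw [irr_one_eq_charDegree θ, map_natCast]
  rw [pRegularPart_apply]
  split_ifs with hx
  · rw [mul_zero]
    have hsec := isSec_parts (p := p) x
    set u := pp p x with hu'
    have hu1 : u ≠ 1 := fun h => hsec.reg (by
      rwa [rp, ← hu', h, inv_one, one_mul])
    let s : secC u := ⟨rp p x, mem_secC.2 hsec.comm.eq.symm⟩
    have hs : ¬ p ∣ orderOf s := by rw [← Subgroup.orderOf_coe]; exact hsec.reg
    have hstar : ∀ θ : IrrCharacter a.1, star p a (cfn a θ) χ x =
        ∑ b ∈ blocks M (secC u), val p a (cfn a θ) u (zB M (secC u) b) *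
          blockPart b (secFun u (secC u) (χ : G → ℂ)) s := fun θ => by
      rw [← starFun_section hM hsec.pow χ hs]
      exact congrArg (star p a (cfn a θ) χ) (pp_mul_rp x).symm
    simp only [hstar, Finset.mul_sum]
    rw [Finset.sum_comm]
    refine Finset.sum_eq_zero fun b _ => ?_
    simp only [← mul_assoc, ← Finset.sum_mul]
    refine mul_eq_zero_of_left ?_ _
    by_cases hg : ∃ g, SubLE p ⊤
        (cjP g ((Subgroup.zpowers u, zB M (secC u) b) : Pr (resField M) G)) a
    · obtain ⟨g, hg⟩ := hg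
      have hm : g * u * g⁻¹ ∈ a.1 := hg.le (mem_cjS_of_eq (g := g) (Subgroup.mem_zpowers u))
      rw [← column_orth_of_not_isConj (G := a.1) (g := ⟨g * u * g⁻¹, hm⟩) (h := 1) (fun hc => hu1 (by
        have h1 := congrArg Subtype.val (isConj_one_left.1 hc)
        simpa [mul_inv_eq_one] using h1))]
      refine Finset.sum_congr rfl fun θ _ => ?_
      rw [val_eq (isStarFn_cfn hI θ) hg, cfn_mem θ hm, hdeg, mul_comm]
    · push Not at hg
      exact Finset.sum_eq_zero fun θ _ => by rw [val_eq_zero hg, mul_zero]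
  · have h1 : ∀ θ : IrrCharacter a.1, (θ : a.1 → ℂ) 1 * star p a (cfn a θ) χ x =
        (θ : a.1 → ℂ) 1 * conj ((θ : a.1 → ℂ) 1) * (χ : G → ℂ) x := fun θ => by
      rw [star_regular hM hB hmax (isStarFn_cfn hI θ) hχ hx, cfn_mem θ a.1.one_mem, hdeg, mul_assoc]
      rfl
    rw [Finset.sum_congr rfl fun θ _ => h1 θ, ← Finset.sum_mul,
      column_orth_of_isConj (G := a.1) (IsConj.refl 1),
      show Subgroup.centralizer ({1} : Set a.1) = ⊤ from
        top_le_iff.1 fun v _ => Subgroup.mem_centralizer_singleton_iff.2 (by simp),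
      Subgroup.card_top]

/-- A part orthogonal to a part of norm one vanishes if the block has rank one. -/
theorem part_eq_zero {H : Type u} [Group H] [Fintype H] {b : Set (IrrCharacter H)}
    (hrank : blockRank p b = 1) {lam : ℝ} {f f' : H → ℂ}
    (hreg : regPair p lam (blockPart b f) (blockPart b f) = 1)
    (horth : regPair p lam (blockPart b f') (blockPart b f) = 0) {s : H} (hs : ¬ p ∣ orderOf s) :
    blockPart b f' s = 0 := by
  classical
  have hmem : ∀ f : H → ℂ, pRegularPart p (blockPart b f) ∈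
      Submodule.span ℂ ((fun φ : IrrCharacter H => pRegularPart p (φ : H → ℂ)) '' b) := by
    intro f
    have e : pRegularPart p (blockPart b f) = ∑ φ ∈ Finset.univ.filter (· ∈ b),
        classInner f (φ : H → ℂ) • pRegularPart p (φ : H → ℂ) := by
      funext t
      simp only [Finset.sum_apply, Pi.smul_apply, smul_eq_mul, pRegularPart_apply]
      by_cases ht : p ∣ orderOf t
      · simp [ht]
      · simp only [if_neg ht, blockPart_eq_sum]
    rw [e]
    exact Submodule.sum_mem _ fun φ hφ =>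
      Submodule.smul_mem _ _ (Submodule.subset_span ⟨φ, (Finset.mem_filter.1 hφ).2, rfl⟩)
  have hne : (⟨_, hmem f⟩ : Submodule.span ℂ
      ((fun φ : IrrCharacter H => pRegularPart p (φ : H → ℂ)) '' b)) ≠ 0 := by
    intro e
    have e' : pRegularPart p (blockPart b f) = 0 := congrArg Subtype.val e
    rw [regPair, e'] at hreg
    simp at hreg
  rw [blockRank] at hrank
  obtain ⟨c, hc⟩ := exists_smul_eq_of_finrank_eq_one hrank hne ⟨_, hmem f'⟩
  have hc' : c • pRegularPart p (blockPart b f) = pRegularPart p (blockPart b f') :=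
    congrArg Subtype.val hc
  have hc0 : c = 0 := by
    have h1 : regPair p lam (blockPart b f') (blockPart b f) = c * 1 := by
      rw [← hreg, regPair, regPair, ← hc', Finset.mul_sum, Finset.mul_sum, Finset.mul_sum]
      exact Finset.sum_congr rfl fun t _ => by rw [Pi.smul_apply, smul_eq_mul]; ring
    rw [horth, mul_one] at h1
    exact h1.symm
  have h2 := congrFun hc' s
  rw [hc0, zero_smul, Pi.zero_apply, pRegularPart_apply, if_neg hs] at h2
  exact h2.symm

/-! ## The block consists of the products -/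

section Rest

variable {χ : IrrCharacter G} {Φ : IrrCharacter a.1 → IrrCharacter G}

/-- A further character of the block is orthogonal to every contribution. -/
theorem rest_regPair (hM : IsPModular p M) (hB : IsPBlock M B) (hmax : IsMax p (Ek M B) a)
    (hI : IsInner p a) (hχ : χ ∈ B) (h0 : blockHeight p B (χ : G → ℂ) = 0)
    (hΦB : ∀ θ, Φ θ ∈ B) (hΦ : ∀ θ, (Φ θ : G → ℂ) = star p a (cfn a θ) χ)
    (hinj : Function.Injective Φ) {ψ : IrrCharacter G} (hψ : ψ ∈ B) (hne : ∀ θ, Φ θ ≠ ψ)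
    {g u : G} (hu : u ∈ a.1) {b : Set (IrrCharacter (secC (key p a (g, u)).1))}
    (hb : IsPBlock M b) (hbf : zB M (secC (key p a (g, u)).1) b = (key p a (g, u)).2) :
    regPair p (blockScale p b) (blockPart b (secFun (key p a (g, u)).1 _ (ψ : G → ℂ)))
      (blockPart b (secFun (key p a (g, u)).1 _ (χ : G → ℂ))) = 0 := by
  classical
  have hxp := key_pPow hmax (g := g) hu
  obtain ⟨hreg, hdef⟩ := (equality hM hB hmax hI hχ h0 (g := g) hu).1 b hb hbf
  set v := blockPart b (secFun (key p a (g, u)).1 _ (χ : G → ℂ)) with hv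
  have hvv : blockPart b v = v := blockPart_self b _
  have hind : IsInducedBlock M (secC (key p a (g, u)).1) b B :=
    (induced_iff_pairOf hM hB hxp (secC_eq _) hb).2 (hbf ▸ key_pairOf hmax hu)
  set r : IrrCharacter G → ℂ := fun φ =>
    regPair p (blockScale p b) (secFun (key p a (g, u)).1 _ (φ : G → ℂ)) v with hr
  have hsum : ∑ φ ∈ Finset.univ.filter (· ∈ B), (Complex.normSq (r φ) : ℂ) = (cu a u : ℂ) := by
    rw [hr, sum_normSq_regPair hM hxp (secC_eq _) hind hvv, hreg, mul_one, hdef]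
  have himg : ∀ θ, r (Φ θ) = (θ : a.1 → ℂ) ⟨u, hu⟩ := by
    intro θ
    simp only [hr]
    rw [regPair_blockPart hM hb _ _ hvv, regPair_eq_sum, Finset.sum_congr rfl fun s hs => by
      rw [hΦ, blockPart_secFun_star hM hxp χ hb (Finset.mem_filter.1 hs).2, hbf,
        val_key hmax hI θ hu, cfn_mem θ hu, mul_assoc], ← Finset.mul_sum, mul_left_comm]
    rw [regPair_eq_sum] at hreg
    rw [hreg, mul_one]
  have hcol : ∑ θ : IrrCharacter a.1, (Complex.normSq (r (Φ θ)) : ℂ) = (cu a u : ℂ) := by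
    rw [Finset.sum_congr rfl fun θ _ => by rw [himg, ← Complex.mul_conj],
      column_orth_of_isConj (G := a.1) (IsConj.refl _)]
    congr 1
    rw [cu, ← Subgroup.card_map_of_injective (Subgroup.subtype_injective a.1)]
    refine congrArg (fun H : Subgroup G => Nat.card H) ?_
    ext w
    simp only [Subgroup.mem_map, Subgroup.mem_inf, Subgroup.mem_centralizer_singleton_iff]
    exact ⟨fun ⟨v, hv, e⟩ => e ▸ ⟨v.2, congrArg Subtype.val hv⟩,
      fun ⟨hw, he⟩ => ⟨⟨w, hw⟩, Subtype.ext he, rfl⟩⟩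
  have hsub : (Finset.univ : Finset (IrrCharacter a.1)).image Φ ⊆ Finset.univ.filter (· ∈ B) :=
    fun φ hφ => by
      obtain ⟨θ, -, rfl⟩ := Finset.mem_image.1 hφ
      exact Finset.mem_filter.2 ⟨Finset.mem_univ _, hΦB θ⟩
  rw [← Finset.sum_sdiff hsub, Finset.sum_image fun x _ y _ e => hinj e, hcol,
    add_eq_right] at hsum
  have hsum' : ∑ φ ∈ Finset.univ.filter (· ∈ B) \ Finset.univ.image Φ,
      Complex.normSq (r φ) = 0 := Complex.ofReal_injective (by rw [Complex.ofReal_sum]; simpa using hsum)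
  have h1 := (Finset.sum_eq_zero_iff_of_nonneg fun φ _ => Complex.normSq_nonneg _).1 hsum' ψ
    (Finset.mem_sdiff.2 ⟨Finset.mem_filter.2 ⟨Finset.mem_univ _, hψ⟩, fun h => by
      obtain ⟨θ, -, e⟩ := Finset.mem_image.1 h
      exact hne θ e⟩)
  have h2 := Complex.normSq_eq_zero.1 h1
  simp only [hr] at h2
  rwa [regPair_blockPart hM hb _ _ hvv] at h2

open scoped Classical in
/-- A further character is orthogonal to the height zero character on the regular elements. -/
theorem rest_orth (hM : IsPModular p M) (hB : IsPBlock M B) (hmax : IsMax p (Ek M B) a)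
    (hI : IsInner p a) (hχ : χ ∈ B) (hΦ : ∀ θ, (Φ θ : G → ℂ) = star p a (cfn a θ) χ)
    {ψ : IrrCharacter G} (hne : ∀ θ, Φ θ ≠ ψ) :
    ∑ x ∈ Finset.univ.filter (fun x : G => ¬ p ∣ orderOf x),
      (ψ : G → ℂ) x * conj ((χ : G → ℂ) x) = 0 := by
  classical
  have hG0 : (Nat.card G : ℂ) ≠ 0 := Nat.cast_ne_zero.2 Nat.card_pos.ne'
  have hP0 : (Nat.card a.1 : ℂ) ≠ 0 := Nat.cast_ne_zero.2 Nat.card_pos.ne'
  have h1 : ∀ θ : IrrCharacter a.1, ∑ x, (ψ : G → ℂ) x * conj ((Φ θ : G → ℂ) x) = 0 := fun θ => by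
    have h := classInner_irr_of_ne ψ.2 (Φ θ).2 fun e => hne θ (Subtype.ext e.symm)
    rw [classInner, mul_eq_zero] at h
    exact h.resolve_left (inv_ne_zero hG0)
  have h2 : ∑ θ : IrrCharacter a.1,
      conj ((θ : a.1 → ℂ) 1) * ∑ x, (ψ : G → ℂ) x * conj ((Φ θ : G → ℂ) x) = 0 :=
    Finset.sum_eq_zero fun θ _ => by rw [h1, mul_zero]
  simp only [Finset.mul_sum] at h2
  rw [Finset.sum_comm, Finset.sum_congr rfl fun x _ => show _ =
      (Nat.card a.1 : ℂ) * ((ψ : G → ℂ) x * conj (pRegularPart p (χ : G → ℂ) x)) by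
    rw [mul_left_comm, ← map_natCast (starRingEnd ℂ), ← map_mul,
      ← sum_degree_star hM hB hmax hI hχ x, map_sum, Finset.mul_sum]
    exact Finset.sum_congr rfl fun θ _ => by rw [hΦ, map_mul]; ring,
    ← Finset.mul_sum, mul_eq_zero, or_iff_right hP0] at h2
  rw [← h2, Finset.sum_filter]
  refine Finset.sum_congr rfl fun x _ => ?_
  by_cases hx : p ∣ orderOf x <;> simp [pRegularPart_apply, hx]

/-- A further character vanishes on the sections with local blocks of rank one. -/
theorem rest_vanish (hM : IsPModular p M) (hB : IsPBlock M B) (hmax : IsMax p (Ek M B) a)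
    (hI : IsInner p a) (hχ : χ ∈ B) (h0 : blockHeight p B (χ : G → ℂ) = 0)
    (hΦB : ∀ θ, Φ θ ∈ B) (hΦ : ∀ θ, (Φ θ : G → ℂ) = star p a (cfn a θ) χ)
    (hinj : Function.Injective Φ) {ψ : IrrCharacter G} (hψ : ψ ∈ B) (hne : ∀ θ, Φ θ ≠ ψ)
    {x : G} (hx : ∃ i, orderOf x = p ^ i)
    (hloc : ∀ b : Set (IrrCharacter (secC x)), IsPBlock M b →
      IsPairOf p ⊤ (Ek M B) (Subgroup.zpowers x, zB M (secC x) b) → blockRank p b = 1)
    (s : secC x) (hs : ¬ p ∣ orderOf s) : (ψ : G → ℂ) (x * (s : G)) = 0 := by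
  classical
  have hcl : IsClassFunction (secC x) (secFun x (secC x) (ψ : G → ℂ)) :=
    isClassFunction_secFun (secC_eq x) (IsCharacter.isClassFunction (irr_isCharacter ψ))
  rw [show (ψ : G → ℂ) (x * (s : G)) = secFun x (secC x) (ψ : G → ℂ) s from rfl,
    ← sum_blockPart (M := M) hcl s]
  refine Finset.sum_eq_zero fun b hb => ?_
  replace hb := mem_blocks.1 hb
  by_cases hp : IsPairOf p ⊤ (Ek M B) (Subgroup.zpowers x, zB M (secC x) b)
  · obtain ⟨g, hg, hk⟩ := exists_key_eq hmax hp
    have hrank := hloc b hb hp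
    generalize hu' : g⁻¹ * x * g = u at hg hk
    obtain ⟨hk1, hk2⟩ := Prod.mk.inj (hk.symm.trans (rfl : key p a (g, u) =
      ((key p a (g, u)).1, (key p a (g, u)).2)))
    subst hk1
    have hreg := ((equality hM hB hmax hI hχ h0 (g := g) hg).1 b hb hk2).1
    have horth := rest_regPair hM hB hmax hI hχ h0 hΦB hΦ hinj hψ hne hg hb hk2
    exact part_eq_zero hrank hreg horth hs
  · exact blockPart_eq_zero_of_not_pair hM hB hx hψ hb hp hs

end Rest

/-- Every character of the block is a product. -/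
theorem exists_structure (hM : IsPModular p M) (hB : IsPBlock M B) (hmax : IsMax p (Ek M B) a)
    (hI : IsInner p a)
    (hloc : ∀ x : G, (∃ i, orderOf x = p ^ i) → x ∉ Subgroup.center G →
      ∀ b : Set (IrrCharacter (secC x)), IsPBlock M b →
        IsPairOf p ⊤ (Ek M B) (Subgroup.zpowers x, zB M (secC x) b) → blockRank p b = 1)
    {χ : IrrCharacter G} (hχ : χ ∈ B) (h0 : blockHeight p B (χ : G → ℂ) = 0) :
    ∃ Φ : IrrCharacter a.1 → IrrCharacter G, (∀ θ, Φ θ ∈ B) ∧ Function.Injective Φ ∧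
      (∀ θ (x : G), ¬ p ∣ orderOf x → (Φ θ : G → ℂ) x = (θ : a.1 → ℂ) 1 * (χ : G → ℂ) x) ∧
      ∀ ψ ∈ B, ∃ θ, Φ θ = ψ := by
  classical
  have hp := hM.1
  obtain ⟨Φ, hΦB, hΦ, hinj⟩ := exists_phi hM hB hmax hI hχ h0
  have hregΦ : ∀ θ (x : G), ¬ p ∣ orderOf x →
      (Φ θ : G → ℂ) x = (θ : a.1 → ℂ) 1 * (χ : G → ℂ) x := fun θ x hx => by
    rw [hΦ, star_regular hM hB hmax (isStarFn_cfn hI θ) hχ hx, cfn_mem θ a.1.one_mem]
    rfl
  refine ⟨Φ, hΦB, hinj, hregΦ, ?_⟩
  by_contra hcon
  push Not at hcon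
  obtain ⟨ψ, hψ, hψne⟩ := hcon
  set R := Finset.univ.filter (fun x : G => ¬ p ∣ orderOf x) with hR
  have hRsum : ∀ {z : G}, z ∈ Subgroup.center G → ∀ f : G → ℂ,
      ∑ s ∈ (Finset.univ : Finset (secC z)).filter (fun s => ¬ p ∣ orderOf s), f (s : G) =
        ∑ s ∈ R, f s := by
    intro z hz f
    refine Finset.sum_bij (fun s _ => (s : G)) ?_ ?_ ?_ (fun _ _ => rfl)
    · intro s hs
      exact Finset.mem_filter.2 ⟨Finset.mem_univ _, by
        rw [Subgroup.orderOf_coe]; exact (Finset.mem_filter.1 hs).2⟩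
    · exact fun s _ t _ e => Subtype.ext e
    · intro s hs
      refine ⟨⟨s, mem_secC.2 (Subgroup.mem_center_iff.1 hz s)⟩,
        Finset.mem_filter.2 ⟨Finset.mem_univ _, ?_⟩, rfl⟩
      rw [← Subgroup.orderOf_coe]
      exact (Finset.mem_filter.1 hs).2
  -- the function supported on the central sections
  set F : G → ℂ := fun g => if pp p g ∈ Subgroup.center G then (ψ : G → ℂ) (rp p g) else 0 with hF
  have hFcl : IsClassFunction G F := by
    intro g h
    simp only [hF, pp_conj, rp_conj]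
    have hiff : h * pp p g * h⁻¹ ∈ Subgroup.center G ↔ pp p g ∈ Subgroup.center G :=
      ⟨fun e => by
        have := (inferInstance : (Subgroup.center G).Normal).conj_mem _ e h⁻¹
        simpa [mul_assoc] using this,
      fun e => (inferInstance : (Subgroup.center G).Normal).conj_mem _ e h⟩
    simp only [hiff, IsCharacter.isClassFunction (irr_isCharacter ψ) (rp p g) h]
  have hF1 : F 1 ≠ 0 := by
    have hsec : IsSec p (1 : G) 1 := ⟨⟨0, by simp⟩, by simp [hp.ne_one], Commute.one_left 1⟩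
    have h1 : pp p (1 : G) = 1 := by
      have h := hsec.pp_eq
      rwa [one_mul] at h
    simp only [hF, rp, h1, one_mem, if_true, inv_one, one_mul]
    exact irr_one_ne_zero ψ
  obtain ⟨φ, hφF⟩ : ∃ φ : IrrCharacter G, classInner F (φ : G → ℂ) ≠ 0 := by
    by_contra hall
    push Not at hall
    refine hF1 ?_
    rw [classFunction_eq_sum hFcl]
    simp [hall]
  obtain ⟨S⟩ : Nonempty (Sylow p G) := inferInstance
  set Z : Subgroup G := (S : Subgroup G) ⊓ Subgroup.center G with hZ
  have hmemZ : ∀ {x : G}, (∃ i, orderOf x = p ^ i) → x ∈ Subgroup.center G → x ∈ Z := by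
    rintro x ⟨i, hi⟩ hx
    refine ⟨?_, hx⟩
    have hz : IsPGroup p (Subgroup.zpowers x) :=
      IsPGroup.of_card (n := i) (by rw [Nat.card_zpowers, hi])
    have hn : Subgroup.zpowers x ≤ Subgroup.normalizer ((S : Subgroup G) : Set G) :=
      Subgroup.zpowers_le.2 (Subgroup.center_le_normalizer _ hx)
    have h := S.is_maximal' (hz.to_sup_of_normal_right' S.2 hn) le_sup_right
    exact h.le (Subgroup.mem_sup_left (Subgroup.mem_zpowers x))
  have hZp : ∀ {x : G}, x ∈ Z → ∃ i, orderOf x = p ^ i := by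
    intro x hx
    obtain ⟨i, hi⟩ := IsPGroup.iff_orderOf.1 S.2 ⟨x, hx.1⟩
    exact ⟨i, by rwa [← Subgroup.orderOf_coe] at hi⟩
  choose c hc using fun z : Z => IsIrrCharacter.exists_central_scalar φ.2 z.2.2
  set T : ℂ := ∑ s ∈ R, (ψ : G → ℂ) s * conj ((φ : G → ℂ) s) with hT
  have hinner : classInner F (φ : G → ℂ) =
      (Nat.card G : ℂ)⁻¹ * ((∑ z : Z, conj (c z)) * T) := by
    rw [classInner]
    congr 1
    rw [sum_eq_sum_sections (p := p), Finset.sum_mul]
    rw [← Finset.sum_subset (Finset.subset_univ (Finset.univ.filter (· ∈ Z))) (fun x _ hx => ?_),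
      Finset.sum_subtype _ (p := (· ∈ Z)) (fun x => by simp)]
    · refine Finset.sum_congr rfl fun z _ => ?_
      rw [if_pos (hZp z.2), hT, ← hRsum z.2.2 fun s => (ψ : G → ℂ) s * conj ((φ : G → ℂ) s),
        Finset.mul_sum]
      refine Finset.sum_congr rfl fun s hs => ?_
      have hsec : IsSec p (z : G) (s : G) := ⟨hZp z.2, by
        rw [Subgroup.orderOf_coe]; exact (Finset.mem_filter.1 hs).2, (mem_secC.1 s.2).symm⟩
      have hzc : (z : G) ∈ Subgroup.center G := z.2.2
      simp only [hF, hsec.pp_eq, hsec.rp_eq, hzc, if_true, (hc z).2.1, map_mul]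
      ring
    · split_ifs with hxp
      · refine Finset.sum_eq_zero fun s hs => ?_
        have hsec : IsSec p x (s : G) := ⟨hxp, by
          rw [Subgroup.orderOf_coe]; exact (Finset.mem_filter.1 hs).2, (mem_secC.1 s.2).symm⟩
        have hxc : x ∉ Subgroup.center G := fun h =>
          hx (Finset.mem_filter.2 ⟨Finset.mem_univ _, hmemZ hxp h⟩)
        simp only [hF, hsec.pp_eq, if_neg hxc, zero_mul]
      · rfl
  rw [hinner] at hφF
  have hT0 : T ≠ 0 := fun h => hφF (by rw [h, mul_zero, mul_zero])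
  have hC0 : ∑ z : Z, conj (c z) ≠ 0 := fun h => hφF (by rw [h, zero_mul, mul_zero])
  have hφB : φ ∈ B := by
    by_contra h
    exact hT0 (sum_regular_eq_zero hM fun hs => h (isPBlock_mem_of_sameBlock hB hψ hs))
  have hφne : ∀ θ, Φ θ ≠ φ := fun θ e => hT0 (by
    rw [hT, Finset.sum_congr rfl fun s hs => by
      rw [← e, hregΦ θ s (Finset.mem_filter.1 hs).2, map_mul, mul_left_comm], ← Finset.mul_sum,
      hR, rest_orth hM hB hmax hI hχ hΦ hψne, mul_zero])
  have horth : ∑ s ∈ R, (φ : G → ℂ) s * conj ((χ : G → ℂ) s) = 0 :=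
    rest_orth hM hB hmax hI hχ hΦ hφne
  have hφ1 := irr_one_ne_zero φ
  have hc1 : ∀ z : Z, c z = 1 := by
    intro w
    have hmul : ∀ z : Z, c (w * z) = c w * c z := fun z => by
      refine mul_right_cancel₀ hφ1 ?_
      rw [← (hc (w * z)).2.1, Subgroup.coe_mul, mul_assoc, (hc w).2.1, (hc z).2.1]
      ring
    have h1 : conj (c w) * ∑ z : Z, conj (c z) = ∑ z : Z, conj (c z) := by
      rw [Finset.mul_sum]
      exact Fintype.sum_equiv (Equiv.mulLeft w) _ _ fun z => by
        rw [Equiv.coe_mulLeft, hmul, map_mul]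
    have h2 := mul_right_cancel₀ hC0 (h1.trans (one_mul _).symm)
    rw [← Complex.conj_conj (c w), h2, map_one]
  have hcz : ∀ {z : G}, z ∈ Z → ∀ g, (φ : G → ℂ) (z * g) = (φ : G → ℂ) g := fun {z} hz g => by
    rw [(hc ⟨z, hz⟩).2.1, hc1, one_mul]
  have hvan : ∀ {x : G}, (∃ i, orderOf x = p ^ i) → x ∉ Z → ∀ s : secC x, ¬ p ∣ orderOf s →
      (φ : G → ℂ) (x * (s : G)) = 0 := fun {x} hx hxZ s hs =>
    rest_vanish hM hB hmax hI hχ h0 hΦB hΦ hinj hφB hφne hx
      (hloc x hx fun h => hxZ (hmemZ hx h)) s hs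
  -- the degree
  obtain ⟨n, hn⟩ := IsCharacter.exists_classInner_nat
    (IsCharacter.restrict (irr_isCharacter φ) (S : Subgroup G))
    (IsIrrCharacter.isCharacter (isIrrCharacter_one (G := (S : Subgroup G))))
  have hSsum : ∑ y : (S : Subgroup G), (φ : G → ℂ) (y : G) =
      (Nat.card Z : ℂ) * (φ : G → ℂ) 1 := by
    rw [← Finset.sum_subset (Finset.subset_univ (Finset.univ.filter fun y : (S : Subgroup G) =>
      (y : G) ∈ Z)) (fun y _ hy => ?_)]
    · rw [Finset.sum_congr rfl fun y hy => by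
        rw [← mul_one (y : G), hcz (Finset.mem_filter.1 hy).2], Finset.sum_const, nsmul_eq_mul]
      congr 2
      rw [← Fintype.card_subtype, ← Nat.card_eq_fintype_card]
      exact Nat.card_congr ⟨fun y => ⟨(y.1 : G), y.2⟩, fun z => ⟨⟨z, z.2.1⟩, z.2⟩,
        fun _ => rfl, fun _ => rfl⟩
    · obtain ⟨i, hi⟩ := IsPGroup.iff_orderOf.1 S.2 y
      rw [← Subgroup.orderOf_coe] at hi
      rw [← mul_one (y : G)]
      exact hvan ⟨i, hi⟩ (fun h => hy (Finset.mem_filter.2 ⟨Finset.mem_univ _, h⟩)) 1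
        (by simp [hp.ne_one])
  rw [classInner] at hn
  simp only [map_one, mul_one] at hn
  rw [hSsum, irr_one_eq_charDegree φ, inv_mul_eq_iff_eq_mul₀ (Nat.cast_ne_zero.2 Nat.card_pos.ne'),
    ← Nat.cast_mul, ← Nat.cast_mul, Nat.cast_inj] at hn
  -- the norm
  set Rn : ℂ := ∑ s ∈ R, (φ : G → ℂ) s * conj ((φ : G → ℂ) s) with hRn
  have hG : (Nat.card G : ℂ) = (Nat.card Z : ℂ) * Rn := by
    have h := classInner_self_irr φ.2
    rw [classInner, inv_mul_eq_iff_eq_mul₀ (Nat.cast_ne_zero.2 Nat.card_pos.ne'), mul_one,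
      sum_eq_sum_sections (p := p),
      ← Finset.sum_subset (Finset.subset_univ (Finset.univ.filter (· ∈ Z))) (fun x _ hx => ?_),
      Finset.sum_congr rfl fun z hz => show _ = Rn by
        have hz' := (Finset.mem_filter.1 hz).2
        rw [if_pos (hZp hz'), Finset.sum_congr rfl fun s _ => by rw [hcz hz'],
          hRsum hz'.2 fun s => (φ : G → ℂ) s * conj ((φ : G → ℂ) s)],
      Finset.sum_const, nsmul_eq_mul, ← Fintype.card_subtype, ← Nat.card_eq_fintype_card] at h
    · exact h.symm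
    · split_ifs with hxp
      · refine Finset.sum_eq_zero fun s hs => ?_
        rw [hvan hxp (fun h => hx (Finset.mem_filter.2 ⟨Finset.mem_univ _, h⟩)) s
          (Finset.mem_filter.1 hs).2, zero_mul]
      · rfl
  -- the central character
  set X := regElt M p (φ : G → ℂ) (irr_isCharacter φ) with hX
  have hord : ((ordPrime p G : ℕ) : ℂ) ≠ 0 := Nat.cast_ne_zero.2 ordPrime_ne_zero
  have hω0 : omegaR χ X = 0 := by
    have h := classInner_regTr_eq hM (irr_isCharacter φ) χ
    rw [classInner_regTr hp, show (Finset.univ.filter fun x : G => ¬ p ∣ orderOf x) = R from rfl,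
      horth, zero_div] at h
    simpa [irr_one_ne_zero χ, hord] using h.symm
  have hω1 : omegaR φ X = Rn / (φ : G → ℂ) 1 := by
    have h := classInner_regTr_eq hM (irr_isCharacter φ) φ
    rw [classInner_regTr hp, show (Finset.univ.filter fun x : G => ¬ p ∣ orderOf x) = R from rfl,
      ← hRn, div_eq_mul_inv] at h
    rw [eq_div_iff hφ1]
    exact (mul_right_cancel₀ (inv_ne_zero hord) h).symm
  have hideal := omegaR_congr (isPBlock_sameBlock hB hφB hχ) (isClassElt_regElt (M := M) (p := p)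
    (irr_isCharacter φ))
  rw [← hX, hω0, sub_zero, hω1] at hideal
  have hZ0 : (Nat.card Z : ℂ) ≠ 0 := Nat.cast_ne_zero.2 Nat.card_pos.ne'
  refine not_memLocalIdeal_natDiv hM (m := Nat.card Z * charDegree (φ : G → ℂ))
    (n := Nat.card G) (mul_ne_zero Nat.card_pos.ne' (charDegree_pos φ).ne') Nat.card_pos.ne' ?_ ?_
  · refine (hp.pow_dvd_iff_le_factorization
      (mul_ne_zero Nat.card_pos.ne' (charDegree_pos φ).ne')).1 ?_
    rw [← S.card_eq_multiplicity, hn]
    exact Dvd.intro _ rfl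
  · rw [Nat.cast_mul, hG, ← irr_one_eq_charDegree φ, mul_div_mul_left _ _ hZ0]
    exact hideal

end Cfsg.Agent.NilpotentStructure
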