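/-
A nilpotent block has a single Brauer character and as many characters as its defect group.
-/
import Cfsg.Agent.Lib.BrauerPairs.NilpotentStructure

set_option linter.unusedSectionVars false
set_option linter.style.haveILetI false

namespace Cfsg.Agent.NilpotentMain

open Cfsg Cfsg.Agent.Blocks Cfsg.Agent.BrauerPairs Cfsg.Agent.Char Cfsg.Agent.Star
  Cfsg.Agent.NilpotentKeys Cfsg.Agent.NilpotentStructure

universe u

variable {G : Type u} [Group G] [Fintype G] {p : ℕ} [Fact p.Prime] {M : Ideal AlgInt} [M.IsPrime]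
  {B : Set (IrrCharacter G)}

/-- The regular parts of a structured block are multiples of one of them. -/
theorem blockRank_of_multiples {χ : IrrCharacter G} (hχ : χ ∈ B)
    (h : ∀ ψ ∈ B, ∃ d : ℕ, ∀ x : G,
      pRegularPart p (ψ : G → ℂ) x = (d : ℂ) * pRegularPart p (χ : G → ℂ) x) :
    blockRank p B = 1 := by
  have hne : pRegularPart p (χ : G → ℂ) ≠ 0 := fun e => by
    have h1 := congrFun e 1
    rw [pRegularPart_apply, if_neg (by simp [(Fact.out : p.Prime).ne_one])] at h1
    exact irr_one_ne_zero χ h1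
  rw [blockRank, show Submodule.span ℂ ((fun φ : IrrCharacter G => pRegularPart p (φ : G → ℂ)) '' B) =
    ℂ ∙ pRegularPart p (χ : G → ℂ) from le_antisymm (Submodule.span_le.2 ?_)
      (Submodule.span_mono (Set.singleton_subset_iff.2 ⟨χ, hχ, rfl⟩))]
  · exact finrank_span_singleton hne
  · rintro _ ⟨ψ, hψ, rfl⟩
    obtain ⟨d, hd⟩ := h ψ hψ
    exact Submodule.mem_span_singleton.2 ⟨(d : ℂ), funext fun x => (hd x).symm⟩

theorem multiples_of_structure [CharP (resField M) p] {a : Pr (resField M) G} {χ : IrrCharacter G}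
    {Φ : IrrCharacter a.1 → IrrCharacter G}
    (hreg : ∀ θ (x : G), ¬ p ∣ orderOf x →
      (Φ θ : G → ℂ) x = (θ : a.1 → ℂ) 1 * (χ : G → ℂ) x)
    (hsurj : ∀ ψ ∈ B, ∃ θ, Φ θ = ψ) :
    ∀ ψ ∈ B, ∃ d : ℕ, ∀ x : G,
      pRegularPart p (ψ : G → ℂ) x = (d : ℂ) * pRegularPart p (χ : G → ℂ) x := by
  classical
  intro ψ hψ
  obtain ⟨θ, rfl⟩ := hsurj ψ hψ
  refine ⟨charDegree (θ : a.1 → ℂ), fun x => ?_⟩
  rw [pRegularPart_apply, pRegularPart_apply]
  split_ifs with hx
  · rw [mul_zero]
  · rw [hreg θ x hx, irr_one_eq_charDegree θ]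

/-- The local blocks of a nilpotent block are nilpotent. -/
theorem isNilpotentBlock_local (hM : IsPModular p M) [CharP (resField M) p]
    (hn : IsNilB p ⊤ (Ek M B)) {x : G} {b : Set (IrrCharacter (secC x))} (hb : IsPBlock M b)
    (hp : IsPairOf p ⊤ (Ek M B) (Subgroup.zpowers x, zB M (secC x) b)) :
    IsNilpotentBlock p M b := by
  refine isNilpotentBlock_of_isNilB hM hb ?_
  have h := hn.centralizer hp
  simpa only [secC, top_inf_eq] using h

theorem blockRank_eq_one_of_nilpotent (hM : IsPModular p M) (hn : IsNilpotentBlock p M B) :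
    blockRank p B = 1 := by
  induction hN : Nat.card G using Nat.strong_induction_on generalizing G with
  | _ N ih =>
    classical
    haveI : CharP (resField M) p := resField_charP hM
    obtain ⟨hB, hnB⟩ := (isNilpotentBlock_iff hM).1 hn
    obtain ⟨P, hP⟩ := exists_isDefectGroup (p := p) hB
    have hD := (isDefectGroup_iff hB P).1 hP
    obtain ⟨e, he⟩ := exists_pairOf_defGrp (isBlk_Ek hB) hD
    have hmax : IsMax p (Ek M B) (P, e) := ⟨he, hD⟩
    obtain ⟨χ, hχ, h0⟩ := exists_heightZero hM hB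
    obtain ⟨Φ, -, -, hreg, hsurj⟩ := exists_structure hM hB hmax
      (isInner_of_isNilB hmax hnB) (fun x _ hxZ b hb hp => by
        refine ih (Nat.card (secC x)) ?_ (isNilpotentBlock_local hM hnB hb hp) rfl
        rw [← hN]
        refine lt_of_le_of_ne (Subgroup.card_le_card_group _) fun heq => hxZ ?_
        have htop := Subgroup.eq_top_of_card_eq _ heq
        exact Subgroup.mem_center_iff.2 fun g =>
          mem_secC.1 (show g ∈ secC x from htop ▸ Subgroup.mem_top g)) hχ h0
    exact blockRank_of_multiples hχ (multiples_of_structure hreg hsurj)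

/-- The characters of a nilpotent block. -/
theorem exists_nilpotent_structure (hM : IsPModular p M) [CharP (resField M) p]
    (hn : IsNilpotentBlock p M B) {a : Pr (resField M) G} (hmax : IsMax p (Ek M B) a) :
    ∃ χ ∈ B, blockHeight p B (χ : G → ℂ) = 0 ∧ ∃ Φ : IrrCharacter a.1 → IrrCharacter G,
      (∀ θ, Φ θ ∈ B) ∧ Function.Injective Φ ∧
      (∀ θ (x : G), ¬ p ∣ orderOf x → (Φ θ : G → ℂ) x = (θ : a.1 → ℂ) 1 * (χ : G → ℂ) x) ∧
      ∀ ψ ∈ B, ∃ θ, Φ θ = ψ := by
  obtain ⟨hB, hnB⟩ := (isNilpotentBlock_iff hM).1 hn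
  obtain ⟨χ, hχ, h0⟩ := exists_heightZero hM hB
  exact ⟨χ, hχ, h0, exists_structure hM hB hmax (isInner_of_isNilB hmax hnB)
    (fun x _ _ b hb hp =>
      blockRank_eq_one_of_nilpotent hM (isNilpotentBlock_local hM hnB hb hp)) hχ h0⟩

/-- The heights are the degrees on the defect group. -/
theorem height_eq (hM : IsPModular p M) (hB : IsPBlock M B) {H : Type u} [Group H] [Fintype H]
    {θ : IrrCharacter H} {χ ψ : IrrCharacter G} (hχ : χ ∈ B) (hψ : ψ ∈ B)
    (h0 : blockHeight p B (χ : G → ℂ) = 0)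
    (h1 : (ψ : G → ℂ) 1 = (θ : H → ℂ) 1 * (χ : G → ℂ) 1) :
    blockHeight p B (ψ : G → ℂ) = (charDegree (θ : H → ℂ)).factorization p := by
  rw [irr_one_eq_charDegree ψ, irr_one_eq_charDegree θ, irr_one_eq_charDegree χ, ← Nat.cast_mul,
    Nat.cast_inj] at h1
  have e := congrArg (fun n => Nat.factorization n p) h1
  simp only [Nat.factorization_mul (charDegree_pos θ).ne' (charDegree_pos χ).ne',
    Finsupp.add_apply, degExp_eq_add_height hM hB hψ, degExp_eq_add_height hM hB hχ, h0] at e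
  omega

end Cfsg.Agent.NilpotentMain
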