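/-
A dihedral subgroup: regular automorphisms fixing the central involution, and the fusion of the
cyclic part in a block.
-/
import Cfsg.Agent.Lib.BrauerPairs.NilpotentMain
import Cfsg.Agent.Lib.TwoGroups.FusionData

set_option linter.unusedSectionVars false
set_option linter.style.haveILetI false

namespace Cfsg.Agent.DihedralFusion

open Cfsg MonoidAlgebra Cfsg.Agent.Blocks Cfsg.Agent.BrauerPairs Cfsg.Agent.TwoFus

universe u

variable {G : Type u} [Group G] [Finite G]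

theorem exists_data {S : Subgroup G} {m : ℕ} (hm : 2 ≤ m) (heven : 2 ∣ m)
    (eS : S ≃* DihedralGroup m) : ∃ d : Dih S, d.m = m := by
  haveI : NeZero m := ⟨by omega⟩
  set f : DihedralGroup m →* G := S.subtype.comp eS.symm.toMonoidHom with hf
  have inj : Function.Injective f := Subtype.val_injective.comp eS.symm.injective
  have hcard : Nat.card S = 2 * m := by
    rw [Nat.card_congr eS.toEquiv, DihedralGroup.nat_card]
  refine ⟨⟨m, f (.r 1), f (.sr 0), heven, hm, ?_, (eS.symm _).2, (eS.symm _).2, ?_, ?_, ?_, hcard,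
    ?_⟩, rfl⟩
  · rw [orderOf_injective f inj, DihedralGroup.orderOf_r_one]
  · rw [← map_mul, DihedralGroup.sr_mul_sr, sub_self, ← DihedralGroup.one_def, map_one]
  · rw [← map_inv, ← map_inv, ← map_mul, ← map_mul]
    congr 1
    simp
  · intro h
    obtain ⟨n, hn⟩ := mem_powers_iff_mem_zpowers.mpr h
    have hn' : f ((DihedralGroup.r 1) ^ n) = f (.sr 0) := (map_pow f _ n).trans hn
    have h2 := inj hn'
    rw [DihedralGroup.r_one_pow] at h2
    exact absurd h2 (by simp)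
  · intro a ha
    have he : a = f (eS ⟨a, ha⟩) := by simp [f]
    rcases hq : eS ⟨a, ha⟩ with i | i
    · refine Or.inl ⟨(i.val : ℤ), ?_⟩
      rw [he, hq, zpow_natCast, ← map_pow, DihedralGroup.r_one_pow, ZMod.natCast_zmod_val]
    · refine Or.inr ⟨((-i).val : ℤ), ?_⟩
      rw [he, hq, zpow_natCast, ← map_pow, ← map_mul, DihedralGroup.r_one_pow,
        ZMod.natCast_zmod_val, DihedralGroup.r_mul_sr, zero_sub, neg_neg]

variable {S : Subgroup G} (d : Dih S)

theorem mem_zpowers_of_sq {a : G} (ha : a ∈ S) (h : a * a ≠ 1) : a ∈ Subgroup.zpowers d.x := by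
  by_contra hn
  exact h (d.out_sq a ha hn)

theorem sq_one_cases {h : ℕ} (hh : d.m = 2 * h) {a : G} (ha : a ∈ Subgroup.zpowers d.x)
    (h2 : a * a = 1) : a = 1 ∨ a = d.x ^ h := by
  obtain ⟨n, rfl⟩ := mem_powers_iff_mem_zpowers.mpr ha
  simp only at h2 ⊢
  rw [← pow_add] at h2
  have hd := orderOf_dvd_of_pow_eq_one h2
  rw [d.hm, hh, ← two_mul] at hd
  obtain ⟨c, hc⟩ := Nat.dvd_of_mul_dvd_mul_left two_pos hd
  rw [hc]
  rcases Nat.even_or_odd' c with ⟨e, rfl | rfl⟩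
  · left
    rw [show h * (2 * e) = d.m * e by rw [hh]; ring, pow_mul, ← d.hm, pow_orderOf_eq_one, one_pow]
  · right
    rw [show h * (2 * e + 1) = d.m * e + h by rw [hh]; ring, pow_add, pow_mul, ← d.hm,
      pow_orderOf_eq_one, one_pow, one_mul]

/-- Cyclic subgroups of the cyclic part of the same order are equal. -/
theorem zpowers_eq_of_order {v w : G} (hv : v ∈ Subgroup.zpowers d.x)
    (hw : w ∈ Subgroup.zpowers d.x) (ho : orderOf v = orderOf w) :
    Subgroup.zpowers v = Subgroup.zpowers w := by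
  have hdvd : orderOf v ∣ d.m := d.hm ▸ orderOf_dvd_of_mem_zpowers hv
  obtain ⟨q, hq⟩ := hdvd
  have hm0 : d.m ≠ 0 := by have := d.two_le; omega
  have hN0 : orderOf v ≠ 0 := left_ne_zero_of_mul (hq ▸ hm0)
  have hsub : ∀ {a : G}, a ∈ Subgroup.zpowers d.x → orderOf a = orderOf v →
      Subgroup.zpowers a = Subgroup.zpowers (d.x ^ q) := by
    intro a ha hao
    obtain ⟨n, rfl⟩ := mem_powers_iff_mem_zpowers.mpr ha
    simp only at hao ⊢
    have h1 : d.x ^ (n * orderOf v) = 1 := by rw [pow_mul, ← hao, pow_orderOf_eq_one]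
    have h2 := orderOf_dvd_of_pow_eq_one h1
    rw [d.hm, hq, mul_comm (orderOf v) q] at h2
    obtain ⟨c, rfl⟩ := Nat.dvd_of_mul_dvd_mul_right (Nat.pos_of_ne_zero hN0) h2
    refine Subgroup.eq_of_le_of_card_ge
      (Subgroup.zpowers_le.2 (by rw [pow_mul]; exact Subgroup.npow_mem_zpowers _ _)) ?_
    rw [Nat.card_zpowers, Nat.card_zpowers, hao, orderOf_pow' _ (right_ne_zero_of_mul (hq ▸ hm0)),
      d.hm, hq, Nat.gcd_eq_right (dvd_mul_left _ _), Nat.mul_div_cancel _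
      (Nat.pos_of_ne_zero (right_ne_zero_of_mul (hq ▸ hm0)))]
  rw [hsub hv rfl, hsub hw ho.symm]

theorem pow_two_power_congr {k : ℤ} (hk : ¬ (2 : ℤ) ∣ k) : ∀ t : ℕ,
    (2 : ℤ) ^ (t + 1) ∣ k ^ (2 ^ t) - 1 := by
  intro t
  induction t with
  | zero => simp; omega
  | succ t ih =>
    obtain ⟨a, ha⟩ := ih
    rw [pow_succ 2 t, pow_mul, show k ^ (2 ^ t) = 1 + 2 ^ (t + 1) * a by linarith]
    exact ⟨a + 2 ^ t * a ^ 2, by ring⟩

/-- Conjugation fixes an element when it maps it into its own cyclic group and has odd order. -/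
theorem fixed_of_odd {g r : G} {s : ℕ} (hr : orderOf r = 2 ^ s)
    (hg : ¬ 2 ∣ orderOf g) (h : g * r * g⁻¹ ∈ Subgroup.zpowers r) : g * r * g⁻¹ = r := by
  obtain ⟨k, hk⟩ := Subgroup.mem_zpowers_iff.1 h
  have hiter : ∀ n : ℕ, g ^ n * r * (g ^ n)⁻¹ = r ^ (k ^ n) := by
    intro n
    induction n with
    | zero => simp
    | succ n ih =>
      rw [pow_succ' g, show g * g ^ n * r * (g * g ^ n)⁻¹ = g * (g ^ n * r * (g ^ n)⁻¹) * g⁻¹ by group,
        ih, ← conj_zpow, ← hk, ← zpow_mul, pow_succ']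
  have hN := hiter (orderOf g)
  rw [pow_orderOf_eq_one, one_mul, inv_one, mul_one] at hN
  rcases Nat.eq_zero_or_pos s with rfl | hs
  · obtain rfl : r = 1 := orderOf_eq_one_iff.1 (by simpa using hr)
    group
  have hdvd : ((2 : ℤ) ^ s) ∣ k ^ orderOf g - 1 := by
    have h1 : r ^ (k ^ orderOf g - 1) = 1 := by rw [zpow_sub_one, ← hN, mul_inv_cancel]
    have h2 := orderOf_dvd_iff_zpow_eq_one.2 h1
    rw [hr] at h2
    exact_mod_cast h2
  have hkodd : ¬ (2 : ℤ) ∣ k := fun hd => by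
    have h1 := (dvd_pow_self (2 : ℤ) hs.ne').trans hdvd
    have h2 : (2 : ℤ) ∣ k ^ orderOf g := hd.trans (dvd_pow_self k (orderOf_pos g).ne')
    omega
  rw [← geom_sum_mul] at hdvd
  have hS : ¬ (2 : ℤ) ∣ ∑ i ∈ Finset.range (orderOf g), k ^ i := fun hd => by
    have h1 : (2 : ℤ) ∣ ∑ i ∈ Finset.range (orderOf g), (k ^ i - 1) :=
      Finset.dvd_sum fun i _ => (show (2 : ℤ) ∣ k - 1 by omega).trans (sub_one_dvd_pow_sub_one k i)
    rw [Finset.sum_sub_distrib, Finset.sum_const, Finset.card_range, nsmul_eq_mul, mul_one] at h1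
    omega
  have hco : IsCoprime ((2 : ℤ) ^ s) (∑ i ∈ Finset.range (orderOf g), k ^ i) :=
    IsCoprime.pow_left ((Int.prime_two.coprime_iff_not_dvd).2 hS)
  have hk1 := hco.dvd_of_dvd_mul_left hdvd
  rw [← hk]
  conv_rhs => rw [← zpow_one r]
  refine zpow_eq_zpow_iff_modEq.2 ?_
  rw [hr]
  exact (Int.modEq_iff_dvd.2 (by push_cast; exact hk1)).symm

/-- A regular element centralising the central involution and normalising a subgroup of the
dihedral group centralises it. -/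
theorem regular_fix {s h : ℕ} (hms : d.m = 2 ^ s) (hh : d.m = 2 * h) {Q : Subgroup G} (hQ : Q ≤ S)
    {g : G} (hg : g ∈ Subgroup.normalizer (Q : Set G)) (hodd : ¬ 2 ∣ orderOf g)
    (hz : g * d.x ^ h * g⁻¹ = d.x ^ h) : g ∈ Subgroup.centralizer (Q : Set G) := by
  have hmem : ∀ {q}, q ∈ Q → g * q * g⁻¹ ∈ Q := fun {q} hq =>
    (Subgroup.mem_normalizer_iff.1 hg q).1 hq
  have hfix : ∀ r ∈ Q, r ∈ Subgroup.zpowers d.x → g * r * g⁻¹ = r := by
    intro r hr hrx
    by_cases hr2 : r * r = 1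
    · rcases sq_one_cases d hh hrx hr2 with rfl | rfl
      · group
      · exact hz
    have hne : g * r * g⁻¹ * (g * r * g⁻¹) ≠ 1 := fun e => hr2 (by
      calc r * r = g⁻¹ * (g * r * g⁻¹ * (g * r * g⁻¹)) * g := by group
        _ = 1 := by rw [e]; group)
    obtain ⟨t, -, ht⟩ := (Nat.dvd_prime_pow Nat.prime_two).1
      (show orderOf r ∣ 2 ^ s from hms ▸ d.hm ▸ orderOf_dvd_of_mem_zpowers hrx)
    refine fixed_of_odd ht hodd ?_
    rw [← zpowers_eq_of_order d (mem_zpowers_of_sq d (hQ (hmem hr)) hne) hrx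
      (by rw [← MulAut.conj_apply, MulEquiv.orderOf_eq])]
    exact Subgroup.mem_zpowers _
  refine Subgroup.mem_centralizer_iff.2 fun q hq => ?_
  suffices e : g * q * g⁻¹ = q by exact (mul_inv_eq_iff_eq_mul.1 e).symm
  by_cases hqx : q ∈ Subgroup.zpowers d.x
  · exact hfix q hq hqx
  have hq' : g * q * g⁻¹ ∉ Subgroup.zpowers d.x := fun hm => hqx (by
    have := hfix _ (hmem hq) hm
    rwa [show q = g * q * g⁻¹ from mul_left_cancel (a := g) (mul_right_cancel (b := g⁻¹) this.symm)])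
  set ρ := q⁻¹ * (g * q * g⁻¹) with hρ
  have hρx : ρ ∈ Subgroup.zpowers d.x := d.idx q (hQ hq) _ (hQ (hmem hq)) hqx hq'
  have hρQ : ρ ∈ Q := mul_mem (inv_mem hq) (hmem hq)
  have hfρ := hfix ρ hρQ hρx
  have hiter : ∀ n : ℕ, g ^ n * q * (g ^ n)⁻¹ = q * ρ ^ n := by
    intro n
    induction n with
    | zero => simp
    | succ n ih =>
      rw [pow_succ' g, show g * g ^ n * q * (g * g ^ n)⁻¹ = g * (g ^ n * q * (g ^ n)⁻¹) * g⁻¹ by group,
        ih, show g * (q * ρ ^ n) * g⁻¹ = g * q * g⁻¹ * (g * ρ ^ n * g⁻¹) by group, ← conj_pow, hfρ,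
        show g * q * g⁻¹ = q * ρ by rw [hρ]; group, pow_succ']
      group
  have hN := hiter (orderOf g)
  rw [pow_orderOf_eq_one, one_mul, inv_one, mul_one] at hN
  have h1 : orderOf ρ ∣ orderOf g := orderOf_dvd_of_pow_eq_one (left_eq_mul.1 hN)
  have h2 : orderOf ρ ∣ 2 ^ s := hms ▸ d.hm ▸ orderOf_dvd_of_mem_zpowers hρx
  have hρ1 : ρ = 1 := by
    rw [← orderOf_eq_one_iff]
    exact Nat.eq_one_of_dvd_coprimes
      ((Nat.prime_two.coprime_iff_not_dvd.2 hodd).pow_left s) h2 h1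
  rw [show g * q * g⁻¹ = q * ρ by rw [hρ]; group, hρ1, mul_one]

variable {G : Type u} [Group G] [Fintype G] {k : Type*} [Field k] [SplitCenter k G] [CharP k 2]
  {B : MonoidAlgebra k G} {a : Pr k G}

/-- The cyclic part is only fused to inverses. -/
theorem fusion_pm (hmax : IsMax 2 B a) (d : Dih a.1) {u g : G} (hu : u ∈ Subgroup.zpowers d.x)
    (hu2 : u * u ≠ 1) {f : MonoidAlgebra k G} (hb : SubLE 2 ⊤ (Subgroup.zpowers u, f) a)
    (hgb : SubLE 2 ⊤ (cjP g ((Subgroup.zpowers u, f) : Pr k G)) a) :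
    g * u * g⁻¹ = u ∨ g * u * g⁻¹ = u⁻¹ := by
  haveI : Fact (Nat.Prime 2) := ⟨Nat.prime_two⟩
  set P := Subgroup.zpowers u with hP
  have hconj : ∀ c : G, SubLE 2 ⊤ (cjP c ((P, f) : Pr k G)) a → cjS c P = P := by
    intro c hc
    have hmem : c * u * c⁻¹ ∈ a.1 := hc.le (mem_cjS_of_eq (Subgroup.mem_zpowers u))
    have hne : c * u * c⁻¹ * (c * u * c⁻¹) ≠ 1 := fun e => hu2 (by
      calc u * u = c⁻¹ * (c * u * c⁻¹ * (c * u * c⁻¹)) * c := by group
        _ = 1 := by rw [e]; group)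
    rw [hP, show cjS c (Subgroup.zpowers u) = Subgroup.zpowers (c * u * c⁻¹) from
      MonoidHom.map_zpowers _ u]
    exact zpowers_eq_of_order d (mem_zpowers_of_sq d hmem hne) hu
      (by rw [← MulAut.conj_apply, MulEquiv.orderOf_eq])
  have hPa : P ≤ a.1 := hb.le
  have hfn : (blockFusion hmax).IsFullyNormalized P := by
    refine ⟨hPa, fun Q hQ => ?_⟩
    obtain ⟨c, hc, rfl⟩ := (blockFusion_isConj hmax hb).1 hQ
    rw [hconj c hc]
  obtain ⟨-, R, hR⟩ := fullyAutomized_of_fullyNormalized hmax hfn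
  have hg : g ∈ stabP ((P, f) : Pr k G) :=
    mem_stabP_of_subLE hmax.pair hb (mem_normalizer_of_cjS_eq (hconj g hgb)) hgb
  obtain ⟨t, ht⟩ := IsPGroup.iff_orderOf.1 hmax.pair.pgroup ⟨u, hPa (Subgroup.mem_zpowers u)⟩
  rw [Subgroup.orderOf_mk] at ht
  have hAp : IsPGroup 2 ((blockFusion hmax).autGroup P) := by
    rintro ⟨α, hα⟩
    refine ⟨t, Subtype.ext ?_⟩
    show α ^ 2 ^ t = 1
    set u' : P := ⟨u, Subgroup.mem_zpowers u⟩ with hu'
    obtain ⟨j, hj⟩ := Subgroup.mem_zpowers_iff.1 (α u').2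
    have hαj : α u' = u' ^ j := Subtype.ext (by rw [← hj]; rfl)
    have hodd : ¬ (2 : ℤ) ∣ j := by
      rintro ⟨c, rfl⟩
      have ho : orderOf (α u') = orderOf u' := MulEquiv.orderOf_eq α u'
      rw [hαj, ← Subgroup.orderOf_coe u', ← Subgroup.orderOf_coe (u' ^ (2 * c))] at ho
      have ho' : orderOf (u ^ (2 * c)) = 2 ^ t := ho.trans ht
      have ht0 : t ≠ 0 := fun e => hu2 (by
        rw [orderOf_eq_one_iff.1 (show orderOf u = 1 by rw [ht, e, pow_zero]), one_mul])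
      have h1 : (u ^ (2 * c)) ^ (2 ^ (t - 1)) = 1 := by
        rw [← zpow_natCast, ← zpow_mul]
        refine orderOf_dvd_iff_zpow_eq_one.1 ?_
        rw [ht]
        refine ⟨c, ?_⟩
        push_cast
        rw [show (2 : ℤ) ^ t = 2 * 2 ^ (t - 1) by rw [← pow_succ']; congr 1; omega]
        ring
      have h2 := orderOf_dvd_of_pow_eq_one h1
      rw [ho'] at h2
      have := (Nat.pow_dvd_pow_iff_le_right (by norm_num : 1 < 2)).1 h2
      omega
    have hiter : ∀ n : ℕ, (α ^ n) u' = u' ^ (j ^ n) := by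
      intro n
      induction n with
      | zero => simp
      | succ n ih =>
        rw [pow_succ α, MulAut.mul_apply, hαj, map_zpow, ih, ← zpow_mul, pow_succ]
    have hgen : (α ^ 2 ^ t) u' = u' := by
      rw [hiter]
      conv_rhs => rw [← zpow_one u']
      refine zpow_eq_zpow_iff_modEq.2 (Int.modEq_iff_dvd.2 ?_).symm
      rw [← Subgroup.orderOf_coe, show ((u' : P) : G) = u from rfl, ht]
      push_cast
      exact (pow_dvd_pow (2 : ℤ) (Nat.le_succ t)).trans (pow_two_power_congr hodd t)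
    refine MulEquiv.ext fun w => ?_
    obtain ⟨i, hi⟩ := Subgroup.mem_zpowers_iff.1 w.2
    rw [show w = u' ^ i from Subtype.ext (by rw [← hi]; rfl), map_zpow, hgen]
    rfl
  obtain ⟨α, hα⟩ : ∃ α : MulAut P, ∀ v : P, ((α v : P) : G) = g * (v : G) * g⁻¹ :=
    ⟨P.normalizerMonoidHom ⟨g, hg.1⟩, fun v => rfl⟩
  have hαA : α ∈ (blockFusion hmax).autGroup P := by
    rw [blockFusion_autGroup hmax hb]
    exact (FusionSys.mem_autInducedBy_iff α).2 ⟨g, hg, hα⟩
  have htop : (⊤ : Subgroup ((blockFusion hmax).autGroup P)) = R :=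
    R.is_maximal' (hAp.to_subgroup _) le_top
  have hαR : (⟨α, hαA⟩ : (blockFusion hmax).autGroup P) ∈
      (R : Subgroup ((blockFusion hmax).autGroup P)) := htop.le (Subgroup.mem_top _)
  rw [hR] at hαR
  obtain ⟨w, hw, hwe⟩ := (FusionSys.mem_autInducedBy_iff _).1 (Subgroup.mem_subgroupOf.1 hαR)
  have e := (hα ⟨u, Subgroup.mem_zpowers u⟩).symm.trans (hwe ⟨u, Subgroup.mem_zpowers u⟩)
  simp only at e
  obtain ⟨i, rfl⟩ := Subgroup.mem_zpowers_iff.1 hu
  rw [e]
  rcases d.cases w hw with ⟨j, rfl⟩ | ⟨j, rfl⟩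
  · left
    rw [(Commute.zpow_zpow_self d.x j i).eq, mul_inv_cancel_right]
  · right
    calc d.x ^ j * d.y * d.x ^ i * (d.x ^ j * d.y)⁻¹
        = d.x ^ j * (d.y * d.x ^ i * d.y⁻¹) * (d.x ^ j)⁻¹ := by group
      _ = d.x ^ j * (d.x ^ (-i)) * (d.x ^ j)⁻¹ := by rw [← conj_zpow, d.inv, inv_zpow, zpow_neg]
      _ = (d.x ^ i)⁻¹ := by rw [(Commute.zpow_zpow_self d.x j (-i)).eq, mul_inv_cancel_right, zpow_neg]

end Cfsg.Agent.DihedralFusion
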