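import Cfsg.Agent.Lib.BrauerPairs.RegularSpan
import Cfsg.Agent.Lib.Blocks.Heights

/-!
Blocks whose rank is the number of their characters.
-/

set_option linter.unusedSectionVars false
set_option linter.style.haveILetI false

namespace Cfsg.Agent.BrauerPairs

open Cfsg Cfsg.Agent.Blocks Cfsg.Agent.Char

universe u

variable {G : Type u} [Group G] [Fintype G] {p : ℕ} {M : Ideal AlgInt} [M.IsPrime]

theorem blockRank_le_card (B : Set (IrrCharacter G)) : blockRank p B ≤ Nat.card B := by
  classical
  haveI : Fintype B := Fintype.ofFinite _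
  rw [blockRank, Set.image_eq_range, Nat.card_eq_fintype_card]
  exact finrank_range_le_card (R := ℂ) fun χ : B => pRegularPart p ((χ : IrrCharacter G) : G → ℂ)

theorem blockDefect_zero_of_rank_eq (hM : IsPModular p M) {B : Set (IrrCharacter G)}
    (hB : IsPBlock M B) (h : Nat.card B = blockRank p B) : blockDefect p B = 0 := by
  classical
  haveI : Fact p.Prime := ⟨hM.1⟩
  haveI : Fintype B := Fintype.ofFinite _
  have hli : LinearIndependent ℂ
      (fun χ : B => pRegularPart p ((χ : IrrCharacter G) : G → ℂ)) := by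
    rw [linearIndependent_iff_card_eq_finrank_span, Set.finrank, ← Nat.card_eq_fintype_card, h,
      blockRank, Set.image_eq_range]
  obtain ⟨r, hr⟩ := exists_regular_span hM hB
  obtain ⟨χ, hχ, h0⟩ := exists_heightZero hM hB
  set d := blockDefect p B with hd
  have hsum : ∀ g : G, (p ^ d : ℂ) * pRegularPart p (χ : G → ℂ) g =
      ∑ η : B, (r χ η : ℂ) * ((η : IrrCharacter G) : G → ℂ) g := fun g => by
    rw [hr χ hχ g, finsum_mem_eq_finite_toFinset_sum _ (Set.toFinite B)]
    exact Finset.sum_subtype _ (fun η => Set.Finite.mem_toFinset _) _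
  have hcoef := Fintype.linearIndependent_iff.1 hli
    (fun η : B => (r χ η : ℂ) - if η = ⟨χ, hχ⟩ then (p ^ d : ℂ) else 0) (by
      funext g
      simp only [Finset.sum_apply, Pi.smul_apply, smul_eq_mul, Pi.zero_apply, sub_mul,
        Finset.sum_sub_distrib, ite_mul, zero_mul, Finset.sum_ite_eq', Finset.mem_univ, if_true]
      rw [sub_eq_zero]
      simp only [pRegularPart]
      by_cases hg : IsPRegular p g
      · simp only [if_pos hg]
        rw [← hsum g, pRegularPart, if_pos hg]
      · simp [if_neg hg])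
  have hval : ∀ g : G, pRegularPart p (χ : G → ℂ) g = (χ : G → ℂ) g := by
    intro g
    have hp0 : (p ^ d : ℂ) ≠ 0 := pow_ne_zero _ (Nat.cast_ne_zero.2 hM.1.ne_zero)
    refine mul_left_cancel₀ hp0 ?_
    rw [hsum g, Finset.sum_eq_single (⟨χ, hχ⟩ : B)]
    · have := hcoef ⟨χ, hχ⟩
      rw [if_pos rfl, sub_eq_zero] at this
      rw [this]
    · intro η _ hη
      have := hcoef η
      rw [if_neg hη, sub_zero] at this
      rw [this, zero_mul]
    · exact fun h => absurd (Finset.mem_univ _) h
  obtain ⟨n, hn, -, hv⟩ := (blockHeight_zero_iff_mult hM hB hχ hχ).1 h0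
  have hreg : regTr p (χ : G → ℂ) =
      ((p ^ (Nat.card G).factorization p : ℕ) : ℂ) • (χ : G → ℂ) := by
    funext g
    have := hval g
    simp only [pRegularPart, IsPRegular] at this
    simp only [regTr, Pi.smul_apply, smul_eq_mul]
    by_cases hg : p ∣ orderOf g
    · rw [if_pos hg, ← this]
      simp [hg]
    · rw [if_neg hg]
  rw [hreg, classInner_smul_left, classInner_self_irr χ.2, mul_one] at hn
  have hn' : n = ((p ^ (Nat.card G).factorization p : ℕ) : ℤ) := by exact_mod_cast hn.symm
  rw [hn', padicValInt.of_nat, padicValNat.prime_pow] at hv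
  have hge := degExp_ge hM hB hχ
  rw [blockHeight, sInf_degExp_eq' hM hB] at h0
  have hle := blockDefect_le (p := p) B
  omega

theorem rank_full_iff (hM : IsPModular p M) {B : Set (IrrCharacter G)} (hB : IsPBlock M B) :
    blockRank p B ≤ Nat.card B ∧
      (blockDefect p B = 0 ↔ (Nat.card B = 1 ∧ blockRank p B = 1)) ∧
      (blockDefect p B = 0 ↔ Nat.card B = blockRank p B) := by
  classical
  have hle := blockRank_le_card (p := p) B
  have hz : blockDefect p B = 0 → Nat.card B = 1 ∧ blockRank p B = 1 := by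
    intro h
    obtain ⟨χ, hχ⟩ := isPBlock_nonempty hB
    have h1 := card_block_le hM hB
    rw [h, mul_zero, pow_zero] at h1
    haveI : Nonempty B := ⟨⟨χ, hχ⟩⟩
    have h2 : 0 < Nat.card B := Nat.card_pos
    have hne : pRegularPart p (χ : G → ℂ) ≠ 0 := fun hh => irr_one_ne_zero χ (by
      have := congrFun hh 1
      simpa [pRegularPart, IsPRegular, hM.1.ne_one] using this)
    have hr0 : blockRank p B ≠ 0 := fun hh => hne (by
      rw [blockRank, Submodule.finrank_eq_zero] at hh
      have hm : pRegularPart p (χ : G → ℂ) ∈ Submodule.span ℂ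
          ((fun χ : IrrCharacter G => pRegularPart p (χ : G → ℂ)) '' B) :=
        Submodule.subset_span ⟨χ, hχ, rfl⟩
      rw [hh] at hm
      exact hm)
    omega
  exact ⟨hle, ⟨hz, fun h => blockDefect_zero_of_rank_eq hM hB (h.1.trans h.2.symm)⟩,
    ⟨fun h => (hz h).1.trans (hz h).2.symm, blockDefect_zero_of_rank_eq hM hB⟩⟩

end Cfsg.Agent.BrauerPairs
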