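/-
Blocks with defect group of order at most four.
-/
import Cfsg.Agent.Lib.BrauerPairs.FreeInertia
import Cfsg.Agent.Lib.BrauerPairs.RankFull
import Cfsg.Agent.Lib.BlockAlg.SmallBlock

set_option linter.unusedSectionVars false
set_option linter.style.haveILetI false

namespace Cfsg.Agent.BrauerPairs

open Cfsg MonoidAlgebra Cfsg.Agent.Blocks

universe u

variable {G : Type u} [Group G] [Fintype G] {p : ℕ} [Fact p.Prime] {M : Ideal AlgInt} [M.IsPrime]
  {B : Set (IrrCharacter G)} {P : Subgroup G}
  {c : Set (IrrCharacter (Subgroup.centralizer (P : Set G)))}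

theorem le_centralizer_of_card_le_four (hPD : IsPGroup p P) (h4 : Nat.card P ≤ 4) :
    P ≤ Subgroup.centralizer (P : Set G) := by
  have hp : p.Prime := Fact.out
  have hcomm : ∀ a b : P, a * b = b * a := by
    obtain ⟨n, hn⟩ := IsPGroup.iff_card.1 hPD
    rcases Nat.lt_or_ge n 2 with h2 | h2
    · rcases Nat.eq_zero_or_pos n with rfl | h
      · haveI : Subsingleton P := (Nat.card_eq_one_iff_unique.1 (by simpa using hn)).1
        exact fun a b => Subsingleton.elim _ _
      · obtain rfl : n = 1 := by omega
        rw [pow_one] at hn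
        haveI := isCyclic_of_prime_card hn
        exact fun a b => (IsCyclic.isMulCommutative (α := P)).is_comm.comm a b
    · have h3 : n = 2 := by
        by_contra h
        have h8 : 2 ^ 3 ≤ p ^ n :=
          le_trans (Nat.pow_le_pow_left hp.two_le 3) (Nat.pow_le_pow_right hp.pos (by omega))
        omega
      exact (IsPGroup.isMulCommutative_of_card_eq_prime_sq (h3 ▸ hn)).is_comm.comm
  intro u hu
  exact Subgroup.mem_centralizer_iff.2 fun v hv => congrArg Subtype.val (hcomm ⟨v, hv⟩ ⟨u, hu⟩)

theorem free_of_card_le_four (hM : IsPModular p M) (hPD : IsDefectGroup p M B P)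
    (h4 : Nat.card P ≤ 4) (hc : IsInducedBlock M (Subgroup.centralizer (P : Set G)) c B) :
    FreeInertia P (zB M (Subgroup.centralizer (P : Set G)) c) := by
  classical
  haveI : CharP (resField M) p := resField_charP hM
  intro g hg x hx hx1 hfix
  have hpg : IsPGroup p P := ((isDefectGroup_iff hc.2.1 P).1 hPD).pgroup
  have hPC := le_centralizer_of_card_le_four hpg h4
  let C := Subgroup.centralizer (P : Set G)
  let T := stabP (P, zB M C c)
  have hTN : T ≤ Subgroup.normalizer (P : Set G) := stabP_le_normalizer _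
  haveI : (C.subgroupOf T).Normal := Subgroup.normal_subgroupOf_of_le_normalizer (fun u hu =>
    mem_normalizer_of_cjS_eq (by rw [cjS_centralizer, cjS_eq_of_mem_normalizer (hTN hu)]))
  have hm : ¬ p ∣ C.relIndex T := not_dvd_inertia hM hPD hPC hc
  have hgm : g ^ C.relIndex T ∈ C :=
    Subgroup.mem_subgroupOf.1 (Subgroup.pow_index_mem (C.subgroupOf T) ⟨g, hg⟩)
  refine Subgroup.mem_centralizer_iff.2 fun y hy => ?_
  suffices h : MulAut.conj g y = y by
    rw [MulAut.conj_apply, mul_inv_eq_iff_eq_mul] at h
    exact h.symm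
  by_contra hne
  have hP : ∀ v ∈ P, MulAut.conj g v ∈ P := fun v hv => by
    rw [MulAut.conj_apply]
    exact (Subgroup.mem_normalizer_iff.1 (hTN hg) v).1 hv
  have hinj := (MulAut.conj g).injective
  have hfix' : MulAut.conj g x = x := by rw [MulAut.conj_apply]; exact hfix
  set y1 := MulAut.conj g y with hy1
  set y2 := MulAut.conj g y1 with hy2
  have hny : y ≠ 1 := fun e => hne (by rw [hy1, e, map_one])
  have hnx : y ≠ x := fun e => hne (by rw [hy1, e, hfix'])
  have hny1 : y1 ≠ 1 := fun e => hny (hinj (by rw [← hy1, e, map_one]))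
  have hnx1 : y1 ≠ x := fun e => hnx (hinj (by rw [← hy1, e, hfix']))
  have hs4 : ({1, x, y, y1} : Finset G).card = 4 := by
    simp [Finset.card_insert_of_notMem, hx1.symm, hny.symm, hnx.symm, hny1.symm, hnx1.symm,
      Ne.symm hne]
  have hsub : ({1, x, y, y1} : Finset G) ⊆ Finset.univ.filter (· ∈ P) := by
    intro v hv
    simp only [Finset.mem_insert, Finset.mem_singleton] at hv
    refine Finset.mem_filter.2 ⟨Finset.mem_univ _, ?_⟩
    rcases hv with rfl | rfl | rfl | rfl
    · exact one_mem P
    · exact hx
    · exact hy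
    · exact hP y hy
  have hcard : (Finset.univ.filter (· ∈ P)).card = Nat.card P := by
    rw [Nat.card_eq_fintype_card, Fintype.card_subtype]
  have hle := Finset.card_le_card hsub
  have heq := Finset.eq_of_subset_of_card_le hsub (by omega)
  have hp2 : p = 2 := by
    have hP4 : Nat.card P = 4 := by omega
    obtain ⟨n, hn⟩ := IsPGroup.iff_card.1 hpg
    rw [hP4] at hn
    have : p ∣ 2 ^ 2 := by
      rcases Nat.eq_zero_or_pos n with rfl | h
      · simp at hn
      · exact (show (2:ℕ) ^ 2 = p ^ n from hn) ▸ dvd_pow_self p h.ne'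
    exact (Nat.prime_dvd_prime_iff_eq Fact.out Nat.prime_two).1
      ((Fact.out : p.Prime).dvd_of_dvd_pow this)
  have hy2m : y2 ∈ ({1, x, y, y1} : Finset G) := by
    rw [heq]; exact Finset.mem_filter.2 ⟨Finset.mem_univ _, hP y1 (hP y hy)⟩
  simp only [Finset.mem_insert, Finset.mem_singleton] at hy2m
  have hy2y : y2 = y := by
    rcases hy2m with e | e | e | e
    · exact absurd (hinj (by rw [← hy2, e, map_one])) hny1
    · exact absurd (hinj (by rw [← hy2, e, hfix'])) hnx1
    · exact e
    · exact absurd (hinj (e.trans hy1)) hne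
  have hodd : ∀ k : ℕ, MulAut.conj (g ^ (2 * k + 1)) y = y1 := by
    intro k
    induction k with
    | zero => simp [hy1]
    | succ k ih =>
      rw [show 2 * (k + 1) + 1 = 2 + (2 * k + 1) by ring, pow_add, map_mul, MulAut.mul_apply, ih,
        pow_two, map_mul, MulAut.mul_apply, ← hy2, hy2y]
  obtain ⟨k, hk⟩ : Odd (C.relIndex T) := Nat.not_even_iff_odd.1 fun he => hm (by
    rw [hp2]; exact he.two_dvd)
  have h1 := hodd k
  rw [← hk, MulAut.conj_apply, ← Subgroup.mem_centralizer_iff.1 hgm y hy,
    mul_inv_cancel_right] at h1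
  exact hne h1.symm

/-- A block of rank one with at most four characters is nilpotent, with as many characters as
its defect group has elements. -/
theorem nilpotent_of_small (hM : IsPModular p M) (hB : IsPBlock M B)
    (hPD : IsDefectGroup p M B P) (hl : blockRank p B = 1) (hk : Nat.card B ≤ 4) :
    IsNilpotentBlock p M B ∧ Nat.card B = Nat.card P := by
  haveI : CharP (resField M) p := resField_charP hM
  have hle := BlockAlg.card_defect_le_of_small hM hB hl hk hPD
  have hD := (isDefectGroup_iff hB P).1 hPD
  have hPC := le_centralizer_of_card_le_four hD.pgroup (hle.trans hk)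
  obtain ⟨e, he⟩ := exists_pairOf_defGrp (isBlk_Ek hB) hD
  obtain ⟨c, hcb, hce⟩ := exists_eq_zB he.pair.blkC
  replace hce : zB M (Subgroup.centralizer (P : Set G)) c = e := hce
  rw [← hce] at he
  have hc : IsInducedBlock M (Subgroup.centralizer (P : Set G)) c B :=
    induced_of_pairOf hM hcb hB (pairOf_self (M := M) hcb hD.pgroup hPC rfl) le_rfl he
  have hn : IsNilpotentBlock p M B :=
    (isNilpotentBlock_iff hM).2 ⟨hB, (isNilB_iff_abelian ⟨he, hD⟩ hPC).2
      (stabP_le_centralizer_of_free hM hl hPD hPC hc
        (free_of_card_le_four hM hPD (hle.trans hk) hc) hle)⟩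
  exact ⟨hn, card_eq_of_nilpotent_abelian hM hn hPD hPC⟩

/-- A block has two characters iff its defect group has order two. -/
theorem card_two_iff (hM : IsPModular p M) (hB : IsPBlock M B) (hPD : IsDefectGroup p M B P) :
    Nat.card B = 2 ↔ Nat.card P = 2 := by
  classical
  haveI : CharP (resField M) p := resField_charP hM
  constructor
  · intro hk
    obtain ⟨hlk, hz, hfull⟩ := rank_full_iff hM hB
    have hd0 : blockDefect p B ≠ 0 := fun h => by have := (hz.1 h).1; omega
    have hne : Nat.card B ≠ blockRank p B := fun h => hd0 (hfull.2 h)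
    have h1 := one_le_blockRank hM hB
    have hle := BlockAlg.card_defect_le_of_small hM hB (by omega) (by omega) hPD
    rw [card_defectGroup hM hB hPD] at hle ⊢
    have := Nat.le_self_pow hd0 p
    have := hM.1.two_le
    omega
  · intro h2
    have hD := (isDefectGroup_iff hB P).1 hPD
    have hPC := le_centralizer_of_card_le_four hD.pgroup (by omega)
    obtain ⟨e, he⟩ := exists_pairOf_defGrp (isBlk_Ek hB) hD
    have hn : IsNilpotentBlock p M B := by
      refine (isNilpotentBlock_iff hM).2 ⟨hB, (isNilB_iff_abelian ⟨he, hD⟩ hPC).2 fun g hg => ?_⟩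
      refine Subgroup.mem_centralizer_iff.2 fun y hy => ?_
      rcases eq_or_ne y 1 with rfl | hy1
      · simp
      obtain ⟨a, b, hab, hu⟩ := Finset.card_eq_two.1
        (show (Finset.univ : Finset P).card = 2 by rw [Finset.card_univ, ← Nat.card_eq_fintype_card, h2])
      have hgy : g * y * g⁻¹ ∈ P := (Subgroup.mem_normalizer_iff.1 (stabP_le_normalizer _ hg) y).1 hy
      have hall : ∀ v : P, v = a ∨ v = b := fun v => by
        simpa [hu] using Finset.mem_univ v
      have hone : ∀ v : P, v ≠ 1 → v = ⟨y, hy⟩ := by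
        intro v hv
        have hy' : (⟨y, hy⟩ : P) ≠ 1 := fun e => hy1 (congrArg Subtype.val e)
        rcases hall v with rfl | rfl <;> rcases hall ⟨y, hy⟩ with e | e <;>
          rcases hall 1 with e1 | e1 <;> simp_all
      have := hone ⟨_, hgy⟩ fun e => hy1 (by
        have := congrArg Subtype.val e
        simpa using this)
      have h3 := congrArg Subtype.val this
      simp only at h3
      exact (mul_inv_eq_iff_eq_mul.1 h3).symm
    rw [card_eq_of_nilpotent_abelian hM hn hPD hPC, h2]

end Cfsg.Agent.BrauerPairs
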