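/-
Blocks with a Klein four defect group.
-/
import Cfsg.Agent.Lib.BrauerPairs.SmallDefect
import Cfsg.Agent.Lib.Blocks.KleinColumn

set_option linter.unusedSectionVars false
set_option linter.style.haveILetI false

namespace Cfsg.Agent.BrauerPairs

open Cfsg MonoidAlgebra Cfsg.Agent.Blocks

universe u

variable {G : Type u} [Group G] [Fintype G] {M : Ideal AlgInt} [M.IsPrime]
  {B : Set (IrrCharacter G)} {P : Subgroup G}
  {c : Set (IrrCharacter (Subgroup.centralizer (P : Set G)))}

/-- A block with Klein four defect group has four characters, and its rank is its inertial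
index, which is one or three. -/
theorem klein_block (hM : IsPModular 2 M) (hB : IsPBlock M B) (hPD : IsDefectGroup 2 M B P)
    (hV : IsKleinFour P) (hc : IsInducedBlock M (Subgroup.centralizer (P : Set G)) c B) :
    let e := (Subgroup.centralizer (P : Set G)).relIndex
      (stabP (P, zB M (Subgroup.centralizer (P : Set G)) c))
    (e = 1 ∨ e = 3) ∧ Nat.card B = 4 ∧ blockRank 2 B = e := by
  classical
  haveI : CharP (resField M) 2 := resField_charP hM
  intro e
  set zc := zB M (Subgroup.centralizer (P : Set G)) c with hzc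
  set C := Subgroup.centralizer (P : Set G) with hCdef
  set T := stabP (P, zc) with hT
  have hP4 : Nat.card P = 4 := hV.card_four
  have hD := (isDefectGroup_iff hB P).1 hPD
  have hPC : P ≤ C := le_centralizer_of_card_le_four hD.pgroup hP4.le
  have hfree : FreeInertia P zc := free_of_card_le_four hM hPD hP4.le hc
  obtain ⟨hpB, -⟩ := abelian_pair hM hPD hPC hc
  have hmax : IsMax 2 (Ek M B) (P, zc) := ⟨hpB, hD⟩
  have hTN : T ≤ Subgroup.normalizer (P : Set G) := stabP_le_normalizer _
  have he : e = Nat.card (↥T ⧸ C.subgroupOf T) := rfl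
  obtain ⟨x, hx⟩ := Subgroup.ne_bot_iff_exists_ne_one.1 (show P ≠ ⊥ from fun h => by
    rw [h, Subgroup.card_bot] at hP4; omega)
  have hxP : (x : G) ∈ P := x.2
  have hx1 : (x : G) ≠ 1 := fun h => hx (Subtype.ext h)
  have hconj : ∀ g ∈ T, ∀ v ∈ P, g * v * g⁻¹ ∈ P := fun g hg v hv =>
    (Subgroup.mem_normalizer_iff.1 (hTN hg) v).1 hv
  let W := {v : P // v ≠ 1}
  have hW : Nat.card W = 3 := by
    rw [Nat.card_eq_fintype_card, Fintype.card_subtype_compl, ← Nat.card_eq_fintype_card, hP4]
    simp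
  have hCx : ∀ g ∈ C, g * (x : G) * g⁻¹ = x := fun g hg => by
    rw [← Subgroup.mem_centralizer_iff.1 hg x hxP, mul_inv_cancel_right]
  let f : ↥T ⧸ C.subgroupOf T → W := Quotient.lift
    (fun g : T => (⟨⟨(g : G) * x * (g : G)⁻¹, hconj g g.2 x hxP⟩, fun h => hx1 (by
      simpa using congrArg Subtype.val h)⟩ : W)) (by
      intro g h hgh
      have hgh' : g⁻¹ * h ∈ C.subgroupOf T := QuotientGroup.leftRel_apply.1 hgh
      have := hCx _ (Subgroup.mem_subgroupOf.1 hgh')
      refine Subtype.ext (Subtype.ext ?_)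
      simp only [Subgroup.coe_mul, InvMemClass.coe_inv] at this ⊢
      calc (g : G) * x * (g : G)⁻¹
          = (g : G) * (((g : G)⁻¹ * h) * x * ((g : G)⁻¹ * h)⁻¹) * (g : G)⁻¹ := by rw [this]
        _ = _ := by group)
  have hf : Function.Injective f := by
    intro a b hab
    induction a using QuotientGroup.induction_on with
    | _ g =>
      induction b using QuotientGroup.induction_on with
      | _ h =>
        have h1 : (g : G) * x * (g : G)⁻¹ = (h : G) * x * (h : G)⁻¹ :=
          congrArg (fun w : W => ((w : P) : G)) hab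
        refine QuotientGroup.eq.2 (Subgroup.mem_subgroupOf.2 ?_)
        refine hfree _ (g⁻¹ * h).2 x hxP hx1 ?_
        simp only [Subgroup.coe_mul, InvMemClass.coe_inv]
        calc (g : G)⁻¹ * h * x * ((g : G)⁻¹ * h)⁻¹
            = (g : G)⁻¹ * ((h : G) * x * (h : G)⁻¹) * g := by group
          _ = x := by rw [← h1]; group
  have he3 : e ≤ 3 := by
    rw [he, ← hW]; exact Nat.card_le_card_of_injective f hf
  have hne : ¬ 2 ∣ e := not_dvd_inertia hM hPD hPC hc
  have he13 : e = 1 ∨ e = 3 := by omega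
  refine ⟨he13, ?_⟩
  rcases he13 with he1 | he1
  · have hn : IsNilpotentBlock 2 M B :=
      (isNilpotentBlock_iff hM).2 ⟨hB, (isNilB_iff_abelian hmax hPC).2
        (Subgroup.relIndex_eq_one.1 he1)⟩
    rw [card_eq_of_nilpotent_abelian hM hn hPD hPC,
      blockRank_eq_one_of_nilpotent_abelian hM hn hPD hPC, hP4, he1]
    exact ⟨rfl, rfl⟩
  have hsurj : ∀ v ∈ P, v ≠ 1 → ∃ g ∈ T, g * x * g⁻¹ = v := by
    intro v hv hv1
    obtain ⟨q, hq⟩ := (Nat.bijective_iff_injective_and_card f).2
      ⟨hf, by rw [← he, he1, hW]⟩ |>.2 ⟨⟨v, hv⟩, fun h => hv1 (congrArg Subtype.val h)⟩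
    induction q using QuotientGroup.induction_on with
    | _ g => exact ⟨g, g.2, congrArg (fun w : W => ((w : P) : G)) hq⟩
  obtain ⟨n, v, hk, hv, huniq⟩ := exists_orbit_reps hM hPD hPC hc hfree
  have hn : n ≤ 1 := by
    by_contra h
    obtain ⟨g, hg, hg'⟩ := hsurj _ (hv ⟨0, by omega⟩).1 (hv ⟨0, by omega⟩).2
    obtain ⟨g', hg'', hg'''⟩ := hsurj _ (hv ⟨1, by omega⟩).1 (hv ⟨1, by omega⟩).2
    have := huniq (⟨0, by omega⟩ : Fin n) (⟨1, by omega⟩ : Fin n) (g' * g⁻¹) (mul_mem hg'' (inv_mem hg)) (by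
      rw [← hg', ← hg''']; group)
    exact absurd (congrArg Fin.val this) (by norm_num)
  obtain ⟨hlk, hz, hfull⟩ := rank_full_iff hM hB
  have hd2 : blockDefect 2 B = 2 := by
    have := card_defectGroup hM hB hPD
    rw [hP4] at this
    exact (Nat.pow_right_injective le_rfl (show 2 ^ 2 = 2 ^ blockDefect 2 B from this)).symm
  have hne1 : Nat.card B ≠ blockRank 2 B := fun h => by have := hfull.2 h; omega
  have h1 := one_le_blockRank hM hB
  have hne2 : Nat.card B ≠ 2 := fun h => by
    have := (card_two_iff hM hB hPD).1 h; omega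
  -- the subsection at `x`
  let H := Subgroup.centralizer ({(x : G)} : Set G)
  have hCH : C ≤ H := Subgroup.centralizer_le (Set.singleton_subset_iff.2 hxP)
  obtain ⟨f', hf'⟩ := exists_local_block hM hPD hPC hc hCH
  have hl : blockRank 2 f' = 1 := free_local_rank_one hM hPD hPC hc hfree hxP hx1 hf'
  have hPH : P ≤ H := hPC.trans hCH
  have hp := pairOf_self (M := M) hc.1 hD.pgroup hPC rfl
  have hpf : IsPairOf 2 H (zB M H f') (P, zc) :=
    pairOf_of_inducedIn hM hCH hf' hp inf_le_right
  have hnoT := hpB.noExt hD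
  have hnoH : NoExt 2 H (P, zc) := fun b hb => by
    have hCb : Subgroup.centralizer (b.1 : Set G) ≤ H := (Subgroup.centralizer_le hb.le).trans hCH
    exact hnoT b ⟨hpB.pair, ((isPair_sub_iff hCb).1 hb.right).1, hb.le, hb.normal, hb.inv, hb.occ⟩
  have hdf : IsDefectGroup 2 M f' (P.subgroupOf H) :=
    (isDefectGroup_subgroupOf_iff hf'.2.1 hPH).2 (hnoH.isDefGrp hpf)
  have hindf : IsInducedBlock M H f' B := induced_of_pairOf hM hf'.2.1 hB hpf hCH hpB
  have hdd := blockDefect_eq_of_subgroupOf hM hindf hPD hPH hdf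
  have hx2 : (x : G) * x = 1 := congrArg Subtype.val (IsKleinFour.mul_self x)
  obtain ⟨D⟩ := nonempty_subData (x := (x : G)) hM
    ⟨1, (orderOf_eq_prime (p := 2) (by rw [pow_two, hx2]) hx1).trans (pow_one 2).symm⟩ rfl hindf
  have h4 := D.card_le_of_rank_le_two hdd (by omega)
  have h3 := D.card_ne_three hx2 hdd hd2 hl
  rw [hd2] at h4
  omega

end Cfsg.Agent.BrauerPairs
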