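/-
The singular columns of a block with a Klein four defect group.
-/
import Cfsg.Agent.Lib.BrauerPairs.KleinBlock
import Cfsg.Agent.Lib.Blocks.KleinSigns

set_option linter.unusedSectionVars false
set_option linter.style.haveILetI false

namespace Cfsg.Agent.KleinSigns

open Cfsg MonoidAlgebra Cfsg.Agent.Blocks Cfsg.Agent.BrauerPairs Cfsg.Agent.Char
open scoped ComplexConjugate

universe u

variable {G : Type u} [Group G] [Fintype G]

/-- A subsection of a block with abelian defect group and free inertia has one Brauer character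
and the defect of the block. -/
theorem subsection_data {p : ℕ} [Fact p.Prime] {M : Ideal AlgInt} [M.IsPrime]
    {B : Set (IrrCharacter G)} {P : Subgroup G}
    {c : Set (IrrCharacter (Subgroup.centralizer (P : Set G)))} (hM : IsPModular p M)
    (hPD : IsDefectGroup p M B P) (hPC : P ≤ Subgroup.centralizer (P : Set G))
    (hc : IsInducedBlock M (Subgroup.centralizer (P : Set G)) c B)
    (hfree : FreeInertia P (zB M (Subgroup.centralizer (P : Set G)) c)) {x : G}
    (hxp : ∃ k, orderOf x = p ^ k) (hx1 : x ≠ 1)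
    {b : Set (IrrCharacter (Subgroup.centralizer ({x} : Set G)))}
    (hb : IsInducedBlock M (Subgroup.centralizer ({x} : Set G)) b B) :
    ∃ g : G, g * x * g⁻¹ ∈ P ∧ blockRank p b = 1 ∧ blockDefect p b = blockDefect p B := by
  classical
  haveI : CharP (resField M) p := resField_charP hM
  have hB := hc.2.1
  set zc := zB M (Subgroup.centralizer (P : Set G)) c with hzc
  obtain ⟨hpB, -⟩ := abelian_pair hM hPD hPC hc
  have hD := (isDefectGroup_iff hB P).1 hPD
  obtain ⟨j, hj⟩ := hxp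
  let H := Subgroup.centralizer ({x} : Set G)
  have hH : H = Subgroup.centralizer ((Subgroup.zpowers x : Subgroup G) : Set G) :=
    (centralizer_zpowers_eq x).symm
  have hbp := pairOf_self (M := M) hb.1 (IsPGroup.of_card (n := j) (by rw [Nat.card_zpowers, hj]))
    (Subgroup.zpowers_le.2 (Subgroup.mem_centralizer_singleton_iff.2 rfl)) hH
  have hbB := pairOf_of_induced hM hb hbp hH.ge
  obtain ⟨g, -, hg⟩ := exists_conj_subLE hpB hbB hD
  refine ⟨g, hg.le (mem_cjS_of_eq (Subgroup.mem_zpowers _)), ?_⟩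
  have ha' := hpB.cj' (Subgroup.mem_top g⁻¹)
  have hsub : SubLE p ⊤ (Subgroup.zpowers x, zB M H b) (cjP g⁻¹ (P, zc)) := by
    have := hg.cjT g⁻¹
    rwa [cjP_cjP, inv_mul_cancel, cjP_one] at this
  set P' := cjS g⁻¹ P
  have hD' : IsDefGrp p ⊤ (Ek M B) P' := hD.cj' ha'.blk (Subgroup.mem_top g⁻¹)
  have hPD' : IsDefectGroup p M B P' := (isDefectGroup_iff hB P').2 hD'
  have hblk := ha'.pair.blkC
  change IsBlk (Subgroup.centralizer (P' : Set G)) (cj g⁻¹ zc) at hblk
  obtain ⟨c', hc'b, hc'e⟩ := exists_eq_zB hblk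
  have hPC' : P' ≤ Subgroup.centralizer (P' : Set G) := by
    rw [← cjS_centralizer]; exact cjS_mono g⁻¹ hPC
  have hp' := pairOf_self (M := M) hc'b hD'.pgroup hPC' rfl
  have heq : (P', zB M (Subgroup.centralizer (P' : Set G)) c') = cjP g⁻¹ (P, zc) := by
    rw [hc'e]
  rw [← heq] at ha' hsub
  have hc' : IsInducedBlock M (Subgroup.centralizer (P' : Set G)) c' B :=
    induced_of_pairOf hM hc'b hB hp' le_rfl ha'
  have hxP' : x ∈ P' := hsub.le (Subgroup.mem_zpowers x)
  have hCH : Subgroup.centralizer (P' : Set G) ≤ H :=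
    Subgroup.centralizer_le (Set.singleton_subset_iff.2 hxP')
  have hPH : P' ≤ H := hPC'.trans hCH
  have hz : IsPairOf p H (zB M H b) (P', zB M (Subgroup.centralizer (P' : Set G)) c') :=
    ⟨(isPair_sub_iff hCH).2 ⟨ha'.pair, hPH⟩, isBlk_zB H hb.1,
      (hsub.nsub ha'.pair (hPH.trans (hH.le.trans (Subgroup.centralizer_le_normalizer _)))).occ⟩
  have hfree' : FreeInertia P' (zB M (Subgroup.centralizer (P' : Set G)) c') := by
    rw [hc'e]; exact hfree.cj g⁻¹
  refine ⟨free_local_rank_one hM hPD' hPC' hc' hfree' hxP' hx1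
    (inducedIn_of_pairOf hM hCH hc'b hb.1 hp' inf_le_right hz), ?_⟩
  have hnoT := ha'.noExt hD'
  have hnoH : NoExt p H (P', zB M (Subgroup.centralizer (P' : Set G)) c') := fun e he => by
    have hCe : Subgroup.centralizer (e.1 : Set G) ≤ H := (Subgroup.centralizer_le he.le).trans hCH
    exact hnoT e ⟨ha'.pair, ((isPair_sub_iff hCe).1 he.right).1, he.le, he.normal, he.inv, he.occ⟩
  have hdf : IsDefectGroup p M b (P'.subgroupOf H) :=
    (isDefectGroup_subgroupOf_iff hb.1 hPH).2 (hnoH.isDefGrp hz)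
  exact blockDefect_eq_of_subgroupOf hM hb hPD' hPH hdf

/-- An orthogonal family of sign vectors on a block through which all singular columns pass. -/
structure SignBasis (M : Ideal AlgInt) (B : Set (IrrCharacter G)) [DecidablePred (· ∈ B)]
    {n : ℕ} (f : Fin n → IrrCharacter G → ℤ) : Prop where
  sign : ∀ i, ∀ χ ∈ B, f i χ = 1 ∨ f i χ = -1
  orth : ∀ i j, i ≠ j → ∑ χ ∈ Finset.univ.filter (· ∈ B), f i χ * f j χ = 0
  div : ∀ i x, MemLocalRing M ((∑ χ ∈ Finset.univ.filter (· ∈ B),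
    (f i χ : ℂ) * (χ : G → ℂ) x) / (Nat.card (Subgroup.centralizer ({x} : Set G)) : ℂ))
  reg : ∀ i x, ¬ 2 ∣ orderOf x →
    ∑ χ ∈ Finset.univ.filter (· ∈ B), (f i χ : ℂ) * (χ : G → ℂ) x = 0
  sing : ∀ z : G, 2 ∣ orderOf z → ∃ a : Fin n → ℂ, (∀ i, MemLocalRing M (a i)) ∧
    ∀ χ ∈ B, (χ : G → ℂ) z = ∑ i, a i * (f i χ : ℂ)

variable {M : Ideal AlgInt} [M.IsPrime] {B : Set (IrrCharacter G)} [DecidablePred (· ∈ B)]
  {P : Subgroup G} {c : Set (IrrCharacter (Subgroup.centralizer (P : Set G)))}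

set_option maxHeartbeats 1600000 in
/-- The sign basis of a block with a Klein four defect group. -/
theorem exists_signBasis (hM : IsPModular 2 M) (hB : IsPBlock M B)
    (hPD : IsDefectGroup 2 M B P) (hV : IsKleinFour P)
    (hc : IsInducedBlock M (Subgroup.centralizer (P : Set G)) c B) :
    ∃ (n : ℕ) (f : Fin n → IrrCharacter G → ℤ),
      n + (Subgroup.centralizer (P : Set G)).relIndex
        (stabP (P, zB M (Subgroup.centralizer (P : Set G)) c)) = 4 ∧ SignBasis M B f := by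
  classical
  haveI : CharP (resField M) 2 := resField_charP hM
  obtain ⟨-, hk, hl⟩ := klein_block hM hB hPD hV hc
  have hP4 : Nat.card P = 4 := hV.card_four
  have hPC := le_centralizer_of_card_le_four ((isDefectGroup_iff hB P).1 hPD).pgroup hP4.le
  have hfree := free_of_card_le_four hM hPD hP4.le hc
  have hd2 : blockDefect 2 B = 2 := by
    have := card_defectGroup hM hB hPD
    rw [hP4] at this
    exact (Nat.pow_right_injective le_rfl (show 2 ^ 2 = 2 ^ blockDefect 2 B from this)).symm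
  let X : Finset G := Finset.univ.filter fun g =>
    (∃ k : ℕ, orderOf g = 2 ^ k) ∧ (ConjClasses.mk g).out = g
  have hout : ∀ g : G, IsConj g (ConjClasses.mk g).out := fun g =>
    ConjClasses.mk_eq_mk_iff_isConj.1 (Quotient.out_eq _).symm
  have hX : ∀ x ∈ X, ∃ k : ℕ, orderOf x = 2 ^ k := fun x hx => (Finset.mem_filter.1 hx).2.1
  have hmem : ∀ g : G, (∃ k : ℕ, orderOf g = 2 ^ k) → (ConjClasses.mk g).out ∈ X := by
    intro g hg
    refine Finset.mem_filter.2 ⟨Finset.mem_univ _, ?_, by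
      rw [ConjClasses.mk_eq_mk_iff_isConj.2 (hout g).symm]⟩
    obtain ⟨c, hc⟩ := isConj_iff.1 (hout g)
    rw [← hc]
    simpa [← MulAut.conj_apply, MulEquiv.orderOf_eq] using hg
  have huniq : ∀ {x y}, x ∈ X → y ∈ X → IsConj x y → x = y := fun {x y} hx hy h => by
    rw [← (Finset.mem_filter.1 hx).2.2, ← (Finset.mem_filter.1 hy).2.2,
      ConjClasses.mk_eq_mk_iff_isConj.2 h]
  have hrep : ∀ g : G, (∃ k : ℕ, orderOf g = 2 ^ k) → ∃! x, x ∈ X ∧ IsConj g x := fun g hg =>
    ⟨(ConjClasses.mk g).out, ⟨hmem g hg, hout g⟩, fun y hy =>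
      huniq hy.1 (hmem g hg) (hy.2.symm.trans (hout g))⟩
  have h1X : (1 : G) ∈ X := by
    have := hmem 1 ⟨0, by simp⟩
    rwa [isConj_one_right.1 (hout (1 : G))] at this
  have hsum := card_eq_sum_blockRank hM hB X hX hrep
  rw [← Finset.add_sum_erase _ _ h1X, sum_blockRank_one hM hB] at hsum
  let S : Finset ((x : G) × Set (IrrCharacter ↥(Subgroup.centralizer ({x} : Set G)))) :=
    (X.erase 1).sigma fun x =>
      ({b : Set (IrrCharacter ↥(Subgroup.centralizer ({x} : Set G))) |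
        IsInducedBlock M (Subgroup.centralizer ({x} : Set G)) b B} : Set _).toFinite.toFinset
  have hdata : ∀ s ∈ S, s.1 * s.1 = 1 ∧ s.1 ≠ 1 ∧
      IsInducedBlock M (Subgroup.centralizer ({s.1} : Set G)) s.2 B ∧
      blockRank 2 s.2 = 1 ∧ blockDefect 2 s.2 = blockDefect 2 B := by
    rintro ⟨x, b⟩ hs
    obtain ⟨hx, hb⟩ := Finset.mem_sigma.1 hs
    rw [Set.Finite.mem_toFinset] at hb
    obtain ⟨hx1, hxX⟩ := Finset.mem_erase.1 hx
    obtain ⟨g, hg, hr, hd⟩ := subsection_data hM hPD hPC hc hfree (hX x hxX) hx1 hb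
    refine ⟨?_, hx1, hb, hr, hd⟩
    have h2 := congrArg Subtype.val (IsKleinFour.mul_self (⟨_, hg⟩ : P))
    simp only [Subgroup.coe_mul, Subgroup.coe_one] at h2
    calc x * x = g⁻¹ * ((g * x * g⁻¹) * (g * x * g⁻¹)) * g := by group
      _ = 1 := by rw [h2]; group
  have hS : Nat.card B = blockRank 2 B + S.card := by
    rw [hsum, Finset.card_sigma]
    congr 1
    refine Finset.sum_congr rfl fun x hx => ?_
    rw [finsum_mem_eq_finite_toFinset_sum _ (Set.toFinite _), Finset.card_eq_sum_ones]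
    exact Finset.sum_congr rfl fun b hb =>
      (hdata ⟨x, b⟩ (Finset.mem_sigma.2 ⟨hx, hb⟩)).2.2.2.1
  have hvec : ∀ s : S, ∃ θ : IrrCharacter (Subgroup.centralizer ({s.1.1} : Set G)), θ ∈ s.1.2 ∧
      ∃ f : IrrCharacter G → ℤ,
      (∀ χ : IrrCharacter G, regPair 2 (blockScale 2 s.1.2)
        (secFun s.1.1 (Subgroup.centralizer ({s.1.1} : Set G)) (χ : G → ℂ))
        (θ : Subgroup.centralizer ({s.1.1} : Set G) → ℂ) = (f χ : ℂ)) ∧
      (∀ χ ∈ B, f χ = 1 ∨ f χ = -1) ∧
      ∀ χ : IrrCharacter G, ∀ w : Subgroup.centralizer ({s.1.1} : Set G), ¬ 2 ∣ orderOf w →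
        blockPart s.1.2 (secFun s.1.1 (Subgroup.centralizer ({s.1.1} : Set G)) (χ : G → ℂ)) w =
          (f χ : ℂ) * (θ : Subgroup.centralizer ({s.1.1} : Set G) → ℂ) w := by
    rintro ⟨⟨x, b⟩, hs⟩
    obtain ⟨hx2, hx1, hb, hr, hd⟩ := hdata ⟨x, b⟩ hs
    exact exists_sign_vector (C := Subgroup.centralizer ({x} : Set G)) hM hx2 hx1 rfl hb hd hd2
      hr hk
  choose θ hθ f hf hsign hbp using hvec
  let e := S.equivFin
  have hconj : ∀ (s : S) (χ : IrrCharacter G), (f s χ : ℂ) =
      conj (regPair 2 (blockScale 2 s.1.2)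
        (secFun s.1.1 (Subgroup.centralizer ({s.1.1} : Set G)) (χ : G → ℂ))
        (θ s : Subgroup.centralizer ({s.1.1} : Set G) → ℂ)) := by
    intro s χ
    rw [hf, map_intCast]
  refine ⟨S.card, fun i => f (e.symm i), by omega, fun i => hsign _, fun i j hij => ?_,
    fun i z => ?_, fun i z hz => ?_, fun z hz => ?_⟩
  · have hne : e.symm i ≠ e.symm j := fun h => hij (e.symm.injective h)
    generalize e.symm i = si at hne ⊢
    generalize e.symm j = sj at hne ⊢
    suffices h : ∑ χ ∈ Finset.univ.filter (· ∈ B), (f si χ : ℂ) * conj (f sj χ : ℂ) = 0 by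
      simp only [map_intCast] at h
      exact_mod_cast h
    simp only [← hf]
    obtain ⟨hx2, hx1, hb, hr, hd⟩ := hdata _ si.2
    obtain ⟨hx2', hx1', hb', hr', hd'⟩ := hdata _ sj.2
    obtain ⟨⟨x, b⟩, hs⟩ := si
    obtain ⟨⟨x', b'⟩, hs'⟩ := sj
    have hxX := (Finset.mem_erase.1 (Finset.mem_sigma.1 hs).1).2
    have hxX' := (Finset.mem_erase.1 (Finset.mem_sigma.1 hs').1).2
    by_cases hxx : x = x'
    · subst hxx
      refine sum_regPair_mul_conj_same hM (hX x hxX) rfl hB hb.1 hb'.1 (fun h => hne ?_) _ _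
        (hθ _) (hθ _)
      exact Subtype.ext (by simp only at h ⊢; rw [h])
    · exact sum_regPair_mul_conj_of_not_isConj hM hB (hX x hxX) (hX x' hxX') rfl rfl
        (fun h => hxx (huniq hxX hxX' h)) _ _ _ _
  · simp only [hconj]
    exact sum_conj_regPair_div hM hB rfl (hdata _ (e.symm i).2).2.2.1.1 (hθ _) z
  · simp only [hconj]
    obtain ⟨hx1, hxX⟩ := Finset.mem_erase.1 (Finset.mem_sigma.1 (e.symm i).2).1
    exact sum_conj_regPair_regular hM hB (hX _ hxX) hx1 rfl _ _ hz
  · obtain ⟨a, ha⟩ := exists_isPPart Nat.prime_two z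
    obtain ⟨y0, hzy, hay, hak, hy0⟩ := id ha
    obtain ⟨x, ⟨hxX, hax⟩, -⟩ := hrep a hak
    obtain ⟨g, hgx⟩ := isConj_iff.1 hax
    have hx1 : x ≠ 1 := fun h => by
      have ha1 : a = 1 := isConj_one_left.1 (h ▸ hax)
      rw [← hzy, ha1, one_mul] at hz
      exact hy0 hz
    set u : G := g * y0 * g⁻¹
    have huC : u ∈ Subgroup.centralizer ({x} : Set G) := by
      rw [Subgroup.mem_centralizer_singleton_iff, ← hgx]
      simp only [u]
      calc g * y0 * g⁻¹ * (g * a * g⁻¹) = g * (y0 * a) * g⁻¹ := by group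
        _ = g * (a * y0) * g⁻¹ := by rw [hay.eq]
        _ = _ := by group
    have hu : ¬ 2 ∣ orderOf (⟨u, huC⟩ : Subgroup.centralizer ({x} : Set G)) := by
      rw [Subgroup.orderOf_mk]
      simpa [u, ← MulAut.conj_apply, MulEquiv.orderOf_eq] using hy0
    have hval : ∀ χ : IrrCharacter G, (χ : G → ℂ) z = (χ : G → ℂ) (x * u) := fun χ => by
      have e' : x * u = g * z * g⁻¹ := by rw [← hzy, ← hgx]; simp only [u]; group
      rw [e', irr_conj_invariant]
    let A : S → ℂ := fun s => if h : s.1.1 = x then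
      (θ s : Subgroup.centralizer ({s.1.1} : Set G) → ℂ) ⟨u, by rw [h]; exact huC⟩ else 0
    refine ⟨fun i => A (e.symm i), fun i => ?_, fun χ hχ => ?_⟩
    · simp only [A]
      split_ifs with h
      · exact mem_locRing.1 (mem_locRing_of_isIntegral (irr_isIntegral _ _))
      · exact mem_locRing.1 (locRing M).zero_mem
    rw [hval, Equiv.sum_comp e.symm (fun s => A s * (f s χ : ℂ))]
    have hsec := sum_blockPart (M := M)
      (f := secFun x (Subgroup.centralizer ({x} : Set G)) (χ : G → ℂ))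
      (isClassFunction_secFun rfl (IsCharacter.isClassFunction (irr_isCharacter χ))) ⟨u, huC⟩
    rw [show (χ : G → ℂ) (x * u) =
      secFun x (Subgroup.centralizer ({x} : Set G)) (χ : G → ℂ) ⟨u, huC⟩ from rfl, ← hsec]
    let T : Finset S := Finset.univ.filter fun s => s.1.1 = x
    rw [← Finset.sum_subset (Finset.subset_univ T) (fun s _ hs => by
      simp only [A, dif_neg (fun h => hs (Finset.mem_filter.2 ⟨Finset.mem_univ _, h⟩)), zero_mul])]
    symm
    refine Finset.sum_bij_ne_zero (fun s hs _ => (Finset.mem_filter.1 hs).2 ▸ s.1.2) ?_ ?_ ?_ ?_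
    · intro s hs _
      obtain ⟨⟨x', b⟩, hs'⟩ := s
      obtain rfl : x' = x := (Finset.mem_filter.1 hs).2
      exact mem_blocks.2 (hdata _ hs').2.2.1.1
    · intro s hs _ t ht _ h
      obtain ⟨⟨x', b⟩, hs'⟩ := s
      obtain ⟨⟨x'', b'⟩, ht'⟩ := t
      obtain rfl : x' = x := (Finset.mem_filter.1 hs).2
      obtain rfl : x'' = x' := (Finset.mem_filter.1 ht).2
      simp only at h
      subst h; rfl
    · intro b hb hne
      have hbi : IsInducedBlock M (Subgroup.centralizer ({x} : Set G)) b B := by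
        by_contra h
        exact hne (blockPart_secFun_eq_zero hM (hX x hxX) rfl hB hχ (mem_blocks.1 hb) h hu)
      have hbS : (⟨x, b⟩ : (x : G) × Set (IrrCharacter ↥(Subgroup.centralizer ({x} : Set G)))) ∈ S :=
        Finset.mem_sigma.2 ⟨Finset.mem_erase.2 ⟨hx1, hxX⟩, by
          rw [Set.Finite.mem_toFinset]; exact hbi⟩
      refine ⟨⟨_, hbS⟩, Finset.mem_filter.2 ⟨Finset.mem_univ _, rfl⟩, ?_, rfl⟩
      intro h
      apply hne
      rw [hbp ⟨_, hbS⟩ χ _ hu, ← h]
      simp only [A, dif_pos]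
      ring
    · intro s hs _
      obtain ⟨⟨x', b⟩, hs'⟩ := s
      obtain rfl : x' = x := (Finset.mem_filter.1 hs).2
      simp only [A, dif_pos]
      rw [hbp ⟨_, hs'⟩ χ _ hu]
      ring

end Cfsg.Agent.KleinSigns
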