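/-
Brauer pairs of a subgroup read in the group, and block parts along isomorphisms.
-/
import Cfsg.Agent.Lib.BrauerPairs.NilpotentMain
import Cfsg.Agent.Lib.KnoerrRobinson.Terms

set_option linter.unusedSectionVars false
set_option linter.style.haveILetI false

namespace Cfsg.Agent.LiftPairs

open Cfsg MonoidAlgebra Cfsg.Agent.Blocks Cfsg.Agent.BrauerPairs Cfsg.Agent.KnoerrRobinson Cfsg.Agent.Star
open scoped ComplexConjugate

universe u

section Iso

variable {K K' : Type u} [Group K] [Fintype K] [Group K'] [Fintype K'] {p : ℕ}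

theorem blockPart_pullB (e : K ≃* K') (b : Set (IrrCharacter K')) (f : K' → ℂ) (s : K) :
    blockPart (pullB e b) (fun t => f (e t)) s = blockPart b f (e s) := by
  rw [blockPart_eq_pair, blockPart_eq_pair, Nat.card_congr e.toEquiv]
  congr 1
  refine Fintype.sum_equiv e.toEquiv _ _ fun t => ?_
  rw [blockPair_pullB]
  rfl

theorem blockDefect_pullB (e : K ≃* K') (b : Set (IrrCharacter K')) :
    blockDefect p (pullB e b) = blockDefect p b := by
  have himg : (fun χ : IrrCharacter K => (charDegree (χ : K → ℂ)).factorization p) '' pullB e b =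
      (fun χ : IrrCharacter K' => (charDegree (χ : K' → ℂ)).factorization p) '' b := by
    ext n
    constructor
    · rintro ⟨χ, hχ, rfl⟩
      exact ⟨pullIrr e.symm χ, hχ, by simp [charDegree, pullIrr_apply]⟩
    · rintro ⟨χ, hχ, rfl⟩
      exact ⟨pullIrr e χ, (pullIrr_mem_pullB e b χ).2 hχ, by simp [charDegree, pullIrr_apply]⟩
  rw [blockDefect, blockDefect, himg, Nat.card_congr e.toEquiv]

theorem regPair_comp (e : K ≃* K') (lam : ℝ) (f g : K' → ℂ) :
    regPair p lam (fun t => f (e t)) (fun t => g (e t)) = regPair p lam f g := by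
  classical
  unfold regPair
  congr 1
  refine Fintype.sum_equiv e.toEquiv _ _ fun t => ?_
  show _ = pRegularPart p f (e t) * conj (pRegularPart p g (e t))
  simp only [pRegularPart_apply, MulEquiv.orderOf_eq]

theorem blockScale_pullB (e : K ≃* K') (b : Set (IrrCharacter K')) :
    blockScale p (pullB e b) = blockScale p b := by
  rw [blockScale, blockScale, blockDefect_pullB, Nat.card_congr e.toEquiv]

end Iso

variable {G : Type u} [Group G] [Fintype G] {p : ℕ} {M : Ideal AlgInt} [M.IsPrime]

/-- A pair of a subgroup read in the group. -/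
noncomputable def liftP (C : Subgroup G) (b : Pr (resField M) C) : Pr (resField M) G :=
  (b.1.map C.subtype, emb C b.2)

variable {C : Subgroup G} [Fact p.Prime] [CharP (resField M) p]

theorem isPair_liftP {b : Pr (resField M) C} (hb : IsPair p ⊤ b)
    (hC : Subgroup.centralizer ((b.1.map C.subtype : Subgroup G) : Set G) ≤ C) :
    IsPair p ⊤ (liftP C b) := by
  refine ⟨hb.pgroup.map _, le_top, ?_⟩
  rw [top_inf_eq]
  have h := isBlk_emb hb.blkC
  rwa [map_inf_centralizer, inf_eq_right.2 hC] at h

theorem isInvElt_emb {Q : Subgroup C} {y : MonoidAlgebra (resField M) C} (h : IsInvElt Q y) :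
    IsInvElt (Q.map C.subtype) (emb C y) := by
  rintro _ ⟨u, hu, rfl⟩ g
  show (emb C y).coeff ((u : G) * g * (u : G)⁻¹) = (emb C y).coeff g
  by_cases hg : g ∈ C
  · rw [coeff_emb_mem C _ hg, coeff_emb_mem C _ (mul_mem (mul_mem u.2 hg) (inv_mem u.2))]
    exact h u hu ⟨g, hg⟩
  · rw [coeff_emb_notMem C _ hg, coeff_emb_notMem C _]
    exact fun hc => hg (by simpa [mul_assoc] using mul_mem (mul_mem (inv_mem u.2) hc) u.2)

theorem nsub_liftP {b c : Pr (resField M) C} (h : NSub p ⊤ b c)
    (hC : Subgroup.centralizer ((b.1.map C.subtype : Subgroup G) : Set G) ≤ C) :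
    NSub p ⊤ (liftP C b) (liftP C c) := by
  refine ⟨isPair_liftP h.left hC,
    isPair_liftP h.right ((Subgroup.centralizer_le (Subgroup.map_mono h.le)).trans hC),
    Subgroup.map_mono h.le, ?_, isInvElt_emb h.inv, ?_⟩
  · rintro _ ⟨u, hu, rfl⟩
    refine mem_normalizer_of_cjS_eq ?_
    show (b.1.map C.subtype).map (MulAut.conj (u : G)).toMonoidHom = b.1.map C.subtype
    conv_rhs => rw [← cjS_eq_of_mem_normalizer (h.normal hu)]
    rw [cjS, Subgroup.map_map, Subgroup.map_map]
    rfl
  · show brTrunc (c.1.map C.subtype) (emb C b.2) * emb C c.2 = emb C c.2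
    rw [brTrunc_emb, ← map_mul, h.occ]

theorem subLE_liftP {b c : Pr (resField M) C} (h : SubLE p ⊤ b c)
    (hC : Subgroup.centralizer ((b.1.map C.subtype : Subgroup G) : Set G) ≤ C) :
    SubLE p ⊤ (liftP C b) (liftP C c) := by
  induction h using Relation.ReflTransGen.head_induction_on with
  | refl => exact Relation.ReflTransGen.refl
  | head h1 _ ih =>
    exact Relation.ReflTransGen.head (nsub_liftP h1 hC)
      (ih ((Subgroup.centralizer_le (Subgroup.map_mono h1.le)).trans hC))

/-- The centraliser inside a subgroup containing the centraliser. -/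
noncomputable def secEquiv (v : C) (hv : secC (v : G) ≤ C) : secC v ≃* secC (v : G) where
  toFun s := ⟨((s : C) : G), mem_secC.2 (congrArg Subtype.val (mem_secC.1 s.2))⟩
  invFun s := ⟨⟨(s : G), hv s.2⟩, mem_secC.2 (Subtype.ext (mem_secC.1 s.2))⟩
  left_inv _ := rfl
  right_inv _ := rfl
  map_mul' _ _ := rfl

theorem coe_secEquiv (v : C) (hv : secC (v : G) ≤ C) (s : secC v) :
    ((secEquiv v hv s : secC (v : G)) : G) = ((s : C) : G) := rfl

theorem zB_lift (v : C) (hv : secC (v : G) ≤ C) {b : Set (IrrCharacter (secC v))}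
    (hb : IsPBlock M b) :
    zB M (secC (v : G)) (pullB (secEquiv v hv).symm b) = emb C (zB M (secC v) b) := by
  set e := secEquiv v hv
  have h1 : Ek M (pullB e.symm b) = mapA e (Ek M b) := by
    have := mapA_Ek (M := M) e (isPBlock_pullB e.symm hb)
    rw [pullB_pullB] at this
    exact this.symm
  refine gaExt fun g => ?_
  rw [zB, zB, h1]
  by_cases hg : g ∈ secC (v : G)
  · rw [coeff_emb_mem _ _ hg, coeff_mapA, coeff_emb_mem _ _ (hv hg),
      coeff_emb_mem _ _ (show (⟨g, hv hg⟩ : C) ∈ secC v from
        mem_secC.2 (Subtype.ext (mem_secC.1 hg)))]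
    rfl
  · rw [coeff_emb_notMem _ _ hg]
    by_cases hgC : g ∈ C
    · rw [coeff_emb_mem _ _ hgC, coeff_emb_notMem]
      exact fun hc => hg (mem_secC.2 (congrArg Subtype.val (mem_secC.1 hc)))
    · rw [coeff_emb_notMem _ _ hgC]

/-- The section of the restriction is the restriction of the section. -/
theorem blockPart_secFun_lift (v : C) (hv : secC (v : G) ≤ C)
    (b : Set (IrrCharacter (secC v))) (f : G → ℂ) (s : secC v) :
    blockPart (pullB (secEquiv v hv).symm b) (secFun (v : G) (secC (v : G)) f) (secEquiv v hv s) =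
      blockPart b (secFun v (secC v) fun c : C => f c) s := by
  rw [← blockPart_pullB (secEquiv v hv), pullB_pullB]
  rfl

end Cfsg.Agent.LiftPairs
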