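/-
The local block at the central involution of a dihedral defect group, and the singular columns
on the cyclic part.
-/
import Cfsg.Agent.Lib.BrauerPairs.DihedralFusion
import Cfsg.Agent.Lib.BrauerPairs.LiftPairs
import Cfsg.Agent.Lib.BrauerPairs.KleinSections
import Cfsg.Agent.Lib.BrauerPairs.AbelianSections

set_option linter.unusedSectionVars false
set_option linter.style.haveILetI false

namespace Cfsg.Agent.DihedralLocal

open Cfsg MonoidAlgebra Cfsg.Agent.Blocks Cfsg.Agent.BrauerPairs Cfsg.Agent.Char Cfsg.Agent.Star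
  Cfsg.Agent.InertiaHeight
  Cfsg.Agent.NilpotentKeys Cfsg.Agent.NilpotentStructure Cfsg.Agent.NilpotentMain
  Cfsg.Agent.LiftPairs Cfsg.Agent.TwoFus
open scoped ComplexConjugate

universe u

/-- The values of a character on powers through roots of unity. -/
theorem exists_cyclo {K : Type u} [Group K] [Finite K] {θ : K → ℂ} (hθ : IsCharacter K θ)
    {g : K} {m : ℕ} (hm : 0 < m) (hg : g ^ m = 1) {ζ : ℂ} (hζ : IsPrimitiveRoot ζ m) :
    ∃ a : ℕ → ℕ, ∀ i : ℕ, θ (g ^ i) = ∑ j ∈ Finset.range m, (a j : ℂ) * ζ ^ (i * j) := by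
  classical
  haveI : NeZero m := ⟨hm.ne'⟩
  obtain ⟨n, ρ, rfl⟩ := hθ
  obtain ⟨S, -, hS, hval, -⟩ := exists_eigenvalues ρ g
  suffices H : ∀ T : Multiset ℂ, (∀ z ∈ T, z ^ m = 1) → ∃ a : ℕ → ℕ, ∀ i : ℕ,
      (T.map (fun z => z ^ i)).sum = ∑ j ∈ Finset.range m, (a j : ℂ) * ζ ^ (i * j) by
    obtain ⟨a, ha⟩ := H S fun z hz => by
      obtain ⟨c, hc⟩ := orderOf_dvd_of_pow_eq_one hg
      rw [hc, pow_mul, hS z hz, one_pow]
    exact ⟨a, fun i => (hval i).trans (ha i)⟩
  intro T
  induction T using Multiset.induction with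
  | empty => exact fun _ => ⟨0, fun i => by simp⟩
  | cons z T ih =>
    intro hT
    obtain ⟨a, ha⟩ := ih fun y hy => hT y (Multiset.mem_cons_of_mem hy)
    obtain ⟨j₀, hj₀, rfl⟩ := hζ.eq_pow_of_pow_eq_one (hT z (Multiset.mem_cons_self _ _))
    refine ⟨fun j => a j + if j = j₀ then 1 else 0, fun i => ?_⟩
    rw [Multiset.map_cons, Multiset.sum_cons, ha i]
    simp only [Nat.cast_add, Nat.cast_ite, Nat.cast_one, Nat.cast_zero, add_mul, ite_mul, one_mul,
      zero_mul, Finset.sum_add_distrib, Finset.sum_ite_eq', Finset.mem_range, hj₀, if_true]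
    rw [← pow_mul, mul_comm j₀ i]
    ring

variable {G : Type u} [Group G] [Fintype G] {p : ℕ} {M : Ideal AlgInt} [M.IsPrime]

theorem blockPart_sum {ι : Type*} (s : Finset ι) (b : Set (IrrCharacter G)) (c : ι → ℂ)
    (f : ι → G → ℂ) (t : G) :
    blockPart b (fun u => ∑ i ∈ s, c i * f i u) t = ∑ i ∈ s, c i * blockPart b (f i) t := by
  classical
  simp only [blockPart_eq_pair, Finset.sum_mul, Finset.mul_sum]
  rw [Finset.sum_comm]
  exact Finset.sum_congr rfl fun i _ => Finset.sum_congr rfl fun w _ => by ring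

theorem isClassFunction_blockPart (b : Set (IrrCharacter G)) (f : G → ℂ) :
    IsClassFunction G (blockPart b f) := by
  classical
  intro g h
  rw [blockPart_eq_sum, blockPart_eq_sum]
  exact Finset.sum_congr rfl fun φ _ => by
    rw [IsCharacter.isClassFunction (irr_isCharacter φ) g h]

/-- The scalar of a central element is an algebraic integer. -/
theorem isIntegral_scalar {χ : IrrCharacter G} {z : G} {c : ℂ}
    (hc : ∀ g, (χ : G → ℂ) (z * g) = c * (χ : G → ℂ) g) : IsIntegral ℤ c := by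
  have hk : ∀ k : ℕ, (χ : G → ℂ) (z ^ k * 1) = c ^ k * (χ : G → ℂ) 1 := by
    intro k
    induction k with
    | zero => simp
    | succ k ih => rw [pow_succ', mul_assoc, hc, ih, pow_succ']; ring
  have h1 := hk (orderOf z)
  rw [pow_orderOf_eq_one, one_mul] at h1
  have h2 : c ^ orderOf z = 1 := mul_right_cancel₀ (irr_one_ne_zero χ) (h1.symm.trans (one_mul _).symm)
  exact IsIntegral.of_pow (orderOf_pos z) (h2 ▸ isIntegral_one)

/-- The coefficients of sections are algebraic integers. -/
theorem secFun_coef_isIntegral (x : G) (χ : IrrCharacter G) (φ : IrrCharacter (secC x)) :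
    IsIntegral ℤ (classInner (secFun x (secC x) (χ : G → ℂ)) (φ : secC x → ℂ)) := by
  classical
  have hx : (⟨x, mem_secC.2 rfl⟩ : secC x) ∈ Subgroup.center (secC x) :=
    Subgroup.mem_center_iff.2 fun g => Subtype.ext (mem_secC.1 g.2)
  choose c _ hc _ using fun ψ : IrrCharacter (secC x) => IsIrrCharacter.exists_central_scalar ψ.2 hx
  have hres : IsClassFunction (secC x) fun w : secC x => (χ : G → ℂ) w :=
    IsCharacter.isClassFunction (IsCharacter.restrict (irr_isCharacter χ) _)
  have hf : secFun x (secC x) (χ : G → ℂ) = ∑ ψ : IrrCharacter (secC x),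
      (classInner (fun w : secC x => (χ : G → ℂ) w) (ψ : secC x → ℂ) * c ψ) •
        (ψ : secC x → ℂ) := by
    funext w
    have h := congrFun (classFunction_eq_sum hres) ((⟨x, mem_secC.2 rfl⟩ : secC x) * w)
    simp only [Finset.sum_apply, Pi.smul_apply, smul_eq_mul] at h ⊢
    refine h.trans (Finset.sum_congr rfl fun ψ _ => ?_)
    rw [hc]; ring
  rw [hf, classInner_combination]
  obtain ⟨n, hn⟩ := IsCharacter.exists_classInner_nat
    (IsCharacter.restrict (irr_isCharacter χ) (secC x)) (irr_isCharacter φ)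
  refine IsIntegral.mul ?_ (isIntegral_scalar (hc φ))
  rw [hn]
  exact isIntegral_natCast n

/-- The block parts of sections are algebraic integers. -/
theorem blockPart_secFun_isIntegral (x : G) (b : Set (IrrCharacter (secC x)))
    (χ : IrrCharacter G) (s : secC x) :
    IsIntegral ℤ (blockPart b (secFun x (secC x) (χ : G → ℂ)) s) := by
  classical
  rw [blockPart_eq_sum]
  exact IsIntegral.sum _ fun φ _ =>
    (secFun_coef_isIntegral x χ φ).mul (irr_isIntegral φ s)

/-- Sums over the regular elements weighted by the class lengths are sums over classes. -/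
theorem sum_div_index (F : G → ℂ) (hF : IsClassFunction G F) [Fintype (ConjClasses G)] :
    ∑ w : G, F w / ((Subgroup.centralizer ({w} : Set G)).index : ℂ) =
      ∑ K : ConjClasses G, F K.out := by
  classical
  rw [← Finset.sum_fiberwise (Finset.univ : Finset G) ConjClasses.mk]
  refine Finset.sum_congr rfl fun K _ => ?_
  have hfil : (Finset.univ.filter fun w : G => ConjClasses.mk w = K) = classFinset K.out := by
    ext w
    rw [mem_classFinset, Finset.mem_filter, ← ConjClasses.mk_eq_mk_iff_isConj]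
    simp only [Finset.mem_univ, true_and]
    rw [show ConjClasses.mk (K.out) = K from Quotient.out_eq K, eq_comm]
  rw [hfil]
  have hc : ∀ w ∈ classFinset K.out, F w / ((Subgroup.centralizer ({w} : Set G)).index : ℂ) =
      F K.out / ((classFinset K.out).card : ℂ) := by
    intro w hw
    obtain ⟨c, rfl⟩ := isConj_iff.1 ((mem_classFinset).1 hw)
    rw [hF, ← card_classFinset,
      show classFinset (c * K.out * c⁻¹) = classFinset K.out by
        ext z
        simp only [mem_classFinset]
        exact ⟨fun e => (isConj_iff.2 ⟨c, rfl⟩).trans e,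
          fun e => (isConj_iff.2 ⟨c, rfl⟩).symm.trans e⟩]
  rw [Finset.sum_congr rfl hc, Finset.sum_const, nsmul_eq_mul, mul_div_cancel₀]
  exact Nat.cast_ne_zero.2 (Finset.card_ne_zero.2 ⟨K.out, mem_classFinset.2 (IsConj.refl _)⟩)

/-- The pairing against a function with values in the ideal lies in the ideal. -/
theorem regPair_memLocalIdeal (hM : IsPModular p M) {b : Set (IrrCharacter G)}
    (hb : IsPBlock M b) {θ : IrrCharacter G} (hθ : θ ∈ b) {v : G → ℂ} (hv : IsClassFunction G v)
    (hvM : ∀ s, ¬ p ∣ orderOf s → MemLocalIdeal M (conj (v s))) :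
    MemLocalIdeal M (regPair p (blockScale p b) (θ : G → ℂ) v) := by
  classical
  haveI : Finite (ConjClasses G) := Finite.of_surjective _ ConjClasses.mk_surjective
  haveI : Fintype (ConjClasses G) := Fintype.ofFinite _
  set F : G → ℂ := fun w => if p ∣ orderOf w then 0
    else conj (v w) * centralChar (θ : G → ℂ) w with hF
  have hFc : IsClassFunction G F := by
    intro g h
    have ho : orderOf (h * g * h⁻¹) = orderOf g :=
      orderOf_injective (MulAut.conj h).toMonoidHom (MulAut.conj h).injective g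
    have hi : (Subgroup.centralizer ({h * g * h⁻¹} : Set G)).index =
        (Subgroup.centralizer ({g} : Set G)).index := by
      rw [← cjS_centralizer_singleton]
      exact Subgroup.index_map_equiv _ (MulAut.conj h)
    simp only [hF, centralChar, ho, hv g h, IsCharacter.isClassFunction (irr_isCharacter θ) g h, hi]
  have hsum := sum_div_index F hFc
  have e : regPair p (blockScale p b) (θ : G → ℂ) v =
      (((p ^ blockDefect p b * charDegree (θ : G → ℂ) : ℕ) : ℂ) / (Nat.card G : ℂ)) *
        ∑ K : ConjClasses G, F K.out := by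
    rw [← hsum, regPair_eq_sum, Finset.sum_filter, Finset.mul_sum, Finset.mul_sum]
    refine Finset.sum_congr rfl fun w _ => ?_
    simp only [hF]
    split_ifs with hw
    · simp
    have hi0 : ((Subgroup.centralizer ({w} : Set G)).index : ℂ) ≠ 0 :=
      Nat.cast_ne_zero.2 Subgroup.index_ne_zero_of_finite
    have hG0 : (Nat.card G : ℂ) ≠ 0 := Nat.cast_ne_zero.2 Nat.card_pos.ne'
    have hd0 : (charDegree (θ : G → ℂ) : ℂ) ≠ 0 := Nat.cast_ne_zero.2 (charDegree_pos θ).ne'
    rw [blockScale, centralChar, irr_one_eq_charDegree θ]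
    push_cast
    field_simp
  rw [e]
  refine MemLocalIdeal.mul_left (memLocalRing_natDiv hM ?_) (memLocalIdeal_sum _ _ fun K _ => ?_)
  · rw [Nat.factorization_mul (pow_ne_zero _ hM.1.ne_zero) (charDegree_pos θ).ne',
      Finsupp.add_apply, hM.1.factorization_pow, Finsupp.single_eq_same]
    have h1 := Cfsg.Agent.Blocks.degExp_eq_add_height hM hb hθ
    have h2 := blockDefect_le (p := p) b
    omega
  · simp only [hF]
    split_ifs with hK
    · exact memLocalIdeal_zero
    · exact MemLocalIdeal.mul_right (hvM _ hK) (centralChar_memLocalRing θ _)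

/-- A function of norm one has a value outside the ideal. -/
theorem exists_unit_value (hM : IsPModular p M) {b : Set (IrrCharacter G)} (hb : IsPBlock M b)
    {f : G → ℂ} (hcoef : ∀ θ : IrrCharacter G, IsIntegral ℤ (classInner f (θ : G → ℂ)))
    (h1 : regPair p (blockScale p b) (blockPart b f) (blockPart b f) = 1) :
    ∃ s : G, ¬ p ∣ orderOf s ∧ ¬ MemLocalIdeal M (conj (blockPart b f s)) := by
  classical
  by_contra hcon
  push Not at hcon
  set P := blockPart b f with hPdef
  have hP : IsClassFunction G P := isClassFunction_blockPart b f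
  have e : P = bcomb b fun θ => classInner f (θ : G → ℂ) := funext fun t => blockPart_eq_sum b f t
  have h2 : MemLocalIdeal M (regPair p (blockScale p b) P P) := by
    conv => arg 2; arg 3; rw [e]
    rw [regPair_bcomb_left]
    exact memLocalIdeal_sum _ _ fun θ hθ => MemLocalIdeal.mul_left
      (mem_locRing_of_isIntegral (hcoef θ))
      (regPair_memLocalIdeal hM hb (Finset.mem_filter.1 hθ).2 hP hcon)
  rw [h1] at h2
  exact not_memLocalIdeal_one h2

/-- The facts at one element of the cyclic part. -/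
structure LocalData (M : Ideal AlgInt) [M.IsPrime] (B : Set (IrrCharacter G))
    (a : Pr (resField M) G) (ν : IrrCharacter G → G → ℂ) (u : G)
    (b : Set (IrrCharacter (secC u))) (P : secC u → ℂ) : Prop where
  ind : IsInducedBlock M (secC u) b B
  rank : blockRank 2 b = 1
  defect : 2 ^ blockDefect 2 b = Nat.card (a.1 ⊓ secC u : Subgroup G)
  sub : SubLE 2 ⊤ ((Subgroup.zpowers u, zB M (secC u) b) : Pr (resField M) G) a
  cls : IsClassFunction (secC u) P
  intg : ∀ s, IsIntegral ℤ (P s)
  unit : ∃ t : secC u, ¬ 2 ∣ orderOf t ∧ ¬ MemLocalIdeal M (conj (P t))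
  self : blockPart b P = P
  norm : regPair 2 (blockScale 2 b) P P = 1
  part : ∀ (χ : IrrCharacter G) (s : secC u), ¬ 2 ∣ orderOf s →
    blockPart b (secFun u (secC u) (χ : G → ℂ)) s = ν χ u * P s

variable {B : Set (IrrCharacter G)} {D : Subgroup G}

theorem zpow_mem_of_ne_one (d : Dih D) {s h : ℕ} (hms : d.m = 2 ^ s) (hh : d.m = 2 * h) {u : G}
    (hu : u ∈ Subgroup.zpowers d.x) (hu1 : u ≠ 1) : d.x ^ h ∈ Subgroup.zpowers u := by
  obtain ⟨t, -, ht⟩ := (Nat.dvd_prime_pow Nat.prime_two).1
    (show orderOf u ∣ 2 ^ s from hms ▸ d.hm ▸ orderOf_dvd_of_mem_zpowers hu)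
  have ht0 : t ≠ 0 := fun e => hu1 (orderOf_eq_one_iff.1 (by rw [ht, e, pow_zero]))
  set v := u ^ 2 ^ (t - 1) with hv
  have hv2 : v * v = 1 := by
    rw [hv, ← pow_add, ← two_mul, ← pow_succ', show t - 1 + 1 = t by omega, ← ht, pow_orderOf_eq_one]
  have hv1 : v ≠ 1 := fun e => by
    have h1 := orderOf_dvd_of_pow_eq_one (hv.symm.trans e)
    rw [ht] at h1
    have := (Nat.pow_dvd_pow_iff_le_right (by norm_num : 1 < 2)).1 h1
    omega
  rcases DihedralFusion.sq_one_cases d hh (pow_mem hu _) hv2 with e | e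
  · exact absurd e hv1
  · rw [← e]; exact Subgroup.npow_mem_zpowers _ _

theorem isPairOf_ek_unique {B B' : Set (IrrCharacter G)} (hB : IsPBlock M B) (hB' : IsPBlock M B')
    {c : Pr (resField M) G} [Fact (Nat.Prime 2)] [CharP (resField M) 2]
    (h : IsPairOf 2 ⊤ (Ek M B) c) (h' : IsPairOf 2 ⊤ (Ek M B') c) : B = B' :=
  Ek_injective hB hB' (h.unique h')

set_option maxHeartbeats 1600000 in
theorem exists_local (hM : IsPModular 2 M) (hB : IsPBlock M B)
    (hD : IsDefectGroup 2 M B D) (d : Dih D) {s h : ℕ} (hms : d.m = 2 ^ s)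
    (hh : d.m = 2 * h) :
    ∃ a : Pr (resField M) G, IsMax 2 (Ek M B) a ∧ a.1 = D ∧
      ∃ ν : IrrCharacter G → G → ℂ,
        (∀ χ, ∀ g ∈ D, ∀ t ∈ D, ν χ (t * g * t⁻¹) = ν χ g) ∧
        (∀ χ (ζ : ℂ), IsPrimitiveRoot ζ d.m → ∃ A : ℕ → ℕ, ∀ i : ℕ,
          ν χ (d.x ^ i) = ∑ j ∈ Finset.range d.m, (A j : ℂ) * ζ ^ (i * j)) ∧
        ∀ u ∈ Subgroup.zpowers d.x, u ≠ 1 → ∃ b P, LocalData M B a ν u b P := by
  classical
  haveI : Fact (Nat.Prime 2) := ⟨Nat.prime_two⟩
  haveI : CharP (resField M) 2 := resField_charP hM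
  have hDg := (isDefectGroup_iff hB D).1 hD
  obtain ⟨e₀, he₀⟩ := exists_pairOf_defGrp (isBlk_Ek hB) hDg
  have hmax₀ : IsMax 2 (Ek M B) (D, e₀) := ⟨he₀, hDg⟩
  set z := d.x ^ h with hzdef
  have hh0 : 1 ≤ h := by have := d.two_le; omega
  have hzD : z ∈ D := pow_mem d.hx h
  have hcen : ∀ a ∈ D, a * z = z * a := fun a ha => by
    have e : d.z = z := by
      rw [Dih.z, hzdef, ← zpow_natCast, hh]
      congr 1
      push_cast
      omega
    rw [← e]; exact d.z_comm ha
  have hDC : D ≤ secC z := fun a ha => mem_secC.2 (hcen a ha)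
  have hCcen : Subgroup.centralizer (D : Set G) ≤ secC z := fun g hg =>
    mem_secC.2 (Subgroup.mem_centralizer_iff.1 hg z hzD).symm
  -- the local block
  set C := secC z with hC
  have hsub₀ := belowAt_spec (p := 2) hmax₀.pair (x := z) hzD
  obtain ⟨bz, hbz, hbze⟩ := exists_eq_zB (H := C) (hsub₀.left hmax₀.pair).blk
  simp only at hbze
  rw [← hbze] at hsub₀
  have hNz : C ≤ Subgroup.normalizer ((Subgroup.zpowers z : Subgroup G) : Set G) := by
    refine le_trans ?_ (Subgroup.centralizer_le_normalizer _)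
    rw [centralizer_zpowers_eq, hC, secC_eq]
  have hz₀ : IsPairOf 2 C (zB M C bz) (D, e₀) :=
    ⟨(isPair_sub_iff hCcen).2 ⟨hmax₀.pair, hDC⟩, isBlk_zB C hbz,
      (hsub₀.nsub hmax₀.pair (hDC.trans hNz)).occ⟩
  have hnoH : NoExt 2 C (D, e₀) := fun e he => by
    have hCe : Subgroup.centralizer (e.1 : Set G) ≤ C := (Subgroup.centralizer_le he.le).trans hCcen
    exact hmax₀.pairOf.noExt hDg e
      ⟨hmax₀.pair, ((isPair_sub_iff hCe).1 he.right).1, he.le, he.normal, he.inv, he.occ⟩
  have hdf : IsDefectGroup 2 M bz (D.subgroupOf C) :=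
    (isDefectGroup_subgroupOf_iff hbz hDC).2 (hnoH.isDefGrp hz₀)
  have hDgC := (isDefectGroup_iff hbz _).1 hdf
  obtain ⟨eC, heC⟩ := exists_pairOf_defGrp (isBlk_Ek hbz) hDgC
  set aC : Pr (resField M) C := (D.subgroupOf C, eC) with haC
  have hmaxC : IsMax 2 (Ek M bz) aC := ⟨heC, hDgC⟩
  have hmapD : (D.subgroupOf C).map C.subtype = D := Subgroup.map_subgroupOf_eq_of_le hDC
  -- nilpotence
  have hnil : IsNilB 2 ⊤ (Ek M bz) := by
    refine isNilB_of_below hmaxC fun b hb g hg hreg => ?_
    have hQ : b.1.map C.subtype ≤ D := (Subgroup.map_mono hb.le).trans hmapD.le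
    have hgN : (g : G) ∈ Subgroup.normalizer ((b.1.map C.subtype : Subgroup G) : Set G) := by
      refine mem_normalizer_of_cjS_eq ?_
      show (b.1.map C.subtype).map (MulAut.conj (g : G)).toMonoidHom = b.1.map C.subtype
      conv_rhs => rw [← cjS_eq_of_mem_normalizer hg.1]
      rw [cjS, Subgroup.map_map, Subgroup.map_map]
      rfl
    have h1 := DihedralFusion.regular_fix d hms hh hQ hgN
      (by simpa only [IsPRegular, Subgroup.orderOf_coe] using hreg)
      (by rw [mem_secC.1 g.2, mul_inv_cancel_right])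
    exact Subgroup.mem_centralizer_iff.2 fun q hq =>
      Subtype.ext (Subgroup.mem_centralizer_iff.1 h1 _ ⟨q, hq, rfl⟩)
  have hI : IsInner 2 aC := isInner_of_isNilB hmaxC hnil
  have hnB : IsNilpotentBlock 2 M bz := (isNilpotentBlock_iff hM).2 ⟨hbz, hnil⟩
  obtain ⟨χ₀, hχ₀, h0⟩ := exists_heightZero hM hbz
  obtain ⟨Φ, hΦb, hΦ, hinj⟩ := exists_phi hM hbz hmaxC hI hχ₀ h0
  obtain ⟨Φ', hΦ'b, hinj', -, hsurj'⟩ := exists_structure hM hbz hmaxC hI
    (fun x _ _ b hb hp =>
      blockRank_eq_one_of_nilpotent hM (isNilpotentBlock_local hM hnil hb hp)) hχ₀ h0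
  have hsurj : ∀ ψ ∈ bz, ∃ θ, Φ θ = ψ := by
    intro ψ hψ
    have himg : Finset.univ.image Φ = Finset.univ.filter (· ∈ bz) := by
      refine Finset.eq_of_subset_of_card_le (fun φ hφ => ?_) ?_
      · obtain ⟨θ, -, rfl⟩ := Finset.mem_image.1 hφ
        exact Finset.mem_filter.2 ⟨Finset.mem_univ _, hΦb θ⟩
      · rw [Finset.card_image_of_injective _ hinj, ← Finset.card_image_of_injective _ hinj']
        refine Finset.card_le_card fun φ hφ => ?_
        obtain ⟨θ, hθ⟩ := hsurj' φ (Finset.mem_filter.1 hφ).2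
        exact Finset.mem_image.2 ⟨θ, Finset.mem_univ _, hθ⟩
    obtain ⟨θ, -, hθ⟩ := Finset.mem_image.1 (himg.ge (Finset.mem_filter.2 ⟨Finset.mem_univ _, hψ⟩))
    exact ⟨θ, hθ⟩
  -- the pair in the group
  set a := liftP C aC with ha
  have hCa : Subgroup.centralizer ((aC.1.map C.subtype : Subgroup G) : Set G) ≤ C := by
    rw [haC, hmapD]; exact hCcen
  have haD : a.1 = D := hmapD
  have hpa : IsPair 2 ⊤ a := isPair_liftP hmaxC.pair hCa
  have hsa : NSub 2 ⊤ ((Subgroup.zpowers z, zB M C bz) : Pr (resField M) G) a := by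
    refine ⟨hsub₀.left hmax₀.pair, hpa, Subgroup.zpowers_le.2 (haD ▸ hzD),
      (haD.le.trans hDC).trans hNz, fun v hv => ?_, ?_⟩
    · exact (isBlk_zB C hbz).inZ.inv v (hDC (haD.le hv))
    · show brTrunc (aC.1.map C.subtype) (emb C (Ek M bz)) * emb C aC.2 = emb C aC.2
      rw [brTrunc_emb, ← map_mul, heC.occ]
  have hpz : IsPairOf 2 ⊤ (Ek M B) ((Subgroup.zpowers z, zB M C bz) : Pr (resField M) G) :=
    hsub₀.pairOf_iff.2 hmax₀.pairOf
  have hmax : IsMax 2 (Ek M B) a := ⟨hsa.pairOf_right hpz, haD ▸ hDg⟩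
  -- the columns
  have hres : ∀ χ : IrrCharacter G, IsCharacter C fun c : C => (χ : G → ℂ) c := fun χ =>
    IsCharacter.restrict (irr_isCharacter χ) C
  choose N hN using fun (χ : IrrCharacter G) (φ : IrrCharacter C) =>
    IsCharacter.exists_classInner_nat (hres χ) (irr_isCharacter φ)
  let ν : IrrCharacter G → G → ℂ := fun χ g => if hg : g ∈ C then
    ∑ θ : IrrCharacter aC.1, (N χ (Φ θ) : ℂ) * cfn aC θ ⟨g, hg⟩ else 0
  refine ⟨a, hmax, haD, ν, fun χ g hg t ht => ?_, fun χ ζ hζ => ?_, fun u hu hu1 => ?_⟩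
  · simp only [ν]
    rw [dif_pos (hDC (mul_mem (mul_mem ht hg) (inv_mem ht))), dif_pos (hDC hg)]
    refine Finset.sum_congr rfl fun θ _ => ?_
    congr 1
    exact cfn_conj (t := (⟨t, hDC ht⟩ : C)) θ
      (Subgroup.mem_subgroupOf.2 ht) (x := (⟨g, hDC hg⟩ : C)) (Subgroup.mem_subgroupOf.2 hg)
  · have hm0 : 0 < d.m := by have := d.two_le; omega
    have hxC : d.x ∈ C := hDC d.hx
    let x' : aC.1 := ⟨⟨d.x, hxC⟩, Subgroup.mem_subgroupOf.2 d.hx⟩
    have hx' : x' ^ d.m = 1 := Subtype.ext (Subtype.ext (by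
      push_cast; rw [← d.hm]; exact pow_orderOf_eq_one d.x))
    choose A hA using fun θ : IrrCharacter aC.1 =>
      exists_cyclo (irr_isCharacter θ) hm0 hx' hζ
    refine ⟨fun j => ∑ θ : IrrCharacter aC.1, N χ (Φ θ) * A θ j, fun i => ?_⟩
    simp only [ν]
    rw [dif_pos (pow_mem hxC i)]
    simp only [Nat.cast_sum, Nat.cast_mul, Finset.sum_mul]
    rw [Finset.sum_comm]
    refine Finset.sum_congr rfl fun θ _ => ?_
    rw [cfn_mem θ (show (⟨d.x ^ i, pow_mem hxC i⟩ : C) ∈ aC.1 from
      Subgroup.mem_subgroupOf.2 (pow_mem d.hx i)),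
      show (⟨⟨d.x ^ i, pow_mem hxC i⟩, Subgroup.mem_subgroupOf.2 (pow_mem d.hx i)⟩ : aC.1) = x' ^ i
        from Subtype.ext (Subtype.ext (by push_cast; rfl)), hA θ i, Finset.mul_sum]
    exact Finset.sum_congr rfl fun j _ => by ring
  · have huD : u ∈ D := (Subgroup.zpowers_le.2 d.hx) hu
    have hzu := zpow_mem_of_ne_one d hms hh hu hu1
    obtain ⟨k, hk⟩ := Subgroup.mem_zpowers_iff.1 hzu
    have hv : secC u ≤ C := fun g hg =>
      mem_secC.2 (by rw [hzdef, ← hk]; exact ((show Commute g u from mem_secC.1 hg).zpow_right k).eq)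
    set u' : C := ⟨u, hDC huD⟩ with hu'
    have huaC : u' ∈ aC.1 := Subgroup.mem_subgroupOf.2 huD
    have hsub : SubLE 2 ⊤ ((Subgroup.zpowers u', belowAt 2 aC u') : Pr (resField M) C) aC :=
      belowAt_spec hmaxC.pair huaC
    obtain ⟨b', hb', hbe'⟩ := exists_eq_zB (H := secC u') (by
      have h := (hsub.left hmaxC.pair).blk
      exact h : IsBlk _ (belowAt 2 aC u'))
    rw [← hbe'] at hsub
    have hp' : IsPairOf 2 ⊤ (Ek M bz) ((Subgroup.zpowers u', zB M (secC u') b') : Pr (resField M) C) :=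
      hsub.pairOf_iff.2 hmaxC.pairOf
    have hupow : ∃ i, orderOf u' = 2 ^ i := pPow_of_mem hmaxC.pair huaC
    have hupowG : ∃ i, orderOf u = 2 ^ i := by
      obtain ⟨i, hi⟩ := hupow
      exact ⟨i, by rwa [← Subgroup.orderOf_coe] at hi⟩
    obtain ⟨heq, -⟩ := equality hM hbz hmaxC hI hχ₀ h0 (g := 1) huaC
    have hkey : key 2 aC (1, u') = (u', zB M (secC u') b') := by
      rw [key, cjP_one, one_mul, inv_one, mul_one, hbe']
    rw [hkey] at heq
    obtain ⟨hnorm, hdef⟩ := heq b' hb' rfl
    set e := secEquiv u' hv with he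
    set b := pullB e.symm b' with hbdef
    have hb : IsPBlock M b := isPBlock_pullB e.symm hb'
    have hzB : zB M (secC u) b = emb C (zB M (secC u') b') := zB_lift u' hv hb'
    have hmapu : (Subgroup.zpowers u').map C.subtype = Subgroup.zpowers u :=
      MonoidHom.map_zpowers _ _
    have hsubG : SubLE 2 ⊤ ((Subgroup.zpowers u, zB M (secC u) b) : Pr (resField M) G) a := by
      have h := subLE_liftP hsub (C := C) (by
        rw [hmapu, centralizer_zpowers_eq, ← secC_eq]; exact hv)
      rw [liftP] at h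
      simp only [hmapu, ← hzB] at h
      exact h
    have hpu : IsPairOf 2 ⊤ (Ek M B) ((Subgroup.zpowers u, zB M (secC u) b) : Pr (resField M) G) :=
      hsubG.pairOf_iff.2 hmax.pairOf
    set P : secC u → ℂ := fun t =>
      blockPart b' (secFun u' (secC u') (χ₀ : C → ℂ)) (e.symm t) with hP
    have hPself : blockPart b P = P := by
      funext t
      have h1 := blockPart_pullB e.symm b' (blockPart b' (secFun u' (secC u') (χ₀ : C → ℂ))) t
      rw [blockPart_self] at h1
      exact h1
    refine ⟨b, P, ⟨(induced_iff_pairOf hM hB hupowG (secC_eq u) hb).2 hpu, ?_, ?_, hsubG, ?_, ?_,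
      ?_, hPself, ?_, fun χ t ht => ?_⟩⟩
    · rw [hbdef, AbelianSections.blockRank_pullB]
      exact blockRank_eq_one_of_nilpotent hM (isNilpotentBlock_local hM hnil hb' hp')
    · rw [hbdef, blockDefect_pullB, hdef, haD, cu]
      refine Nat.card_congr
        { toFun := fun g => ⟨((g : C) : G), Subgroup.mem_subgroupOf.1 g.2.1,
            mem_secC.2 (congrArg Subtype.val (Subgroup.mem_centralizer_singleton_iff.1 g.2.2))⟩
          invFun := fun g => ⟨⟨(g : G), hDC g.2.1⟩, Subgroup.mem_subgroupOf.2 g.2.1,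
            Subgroup.mem_centralizer_singleton_iff.2 (Subtype.ext (mem_secC.1 g.2.2))⟩
          left_inv := fun g => rfl
          right_inv := fun g => rfl }
    · intro g h'
      simp only [hP]
      rw [map_mul, map_mul, map_inv]
      exact isClassFunction_blockPart b' _ (e.symm g) (e.symm h')
    · exact fun t => blockPart_secFun_isIntegral u' b' χ₀ _
    · obtain ⟨t, ht, htM⟩ := exists_unit_value hM hb'
        (fun θ => secFun_coef_isIntegral u' χ₀ θ) hnorm
      exact ⟨e t, by rwa [MulEquiv.orderOf_eq], by simpa only [hP, MulEquiv.symm_apply_apply] using htM⟩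
    · rw [hbdef, blockScale_pullB]
      exact (regPair_comp e.symm _ _ _).trans hnorm
    · have hts : ¬ 2 ∣ orderOf (e.symm t) := by rwa [MulEquiv.orderOf_eq]
      conv_lhs => rw [← e.apply_symm_apply t]
      rw [hbdef, he, blockPart_secFun_lift]
      simp only [ν]
      rw [dif_pos (hDC huD), Finset.sum_mul]
      have hexp : (fun c : C => (χ : G → ℂ) c) =
          fun c : C => ∑ φ : IrrCharacter C, (N χ φ : ℂ) * (φ : C → ℂ) c := by
        funext c
        have h := congrFun (classFunction_eq_sum (IsCharacter.isClassFunction (hres χ))) c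
        simp only [Finset.sum_apply, Pi.smul_apply, smul_eq_mul, hN χ] at h
        exact h
      rw [hexp]
      have hlin := blockPart_sum (Finset.univ : Finset (IrrCharacter C)) b'
        (fun φ => (N χ φ : ℂ)) (fun φ => secFun u' (secC u') (φ : C → ℂ)) (e.symm t)
      refine hlin.trans ?_
      rw [← Finset.sum_subset (Finset.subset_univ (Finset.univ.image Φ)) fun φ _ hφ => ?_,
        Finset.sum_image fun _ _ _ _ h => hinj h]
      · refine Finset.sum_congr rfl fun θ _ => ?_
        rw [hΦ θ, blockPart_secFun_star hM hupow χ₀ hb' hts,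
          val_eq (isStarFn_cfn hI θ) (g := 1) (by rw [cjP_one]; exact hsub)]
        simp only [one_mul, inv_one, mul_one, hP, hu']
        ring
      · refine mul_eq_zero_of_right _ ?_
        have hφb : φ ∉ bz := fun hc => hφ (by
          obtain ⟨θ, hθ⟩ := hsurj φ hc
          exact Finset.mem_image.2 ⟨θ, Finset.mem_univ _, hθ⟩)
        refine blockPart_eq_zero_of_not_pair hM (isPBlock_blockOf φ) hupow (self_mem_blockOf φ) hb'
          (fun hc => hφb ?_) hts
        rw [isPairOf_ek_unique hbz (isPBlock_blockOf φ) hp' hc]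
        exact self_mem_blockOf φ

end Cfsg.Agent.DihedralLocal
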