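/-
The square of the class element of a subsection of a two-element has no part on that subsection.
-/
import Cfsg.Agent.Lib.BrauerPairs.LiftPairs

set_option linter.unusedSectionVars false
set_option linter.style.haveILetI false

namespace Cfsg.Agent.SquareCongr

open Cfsg MonoidAlgebra Cfsg.Agent.Blocks Cfsg.Agent.BrauerPairs Cfsg.Agent.Char Cfsg.Agent.Star
open scoped ComplexConjugate

universe u

variable {G : Type u} [Group G] [Fintype G] {p : ℕ} {M : Ideal AlgInt} [M.IsPrime]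

/-- The coefficients of a class element through its central characters. -/
theorem coeff_classElt {y : MonoidAlgebra (locRing M) G} (hy : IsClassElt y) (g : G) :
    ((y.coeff g : locRing M) : ℂ) = (Nat.card G : ℂ)⁻¹ *
      ∑ χ : IrrCharacter G, omegaR χ y * ((χ : G → ℂ) 1 * conj ((χ : G → ℂ) g)) := by
  classical
  rw [← coeff_toC, classElt_eq_sum (IsClassElt.toC hy), coeff_sum, Finset.mul_sum]
  rw [Finsupp.coe_finset_sum, Finset.sum_apply]
  refine Finset.sum_congr rfl fun χ _ => ?_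
  rw [coeff_smul, Finsupp.smul_apply, coeff_blockElt, blockCoeff_eq_sum,
    show (Finset.univ.filter (· ∈ ({χ} : Set (IrrCharacter G)))) = {χ} by ext; simp,
    Finset.sum_singleton, smul_eq_mul, omegaR]
  ring

/-- The coefficients of a class element multiplied by the idempotent of a block. -/
theorem coeff_block_mul {b : Set (IrrCharacter G)} [DecidablePred (· ∈ b)] (hb : IsPBlock M b)
    {y : MonoidAlgebra (locRing M) G} (hy : IsClassElt y) (g : G) :
    (((blockEltR M b * y).coeff g : locRing M) : ℂ) = (Nat.card G : ℂ)⁻¹ *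
      ∑ χ ∈ Finset.univ.filter (· ∈ b), omegaR χ y * ((χ : G → ℂ) 1 * conj ((χ : G → ℂ) g)) := by
  classical
  rw [coeff_classElt (IsClassElt.mul (isClassElt_blockEltR b) hy), Finset.sum_filter]
  congr 1
  refine Finset.sum_congr rfl fun χ _ => ?_
  rw [omegaR_mul χ (isClassElt_blockEltR b) hy, omegaR_blockEltR hb]
  split_ifs <;> simp

/-- In a block of rank one the regular values are proportional. -/
theorem regular_ratio {b : Set (IrrCharacter G)} (hl : blockRank p b = 1) (hp : p.Prime)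
    {θ η : IrrCharacter G} (hθ : θ ∈ b) (hη : η ∈ b) {s : G} (hs : ¬ p ∣ orderOf s) :
    (θ : G → ℂ) s * (η : G → ℂ) 1 = (η : G → ℂ) s * (θ : G → ℂ) 1 := by
  classical
  set V := Submodule.span ℂ ((fun χ : IrrCharacter G => pRegularPart p (χ : G → ℂ)) '' b)
  have h1 : ∀ {x : G}, ¬ p ∣ orderOf x → ∀ χ : IrrCharacter G,
      pRegularPart p (χ : G → ℂ) x = (χ : G → ℂ) x := fun {x} hx χ => by
    rw [pRegularPart_apply, if_neg hx]
  have hone : ¬ p ∣ orderOf (1 : G) := by simp [hp.ne_one]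
  have hne : pRegularPart p (η : G → ℂ) ≠ 0 := fun e => by
    have := congrFun e 1
    rw [h1 hone] at this
    exact irr_one_ne_zero η this
  have hsub : ℂ ∙ pRegularPart p (η : G → ℂ) = V :=
    Submodule.eq_of_le_of_finrank_le
      (Submodule.span_mono (Set.singleton_subset_iff.2 ⟨η, hη, rfl⟩))
      (by rw [finrank_span_singleton hne]; exact hl.le)
  have hmem : pRegularPart p (θ : G → ℂ) ∈ ℂ ∙ pRegularPart p (η : G → ℂ) :=
    hsub.ge (Submodule.subset_span ⟨θ, hθ, rfl⟩)
  obtain ⟨c, hc⟩ := Submodule.mem_span_singleton.1 hmem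
  have e1 := congrFun hc s
  have e2 := congrFun hc 1
  simp only [Pi.smul_apply, smul_eq_mul, h1 hs, h1 hone] at e1 e2
  rw [← e1, ← e2]
  ring

/-- The block part at a central translate. -/
theorem blockPart_translate {C : Subgroup G} {x : G} (hxC : x ∈ C)
    (hcen : (⟨x, hxC⟩ : C) ∈ Subgroup.center C) (b : Set (IrrCharacter C)) (f : G → ℂ) (s : C) :
    blockPart b (fun c : C => f c) (⟨x, hxC⟩ * s) = blockPart b (secFun x C f) s := by
  classical
  rw [blockPart_eq_pair, blockPart_eq_pair]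
  congr 1
  symm
  refine Fintype.sum_equiv (Equiv.mulLeft (⟨x, hxC⟩ : C)) _ _ fun w => ?_
  rw [Equiv.coe_mulLeft, show secFun x C f w = f (((⟨x, hxC⟩ : C) * w : C) : G) from rfl]
  congr 1
  unfold blockPair
  refine Finset.sum_congr rfl fun θ _ => ?_
  obtain ⟨c, hc1, hc, -⟩ := IsIrrCharacter.exists_central_scalar θ.2 hcen
  rw [hc, hc, map_mul]
  have : c * conj c = 1 := by rw [Complex.mul_conj', hc1]; norm_num
  linear_combination -((θ : C → ℂ) s * conj ((θ : C → ℂ) w)) * this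

/-- The congruence. -/
theorem congruence (hM : IsPModular 2 M) {x : G} {k : ℕ} (hk : 1 ≤ k) (hxo : orderOf x = 2 ^ k)
    {B : Set (IrrCharacter G)} [DecidablePred (· ∈ B)] {b : Set (IrrCharacter (secC x))}
    (hind : IsInducedBlock M (secC x) b B) (hl : blockRank 2 b = 1)
    (hvan : ∀ θ ∈ b, ∀ (w : secC x) (u : G), IsPPart 2 (w : G) u → u ∉ Subgroup.zpowers x →
      (θ : secC x → ℂ) w = 0)
    {P : secC x → ℂ} (hP : IsClassFunction (secC x) P) (hPR : ∀ s, MemLocalRing M (conj (P s)))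
    {s₀ : secC x} (hs₀ : ¬ 2 ∣ orderOf s₀) :
    MemLocalIdeal M ((Nat.card G : ℂ)⁻¹ * ∑ χ ∈ Finset.univ.filter (· ∈ B),
      ((Nat.card G : ℂ) * (Nat.card (secC x) : ℂ)⁻¹ *
        (∑ w ∈ Finset.univ.filter (fun w : secC x => ¬ 2 ∣ orderOf w),
          (χ : G → ℂ) (x * (w : G)) * conj (P w)) / (χ : G → ℂ) 1) ^ 2 *
      ((χ : G → ℂ) 1 * conj (blockPart b (secFun x (secC x) (χ : G → ℂ)) s₀))) := by
  classical
  haveI : Fact (Nat.Prime 2) := ⟨Nat.prime_two⟩
  haveI : CharP (resField M) 2 := resField_charP hM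
  have hB := hind.2.1
  have hb := hind.1
  have hx : ∃ i, orderOf x = 2 ^ i := ⟨k, hxo⟩
  have hC : (secC x) = Subgroup.centralizer ({x} : Set G) := secC_eq x
  have hxC : x ∈ (secC x) := mem_secC.2 rfl
  set x' : (secC x) := ⟨x, hxC⟩ with hx'
  have hcen : x' ∈ Subgroup.center (secC x) := Subgroup.mem_center_iff.2 fun g =>
    Subtype.ext (mem_secC.1 g.2)
  -- the function
  let F : G → ℂ := fun g => if h : ∃ q : G × (secC x), q.1 * x * q.1⁻¹ = pp 2 g ∧
      q.1 * (q.2 : G) * q.1⁻¹ = rp 2 g then conj (P h.choose.2) else 0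
  have hFeq : ∀ (g c : G) (s : (secC x)), c * x * c⁻¹ = pp 2 g → c * (s : G) * c⁻¹ = rp 2 g →
      F g = conj (P s) := by
    intro g c s h1 h2
    have h : ∃ q : G × (secC x), q.1 * x * q.1⁻¹ = pp 2 g ∧ q.1 * (q.2 : G) * q.1⁻¹ = rp 2 g :=
      ⟨(c, s), h1, h2⟩
    simp only [F, dif_pos h]
    obtain ⟨e, e'⟩ := h.choose_spec
    set c' := h.choose.1
    set s' := h.choose.2
    have hd : c'⁻¹ * c ∈ (secC x) := mem_secC.2 (by
      calc c'⁻¹ * c * x = c'⁻¹ * (c * x * c⁻¹) * c := by group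
        _ = c'⁻¹ * (c' * x * c'⁻¹) * c := by rw [h1, e]
        _ = x * (c'⁻¹ * c) := by group)
    rw [← hP s ⟨_, hd⟩]
    congr 2
    refine Subtype.ext ?_
    show (s' : G) = c'⁻¹ * c * (s : G) * (c'⁻¹ * c)⁻¹
    calc (s' : G) = c'⁻¹ * (c' * (s' : G) * c'⁻¹) * c' := by group
      _ = c'⁻¹ * (c * (s : G) * c⁻¹) * c' := by rw [e', h2]
      _ = c'⁻¹ * c * (s : G) * (c'⁻¹ * c)⁻¹ := by group
  have hF0 : ∀ g, ¬ IsConj x (pp 2 g) → F g = 0 := fun g h => by
    simp only [F]
    rw [dif_neg]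
    rintro ⟨q, hq, -⟩
    exact h (isConj_iff.2 ⟨q.1, hq⟩)
  have hFc : ∀ g c : G, F (c * g * c⁻¹) = F g := by
    intro g c
    by_cases h : IsConj x (pp 2 g)
    · obtain ⟨d, hd⟩ := isConj_iff.1 h
      have hs : d⁻¹ * rp 2 g * d ∈ (secC x) := mem_secC.2 (by
        have hc := (isSec_parts (p := 2) g).comm
        rw [show d⁻¹ * rp 2 g * d * x = d⁻¹ * (rp 2 g * (d * x * d⁻¹)) * d by group, hd, ← hc.eq,
          ← hd]
        group)
      rw [hFeq g d ⟨_, hs⟩ hd (by show d * (d⁻¹ * rp 2 g * d) * d⁻¹ = _; group),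
        hFeq (c * g * c⁻¹) (c * d) ⟨_, hs⟩ (by rw [pp_conj, ← hd]; group)
          (by rw [rp_conj]; show c * d * (d⁻¹ * rp 2 g * d) * (c * d)⁻¹ = _; group)]
    · rw [hF0 g h, hF0]
      rw [pp_conj]
      exact fun h' => h (h'.trans (isConj_iff.2 ⟨c⁻¹, by group⟩))
  have hFR : ∀ g, MemLocalRing M (F g) := fun g => by
    simp only [F]
    split_ifs
    exacts [hPR _, (locRing M).zero_mem]
  let E : MonoidAlgebra (locRing M) G := gaOfFun fun g => ⟨F g, hFR g⟩
  have hE : IsClassElt E := isClassElt_gaOfFun fun g c => Subtype.ext (hFc g c)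
  have hEcoe : ∀ g, ((E.coeff g : locRing M) : ℂ) = F g := fun g => rfl
  -- the central character
  have homega : ∀ χ : IrrCharacter G, omegaR χ E = (Nat.card G : ℂ) * (Nat.card (secC x) : ℂ)⁻¹ *
      (∑ w ∈ Finset.univ.filter (fun w : (secC x) => ¬ 2 ∣ orderOf w),
        (χ : G → ℂ) (x * (w : G)) * conj (P w)) / (χ : G → ℂ) 1 := by
    intro χ
    rw [omega_eq_sum_div]
    congr 1
    simp only [hEcoe]
    rw [← Finset.sum_subset (Finset.subset_univ
      (Finset.univ.filter fun g : G => ∃ a, IsPPart 2 g a ∧ IsConj x a)) fun g _ hg => ?_,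
      sum_section Nat.prime_two hx hC (fun g c => by
        show F (c * g * c⁻¹) * (χ : G → ℂ) (c * g * c⁻¹) = F g * (χ : G → ℂ) g
        rw [hFc, irr_conj_invariant])]
    · refine congrArg _ (Finset.sum_congr rfl fun w hw => ?_)
      have hsec : IsSec 2 x (w : G) := ⟨hx, by
        rw [Subgroup.orderOf_coe]; exact (Finset.mem_filter.1 hw).2, (mem_secC.1 w.2).symm⟩
      rw [hFeq (x * (w : G)) 1 w (by rw [hsec.pp_eq]; group) (by rw [hsec.rp_eq]; group), mul_comm]
    · rw [hF0, zero_mul]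
      exact fun h => hg (Finset.mem_filter.2 ⟨Finset.mem_univ _, _, pp_spec g, h⟩)
  -- the Brauer map
  have hCP : (secC x) = Subgroup.centralizer ((Subgroup.zpowers x : Subgroup G) : Set G) := by
    rw [centralizer_zpowers_eq, hC]
  have hbr : resG (restr (secC x) (E * E)) = resG (restr (secC x) E * restr (secC x) E) := by
    have hPg : IsPGroup 2 (Subgroup.zpowers x) :=
      IsPGroup.of_card (n := k) (by rw [Nat.card_zpowers, hxo])
    have hEk : IsInvElt (Subgroup.zpowers x) (resG E) :=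
      IsClassElt.isInvElt (IsClassElt.map hE _) _
    have h := brTrunc_mul hPg hEk hEk
    rw [brTrunc_eq_emb_restr, brTrunc_eq_emb_restr, ← map_mul, ← hCP] at h
    rw [map_mul resG, ← restr_resG, ← restr_resG]
    exact emb_injective _ (h.trans (map_mul _ _ _).symm)
  set Z := restr (secC x) E with hZdef
  have hZ : IsClassElt Z := isClassElt_restr (IsClassElt.isInvElt hE (secC x))
  set W := restr (secC x) (E * E) with hWdef
  have hW : IsClassElt W := isClassElt_restr (IsClassElt.isInvElt (IsClassElt.mul hE hE) (secC x))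
  have hcong : MemLocalIdeal M ((((blockEltR M b * W).coeff (x' * s₀) : locRing M) : ℂ) -
      (((blockEltR M b * (Z * Z)).coeff (x' * s₀) : locRing M) : ℂ)) := by
    refine res_eq_res_iff.1 ?_
    rw [← coeff_resG, ← coeff_resG, map_mul resG, hbr, ← map_mul resG]
  -- the square vanishes
  have hzero : (((blockEltR M b * (Z * Z)).coeff (x' * s₀) : locRing M) : ℂ) = 0 := by
    rw [coeff_block_mul hb (IsClassElt.mul hZ hZ)]
    refine mul_eq_zero_of_right _ ?_
    have hZc : ∀ w : (secC x), ((Z.coeff w : locRing M) : ℂ) = F (w : G) := fun w => rfl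
    have hterm : ∀ θ : IrrCharacter (secC x), omegaR θ (Z * Z) *
        ((θ : (secC x) → ℂ) 1 * conj ((θ : (secC x) → ℂ) (x' * s₀))) = ∑ w : (secC x), ∑ v : (secC x),
          F (w : G) * F (v : G) * ((θ : (secC x) → ℂ) w * (θ : (secC x) → ℂ) v / (θ : (secC x) → ℂ) 1 *
            conj ((θ : (secC x) → ℂ) (x' * s₀))) := by
      intro θ
      rw [omegaR_mul θ hZ hZ, omega_eq_sum_div]
      simp only [hZc]
      rw [div_mul_div_comm, Finset.sum_mul_sum, Finset.sum_div, Finset.sum_mul]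
      refine Finset.sum_congr rfl fun w _ => ?_
      rw [Finset.sum_div, Finset.sum_mul]
      refine Finset.sum_congr rfl fun v _ => ?_
      have := irr_one_ne_zero θ
      field_simp
    rw [Finset.sum_congr rfl fun θ _ => hterm θ, Finset.sum_comm]
    refine Finset.sum_eq_zero fun w _ => ?_
    rw [Finset.sum_comm]
    refine Finset.sum_eq_zero fun v _ => ?_
    rw [← Finset.mul_sum]
    by_cases hw : IsConj x (pp 2 (w : G))
    swap
    · rw [hF0 _ hw, zero_mul, zero_mul]
    by_cases hv : IsConj x (pp 2 (v : G))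
    swap
    · rw [hF0 _ hv, mul_zero, zero_mul]
    refine mul_eq_zero_of_right _ ?_
    by_cases hwx : pp 2 (w : G) ∈ Subgroup.zpowers x
    swap
    · refine Finset.sum_eq_zero fun θ hθ => ?_
      rw [hvan θ (Finset.mem_filter.1 hθ).2 w _ (pp_spec _) hwx]
      simp
    by_cases hvx : pp 2 (v : G) ∈ Subgroup.zpowers x
    swap
    · refine Finset.sum_eq_zero fun θ hθ => ?_
      rw [hvan θ (Finset.mem_filter.1 hθ).2 v _ (pp_spec _) hvx]
      simp
    set u := pp 2 (w : G) with hu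
    set u' := pp 2 (v : G) with hu'
    have huC : u ∈ (secC x) := (Subgroup.zpowers_le.2 hxC) hwx
    have huC' : u' ∈ (secC x) := (Subgroup.zpowers_le.2 hxC) hvx
    have hu'cen : (⟨u', huC'⟩ : (secC x)) ∈ Subgroup.center (secC x) := by
      obtain ⟨i, hi⟩ := Subgroup.mem_zpowers_iff.1 hvx
      rw [show (⟨u', huC'⟩ : (secC x)) = x' ^ i from Subtype.ext hi.symm]
      exact zpow_mem hcen i
    set r' : (secC x) := (⟨u', huC'⟩ : (secC x))⁻¹ * v with hr'
    have hr'reg : ¬ 2 ∣ orderOf r' := by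
      rw [← Subgroup.orderOf_coe]
      exact (isSec_parts (p := 2) (v : G)).reg
    have hv' : v = ⟨u', huC'⟩ * r' := (mul_inv_cancel_left _ _).symm
    obtain ⟨η, hη⟩ := isPBlock_nonempty hb
    have hsum : ∀ θ ∈ Finset.univ.filter (· ∈ b),
        (θ : (secC x) → ℂ) w * (θ : (secC x) → ℂ) v / (θ : (secC x) → ℂ) 1 * conj ((θ : (secC x) → ℂ) (x' * s₀)) =
          (η : (secC x) → ℂ) r' / (η : (secC x) → ℂ) 1 *
            ((θ : (secC x) → ℂ) ((⟨u', huC'⟩ : (secC x)) * w) * conj ((θ : (secC x) → ℂ) (x' * s₀))) := by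
      intro θ hθ
      obtain ⟨c, -, hc, -⟩ := IsIrrCharacter.exists_central_scalar θ.2 hu'cen
      conv_lhs => rw [hv', hc]
      rw [hc w]
      have h1 := irr_one_ne_zero θ
      have h2 := irr_one_ne_zero η
      have h3 := regular_ratio hl Nat.prime_two (Finset.mem_filter.1 hθ).2 hη hr'reg
      field_simp
      linear_combination c * (θ : (secC x) → ℂ) w * conj ((θ : (secC x) → ℂ) (x' * s₀)) * h3
    rw [Finset.sum_congr rfl hsum, ← Finset.mul_sum]
    refine mul_eq_zero_of_right _ ?_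
    refine (?_ : blockPair b ((⟨u', huC'⟩ : (secC x)) * w) (x' * s₀) = 0)
    -- the two parts differ
    have hpw : IsPPart 2 ((⟨u', huC'⟩ : (secC x)) * w) ((⟨u', huC'⟩ : (secC x)) * ⟨u, huC⟩) := by
      refine ⟨(⟨u, huC⟩ : (secC x))⁻¹ * w, by rw [mul_assoc, mul_inv_cancel_left], ?_, ?_, ?_⟩
      · refine Commute.mul_left (Subgroup.mem_center_iff.1 hu'cen _).symm ?_
        exact Subtype.ext (isSec_parts (p := 2) (w : G)).comm.eq
      · obtain ⟨i, hi⟩ := Subgroup.mem_zpowers_iff.1 hwx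
        obtain ⟨i', hi'⟩ := Subgroup.mem_zpowers_iff.1 hvx
        obtain ⟨j, -, hj⟩ := (Nat.dvd_prime_pow Nat.prime_two).1 (show
          orderOf ((⟨u', huC'⟩ : (secC x)) * ⟨u, huC⟩) ∣ 2 ^ k by
            rw [← Subgroup.orderOf_coe, ← hxo]
            show orderOf (u' * u) ∣ _
            rw [← hi, ← hi', ← zpow_add]
            exact orderOf_dvd_of_mem_zpowers (Subgroup.zpow_mem_zpowers x _))
        exact ⟨j, hj⟩
      · rw [← Subgroup.orderOf_coe]
        exact (isSec_parts (p := 2) (w : G)).reg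
    have hps : IsPPart 2 (x' * s₀) x' := by
      refine ⟨s₀, rfl, (Subgroup.mem_center_iff.1 hcen s₀).symm, ⟨k, ?_⟩, hs₀⟩
      rw [← Subgroup.orderOf_coe]; exact hxo
    refine blockPair_eq_zero_of_pPart hM hb hpw hps fun hcj => ?_
    obtain ⟨d, hd⟩ := isConj_iff.1 hcj.symm
    rw [Subgroup.mem_center_iff.1 hcen d, mul_inv_cancel_right] at hd
    have hd' : x = u' * u := congrArg Subtype.val hd
    -- parities
    have hodd : ∀ {a : G}, IsConj x a → ∀ i : ℤ, x ^ i = a → ¬ (2 : ℤ) ∣ i := by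
      intro a ha i hi hdvd
      obtain ⟨c, hc⟩ := isConj_iff.1 ha
      have ho : orderOf a = 2 ^ k := by rw [← hc, ← hxo, ← MulAut.conj_apply, MulEquiv.orderOf_eq]
      have h1 : a ^ (2 ^ (k - 1)) = 1 := by
        obtain ⟨t, rfl⟩ := hdvd
        rw [← hi, ← zpow_natCast, ← zpow_mul]
        refine orderOf_dvd_iff_zpow_eq_one.1 ?_
        rw [hxo]
        refine ⟨t, ?_⟩
        push_cast
        rw [show (2 : ℤ) ^ k = 2 * 2 ^ (k - 1) by
          rw [← pow_succ']; congr 1; omega]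
        ring
      have h2 := orderOf_dvd_of_pow_eq_one h1
      rw [ho] at h2
      have := (Nat.pow_dvd_pow_iff_le_right (by norm_num : 1 < 2)).1 h2
      omega
    obtain ⟨i, hi⟩ := Subgroup.mem_zpowers_iff.1 hwx
    obtain ⟨i', hi'⟩ := Subgroup.mem_zpowers_iff.1 hvx
    have ho1 := hodd hw i hi
    have ho2 := hodd hv i' hi'
    have h1 : x ^ (i' + i - 1) = 1 := by
      rw [zpow_sub_one, zpow_add, hi', hi, ← hd', mul_inv_cancel]
    have h2 := orderOf_dvd_iff_zpow_eq_one.2 h1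
    rw [hxo] at h2
    have h3 : (2 : ℤ) ∣ i' + i - 1 := (dvd_pow_self (2 : ℤ) (show k ≠ 0 by omega)).trans
      (by exact_mod_cast h2)
    omega
  -- the value
  rw [hzero, sub_zero, coeff_block_mul hb hW] at hcong
  convert hcong using 1
  have hEE : ∀ χ : IrrCharacter G, omegaR χ (E * E) = omegaR χ E ^ 2 := fun χ => by
    rw [omegaR_mul χ hE hE, sq]
  set A : IrrCharacter G → ℂ := fun χ => omegaR χ E ^ 2 * (χ : G → ℂ) 1 with hA
  have hWc : ∀ w : (secC x), ((W.coeff w : locRing M) : ℂ) =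
      (Nat.card G : ℂ)⁻¹ * ∑ χ : IrrCharacter G, A χ * conj ((χ : G → ℂ) (w : G)) := fun w => by
    show (((E * E).coeff (w : G) : locRing M) : ℂ) = _
    rw [coeff_classElt (IsClassElt.mul hE hE)]
    congr 1
    exact Finset.sum_congr rfl fun χ _ => by rw [hEE, hA]; ring
  have hswap : (Nat.card (secC x) : ℂ)⁻¹ * ∑ θ ∈ Finset.univ.filter (· ∈ b),
      omegaR θ W * ((θ : (secC x) → ℂ) 1 * conj ((θ : (secC x) → ℂ) (x' * s₀))) =
      (Nat.card G : ℂ)⁻¹ * ∑ χ : IrrCharacter G,
        A χ * conj (blockPart b (secFun x (secC x) (χ : G → ℂ)) s₀) := by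
    have e1 : ∀ χ : IrrCharacter G, conj (blockPart b (secFun x (secC x) (χ : G → ℂ)) s₀) =
        ∑ θ ∈ Finset.univ.filter (· ∈ b), (Nat.card (secC x) : ℂ)⁻¹ *
          (∑ w : (secC x), conj ((χ : G → ℂ) (w : G)) * (θ : (secC x) → ℂ) w) *
            conj ((θ : (secC x) → ℂ) (x' * s₀)) := fun χ => by
      rw [← blockPart_translate hxC hcen b (χ : G → ℂ) s₀, blockPart_eq_sum, map_sum]
      refine Finset.sum_congr rfl fun θ _ => ?_
      simp only [classInner, map_mul, map_inv₀, map_natCast, map_sum, Complex.conj_conj]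
      rfl
    simp only [e1, Finset.mul_sum]
    rw [Finset.sum_comm]
    refine Finset.sum_congr rfl fun θ _ => ?_
    rw [omega_eq_sum_div]
    simp only [hWc]
    have h1 := irr_one_ne_zero θ
    rw [← mul_assoc ((∑ w : (secC x), _) / _), div_mul_cancel₀ _ h1, Finset.sum_mul, Finset.mul_sum]
    simp only [Finset.mul_sum, Finset.sum_mul]
    rw [Finset.sum_comm]
    exact Finset.sum_congr rfl fun χ _ => Finset.sum_congr rfl fun w _ => by ring
  rw [hswap]
  congr 1
  rw [Finset.sum_filter]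
  refine Finset.sum_congr rfl fun χ _ => ?_
  split_ifs with hχ
  · simp only [hA, homega]; ring
  · rw [blockPart_secFun_eq_zero hM hx hC (isPBlock_blockOf χ) (self_mem_blockOf χ) hb
      (fun h => hχ (by rw [isInducedBlock_unique hind h]; exact self_mem_blockOf χ)) hs₀, map_zero,
      mul_zero]

end Cfsg.Agent.SquareCongr
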