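/-
The characters of a block with a dihedral defect group.
-/
import Cfsg.Agent.Lib.BrauerPairs.DihedralLocal
import Cfsg.Agent.Lib.BrauerPairs.DihedralFourier
import Cfsg.Agent.Lib.BrauerPairs.SquareCongruence
import Cfsg.Agent.Lib.BrauerPairs.Contribution
import Cfsg.Agent.Lib.BrauerPairs.NilpotentRankOne
import Cfsg.Agent.Lib.Star.Abelian.Fusion

set_option linter.unusedSectionVars false
set_option linter.style.haveILetI false

namespace Cfsg.Agent.DihedralBlock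

open Cfsg MonoidAlgebra Cfsg.Agent.Blocks Cfsg.Agent.BrauerPairs Cfsg.Agent.Char Cfsg.Agent.Star
  Cfsg.Agent.LiftPairs Cfsg.Agent.TwoFus Cfsg.Agent.DihedralLocal Cfsg.Agent.KnoerrRobinson
open scoped ComplexConjugate

universe u

variable {G : Type u} [Group G] [Fintype G] {M : Ideal AlgInt} [M.IsPrime]

theorem regPair_smul {p : ℕ} (lam : ℝ) {f g P : G → ℂ} {c c' : ℂ}
    (hf : ∀ s, ¬ p ∣ orderOf s → f s = c * P s) (hg : ∀ s, ¬ p ∣ orderOf s → g s = c' * P s) :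
    regPair p lam f g = c * conj c' * regPair p lam P P := by
  classical
  rw [regPair_eq_sum, regPair_eq_sum, Finset.mul_sum, Finset.mul_sum, Finset.mul_sum]
  refine Finset.sum_congr rfl fun s hs => ?_
  rw [hf s (Finset.mem_filter.1 hs).2, hg s (Finset.mem_filter.1 hs).2, map_mul]
  ring

theorem regPair_smul_left {p : ℕ} (lam : ℝ) {f P : G → ℂ} {c : ℂ}
    (hf : ∀ s, ¬ p ∣ orderOf s → f s = c * P s) :
    regPair p lam f P = c * regPair p lam P P := by
  rw [regPair_smul lam hf (fun s _ => (one_mul (P s)).symm), map_one, mul_one]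

/-- An integer whose quotient by a power of two is locally integral. -/
theorem dvd_of_div (hM : IsPModular 2 M) : ∀ (k : ℕ) (c : ℤ),
    MemLocalRing M ((c : ℂ) / (2 : ℂ) ^ k) → (2 : ℤ) ^ k ∣ c := by
  intro k
  induction k with
  | zero => intro c _; simp
  | succ k ih =>
    intro c hc
    have h1 : MemLocalIdeal M ((2 : ℤ) : ℂ) := (intCast_memLocalIdeal_iff hM 2).2 dvd_rfl
    have h2 : MemLocalIdeal M (c : ℂ) := by
      have h3 := MemLocalIdeal.mul_right h1 (mem_locRing.1 ((locRing M).mul_mem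
        (intCast_mem (locRing M) ((2 : ℤ) ^ k)) (mem_locRing.2 hc)))
      convert h3 using 1
      push_cast
      field_simp
      ring
    obtain ⟨q, rfl⟩ : (2 : ℤ) ∣ c := (intCast_memLocalIdeal_iff hM c).1 h2
    have e : ((2 * q : ℤ) : ℂ) / (2 : ℂ) ^ (k + 1) = (q : ℂ) / (2 : ℂ) ^ k := by
      push_cast
      field_simp
      ring
    rw [e] at hc
    rw [pow_succ']
    exact mul_dvd_mul_left 2 (ih q hc)

theorem not_dvd_of_div (hM : IsPModular 2 M) {k : ℕ} {c : ℤ}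
    (hc : ¬ MemLocalIdeal M ((c : ℂ) / (2 : ℂ) ^ k)) : ¬ (2 : ℤ) ^ (k + 1) ∣ c := by
  rintro ⟨q, rfl⟩
  refine hc ?_
  have e : (((2 : ℤ) ^ (k + 1) * q : ℤ) : ℂ) / (2 : ℂ) ^ k = ((2 * q : ℤ) : ℂ) := by
    push_cast
    field_simp
    ring
  rw [e, intCast_memLocalIdeal_iff hM]
  exact dvd_mul_right 2 q

variable {B : Set (IrrCharacter G)} [DecidablePred (· ∈ B)] {a : Pr (resField M) G}
  {ν : IrrCharacter G → G → ℂ}

theorem regPair_sec (hM : IsPModular 2 M) {u : G} {b : Set (IrrCharacter (secC u))}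
    {P : secC u → ℂ} (hL : LocalData M B a ν u b P) (χ : IrrCharacter G) :
    regPair 2 (blockScale 2 b) (secFun u (secC u) (χ : G → ℂ)) P = ν χ u := by
  rw [regPair_blockPart hM hL.ind.1 _ _ hL.self, regPair_smul_left _ (hL.part χ), hL.norm, mul_one]

theorem exists_ne_zero {u : G} {b : Set (IrrCharacter (secC u))}
    {P : secC u → ℂ} (hL : LocalData M B a ν u b P) :
    ∃ t : secC u, ¬ 2 ∣ orderOf t ∧ P t ≠ 0 := by
  obtain ⟨t, ht, htM⟩ := hL.unit
  exact ⟨t, ht, fun e => htM (by rw [e, map_zero]; exact memLocalIdeal_zero)⟩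

theorem inf_secC_eq {D : Subgroup G} (d : Dih D) {u : G} (hu : u ∈ Subgroup.zpowers d.x)
    (hu2 : u * u ≠ 1) : D ⊓ secC u = Subgroup.zpowers d.x := by
  obtain ⟨i, rfl⟩ := Subgroup.mem_zpowers_iff.1 hu
  refine le_antisymm (fun g hg => ?_) (le_inf (Subgroup.zpowers_le.2 d.hx)
    (Subgroup.zpowers_le.2 (mem_secC.2 ((Commute.self_zpow d.x i).eq))))
  rcases d.cases g hg.1 with ⟨j, rfl⟩ | ⟨j, rfl⟩
  · exact zpow_mem (Subgroup.mem_zpowers _) j
  · refine absurd ?_ hu2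
    have h1 : d.x ^ j * d.y * d.x ^ i = d.x ^ i * (d.x ^ j * d.y) := mem_secC.1 hg.2
    rw [mul_assoc, d.swap, ← mul_assoc, ← mul_assoc, mul_left_inj, ← zpow_add, ← zpow_add] at h1
    rw [← zpow_add, ← mul_inv_eq_one.2 h1.symm, ← zpow_neg, ← zpow_add]
    congr 1
    ring

set_option maxHeartbeats 1600000 in
/-- The orthogonality of the columns of the cyclic part. -/
theorem gram (hM : IsPModular 2 M) (hB : IsPBlock M B) (hmax : IsMax 2 (Ek M B) a) (d : Dih a.1)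
    {s h : ℕ} (hms : d.m = 2 ^ s) (hh : d.m = 2 * h)
    (hloc : ∀ u ∈ Subgroup.zpowers d.x, u ≠ 1 → ∃ b P, LocalData M B a ν u b P)
    (hreal : ∀ χ i, conj (ν χ (d.x ^ i)) = ν χ (d.x ^ i))
    (hsym : ∀ χ i, i ≤ d.m → ν χ (d.x ^ (d.m - i)) = ν χ (d.x ^ i)) :
    ∀ i ∈ Finset.Ico 1 d.m, ∀ k ∈ Finset.Ico 1 d.m,
      ∑ χ ∈ Finset.univ.filter (· ∈ B), ν χ (d.x ^ i) * ν χ (d.x ^ k) =
        (d.m : ℂ) * ((if k = i then 1 else 0) + if k = d.m - i then 1 else 0) := by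
  classical
  haveI : Fact (Nat.Prime 2) := ⟨Nat.prime_two⟩
  haveI : CharP (resField M) 2 := resField_charP hM
  have hne : ∀ i, 0 < i → i < d.m → d.x ^ i ≠ 1 :=
    fun i h0 hi => pow_ne_one_of_lt_orderOf h0.ne' (d.hm.symm ▸ hi)
  have hpow : ∀ i : ℕ, ∃ t, orderOf (d.x ^ i) = 2 ^ t := fun i => by
    obtain ⟨t, -, ht⟩ := (Nat.dvd_prime_pow Nat.prime_two).1
      (show orderOf (d.x ^ i) ∣ 2 ^ s from hms ▸ d.hm ▸
        orderOf_dvd_of_mem_zpowers (Subgroup.npow_mem_zpowers _ _))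
    exact ⟨t, ht⟩
  have hinj : ∀ i k, i < d.m → k < d.m → d.x ^ i = d.x ^ k → i = k := fun i k hi hk e =>
    pow_injOn_Iio_orderOf (by rw [Set.mem_Iio, d.hm]; exact hi) (by rw [Set.mem_Iio, d.hm]; exact hk) e
  have hh0 : 0 < h := by have := d.two_le; omega
  -- the diagonal
  have hdiag : ∀ i ∈ Finset.Ico 1 d.m, ∑ χ ∈ Finset.univ.filter (· ∈ B),
      ν χ (d.x ^ i) * ν χ (d.x ^ i) =
        (d.m : ℂ) * (1 + if i = d.m - i then 1 else 0) := by
    intro i hi
    rw [Finset.mem_Ico] at hi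
    obtain ⟨b, P, hL⟩ := hloc _ (Subgroup.npow_mem_zpowers d.x i) (hne i hi.1 hi.2)
    have hs := sum_regPair_self hM (hpow i) (secC_eq _) hL.ind
    rw [hL.rank, Nat.cast_one, mul_one, hL.defect] at hs
    rw [Finset.sum_congr rfl fun χ _ => by
      rw [regPair_smul _ (hL.part χ) (hL.part χ), hL.norm, mul_one, hreal]] at hs
    rw [hs]
    by_cases e : i = d.m - i
    · obtain rfl : i = h := by omega
      have hz : a.1 ⊓ secC (d.x ^ i) = a.1 := inf_eq_left.2 fun g hg => mem_secC.2 (by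
        have e' : d.z = d.x ^ i := by
          rw [Dih.z, ← zpow_natCast, hh]
          congr 1
          push_cast
          omega
        rw [← e']; exact d.z_comm hg)
      rw [if_pos e, hz, d.card]
      push_cast; ring
    · have hu2 : d.x ^ i * d.x ^ i ≠ 1 := fun he => by
        rcases DihedralFusion.sq_one_cases d hh (Subgroup.npow_mem_zpowers _ _) he with h1 | h1
        · exact hne i hi.1 hi.2 h1
        · exact e (by have := hinj i h hi.2 (by omega) h1; omega)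
      rw [if_neg e, inf_secC_eq d (Subgroup.npow_mem_zpowers _ _) hu2, Nat.card_zpowers, d.hm]
      ring
  intro i hi k hk
  have hi' := Finset.mem_Ico.1 hi
  have hk' := Finset.mem_Ico.1 hk
  by_cases hki : k = i
  · subst hki
    rw [hdiag k hi, if_pos rfl]
  by_cases hkm : k = d.m - i
  · rw [if_neg hki, if_pos hkm]
    rw [Finset.sum_congr rfl fun χ _ => by rw [hkm, hsym χ i hi'.2.le]]
    rw [hdiag i hi, if_neg (fun e => hki (hkm.trans e.symm))]
    ring
  rw [if_neg hki, if_neg hkm, add_zero, mul_zero]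
  obtain ⟨b, P, hL⟩ := hloc _ (Subgroup.npow_mem_zpowers d.x i) (hne i hi'.1 hi'.2)
  obtain ⟨b', P', hL'⟩ := hloc _ (Subgroup.npow_mem_zpowers d.x k) (hne k hk'.1 hk'.2)
  obtain ⟨t, ht, htP⟩ := exists_ne_zero hL
  obtain ⟨t', ht', htP'⟩ := exists_ne_zero hL'
  have key : ∀ {c : ℂ} {f g : IrrCharacter G → ℂ}, c ≠ 0 →
      (∀ χ, f χ = c * g χ) → ∑ χ ∈ Finset.univ.filter (· ∈ B), f χ = 0 →
      ∑ χ ∈ Finset.univ.filter (· ∈ B), g χ = 0 := by
    intro c f g hc hfg h0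
    rw [Finset.sum_congr rfl fun χ _ => hfg χ, ← Finset.mul_sum] at h0
    exact (mul_eq_zero.1 h0).resolve_left hc
  by_cases hconj : IsConj (d.x ^ i) (d.x ^ k)
  · obtain ⟨g, hg⟩ := isConj_iff.1 hconj
    have hC : cjS g (secC (d.x ^ i)) = secC (d.x ^ k) := by rw [cjS_secC, hg]
    set e := cjEquiv g hC with he
    have hb'' : IsPBlock M (pullB e.symm b) := isPBlock_pullB e.symm hL.ind.1
    have hne' : pullB e.symm b ≠ b' := by
      intro heq
      have hzB : zB M (secC (d.x ^ k)) b' = cj g (zB M (secC (d.x ^ i)) b) := by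
        rw [← heq, zB_pullB g hC hb'']
        congr 2
        rw [he, pullB_pullB]
      have hgb : SubLE 2 ⊤ (cjP g ((Subgroup.zpowers (d.x ^ i), zB M (secC (d.x ^ i)) b) :
          Pr (resField M) G)) a := by
        have e1 : cjP g ((Subgroup.zpowers (d.x ^ i), zB M (secC (d.x ^ i)) b) :
            Pr (resField M) G) = (Subgroup.zpowers (d.x ^ k), zB M (secC (d.x ^ k)) b') :=
          Prod.ext ((cjS_zpowers g _).trans (congrArg Subgroup.zpowers hg)) hzB.symm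
        rw [e1]
        exact hL'.sub
      have hu2 : d.x ^ i * d.x ^ i ≠ 1 := fun h2 => by
        have h3 : d.x ^ k * d.x ^ k = 1 := by
          rw [← hg]
          calc g * d.x ^ i * g⁻¹ * (g * d.x ^ i * g⁻¹) = g * (d.x ^ i * d.x ^ i) * g⁻¹ := by group
            _ = 1 := by rw [h2]; group
        rcases DihedralFusion.sq_one_cases d hh (Subgroup.npow_mem_zpowers _ _) h2 with h1 | h1
        · exact hne i hi'.1 hi'.2 h1
        rcases DihedralFusion.sq_one_cases d hh (Subgroup.npow_mem_zpowers _ _) h3 with h4 | h4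
        · exact hne k hk'.1 hk'.2 h4
        · exact hki (hinj k i hk'.2 hi'.2 (h4.trans h1.symm))
      rcases DihedralFusion.fusion_pm hmax d (Subgroup.npow_mem_zpowers _ _) hu2 hL.sub hgb with
        h1 | h1
      · exact hki (hinj k i hk'.2 hi'.2 (hg.symm.trans h1))
      · refine hkm (hinj k (d.m - i) hk'.2 (by omega) (hg.symm.trans (h1.trans ?_)))
        refine (eq_inv_of_mul_eq_one_left ?_).symm
        rw [← pow_add, Nat.sub_add_cancel hi'.2.le, ← d.hm, pow_orderOf_eq_one]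
    have hts : ¬ 2 ∣ orderOf (e t) := by rwa [MulEquiv.orderOf_eq]
    have hcr := Abelian.blockPart_secFun_cross hM (hpow k) (secC_eq _) hB hb'' hL'.ind.1 hne' hts ht'
    refine key (mul_ne_zero htP ((map_ne_zero (starRingEnd ℂ)).2 htP')) (fun χ => ?_) hcr
    rw [hL'.part χ t' ht', map_mul, hreal]
    have e2 : blockPart (pullB e.symm b)
        (secFun (d.x ^ k) (secC (d.x ^ k)) (χ : G → ℂ)) (e t) = ν χ (d.x ^ i) * P t := by
      rw [← blockPart_pullB e, pullB_pullB, ← hL.part χ t ht]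
      congr 1
      funext w
      show (χ : G → ℂ) (d.x ^ k * (e w : G)) = (χ : G → ℂ) (d.x ^ i * (w : G))
      rw [he, coe_cjEquiv, ← hg, show g * d.x ^ i * g⁻¹ * (g * (w : G) * g⁻¹) =
        g * (d.x ^ i * (w : G)) * g⁻¹ by group]
      exact IsCharacter.isClassFunction (irr_isCharacter χ) _ g
    rw [e2]
    ring
  · have hnc := Abelian.blockPart_secFun_nonconj hM (hpow i) (hpow k) (secC_eq _) (secC_eq _) hB
      hL.ind.1 hL'.ind.1 hconj ht ht'
    refine key (mul_ne_zero htP ((map_ne_zero (starRingEnd ℂ)).2 htP')) (fun χ => ?_) hnc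
    rw [hL.part χ t ht, hL'.part χ t' ht', map_mul, hreal]
    ring

set_option maxHeartbeats 1600000 in
/-- The value excluded by the congruence of the square. -/
theorem no_exception (hM : IsPModular 2 M) (hB : IsPBlock M B) {x : G} (hxo : orderOf x = 8)
    {b : Set (IrrCharacter (secC x))} {P : secC x → ℂ} (hL : LocalData M B a ν x b P)
    (hbd : 2 ^ blockDefect 2 b = 8) (hBd : blockDefect 2 B = 4)
    (hreal : ∀ χ, conj (ν χ x) = ν χ x)
    {χ₀ : IrrCharacter G} (hχ₀ : χ₀ ∈ B) (h0 : blockHeight 2 B (χ₀ : G → ℂ) = 0)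
    {e : ℤ} (he : e = 1 ∨ e = -1)
    (hS : ∑ χ ∈ Finset.univ.filter (· ∈ B), ν χ x ^ 3 / (χ : G → ℂ) 1 =
      (e : ℂ) * 44 / (3 * (χ₀ : G → ℂ) 1)) : False := by
  classical
  haveI : Fact (Nat.Prime 2) := ⟨Nat.prime_two⟩
  obtain ⟨t, ht, htM⟩ := hL.unit
  -- vanishing off the defect group
  have hvan : ∀ θ ∈ b, ∀ (w : secC x) (u : G), IsPPart 2 (w : G) u → u ∉ Subgroup.zpowers x →
      (θ : secC x → ℂ) w = 0 := by
    intro θ hθ w u hu hux
    obtain ⟨y, hy, hcom, hord, hreg⟩ := id hu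
    obtain ⟨i, hi⟩ := Subgroup.mem_zpowers_iff.1 (Cfsg.Agent.Blocks.IsPPart.mem_zpowers hM.1 hu)
    have huC : u ∈ secC x := hi ▸ zpow_mem w.2 i
    have hyC : y ∈ secC x := by
      have h1 : y = u⁻¹ * (w : G) := by rw [← hy, inv_mul_cancel_left]
      rw [h1]
      exact mul_mem (inv_mem huC) w.2
    refine irr_eq_zero_of_notMem_defect hM hL.ind.1 hθ (a := (⟨u, huC⟩ : secC x))
      ⟨⟨y, hyC⟩, Subtype.ext hy, Subtype.ext hcom.eq, by simpa only [Subgroup.orderOf_mk] using hord,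
        by rwa [Subgroup.orderOf_mk]⟩ fun Q hQ hmem => hux ?_
    set x' : secC x := ⟨x, mem_secC.2 rfl⟩ with hx'
    have hcen : x' ∈ Subgroup.center (secC x) :=
      Subgroup.mem_center_iff.2 fun g => Subtype.ext (mem_secC.1 g.2)
    haveI : (Subgroup.zpowers x').Normal := ⟨fun n hn g => by
      have hnc : n ∈ Subgroup.center (secC x) := Subgroup.zpowers_le.2 hcen hn
      rw [Subgroup.mem_center_iff.1 hnc g, mul_inv_cancel_right]; exact hn⟩
    have hNp : IsPGroup 2 (Subgroup.zpowers x') := IsPGroup.of_card (n := 3) (by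
      rw [Nat.card_zpowers, hx', Subgroup.orderOf_mk, hxo]; norm_num)
    have hle := le_defectGroup_of_normal hM hL.ind.1 hQ _ hNp
    have hQ8 := card_defectGroup hM hL.ind.1 hQ
    rw [hbd] at hQ8
    have heq := Subgroup.eq_of_le_of_card_ge hle (by
      rw [hQ8, Nat.card_zpowers, hx', Subgroup.orderOf_mk, hxo])
    rw [← heq, Subgroup.mem_zpowers_iff] at hmem
    obtain ⟨j, hj⟩ := hmem
    exact Subgroup.mem_zpowers_iff.2 ⟨j, congrArg Subtype.val hj⟩
  have hc := SquareCongr.congruence hM (x := x) (k := 3) (by norm_num) (by rw [hxo]; norm_num)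
    hL.ind hL.rank hvan hL.cls
    (fun s => mem_locRing_of_isIntegral (map_isIntegral_int (starRingEnd ℂ) (hL.intg s))) ht
  -- evaluate
  set T := Finset.univ.filter (· ∈ B) with hT
  set G0 : ℂ := (Nat.card G : ℂ) with hG0
  set C0 : ℂ := (Nat.card (secC x) : ℂ) with hC0
  have hG : G0 ≠ 0 := Nat.cast_ne_zero.2 Nat.card_pos.ne'
  have hC : C0 ≠ 0 := Nat.cast_ne_zero.2 Nat.card_pos.ne'
  have hsum : ∀ χ : IrrCharacter G,
      ∑ w ∈ Finset.univ.filter (fun w : secC x => ¬ 2 ∣ orderOf w),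
        (χ : G → ℂ) (x * (w : G)) * conj (P w) = ν χ x * C0 / 8 := by
    intro χ
    have h1 := regPair_sec hM hL χ
    rw [regPair_eq_sum, blockScale] at h1
    have h8 : ((2 : ℕ) : ℝ) ^ blockDefect 2 b = 8 := by exact_mod_cast hbd
    rw [h8] at h1
    push_cast at h1
    rw [← h1, hC0]
    simp only [secFun]
    field_simp
  have hval : G0⁻¹ * ∑ χ ∈ T, (G0 * C0⁻¹ *
      (∑ w ∈ Finset.univ.filter (fun w : secC x => ¬ 2 ∣ orderOf w),
        (χ : G → ℂ) (x * (w : G)) * conj (P w)) / (χ : G → ℂ) 1) ^ 2 *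
      ((χ : G → ℂ) 1 * conj (blockPart b (secFun x (secC x) (χ : G → ℂ)) t)) =
      G0 / 64 * conj (P t) * ∑ χ ∈ T, ν χ x ^ 3 / (χ : G → ℂ) 1 := by
    rw [Finset.mul_sum, Finset.mul_sum]
    refine Finset.sum_congr rfl fun χ _ => ?_
    rw [hsum χ, hL.part χ t ht, map_mul, hreal]
    have h1 := irr_one_ne_zero χ
    field_simp
    ring
  rw [hval, hS] at hc
  -- the unit
  have hD0 := charDegree_pos χ₀
  have hN : Nat.card G ≠ 0 := Nat.card_pos.ne'
  have hdeg := Cfsg.Agent.Blocks.degExp_eq_add_height hM hB hχ₀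
  rw [h0, hBd] at hdeg
  have hle := blockDefect_le (p := 2) B
  rw [hBd] at hle
  have hf11 : (11 : ℕ).factorization 2 = 0 :=
    Nat.factorization_eq_zero_of_not_dvd (by norm_num)
  have hf48 : (48 : ℕ).factorization 2 = 4 := by
    rw [show (48 : ℕ) = 2 ^ 4 * 3 by norm_num, Nat.factorization_mul (by norm_num) (by norm_num),
      Finsupp.add_apply, Nat.prime_two.factorization_pow, Finsupp.single_eq_same,
      Nat.factorization_eq_zero_of_not_dvd (show ¬ 2 ∣ 3 by norm_num)]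
  have hm0 : 48 * charDegree (χ₀ : G → ℂ) ≠ 0 := by positivity
  have hn0 : 11 * Nat.card G ≠ 0 := by positivity
  have hfac : (11 * Nat.card G).factorization 2 =
      (48 * charDegree (χ₀ : G → ℂ)).factorization 2 := by
    rw [Nat.factorization_mul (by norm_num) hN, Nat.factorization_mul (by norm_num) hD0.ne',
      Finsupp.add_apply, Finsupp.add_apply, hf11, hf48, hdeg]
    omega
  set X : ℂ := ((11 * Nat.card G : ℕ) : ℂ) / ((48 * charDegree (χ₀ : G → ℂ) : ℕ) : ℂ) with hX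
  have hXR : MemLocalRing M X := memLocalRing_natDiv hM hfac.ge
  have hXM : ¬ MemLocalIdeal M X := not_memLocalIdeal_natDiv hM hm0 hn0 hfac.le
  refine htM ?_
  have hX0 : X ≠ 0 := fun e0 => hXM (e0 ▸ memLocalIdeal_zero)
  have heR : MemLocalRing M (e : ℂ) := mem_locRing.1 (intCast_mem (locRing M) e)
  have h2 := MemLocalIdeal.mul_left heR (MemLocalIdeal.mul_left (memLocalRing_inv hXR hXM) hc)
  have he2 : (e : ℂ) * (e : ℂ) = 1 := by rcases he with rfl | rfl <;> norm_num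
  convert h2 using 1
  have hd : (charDegree (χ₀ : G → ℂ) : ℂ) ≠ 0 := Nat.cast_ne_zero.2 hD0.ne'
  rw [hX, irr_one_eq_charDegree χ₀, hG0]
  push_cast
  field_simp
  linear_combination (-(2112 : ℂ)) * conj (P t) * he2

set_option maxHeartbeats 1600000 in
/-- The invariants of a block with a dihedral defect group. -/
theorem dihedral_block (hM : IsPModular 2 M) (hB : IsPBlock M B) {D : Subgroup G}
    (hD : IsDefectGroup 2 M B D) {n : ℕ} (hn : 3 ≤ n) (d₀ : Dih D) (hm₀ : d₀.m = 2 ^ (n - 1)) :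
    (Finset.univ.filter (· ∈ B)).card = 2 ^ (n - 2) + 3 ∧ blockRank 2 B ≤ 3 ∧
      ((Finset.univ.filter (· ∈ B)).filter
        fun χ : IrrCharacter G => blockHeight 2 B (χ : G → ℂ) = 0).card = 4 ∧
      ∀ χ ∈ B, blockHeight 2 B (χ : G → ℂ) ≤ 1 := by
  classical
  haveI : Fact (Nat.Prime 2) := ⟨Nat.prime_two⟩
  haveI : CharP (resField M) 2 := resField_charP hM
  set h := 2 ^ (n - 2) with hh'
  have hh₀ : d₀.m = 2 * h := by rw [hm₀, hh', ← pow_succ']; congr 1; omega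
  obtain ⟨a, hmax, haD, ν, hνconj, hνA, hloc₀⟩ := exists_local hM hB hD d₀ hm₀ hh₀
  subst haD
  set d := d₀ with hd
  have hm : d.m = 2 ^ (n - 1) := hm₀
  have hh : d.m = 2 * h := hh₀
  set m := d.m with hmdef
  have hh2 : 2 ≤ h := by rw [hh']; exact Nat.le_self_pow (by omega) 2
  have hev : 2 ∣ h := dvd_pow_self 2 (by omega)
  set ζ := Complex.exp (2 * Real.pi * Complex.I / m) with hζdef
  have hm0 : m ≠ 0 := by omega
  have hζ : IsPrimitiveRoot ζ m := Complex.isPrimitiveRoot_exp m hm0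
  choose A hA using fun χ => hνA χ ζ hζ
  have hxm : d.x ^ m = 1 := by rw [hmdef, ← d.hm, pow_orderOf_eq_one]
  -- symmetry
  have hsym : ∀ χ i, i ≤ m → ν χ (d.x ^ (m - i)) = ν χ (d.x ^ i) := by
    intro χ i hi
    have e : d.x ^ (m - i) = d.y * d.x ^ i * d.y⁻¹ := by
      rw [← conj_pow, d.inv, inv_pow]
      refine eq_inv_of_mul_eq_one_left ?_
      rw [← pow_add, Nat.sub_add_cancel hi, hxm]
    rw [e, hνconj χ _ (pow_mem d.hx i) _ d.hy]
  have hreal : ∀ χ i, conj (ν χ (d.x ^ i)) = ν χ (d.x ^ i) := by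
    intro χ i
    have e : d.x ^ i = d.x ^ (i % m) := by
      rw [hmdef, ← d.hm, pow_mod_orderOf]
    rw [e]
    set j := i % m
    have hj : j ≤ m := (Nat.mod_lt i (Nat.pos_of_ne_zero hm0)).le
    conv_rhs => rw [← hsym χ j hj, hA χ (m - j)]
    rw [hA χ j, map_sum]
    refine Finset.sum_congr rfl fun l _ => ?_
    rw [map_mul, map_natCast]
    congr 1
    have hn1 : ‖ζ ^ (j * l)‖ = 1 := norm_eq_one_of_pow hm0 (by
      rw [← pow_mul, mul_comm, pow_mul, hζ.pow_eq_one, one_pow])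
    rw [← Complex.inv_eq_conj hn1]
    exact (eq_inv_of_mul_eq_one_left (DihedralFourier.pow_sub_eq hζ.pow_eq_one hj l)).symm
  have hgram := gram hM hB hmax d hm hh hloc₀ hreal hsym
  set T := Finset.univ.filter (· ∈ B) with hT
  obtain ⟨v, hv0, hvsym, hvΨ, hvz, hvgram, hvorth⟩ := DihedralFourier.exists_vectors T hh
    (by omega) hev hζ (fun χ i => ν χ (d.x ^ i)) A hA hsym hgram
  have hne : ∀ i, 0 < i → i < m → d.x ^ i ≠ 1 :=
    fun i h0 hi => pow_ne_one_of_lt_orderOf h0.ne' (by rw [d.hm]; exact hi)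
  have hpow : ∀ i : ℕ, ∃ t, orderOf (d.x ^ i) = 2 ^ t := fun i => by
    obtain ⟨t, -, ht⟩ := (Nat.dvd_prime_pow Nat.prime_two).1
      (show orderOf (d.x ^ i) ∣ 2 ^ (n - 1) by
        rw [← hm, hmdef, ← d.hm]; exact orderOf_dvd_of_mem_zpowers (Subgroup.npow_mem_zpowers _ _))
    exact ⟨t, ht⟩
  -- regular columns
  have hreg : ∀ (g : G), ¬ 2 ∣ orderOf g → ∀ i ∈ Finset.Ico 1 m,
      ∑ χ ∈ T, ν χ (d.x ^ i) * (χ : G → ℂ) g = 0 := by
    intro g hg i hi
    rw [Finset.mem_Ico] at hi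
    obtain ⟨b, P, hL⟩ := hloc₀ _ (Subgroup.npow_mem_zpowers d.x i) (hne i hi.1 hi.2)
    have h1 := KleinSigns.sum_conj_regPair_regular hM hB (hpow i) (hne i hi.1 hi.2) (secC_eq _)
      (blockScale 2 b) P hg
    rw [Finset.sum_congr rfl fun χ _ => by rw [regPair_sec hM hL χ, hreal]] at h1
    exact h1
  have horth : ∀ j, 1 ≤ j → j ≤ h →
      ∑ χ ∈ T, (v j χ : ℂ) • pRegularPart 2 (χ : G → ℂ) = 0 := by
    intro j hj hjh
    funext g
    rw [Finset.sum_apply, Pi.zero_apply]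
    simp only [Pi.smul_apply, smul_eq_mul, pRegularPart_apply]
    split_ifs with hg
    · simp
    · exact hvorth (fun χ => (χ : G → ℂ) g) (hreg g hg) j hj hjh
  have hrank := DihedralFourier.finrank_add_le T (fun χ : IrrCharacter G =>
    pRegularPart 2 (χ : G → ℂ)) (by omega : 1 ≤ h) v hvgram horth
  have hTB : (T : Set (IrrCharacter G)) = B := by ext χ; simp [hT]
  rw [hTB] at hrank
  change blockRank 2 B + h ≤ T.card at hrank
  -- degrees
  have hdeg : ∀ j, 1 ≤ j → j ≤ h → ∑ χ ∈ T, v j χ * (charDegree (χ : G → ℂ) : ℤ) = 0 := by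
    intro j hj hjh
    have h1 := hvorth (fun χ => (χ : G → ℂ) 1) (hreg 1 (by simp)) j hj hjh
    simp only [irr_one_eq_charDegree] at h1
    exact_mod_cast h1
  -- the column at the central involution
  obtain ⟨b, P, hL⟩ := hloc₀ _ (Subgroup.npow_mem_zpowers d.x h) (hne h (by omega) (by omega))
  have hz : a.1 ⊓ secC (d.x ^ h) = a.1 := inf_eq_left.2 fun g hg => mem_secC.2 (by
    have e' : d.z = d.x ^ h := by
      rw [Dih.z, ← zpow_natCast, ← hmdef, hh]
      congr 1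
      push_cast
      omega
    rw [← e']; exact d.z_comm hg)
  have hBd : blockDefect 2 B = n := by
    have h1 := card_defectGroup hM hB hD
    rw [d.card, ← hmdef, hm, ← pow_succ', show n - 1 + 1 = n by omega] at h1
    exact (Nat.pow_right_injective le_rfl h1).symm
  have hbd : blockDefect 2 b = blockDefect 2 B := by
    have h1 := hL.defect
    rw [hz, card_defectGroup hM hB hD] at h1
    exact Nat.pow_right_injective le_rfl h1
  obtain ⟨χ₀, hχ₀, h0⟩ := exists_heightZero hM hB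
  have hcz : ∀ χ, ν χ (d.x ^ h) = ((DihedralVectors.cz v h χ : ℤ) : ℂ) := fun χ => (hvz χ).symm
  have hc0 : ¬ MemLocalIdeal M ((DihedralVectors.cz v h χ₀ : ℤ) : ℂ) := by
    intro hmem
    have hcon := contrib_not_mem hM (hpow h) (secC_eq _) hL.ind hχ₀ hχ₀ h0 h0
    have he : contrib 2 (d.x ^ h) b χ₀ χ₀ = regPair 2 (blockScale 2 b)
        (blockPart b (secFun (d.x ^ h) (secC (d.x ^ h)) (χ₀ : G → ℂ)))
        (blockPart b (secFun (d.x ^ h) (secC (d.x ^ h)) (χ₀ : G → ℂ))) := by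
      rw [contrib, regPair_eq_sum, blockScale]
      push_cast
      rfl
    rw [he, regPair_smul _ (hL.part χ₀) (hL.part χ₀), hL.norm, mul_one, hreal, hcz] at hcon
    exact hcon (MemLocalIdeal.mul_left (MemLocalIdeal.memLocalRing hmem) hmem)
  have hc : ∀ χ ∈ T, (2 : ℤ) ^ blockHeight 2 B (χ : G → ℂ) ∣ DihedralVectors.cz v h χ ∧
      ¬ (2 : ℤ) ^ (blockHeight 2 B (χ : G → ℂ) + 1) ∣ DihedralVectors.cz v h χ := by
    intro χ hχ
    obtain ⟨h1, h2⟩ := regPair_major hM (hpow h) (secC_eq _) hL.ind hbd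
      (Finset.mem_filter.1 hχ).2 hχ₀ h0 hL.cls
      (fun s => mem_locRing_of_isIntegral (map_isIntegral_int (starRingEnd ℂ) (hL.intg s)))
    rw [regPair_sec hM hL, hcz] at h1
    rw [regPair_sec hM hL, regPair_sec hM hL, hcz, hcz] at h2
    rw [Nat.cast_ofNat] at h1 h2
    exact ⟨dvd_of_div hM _ _ h1, not_dvd_of_div hM fun hm => hc0 (h2.1 hm)⟩
  have h3 : h = 2 ∨ h = 4 ∨ 8 ≤ h := by
    rw [hh']
    rcases (show n = 3 ∨ n = 4 ∨ 5 ≤ n by omega) with rfl | rfl | h5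
    · exact Or.inl rfl
    · exact Or.inr (Or.inl rfl)
    · exact Or.inr (Or.inr (Nat.pow_le_pow_right two_pos (show 3 ≤ n - 2 by omega)))
  rcases DihedralVectors.shape T v (fun χ : IrrCharacter G => charDegree (χ : G → ℂ))
      (fun χ : IrrCharacter G => blockHeight 2 B (χ : G → ℂ)) h3
      (fun χ _ => charDegree_pos χ) hvgram hdeg hc
      ⟨χ₀, Finset.mem_filter.2 ⟨Finset.mem_univ _, hχ₀⟩, h0⟩ with
    ⟨hcard, hfour, hht⟩ | ⟨h4, χ₁, hχ₁, h10, e, he, hSb, hSa⟩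
  · exact ⟨hcard, by omega, hfour, fun χ hχ =>
      hht χ (Finset.mem_filter.2 ⟨Finset.mem_univ _, hχ⟩)⟩
  exfalso
  -- the exceptional shape
  have hm8 : m = 8 := by omega
  have hx1 : d.x ^ 1 ≠ 1 := hne 1 one_pos (by omega)
  obtain ⟨b₁, P₁, hL₁⟩ := hloc₀ d.x (Subgroup.mem_zpowers _) (by rwa [pow_one] at hx1)
  have hx2 : d.x * d.x ≠ 1 := by rw [← pow_two]; exact hne 2 two_pos (by omega)
  have hd8 : 2 ^ blockDefect 2 b₁ = 8 := by
    rw [hL₁.defect, inf_secC_eq d (Subgroup.mem_zpowers _) hx2, Nat.card_zpowers, d.hm, ← hmdef,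
      hm8]
  have hn4 : n = 4 := by
    have : 2 ^ (n - 2) = 2 ^ 2 := by rw [← hh', h4]; norm_num
    have := Nat.pow_right_injective le_rfl this
    omega
  obtain ⟨eZ, heZ, rfl⟩ : ∃ eZ : ℤ, (eZ = 1 ∨ eZ = -1) ∧ e = (eZ : ℚ) := by
    rcases he with rfl | rfl
    · exact ⟨1, Or.inl rfl, by norm_num⟩
    · exact ⟨-1, Or.inr rfl, by norm_num⟩
  refine no_exception hM hB (by rw [d.hm, ← hmdef, hm8]) hL₁ hd8 (by omega)
    (fun χ => by have := hreal χ 1; rwa [pow_one] at this) (Finset.mem_filter.1 hχ₁).2 h10 heZ ?_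
  have hz4 : ζ ^ 4 = -1 := by
    have h2 : ζ ^ 4 * ζ ^ 4 = 1 := by rw [← pow_add]; rw [hm8] at hζ; exact hζ.pow_eq_one
    rcases mul_self_eq_one_iff.1 h2 with e1 | e1
    · exact absurd ((hζ.pow_eq_one_iff_dvd 4).1 e1) (by rw [hm8]; norm_num)
    · exact e1
  set r : ℂ := ζ - ζ ^ 3 with hr
  have hr2 : r ^ 2 = 2 := by
    rw [hr]; linear_combination (ζ ^ 2 - 2) * hz4
  have hΨ : ∀ χ, ν χ d.x = ((v 1 χ - v 3 χ : ℤ) : ℂ) * r + ((-v 4 χ : ℤ) : ℂ) := by
    intro χ
    have h1 := hvΨ χ 1 (by rw [hm8]; norm_num)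
    simp only [pow_one, one_mul] at h1
    rw [h1, hm8]
    have e7 : v 7 χ = v 1 χ := by have := hvsym χ 1 (by omega) one_pos; rwa [hm8] at this
    have e6 : v 6 χ = v 2 χ := by have := hvsym χ 2 (by omega) two_pos; rwa [hm8] at this
    have e5 : v 5 χ = v 3 χ := by have := hvsym χ 3 (by omega) three_pos; rwa [hm8] at this
    simp only [Finset.sum_range_succ, Finset.sum_range_zero, hv0 χ, e5, e6, e7]
    push_cast
    rw [hr]
    linear_combination ((v 2 χ : ℂ) * ζ ^ 2 + (v 4 χ : ℂ) + (v 1 χ : ℂ) * ζ ^ 3 +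
      (v 3 χ : ℂ) * ζ) * hz4
  have hSb' := congrArg (fun q : ℚ => (q : ℂ)) hSb
  have hSa' := congrArg (fun q : ℚ => (q : ℂ)) hSa
  push_cast at hSb' hSa'
  rw [irr_one_eq_charDegree χ₁, ← hSb',
    ← add_zero (∑ χ ∈ T, (6 * ((v 1 χ : ℂ) - v 3 χ) ^ 2 * (-(v 4 χ : ℂ)) + (-(v 4 χ : ℂ)) ^ 3) /
      (charDegree (χ : G → ℂ) : ℂ)), ← mul_zero r, ← hSa', Finset.mul_sum, ← Finset.sum_add_distrib]
  refine Finset.sum_congr rfl fun χ _ => ?_
  rw [hΨ χ, irr_one_eq_charDegree χ, ← mul_div_assoc, ← add_div]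
  congr 1
  push_cast
  linear_combination (((v 1 χ : ℂ) - v 3 χ) ^ 3 * r -
    3 * ((v 1 χ : ℂ) - v 3 χ) ^ 2 * (v 4 χ : ℂ)) * hr2

end Cfsg.Agent.DihedralBlock
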