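/-
The principal block: its defect groups are the Sylow subgroups.
-/
import Cfsg.Agent.Lib.Blocks.MinMax

set_option linter.unusedSectionVars false
set_option linter.style.haveILetI false

namespace Cfsg.Agent.BrauerPairs

open Cfsg Cfsg.Agent.Blocks

universe u

variable {G : Type u} [Group G] [Fintype G] {p : ℕ} {M : Ideal AlgInt}

theorem centralChar_one (g : G) :
    centralChar (fun _ : G => (1 : ℂ)) g = ((Subgroup.centralizer ({g} : Set G)).index : ℂ) := by
  simp [centralChar]

theorem classSum_conj {R : Type*} [CommRing R] (g y : G) :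
    classSum R (y * g * y⁻¹) = classSum R g := by
  classical
  refine gaExt fun x => ?_
  simp only [coeff_classSum]
  exact if_congr ⟨fun h => (isConj_iff.2 ⟨y, rfl⟩).trans h,
    fun h => (isConj_iff.2 ⟨y, rfl⟩).symm.trans h⟩ rfl rfl

theorem centralChar_conj (χ : IrrCharacter G) (g y : G) :
    centralChar (χ : G → ℂ) (y * g * y⁻¹) = centralChar (χ : G → ℂ) g := by
  rw [← omega_classSum, ← omega_classSum, classSum_conj]

theorem blockCoeff_conj (B : Set (IrrCharacter G)) (g y : G) :
    blockCoeff B (y * g * y⁻¹) = blockCoeff B g := by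
  simpa only [coeff_blockElt] using isClassElt_blockElt B g y

theorem isDefectClass_conj {B : Set (IrrCharacter G)} {g : G} (hg : IsDefectClass M B g) (y : G) :
    IsDefectClass M B (y * g * y⁻¹) := by
  refine ⟨?_, ?_, fun χ hχ => ?_⟩
  · rw [blockCoeff_conj]; exact hg.1
  · rw [blockCoeff_conj]; exact hg.2.1
  · rw [centralChar_conj]; exact hg.2.2 χ hχ

theorem not_dvd_index_of_isDefectClass_principal (hM : IsPModular p M) {g : G}
    (hg : IsDefectClass M (principalBlock M G) g) :
    ¬ p ∣ (Subgroup.centralizer ({g} : Set G)).index := by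
  haveI := IsPModular.isPrime hM
  have := hg.2.2 (Cfsg.Agent.Char.principal G) principal_mem_principalBlock
  rw [show ((Cfsg.Agent.Char.principal G : IrrCharacter G) : G → ℂ) = fun _ => (1 : ℂ) from rfl,
    centralChar_one, natCast_memLocalIdeal_iff hM] at this
  exact this

theorem classExp_principal (hM : IsPModular p M) {g : G}
    (hg : IsDefectClass M (principalBlock M G) g) :
    classExp p g = (Nat.card G).factorization p := by
  rw [classExp, ← Subgroup.card_mul_index (Subgroup.centralizer ({g} : Set G)),
    Nat.factorization_mul Nat.card_pos.ne' Subgroup.index_ne_zero_of_finite]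
  simp [Nat.factorization_eq_zero_of_not_dvd (not_dvd_index_of_isDefectClass_principal hM hg)]

theorem isDefectGroup_principal_iff (hM : IsPModular p M) (D : Subgroup G) :
    IsDefectGroup p M (principalBlock M G) D ↔ ∃ S : Sylow p G, (S : Subgroup G) = D := by
  haveI := Fact.mk hM.1
  haveI := IsPModular.isPrime hM
  constructor
  · rintro ⟨g, hg, P, rfl⟩
    refine ⟨Sylow.ofCard (sylowImage P) ?_, rfl⟩
    rw [card_sylowImage]
    exact congrArg (p ^ ·) (classExp_principal hM hg)
  · rintro ⟨S, rfl⟩
    obtain ⟨g, hg⟩ := exists_defectClass (isPBlock_principalBlock M G)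
    obtain ⟨P⟩ : Nonempty (Sylow p (Subgroup.centralizer ({g} : Set G))) := inferInstance
    let T : Sylow p G := Sylow.ofCard (sylowImage P) (by
      rw [card_sylowImage]; exact congrArg (p ^ ·) (classExp_principal hM hg))
    obtain ⟨y, hy⟩ := MulAction.exists_smul_eq G T S
    have hg' := isDefectClass_conj hg y
    have hle : (S : Subgroup G) ≤ Subgroup.centralizer ({y * g * y⁻¹} : Set G) := by
      intro s hs
      rw [← hy, Sylow.coe_subgroup_smul] at hs
      obtain ⟨t, ht, rfl⟩ := hs
      have htg := Subgroup.mem_centralizer_iff.1 (sylowImage_le P ht) g (Set.mem_singleton g)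
      refine Subgroup.mem_centralizer_iff.2 fun z hz => ?_
      rw [Set.mem_singleton_iff.1 hz]
      simp only [MulDistribMulAction.toMonoidEnd_apply, MulDistribMulAction.toMonoidHom_apply,
        MulAut.smul_def, MulAut.conj_apply]
      calc y * g * y⁻¹ * (y * t * y⁻¹) = y * (g * t) * y⁻¹ := by group
        _ = y * (t * g) * y⁻¹ := by rw [htg]
        _ = y * t * y⁻¹ * (y * g * y⁻¹) := by group
    refine ⟨_, hg', Sylow.ofCard ((S : Subgroup G).subgroupOf _) ?_, ?_⟩
    · rw [Nat.card_congr (Subgroup.subgroupOfEquivOfLe hle).toEquiv, Sylow.card_eq_multiplicity]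
      exact congrArg (p ^ ·) (classExp_principal hM hg').symm
    · rw [Sylow.coe_ofCard, Subgroup.map_subgroupOf_eq_of_le hle]

end Cfsg.Agent.BrauerPairs
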