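/-
Blocks with exactly one more ordinary than modular character.
-/
import Cfsg.Agent.Lib.BrauerPairs.NilpotentRankOne
import Cfsg.Agent.Lib.BrauerPairs.Principal
import Cfsg.Agent.Lib.BrauerPairs.Main
import Cfsg.Agent.Lib.Blocks.HeightBound
import Cfsg.Agent.S4646
import Mathlib.GroupTheory.FixedPointFree

set_option linter.unusedSectionVars false
set_option linter.style.haveILetI false

namespace Cfsg.Agent.BrauerPairs

open Cfsg MonoidAlgebra Cfsg.Agent.Blocks Cfsg.Agent.Char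

universe u

variable {G : Type u} [Group G] [Fintype G] {p : ℕ} [Fact p.Prime] {M : Ideal AlgInt} [M.IsPrime]

/-- Every element of a defect group is conjugate to one whose centraliser has a block inducing `B`. -/
theorem exists_subsection (hM : IsPModular p M) {B : Set (IrrCharacter G)} (hB : IsPBlock M B)
    {D : Subgroup G} (hD : IsDefectGroup p M B D) {v : G} (hv : v ∈ D) {z : G} (hz : IsConj v z) :
    ∃ b : Set (IrrCharacter ↥(Subgroup.centralizer ({z} : Set G))),
      IsInducedBlock M (Subgroup.centralizer ({z} : Set G)) b B := by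
  classical
  haveI : CharP (resField M) p := resField_charP hM
  obtain ⟨e, he⟩ := exists_pairOf_defGrp (isBlk_Ek hB) ((isDefectGroup_iff hB D).1 hD)
  obtain ⟨f, hf, -⟩ := existsUnique_below he.pair (Subgroup.zpowers_le.2 hv)
  obtain ⟨g, rfl⟩ := isConj_iff.1 hz
  have hp : IsPairOf p ⊤ (Ek M B) (Subgroup.zpowers (g * v * g⁻¹), cj g f) := by
    have := (hf.pairOf_iff.2 he).cj' (Subgroup.mem_top g)
    rwa [show cjP g (Subgroup.zpowers v, f) = (Subgroup.zpowers (g * v * g⁻¹), cj g f) from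
      Prod.ext (MonoidHom.map_zpowers _ _) rfl] at this
  have hblk := hp.pair.blkC
  have hCz : Subgroup.centralizer ((Subgroup.zpowers (g * v * g⁻¹) : Subgroup G) : Set G) =
      Subgroup.centralizer ({g * v * g⁻¹} : Set G) := centralizer_zpowers_eq _
  rw [show ((Subgroup.zpowers (g * v * g⁻¹), cj g f) : Pr (resField M) G).2 = cj g f from rfl,
    show ((Subgroup.zpowers (g * v * g⁻¹), cj g f) : Pr (resField M) G).1 =
      Subgroup.zpowers (g * v * g⁻¹) from rfl, hCz] at hblk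
  obtain ⟨b, hb, hbe⟩ := exists_eq_zB hblk
  have hpC : IsPairOf p (Subgroup.centralizer ({g * v * g⁻¹} : Set G))
      (zB M (Subgroup.centralizer ({g * v * g⁻¹} : Set G)) b)
      (Subgroup.zpowers (g * v * g⁻¹), cj g f) := by
    have hsb := pairOf_self (M := M) hb hp.pair.pgroup
      (Subgroup.zpowers_le.2 (Subgroup.mem_centralizer_singleton_iff.2 rfl)) hCz.symm
    rw [hbe] at hsb ⊢
    exact hsb
  exact ⟨b, induced_of_pairOf hM hb hB hpC hCz.le hp⟩

/-- `k(B) ≤ l(B) + 1`: one class meets `D#`, with one subsection of rank one. -/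
theorem one_subsection (hM : IsPModular p M) {B : Set (IrrCharacter G)} (hB : IsPBlock M B)
    {D : Subgroup G} (hD : IsDefectGroup p M B D) (hk : Nat.card B ≤ blockRank p B + 1)
    {x : G} (hx : x ∈ D) (hx1 : x ≠ 1) :
    (∀ y ∈ D, y ≠ 1 → IsConj x y) ∧
      ∀ b : Set (IrrCharacter ↥(Subgroup.centralizer ({x} : Set G))),
        IsInducedBlock M (Subgroup.centralizer ({x} : Set G)) b B → blockRank p b ≤ 1 := by
  classical
  haveI : CharP (resField M) p := resField_charP hM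
  have hDp : IsPGroup p D := ((isDefectGroup_iff hB D).1 hD).pgroup
  have hpe : ∀ y ∈ D, ∃ k, orderOf y = p ^ k := fun y hy => by
    obtain ⟨k, hk⟩ := IsPGroup.iff_orderOf.1 hDp ⟨y, hy⟩
    exact ⟨k, by rw [← hk, ← Subgroup.orderOf_coe]⟩
  let r : G → G := fun g => if IsConj g x then x else (ConjClasses.mk g).out
  have hout : ∀ g : G, IsConj g (ConjClasses.mk g).out := fun g =>
    ConjClasses.mk_eq_mk_iff_isConj.1 (Quotient.out_eq _).symm
  have hr : ∀ g, IsConj g (r g) := fun g => by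
    by_cases h : IsConj g x
    · simp only [r, if_pos h]; exact h
    · simp only [r, if_neg h]; exact hout g
  have hr' : ∀ g h, IsConj g h → r g = r h := fun g h hgh => by
    by_cases hg : IsConj g x
    · simp only [r, if_pos hg, if_pos (hgh.symm.trans hg)]
    · simp only [r, if_neg hg, if_neg (fun hh => hg (hgh.trans hh)),
        ConjClasses.mk_eq_mk_iff_isConj.2 hgh]
  let X : Finset G := Finset.univ.filter fun g => (∃ k : ℕ, orderOf g = p ^ k) ∧ r g = g
  have hmem : ∀ g : G, (∃ k : ℕ, orderOf g = p ^ k) → r g ∈ X := by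
    intro g hg
    refine Finset.mem_filter.2 ⟨Finset.mem_univ _, ?_, (hr' _ _ (hr g)).symm⟩
    obtain ⟨c, hc⟩ := isConj_iff.1 (hr g)
    rw [← hc]
    simpa [← MulAut.conj_apply, MulEquiv.orderOf_eq] using hg
  have hrep : ∀ g : G, (∃ k : ℕ, orderOf g = p ^ k) → ∃! z, z ∈ X ∧ IsConj g z := fun g hg =>
    ⟨r g, ⟨hmem g hg, hr g⟩, fun y hy => by
      rw [hr' _ _ hy.2, (Finset.mem_filter.1 hy.1).2.2]⟩
  have hsum := card_eq_sum_blockRank hM hB X (fun z hz => (Finset.mem_filter.1 hz).2.1) hrep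
  have h1X : (1 : G) ∈ X := by
    have := hmem 1 ⟨0, by simp⟩
    rwa [isConj_one_right.1 (hr (1 : G))] at this
  rw [← Finset.add_sum_erase _ _ h1X, sum_blockRank_one hM hB] at hsum
  let F : G → ℕ := fun z =>
    ∑ᶠ b ∈ {b : Set (IrrCharacter ↥(Subgroup.centralizer ({z} : Set G))) |
      IsInducedBlock M (Subgroup.centralizer ({z} : Set G)) b B}, blockRank p b
  have hle : ∑ z ∈ X.erase 1, F z ≤ 1 := by simp only [F]; omega
  have hterm : ∀ (z : G) (b : Set (IrrCharacter ↥(Subgroup.centralizer ({z} : Set G)))),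
      IsInducedBlock M (Subgroup.centralizer ({z} : Set G)) b B → blockRank p b ≤ F z := by
    intro z b hb
    simp only [F]
    rw [finsum_mem_eq_finite_toFinset_sum _ (Set.toFinite _)]
    exact Finset.single_le_sum (f := fun b => blockRank p b) (fun _ _ => Nat.zero_le _)
      ((Set.Finite.mem_toFinset _).2 hb)
  have hrx : r x = x := if_pos (IsConj.refl x)
  have hxX : x ∈ X.erase 1 := by
    refine Finset.mem_erase.2 ⟨hx1, ?_⟩
    have := hmem x (hpe x hx)
    rwa [hrx] at this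
  refine ⟨fun y hy hy1 => ?_, fun b hb =>
    (hterm x b hb).trans ((Finset.single_le_sum (f := F) (fun _ _ => Nat.zero_le _) hxX).trans hle)⟩
  by_contra hne
  have hyX : r y ∈ X.erase 1 := Finset.mem_erase.2 ⟨fun h => hy1 (isConj_one_left.1 (h ▸ hr y)),
    hmem y (hpe y hy)⟩
  have hxy : x ≠ r y := fun h => hne (by
    have h' := (hr y).symm
    rwa [← h] at h')
  obtain ⟨b, hb⟩ := exists_subsection hM hB hD hy (hr y)
  obtain ⟨c, hc⟩ := exists_subsection hM hB hD hx (IsConj.refl x)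
  have h1 := (one_le_blockRank hM hc.1).trans (hterm _ c hc)
  have h2 := (one_le_blockRank hM hb.1).trans (hterm _ b hb)
  have h3 : F x + F (r y) ≤ ∑ z ∈ X.erase 1, F z := by
    rw [← Finset.sum_pair hxy]
    exact Finset.sum_le_sum_of_subset (Finset.insert_subset hxX (Finset.singleton_subset_iff.2 hyX))
  omega

/-- If the nontrivial elements of a `p`-subgroup are conjugate they have order `p`. -/
theorem pow_p_eq_one_of_isConj {P : Subgroup G} (hP : IsPGroup p P)
    (hconj : ∀ x ∈ P, ∀ y ∈ P, x ≠ 1 → y ≠ 1 → IsConj x y) {x : G} (hx : x ∈ P) : x ^ p = 1 := by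
  have hp : p.Prime := Fact.out
  by_cases h1 : x = 1
  · simp [h1]
  obtain ⟨k, hk⟩ := IsPGroup.iff_orderOf.1 hP ⟨x, hx⟩
  rw [← Subgroup.orderOf_coe] at hk
  cases k with
  | zero => exact absurd (orderOf_eq_one_iff.1 (by simpa using hk)) h1
  | succ k =>
    let y := x ^ p ^ k
    have hy : orderOf y = p := by
      simp only [y]
      rw [orderOf_pow' x (pow_ne_zero _ hp.ne_zero), hk,
        Nat.gcd_eq_right (pow_dvd_pow p (Nat.le_succ k)),
        Nat.pow_div (Nat.le_succ k) hp.pos, Nat.succ_sub le_rfl, Nat.sub_self, pow_one]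
    obtain ⟨c, hc⟩ := isConj_iff.1 (hconj x hx y (pow_mem hx _) h1
      (fun h => hp.ne_one (by rw [← hy, h, orderOf_one])))
    have : orderOf x = p := by rw [← hy, ← hc, ← MulAut.conj_apply, MulEquiv.orderOf_eq]
    rw [← this]
    exact pow_orderOf_eq_one x

/-- `p'`-elements lie in a normal subgroup of `p`-power index. -/
theorem mem_of_index {H : Type*} [Group H] (K : Subgroup H) [K.Normal] [Finite H] {k : ℕ}
    (hk : K.index = p ^ k) {h : H} (hh : (orderOf h).Coprime p) : h ∈ K := by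
  rw [← QuotientGroup.eq_one_iff, ← orderOf_eq_one_iff]
  refine Nat.eq_one_of_dvd_coprimes (Nat.Coprime.pow_right k hh)
    (orderOf_map_dvd (QuotientGroup.mk' K) h) ?_
  rw [← hk, Subgroup.index]
  exact orderOf_dvd_natCard _

/-- A Sylow subgroup with conjugate nontrivial elements and `p`-nilpotent centralisers. -/
theorem isElementaryAbelian_of_isConj (P : Sylow p G)
    (hconj : ∀ x ∈ (P : Subgroup G), ∀ y ∈ (P : Subgroup G), x ≠ 1 → y ≠ 1 → IsConj x y)
    (hnil : ∀ x ∈ (P : Subgroup G), x ≠ 1 →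
      HasNormalPComplement p ↥(Subgroup.centralizer ({x} : Set G))) :
    IsElementaryAbelian p (P : Subgroup G) := by
  classical
  have hp : p.Prime := Fact.out
  have hexp : ∀ x ∈ (P : Subgroup G), x ^ p = 1 := fun x hx =>
    pow_p_eq_one_of_isConj P.2 hconj hx
  refine ⟨⟨⟨fun a b => ?_⟩⟩, hexp⟩
  rcases hp.eq_two_or_odd' with h2 | hodd
  · have hinv : ∀ c : (P : Subgroup G), c⁻¹ = c := fun c => by
      refine inv_eq_of_mul_eq_one_right (Subtype.ext ?_)
      have h3 := (congrArg (fun i : ℕ => (c : G) ^ i) h2).symm.trans (hexp _ c.2)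
      simpa [pow_two] using h3
    calc a * b = (a * b)⁻¹ := (hinv _).symm
      _ = b * a := by rw [mul_inv_rev, hinv, hinv]
  by_cases hbot : ∀ c : (P : Subgroup G), c = 1
  · rw [hbot a, hbot b]
  push_neg at hbot
  haveI : Nontrivial (P : Subgroup G) := ⟨⟨_, _, hbot.choose_spec⟩⟩
  haveI := (P.2 : IsPGroup p (P : Subgroup G)).center_nontrivial
  obtain ⟨⟨⟨z, hzP⟩, hzc⟩, hz⟩ := exists_ne (1 : Subgroup.center (P : Subgroup G))
  have hz1 : z ≠ 1 := fun h => hz (Subtype.ext (Subtype.ext h))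
  have hzC : z ∈ Subgroup.centralizer ((P : Subgroup G) : Set G) :=
    Subgroup.mem_centralizer_iff.2 fun q hq =>
      congrArg Subtype.val (Subgroup.mem_center_iff.1 hzc ⟨q, hq⟩)
  have hpow2 : z ^ 2 ≠ 1 := fun h => by
    have h1 : orderOf z ∣ 2 := orderOf_dvd_of_pow_eq_one h
    have h2 : orderOf z ∣ p := orderOf_dvd_of_pow_eq_one (hexp z hzP)
    exact hz1 (orderOf_eq_one_iff.1 (Nat.eq_one_of_dvd_coprimes
      (Nat.coprime_two_left.2 hodd) h1 h2))
  obtain ⟨c, hc⟩ := isConj_iff.1 (hconj z hzP z⁻¹ (inv_mem hzP) hz1 (inv_ne_one.2 hz1))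
  obtain ⟨n, hn, hne⟩ := P.conj_eq_normalizer_conj_of_mem_centralizer z c⁻¹ hzC
    (by rw [inv_inv, hc]; exact inv_mem hzC)
  rw [inv_inv, hc] at hne
  -- `g` is the 2-part of `n⁻¹`
  let N₀ : Subgroup G := Subgroup.normalizer ((P : Subgroup G) : Set G)
  let m := orderOf n⁻¹ / 2 ^ (orderOf n⁻¹).factorization 2
  let g := n⁻¹ ^ m
  have hgo : orderOf g = 2 ^ (orderOf n⁻¹).factorization 2 :=
    orderOf_pow_orderOf_div (orderOf_pos _).ne' (Nat.ordProj_dvd _ _)
  have hm : Odd m := Nat.not_even_iff_odd.1 fun h =>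
    Nat.not_dvd_ordCompl Nat.prime_two (orderOf_pos n⁻¹).ne' (even_iff_two_dvd.1 h)
  have hgN : g ∈ N₀ := pow_mem (inv_mem hn) m
  have hgz : g * z * g⁻¹ = z⁻¹ := by
    have h1 : ∀ i : ℕ, n⁻¹ ^ (2 * i + 1) * z * (n⁻¹ ^ (2 * i + 1))⁻¹ = z⁻¹ := by
      have e1 : n⁻¹ * z * n⁻¹⁻¹ = z⁻¹ := by rw [inv_inv]; exact hne.symm
      have e2 : n⁻¹ * z⁻¹ * n⁻¹⁻¹ = z := by
        have := congrArg Inv.inv e1
        simp only [mul_inv_rev, inv_inv, mul_assoc] at this ⊢
        exact this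
      intro i
      induction i with
      | zero => simpa using e1
      | succ i ih =>
        rw [show 2 * (i + 1) + 1 = 1 + (1 + (2 * i + 1)) by ring, pow_add, pow_add, pow_one]
        calc n⁻¹ * (n⁻¹ * n⁻¹ ^ (2 * i + 1)) * z * (n⁻¹ * (n⁻¹ * n⁻¹ ^ (2 * i + 1)))⁻¹ =
            n⁻¹ * (n⁻¹ * (n⁻¹ ^ (2 * i + 1) * z * (n⁻¹ ^ (2 * i + 1))⁻¹) * n⁻¹⁻¹) * n⁻¹⁻¹ := by
              group
          _ = z⁻¹ := by rw [ih, e2, e1]
    obtain ⟨i, hi⟩ := hm
    simp only [g, hi]
    exact h1 i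
  have hco : ∀ {h : G}, h ∈ Submonoid.powers g → (orderOf h).Coprime p := by
    rintro h ⟨i, rfl⟩
    exact Nat.Coprime.coprime_dvd_left (orderOf_pow_dvd i)
      (hgo ▸ (Nat.coprime_two_left.2 hodd).pow_left _)
  have hgP : ∀ x ∈ (P : Subgroup G), g * x * g⁻¹ ∈ (P : Subgroup G) := fun x hx =>
    (Subgroup.mem_normalizer_iff.1 hgN x).1 hx
  have hsq : ∀ x ∈ (P : Subgroup G), g * g * x = x * (g * g) := by
    intro x hx
    obtain ⟨K, hK, hKc, k, hk⟩ := PBasic.hasNormalPComplement_iff.1 (hnil z hzP hz1)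
    haveI := hK
    have hxz : x ∈ Subgroup.centralizer ({z} : Set G) := Subgroup.mem_centralizer_singleton_iff.2
      (Subgroup.mem_centralizer_iff.1 hzC x hx)
    have hggz : g * g ∈ Subgroup.centralizer ({z} : Set G) := by
      refine Subgroup.mem_centralizer_singleton_iff.2 ?_
      have e2 : g * z⁻¹ * g⁻¹ = z := by
        have := congrArg Inv.inv hgz
        simp only [mul_inv_rev, inv_inv, mul_assoc] at this ⊢
        exact this
      calc g * g * z = g * (g * z * g⁻¹) * g⁻¹ * (g * g) := by group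
        _ = z * (g * g) := by rw [hgz, e2]
    let a : ↥(Subgroup.centralizer ({z} : Set G)) := ⟨g * g, hggz⟩
    let b : ↥(Subgroup.centralizer ({z} : Set G)) := ⟨x, hxz⟩
    have haK : a ∈ K := mem_of_index K hk (by
      rw [← Subgroup.orderOf_coe]; exact hco ⟨2, pow_two g⟩)
    have hmem : a * b * a⁻¹ * b⁻¹ ∈ K := by
      rw [show a * b * a⁻¹ * b⁻¹ = a * (b * a⁻¹ * b⁻¹) by group]
      exact mul_mem haK (hK.conj_mem _ (inv_mem haK) b)
    have hP : g * g * x * (g * g)⁻¹ * x⁻¹ ∈ (P : Subgroup G) :=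
      mul_mem ((Subgroup.mem_normalizer_iff.1 (mul_mem hgN hgN) x).1 hx) (inv_mem hx)
    have h1 : a * b * a⁻¹ * b⁻¹ = 1 := by
      rw [← orderOf_eq_one_iff]
      refine Nat.eq_one_of_dvd_coprimes hKc ?_ ?_
      · rw [← Subgroup.orderOf_mk _ hmem]; exact orderOf_dvd_natCard _
      · rw [← Subgroup.orderOf_coe]; exact orderOf_dvd_of_pow_eq_one (hexp _ hP)
    have h2 : g * g * x * (g * g)⁻¹ * x⁻¹ = 1 := congrArg Subtype.val h1
    calc g * g * x = g * g * x * (g * g)⁻¹ * x⁻¹ * (x * (g * g)) := by group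
      _ = x * (g * g) := by rw [h2, one_mul]
  have hfix : ∀ x ∈ (P : Subgroup G), g * x * g⁻¹ = x → x = 1 := by
    intro x hx hgx
    by_contra hx1
    obtain ⟨K, hK, hKc, k, hk⟩ := PBasic.hasNormalPComplement_iff.1 (hnil x hx hx1)
    haveI := hK
    have hgx' : g ∈ Subgroup.centralizer ({x} : Set G) :=
      Subgroup.mem_centralizer_singleton_iff.2 (by
        conv_rhs => rw [← hgx]
        group)
    have hzx : z ∈ Subgroup.centralizer ({x} : Set G) :=
      Subgroup.mem_centralizer_singleton_iff.2 (Subgroup.mem_centralizer_iff.1 hzC x hx).symm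
    let a : ↥(Subgroup.centralizer ({x} : Set G)) := ⟨g, hgx'⟩
    let b : ↥(Subgroup.centralizer ({x} : Set G)) := ⟨z, hzx⟩
    have haK : a ∈ K := mem_of_index K hk (by
      rw [← Subgroup.orderOf_coe]; exact hco ⟨1, pow_one g⟩)
    have hmem : a * b * a⁻¹ * b⁻¹ ∈ K := by
      rw [show a * b * a⁻¹ * b⁻¹ = a * (b * a⁻¹ * b⁻¹) by group]
      exact mul_mem haK (hK.conj_mem _ (inv_mem haK) b)
    have h1 : g * z * g⁻¹ * z⁻¹ = 1 := by
      have h3 : a * b * a⁻¹ * b⁻¹ = 1 := by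
        rw [← orderOf_eq_one_iff]
        refine Nat.eq_one_of_dvd_coprimes hKc ?_ ?_
        · rw [← Subgroup.orderOf_mk _ hmem]; exact orderOf_dvd_natCard _
        · rw [← Subgroup.orderOf_coe]
          refine orderOf_dvd_of_pow_eq_one (hexp _ ?_)
          exact mul_mem (hgP z hzP) (inv_mem hzP)
      exact congrArg Subtype.val h3
    rw [hgz, ← pow_two, inv_pow, inv_eq_one] at h1
    exact hpow2 h1
  let φ : (P : Subgroup G) →* (P : Subgroup G) :=
    { toFun := fun x => ⟨g * x * g⁻¹, hgP x x.2⟩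
      map_one' := Subtype.ext (by simp)
      map_mul' := fun x y => Subtype.ext (by
        show g * ((x : G) * y) * g⁻¹ = g * x * g⁻¹ * (g * y * g⁻¹)
        group) }
  have hinvol : Function.Involutive φ := fun x => Subtype.ext (by
    show g * (g * x * g⁻¹) * g⁻¹ = x
    calc g * (g * (x : G) * g⁻¹) * g⁻¹ = g * g * x * (g * g)⁻¹ := by group
      _ = x := by rw [hsq _ x.2, mul_inv_cancel_right])
  have hff : MonoidHom.FixedPointFree φ := fun x hx =>
    Subtype.ext (hfix _ x.2 (congrArg Subtype.val hx))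
  exact MonoidHom.FixedPointFree.commute_all_of_involutive hff hinvol a b

/-- Restricting to the regular elements commutes with induction. -/
theorem pRegularPart_indFun (T : Subgroup G) (ψ : T → ℂ) :
    pRegularPart p (indFun T ψ) = indFun T (pRegularPart p ψ) := by
  funext g
  have hord : ∀ x : G, orderOf (x⁻¹ * g * x) = orderOf g := fun x => by
    have h := MulEquiv.orderOf_eq (MulAut.conj x⁻¹) g
    rwa [MulAut.conj_apply, inv_inv] at h
  by_cases hg : IsPRegular p g
  · rw [pRegularPart, if_pos hg]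
    simp only [indFun_apply]
    congr 1
    refine Finset.sum_congr rfl fun x _ => ?_
    by_cases hx : x⁻¹ * g * x ∈ T
    · rw [extendByZero_mem T _ hx, extendByZero_mem T _ hx, pRegularPart, if_pos]
      rw [IsPRegular, ← Subgroup.orderOf_coe, hord]
      exact hg
    · rw [extendByZero_not_mem T _ hx, extendByZero_not_mem T _ hx]
  · rw [pRegularPart, if_neg hg]
    simp only [indFun_apply]
    rw [Finset.sum_eq_zero fun x _ => ?_, mul_zero]
    by_cases hx : x⁻¹ * g * x ∈ T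
    · rw [extendByZero_mem T _ hx, pRegularPart, if_neg]
      rw [IsPRegular, ← Subgroup.orderOf_coe, hord]
      exact hg
    · rw [extendByZero_not_mem T _ hx]

/-- The rank does not grow under an induction that maps onto the block. -/
theorem blockRank_le_of_indFun (T : Subgroup G) {B' : Set (IrrCharacter T)}
    {B : Set (IrrCharacter G)}
    (h : ∀ χ ∈ B, ∃ ψ ∈ B', (χ : G → ℂ) = indFun T (ψ : T → ℂ)) :
    blockRank p B ≤ blockRank p B' := by
  let L : (T → ℂ) →ₗ[ℂ] (G → ℂ) :=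
    { toFun := indFun T
      map_add' := indFun_add T
      map_smul' := fun c θ => indFun_smul T c θ }
  unfold blockRank
  refine le_trans (Submodule.finrank_mono ?_)
    (Submodule.finrank_map_le L (Submodule.span ℂ
      ((fun χ : IrrCharacter T => pRegularPart p (χ : T → ℂ)) '' B')))
  rw [Submodule.map_span, Submodule.span_le]
  rintro _ ⟨χ, hχ, rfl⟩
  obtain ⟨ψ, hψ, he⟩ := h χ hχ
  refine Submodule.subset_span ⟨_, ⟨ψ, hψ, rfl⟩, ?_⟩
  show indFun T (pRegularPart p (ψ : T → ℂ)) = pRegularPart p (χ : G → ℂ)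
  rw [he, pRegularPart_indFun]

/-- The invariant case: a group with trivial `p'`-core. -/
theorem elemAbelian_sylow_of_isConj (hsolv : IsPSolvable p G) (P : Sylow p G)
    (hconj : ∀ x ∈ (P : Subgroup G), ∀ y ∈ (P : Subgroup G), x ≠ 1 → y ≠ 1 → IsConj x y) :
    IsElementaryAbelian p (P : Subgroup G) := by
  classical
  set N := pPrimeCore p G with hN
  have hP : IsPGroup p (P : Subgroup G) := P.2
  refine ⟨⟨⟨fun a b => ?_⟩⟩, fun x hx => pow_p_eq_one_of_isConj hP hconj hx⟩
  set π := QuotientGroup.mk' N with hπ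
  have hπs : Function.Surjective π := QuotientGroup.mk'_surjective N
  let Q := P.mapSurjective hπs
  have hinj : ∀ x ∈ (P : Subgroup G), π x = 1 → x = 1 := by
    intro x hx h1
    rw [hπ, QuotientGroup.mk'_apply, QuotientGroup.eq_one_iff] at h1
    rw [← orderOf_eq_one_iff]
    refine Nat.eq_one_of_dvd_coprimes (PBasic.pPrimeCore_coprime p G) ?_ ?_
    · rw [← Subgroup.orderOf_mk _ h1]; exact orderOf_dvd_natCard _
    · exact orderOf_dvd_of_pow_eq_one (pow_p_eq_one_of_isConj hP hconj hx)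
  have hconjQ : ∀ x ∈ (Q : Subgroup (G ⧸ N)), ∀ y ∈ (Q : Subgroup (G ⧸ N)), x ≠ 1 → y ≠ 1 →
      IsConj x y := by
    rintro _ ⟨x, hx, rfl⟩ _ ⟨y, hy, rfl⟩ hx1 hy1
    obtain ⟨c, hc⟩ := isConj_iff.1 (hconj x hx y hy (fun h => hx1 (by rw [h, map_one]))
      (fun h => hy1 (by rw [h, map_one])))
    exact isConj_iff.2 ⟨π c, by rw [← map_mul, ← map_inv, ← map_mul, hc]⟩
  have key : π (a : G) * π b = π b * π a := by
    by_cases hbot : ∀ q ∈ (Q : Subgroup (G ⧸ N)), q = 1
    · rw [hbot _ ⟨a, a.2, rfl⟩, hbot _ ⟨b, b.2, rfl⟩]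
    push_neg at hbot
    obtain ⟨q₀, hq₀, hq₀1⟩ := hbot
    have hquot := Cfsg.Agent.PSolvable.quotient N hsolv
    have hO : pPrimeCore p (G ⧸ N) = ⊥ := PBasic.pPrimeCore_quotient_pPrimeCore p G
    set O := pCore p (G ⧸ N) with hOdef
    haveI hOn : O.Normal := Cfsg.pCore_normal p _
    have hle : O ≤ (Q : Subgroup (G ⧸ N)) := PBasic.pCore_le_sylow _
    obtain ⟨w, hw, hw1⟩ : ∃ w ∈ O, w ≠ 1 := by
      by_contra h
      push_neg at h
      refine hq₀1 (h q₀ (Cfsg.Agent.PSolvable.centralizer_pCore_le hquot hO ?_))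
      exact Subgroup.mem_centralizer_iff.2 fun u hu => by rw [h u hu, one_mul, mul_one]
    have hQO : ∀ q ∈ (Q : Subgroup (G ⧸ N)), q ∈ O := by
      intro q hq
      by_cases hq1 : q = 1
      · rw [hq1]; exact one_mem _
      obtain ⟨c, hc⟩ := isConj_iff.1 (hconjQ w (hle hw) q hq hw1 hq1)
      rw [← hc]
      exact hOn.conj_mem w hw c
    haveI : Nontrivial O := ⟨⟨⟨w, hw⟩, 1, fun h => hw1 (congrArg Subtype.val h)⟩⟩
    haveI := (PBasic.pCore_isPGroup p (G ⧸ N) : IsPGroup p O).center_nontrivial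
    obtain ⟨⟨⟨z, hzO⟩, hzc⟩, hz⟩ := exists_ne (1 : Subgroup.center O)
    have hz1 : z ≠ 1 := fun h => hz (Subtype.ext (Subtype.ext h))
    by_cases ha1 : π (a : G) = 1
    · rw [ha1, one_mul, mul_one]
    obtain ⟨c, hc⟩ := isConj_iff.1 (hconjQ z (hle hzO) _ ⟨a, a.2, rfl⟩ hz1 ha1)
    have hb' : c⁻¹ * π b * c ∈ O := by
      have := hOn.conj_mem _ (hQO _ ⟨b, b.2, rfl⟩) c⁻¹
      rwa [inv_inv] at this
    have hcomm : c⁻¹ * π b * c * z = z * (c⁻¹ * π b * c) :=
      congrArg Subtype.val (Subgroup.mem_center_iff.1 hzc ⟨_, hb'⟩)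
    rw [← hc]
    calc c * z * c⁻¹ * π b = c * (z * (c⁻¹ * π b * c)) * c⁻¹ := by group
      _ = π b * (c * z * c⁻¹) := by rw [← hcomm]; group
  have h1 : π (((a : G) * b) * ((b : G) * a)⁻¹) = 1 := by
    rw [map_mul, map_inv, map_mul, map_mul, key, mul_inv_cancel]
  exact Subtype.ext (mul_inv_eq_one.1 (hinj _ (a * b * (b * a)⁻¹).2 h1))

theorem isElementaryAbelian_map {H : Type*} [Group H] {K : Type*} [Group K] (f : H →* K)
    {A : Subgroup H} (h : IsElementaryAbelian p A) : IsElementaryAbelian p (A.map f) := by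
  obtain ⟨hc, he⟩ := h
  refine ⟨⟨⟨?_⟩⟩, ?_⟩
  · rintro ⟨_, a, ha, rfl⟩ ⟨_, b, hb, rfl⟩
    refine Subtype.ext ?_
    show f a * f b = f b * f a
    rw [← map_mul, ← map_mul]
    exact congrArg f (congrArg Subtype.val (hc.1.1 ⟨a, ha⟩ ⟨b, hb⟩))
  · rintro _ ⟨a, ha, rfl⟩
    rw [← map_pow, he a ha, map_one]

theorem psolvable_aux (n : ℕ) : ∀ (G : Type u) [Group G] [Fintype G] (p : ℕ) [Fact p.Prime]
    (M : Ideal AlgInt) [M.IsPrime], Nat.card G = n → IsPModular p M → IsPSolvable p G →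
    ∀ B : Set (IrrCharacter G), IsPBlock M B → Nat.card B ≤ blockRank p B + 1 →
      ∀ D : Subgroup G, IsDefectGroup p M B D → IsElementaryAbelian p D := by
  induction n using Nat.strong_induction_on with
  | _ n ih =>
    intro G _ _ p _ M _ hn hM hsolv B hB hk D hD
    classical
    set N := pPrimeCore p G with hN
    have hNp : ¬ p ∣ Nat.card N := (Fact.out : p.Prime).coprime_iff_not_dvd.1
      (Cfsg.Agent.PBasic.pPrimeCore_coprime p G).symm
    haveI : Fintype N := Fintype.ofFinite N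
    obtain ⟨χ₀, hχ₀⟩ := isPBlock_nonempty hB
    obtain ⟨θ, hθ⟩ := exists_restrict_constituent χ₀.2 N
    by_cases hinv : ∀ g : G, cjIrr N g θ = θ
    · obtain ⟨B₀, hB₀, hmem, hsyl, huniq⟩ := fong_solvable hM hsolv N hN hNp θ hinv
      obtain rfl := isPBlock_eq_of_mem hB hB₀ hχ₀ ((hmem χ₀).2 hθ)
      obtain ⟨S, rfl⟩ := huniq D hD
      exact elemAbelian_sylow_of_isConj hsolv S fun x hx y hy hx1 hy1 =>
        (one_subsection hM hB hD hk hx hx1).1 y hy hy1
    set T := inertia N (θ : N → ℂ) with hT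
    haveI : Fintype T := Fintype.ofFinite T
    have hNT : N ≤ T := le_inertia N (IsCharacter.isClassFunction (irr_isCharacter θ))
    have hstab : ∀ g : G, g ∈ T ↔ ∀ φ ∈ ({θ} : Set (IrrCharacter N)),
        cjIrr N g φ ∈ ({θ} : Set (IrrCharacter N)) := by
      intro g
      simp only [Set.mem_singleton_iff, forall_eq]
      exact ⟨fun h => Subtype.ext h, fun h => congrArg Subtype.val h⟩
    have hb : IsPBlock M ({θ} : Set (IrrCharacter N)) := by
      refine ⟨θ, (blockOf_eq_singleton hM θ ?_).symm⟩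
      have h1 : (Nat.card N).factorization p = 0 := Nat.factorization_eq_zero_of_not_dvd hNp
      have h2 := degExp_le_card (p := p) θ
      omega
    obtain ⟨ψ, hψ, hχψ, -⟩ := Cfsg.Agent.FongReynolds.exists_inducing N hNT
      ({θ} : Set (IrrCharacter N)) hstab hb (Set.mem_singleton θ) hθ
    set B' := blockOf M (ψ : T → ℂ) with hB'
    have hB'b : IsPBlock M B' := isPBlock_blockOf ψ
    have hcov : ∃ φ ∈ B', Cfsg.Agent.FongReynolds.Over N hNT ({θ} : Set (IrrCharacter N)) φ :=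
      ⟨ψ, self_mem_blockOf ψ, hψ⟩
    obtain ⟨B₁, hind, -, hirr, hmem⟩ := Cfsg.Agent.FongReynolds.fong_reynolds N hNT
      ({θ} : Set (IrrCharacter N)) hstab hb hM hB'b hcov
    obtain rfl : B = B₁ := isPBlock_eq_of_mem hB hind.2.1 hχ₀
      ((hmem χ₀).2 ⟨ψ, self_mem_blockOf ψ, hχψ⟩)
    have hlt : Nat.card T < n := by
      rw [← hn]
      refine lt_of_le_of_ne (Subgroup.card_le_card_group T) fun heq => hinv fun g => ?_
      exact Subtype.ext (show g ∈ T by rw [Subgroup.eq_top_of_card_eq T heq]; exact Subgroup.mem_top g)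
    have hinjI : ∀ φ₁ ∈ B', ∀ φ₂ ∈ B', indFun T (φ₁ : T → ℂ) = indFun T (φ₂ : T → ℂ) → φ₁ = φ₂ := by
      intro φ₁ h₁ φ₂ h₂ he
      have o₁ := Cfsg.Agent.FongReynolds.over_of_block N hNT ({θ} : Set (IrrCharacter N))
        hB'b hb hstab hcov _ h₁
      have o₂ := Cfsg.Agent.FongReynolds.over_of_block N hNT ({θ} : Set (IrrCharacter N))
        hB'b hb hstab hcov _ h₂
      obtain ⟨χ, hχ, hc₁, hover⟩ := Cfsg.Agent.FongReynolds.isIrr_ind N hNT
        ({θ} : Set (IrrCharacter N)) hstab hb o₁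
      obtain ⟨χ₂, hχ₂, hc₂, -⟩ := Cfsg.Agent.FongReynolds.isIrr_ind N hNT
        ({θ} : Set (IrrCharacter N)) hstab hb o₂
      obtain rfl : χ = χ₂ := Subtype.ext (by rw [hχ, he, hχ₂])
      obtain ⟨θ₁, hθ₁, hθc⟩ := id o₁
      obtain ⟨τ, -, -, huniqτ⟩ := Cfsg.Agent.FongReynolds.exists_inducing N hNT
        ({θ} : Set (IrrCharacter N)) hstab hb hθ₁ (hover θ₁ hθc)
      rw [huniqτ φ₁ hc₁ o₁, huniqτ φ₂ hc₂ o₂]
    have hcard : Nat.card B' = Nat.card B := by
      refine Nat.card_congr (Equiv.ofBijective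
        (fun φ => ⟨⟨_, hirr φ.1 φ.2⟩, (hmem _).2 ⟨φ.1, φ.2, rfl⟩⟩) ⟨fun a b h => ?_, fun χ => ?_⟩)
      · exact Subtype.ext (hinjI _ a.2 _ b.2 (congrArg (fun q : B => ((q : IrrCharacter G) : G → ℂ)) h))
      · obtain ⟨φ, hφ, he⟩ := (hmem χ.1).1 χ.2
        exact ⟨⟨φ, hφ⟩, Subtype.ext (Subtype.ext he.symm)⟩
    have hrank := blockRank_le_of_indFun (p := p) T (B' := B') (B := B) fun χ hχ => (hmem χ).1 hχ
    obtain ⟨D', hD'⟩ := exists_isDefectGroup (p := p) hB'b
    have hE := (Cfsg.Agent.FongReynolds.fong_reynolds_heights N hNT ({θ} : Set (IrrCharacter N))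
      hstab hb hM hB'b hcov hind).1 D' hD'
    have hel := ih (Nat.card T) hlt T p M rfl hM (Cfsg.Agent.PSolvable.subgroup T hsolv) B' hB'b
      (by omega) D' hD'
    obtain ⟨y, rfl⟩ := defectGroup_conj hM hB hD hE
    exact isElementaryAbelian_map _ (isElementaryAbelian_map _ hel)

theorem elemAbelian_of_psolvable (hM : IsPModular p M) (hsolv : IsPSolvable p G)
    {B : Set (IrrCharacter G)} (hB : IsPBlock M B) (hk : Nat.card B ≤ blockRank p B + 1)
    {D : Subgroup G} (hD : IsDefectGroup p M B D) : IsElementaryAbelian p D :=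
  psolvable_aux _ G p M rfl hM hsolv B hB hk D hD

theorem elemAbelian_of_principal (hM : IsPModular p M)
    (hk : Nat.card (principalBlock M G) ≤ blockRank p (principalBlock M G) + 1)
    {D : Subgroup G} (hD : IsDefectGroup p M (principalBlock M G) D) :
    IsElementaryAbelian p D := by
  classical
  obtain ⟨S, rfl⟩ := (isDefectGroup_principal_iff hM D).1 hD
  have hB := isPBlock_principalBlock M G
  refine isElementaryAbelian_of_isConj S (fun x hx y hy hx1 hy1 =>
    (one_subsection hM hB hD hk hx hx1).1 y hy hy1) fun x hx hx1 => ?_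
  let C := Subgroup.centralizer ({x} : Set G)
  haveI : Fintype C := Fintype.ofFinite C
  obtain ⟨k, hxk⟩ := IsPGroup.iff_orderOf.1 (S.2 : IsPGroup p (S : Subgroup G)) ⟨x, hx⟩
  have hxe : ∃ k, orderOf x = p ^ k := ⟨k, by rw [← hxk, ← Subgroup.orderOf_coe]⟩
  have hind : IsInducedBlock M C (principalBlock M C) (principalBlock M G) := by
    refine (mem_unitBlocks_iff_induced' hM hxe rfl hB).1 ?_
    rw [unitBlocks_principal hM hxe rfl]
    exact Finset.mem_singleton_self _
  refine (pNilpotent_iff_nilpotent_principal hM).2 ((Cfsg.Agent.S4646.result p M hM).2 ?_)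
  exact le_antisymm ((one_subsection hM hB hD hk hx hx1).2 _ hind) (one_le_blockRank hM hind.1)

end Cfsg.Agent.BrauerPairs
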