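/-
Blocks with dihedral defect groups: the rank drops below three if some outer involution is not
conjugate to the central one; blocks with a central involution.
-/
import Cfsg.Agent.Lib.BrauerPairs.DihedralBlock
import Cfsg.Agent.Lib.BrauerPairs.KleinBlock
import Cfsg.Agent.Lib.BrauerPairs.NilpotentRankOne
import Cfsg.Agent.Lib.BrauerPairs.OneSubsection
import Cfsg.Agent.Lib.Blocks.ProjectiveVectors

set_option linter.unusedSectionVars false
set_option linter.style.haveILetI false

namespace Cfsg.Agent.DihRankThree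

open Cfsg MonoidAlgebra Cfsg.Agent.Blocks Cfsg.Agent.Char Cfsg.Agent.BrauerPairs Cfsg.Agent.TwoFus
  Cfsg.Agent.ProjVec

universe u

variable {G : Type u} [Group G] [Fintype G] {M : Ideal AlgInt} [M.IsPrime]

/-- The rank of a block does not exceed that of the block of the quotient. -/
theorem blockRank_le_blockRank {p : ℕ} (N : Subgroup G) [N.Normal] [Fintype (G ⧸ N)]
    (hM : IsPModular p M) (hN : IsPGroup p N)
    (hsup : N ⊔ Subgroup.centralizer (N : Set G) = ⊤) {b : Set (IrrCharacter G)}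
    {bbar : Set (IrrCharacter (G ⧸ N))} (hb : IsPBlock M b)
    (hbb : IsPBlock M bbar) (hinfl : ∀ η ∈ bbar, Cfsg.Agent.CharX.infl N η ∈ b) :
    blockRank p b ≤ blockRank p bbar := by
  classical
  let R : IrrCharacter G → G → ℂ := fun φ => pRegularPart p (φ : G → ℂ)
  let T : (G ⧸ N → ℂ) →ₗ[ℂ] (G → ℂ) :=
    { toFun := fun f g => if p ∣ orderOf g then 0 else f (g : G ⧸ N)
      map_add' := fun f f' => funext fun g => by by_cases h : p ∣ orderOf g <;> simp [h]
      map_smul' := fun c f => funext fun g => by by_cases h : p ∣ orderOf g <;> simp [h] }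
  let S' := Submodule.span ℂ ((fun η : IrrCharacter (G ⧸ N) =>
    pRegularPart p (η : G ⧸ N → ℂ)) '' bbar)
  unfold blockRank
  refine (Submodule.finrank_mono (t := S'.map T) (Submodule.span_le.2 ?_)).trans
    (Submodule.finrank_map_le T S')
  rintro _ ⟨θ, hθ, rfl⟩
  let a : IrrCharacter G → ℂ := fun φ => if φ = θ then 1 else 0
  have e : R θ = T (∑ η : bs bbar,
      liftCoef (N := N) p (fun u => ∑ φ ∈ bs b, a φ * (φ : G → ℂ) u) η.1 •
        pRegularPart p (η.1 : G ⧸ N → ℂ)) := by
    funext u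
    simp only [R, T, LinearMap.coe_mk, AddHom.coe_mk, Finset.sum_apply, Pi.smul_apply,
      smul_eq_mul, pRegularPart_apply]
    by_cases hu : p ∣ orderOf u
    · simp [hu]
    · simp only [if_neg hu, if_neg (regular_mk N hM.1 hu)]
      rw [Finset.sum_coe_sort (bs bbar) fun η => liftCoef (N := N) p
        (fun u => ∑ φ ∈ bs b, a φ * (φ : G → ℂ) u) η * (η : G ⧸ N → ℂ) (u : G ⧸ N),
        ← block_eq_sum_liftCoef (N := N) hM hN hsup hb hbb hinfl a hu]
      simp [a, hθ]
  show R θ ∈ S'.map T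
  rw [e]
  exact Submodule.mem_map_of_mem (Submodule.sum_mem _ fun η _ =>
    Submodule.smul_mem _ _ (Submodule.subset_span ⟨η.1, mem_bs.1 η.2, rfl⟩))

/-- Elements of a maximal pair which are pairwise not fused give as many subsections. -/
theorem rank_add_card_le {p : ℕ} [Fact p.Prime] (hM : IsPModular p M)
    {B : Set (IrrCharacter G)} (hB : IsPBlock M B) {a : Pr (resField M) G}
    (h : IsMax p (Ek M B) a) (T : Finset G) (hT : ∀ v ∈ T, v ∈ a.1 ∧ v ≠ 1)
    (hfus : ∀ v ∈ T, ∀ w ∈ T, ∀ (x : G) (f : MonoidAlgebra (resField M) G),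
      SubLE p ⊤ (Subgroup.zpowers v, f) a →
      SubLE p ⊤ (cjP x ((Subgroup.zpowers v, f) : Pr (resField M) G)) a →
      x * v * x⁻¹ = w → v = w) :
    blockRank p B + T.card ≤ Nat.card B := by
  classical
  haveI : CharP (resField M) p := resField_charP hM
  let X : Finset G := Finset.univ.filter fun g =>
    (∃ k : ℕ, orderOf g = p ^ k) ∧ (ConjClasses.mk g).out = g
  have hout : ∀ g : G, IsConj g (ConjClasses.mk g).out := fun g =>
    ConjClasses.mk_eq_mk_iff_isConj.1 (Quotient.out_eq _).symm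
  have hX : ∀ x ∈ X, ∃ k : ℕ, orderOf x = p ^ k := fun x hx => (Finset.mem_filter.1 hx).2.1
  have hmem : ∀ g : G, (∃ k : ℕ, orderOf g = p ^ k) → (ConjClasses.mk g).out ∈ X := by
    intro g hg
    refine Finset.mem_filter.2 ⟨Finset.mem_univ _, ?_, by
      rw [ConjClasses.mk_eq_mk_iff_isConj.2 (hout g).symm]⟩
    obtain ⟨c, hc⟩ := isConj_iff.1 (hout g)
    rw [← hc]
    simpa [← MulAut.conj_apply, MulEquiv.orderOf_eq] using hg
  have hrep : ∀ g : G, (∃ k : ℕ, orderOf g = p ^ k) → ∃! x, x ∈ X ∧ IsConj g x := fun g hg =>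
    ⟨(ConjClasses.mk g).out, ⟨hmem g hg, hout g⟩, fun y hy => by
      rw [ConjClasses.mk_eq_mk_iff_isConj.2 hy.2, (Finset.mem_filter.1 hy.1).2.2]⟩
  have h1X : (1 : G) ∈ X := by
    have := hmem 1 ⟨0, by simp⟩
    rwa [isConj_one_right.1 (hout (1 : G))] at this
  have hsum := card_eq_sum_blockRank hM hB X hX hrep
  rw [← Finset.add_sum_erase _ _ h1X, sum_blockRank_one hM hB] at hsum
  let S : Finset ((x : G) × Set (IrrCharacter ↥(Subgroup.centralizer ({x} : Set G)))) :=
    (X.erase 1).sigma fun x =>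
      ({b : Set (IrrCharacter ↥(Subgroup.centralizer ({x} : Set G))) |
        IsInducedBlock M (Subgroup.centralizer ({x} : Set G)) b B} : Set _).toFinite.toFinset
  have hS : S.card ≤ ∑ x ∈ X.erase 1,
      ∑ᶠ b ∈ {b : Set (IrrCharacter ↥(Subgroup.centralizer ({x} : Set G))) |
        IsInducedBlock M (Subgroup.centralizer ({x} : Set G)) b B}, blockRank p b := by
    rw [Finset.card_sigma]
    refine Finset.sum_le_sum fun x hx => ?_
    rw [finsum_mem_eq_finite_toFinset_sum _ (Set.toFinite _), Finset.card_eq_sum_ones]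
    refine Finset.sum_le_sum fun b hb => ?_
    exact one_le_blockRank hM ((Set.Finite.mem_toFinset _).1 hb).1
  have hdata : ∀ v ∈ T, ∃ s ∈ S, ∃ (g : G) (f : MonoidAlgebra (resField M) G),
      SubLE p ⊤ (Subgroup.zpowers v, f) a ∧ g * v * g⁻¹ = s.1 ∧
      cj g f = zB M (Subgroup.centralizer ({s.1} : Set G)) s.2 := by
    intro v hv
    obtain ⟨hva, hv1⟩ := hT v hv
    obtain ⟨f, hf, -⟩ := existsUnique_below h.pair (Subgroup.zpowers_le.2 hva)
    obtain ⟨k, hk⟩ := IsPGroup.iff_orderOf.1 h.pair.pgroup ⟨v, hva⟩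
    rw [← Subgroup.orderOf_coe] at hk
    obtain ⟨g, hg⟩ := isConj_iff.1 (hout v)
    have hp : IsPairOf p ⊤ (Ek M B) (Subgroup.zpowers (g * v * g⁻¹), cj g f) := by
      have := (hf.pairOf_iff.2 h.pairOf).cj' (Subgroup.mem_top g)
      rwa [show cjP g (Subgroup.zpowers v, f) = (Subgroup.zpowers (g * v * g⁻¹), cj g f) from
        Prod.ext (MonoidHom.map_zpowers _ _) rfl] at this
    have hblk := hp.pair.blkC
    have hCz : Subgroup.centralizer ((Subgroup.zpowers (g * v * g⁻¹) : Subgroup G) : Set G) =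
        Subgroup.centralizer ({g * v * g⁻¹} : Set G) := centralizer_zpowers_eq _
    rw [show ((Subgroup.zpowers (g * v * g⁻¹), cj g f) : Pr (resField M) G).2 = cj g f from rfl,
      show ((Subgroup.zpowers (g * v * g⁻¹), cj g f) : Pr (resField M) G).1 =
        Subgroup.zpowers (g * v * g⁻¹) from rfl, hCz] at hblk
    obtain ⟨b, hb, hbe⟩ := exists_eq_zB hblk
    have hpC : IsPairOf p (Subgroup.centralizer ({g * v * g⁻¹} : Set G))
        (zB M (Subgroup.centralizer ({g * v * g⁻¹} : Set G)) b)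
        (Subgroup.zpowers (g * v * g⁻¹), cj g f) := by
      have hsb := pairOf_self (M := M) hb hp.pair.pgroup
        (Subgroup.zpowers_le.2 (Subgroup.mem_centralizer_singleton_iff.2 rfl)) hCz.symm
      rw [hbe] at hsb ⊢
      exact hsb
    have hind : IsInducedBlock M (Subgroup.centralizer ({g * v * g⁻¹} : Set G)) b B :=
      induced_of_pairOf hM hb hB hpC hCz.le hp
    refine ⟨⟨g * v * g⁻¹, b⟩, Finset.mem_sigma.2 ⟨Finset.mem_erase.2 ⟨?_, ?_⟩,
      (Set.Finite.mem_toFinset _).2 hind⟩, g, f, hf, rfl, hbe.symm⟩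
    · simpa using hv1
    · show g * v * g⁻¹ ∈ X
      rw [hg]; exact hmem v ⟨k, hk⟩
  choose s hs g f hf hgs hgf using hdata
  have hTS : T.card ≤ S.card := by
    refine Finset.card_le_card_of_injOn (fun v => if hv : v ∈ T then s v hv else ⟨1, ∅⟩) ?_ ?_
    · intro v hv
      simp only [Finset.mem_coe] at hv ⊢
      rw [dif_pos hv]
      exact hs v hv
    · intro v hv w hw hvw
      simp only [Finset.mem_coe] at hv hw
      simp only [dif_pos hv, dif_pos hw] at hvw
      have e1 : g v hv * v * (g v hv)⁻¹ = g w hw * w * (g w hw)⁻¹ := by rw [hgs, hgs, hvw]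
      have e2 : cj (g v hv) (f v hv) = cj (g w hw) (f w hw) := by
        rw [hgf, hgf]
        exact congrArg (fun q : (x : G) × Set (IrrCharacter ↥(Subgroup.centralizer ({x} : Set G))) =>
          zB M (Subgroup.centralizer ({q.1} : Set G)) q.2) hvw
      let x := (g w hw)⁻¹ * g v hv
      have hx1 : x * v * x⁻¹ = w := by
        calc x * v * x⁻¹ = (g w hw)⁻¹ * (g v hv * v * (g v hv)⁻¹) * g w hw := by
              simp only [x]; group
          _ = w := by rw [e1]; group
      refine hfus v hv w hw x (f v hv) (hf v hv) ?_ hx1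
      have : cjP x (Subgroup.zpowers v, f v hv) = (Subgroup.zpowers w, f w hw) := by
        refine Prod.ext ?_ ?_
        · show cjS x (Subgroup.zpowers v) = Subgroup.zpowers w
          rw [cjS, MonoidHom.map_zpowers]
          exact congrArg Subgroup.zpowers hx1
        · show cj x (f v hv) = f w hw
          rw [← cj_cj, e2, cj_inv_cj]
      rw [this]
      exact hf w hw
  omega

variable {B : Set (IrrCharacter G)}

/-- Rank at most two when an involution outside the cyclic part is not conjugate to the central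
one. -/
theorem rank_le_two (hM : IsPModular 2 M) (hB : IsPBlock M B) {D : Subgroup G}
    (hD : IsDefectGroup 2 M B D) {n : ℕ} (hn : 3 ≤ n) (d : Dih D) (hm : d.m = 2 ^ (n - 1))
    (hne : ¬ IsConj d.y d.z) : blockRank 2 B ≤ 2 := by
  classical
  haveI : Fact (Nat.Prime 2) := ⟨Nat.prime_two⟩
  haveI : CharP (resField M) 2 := resField_charP hM
  obtain ⟨hcard, -, -, -⟩ := DihedralBlock.dihedral_block hM hB hD hn d hm
  set h := 2 ^ (n - 2) with hh'
  have hh : d.m = 2 * h := by rw [hm, hh', ← pow_succ']; congr 1; omega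
  obtain ⟨e, he⟩ := exists_pairOf_defGrp (isBlk_Ek hB) ((isDefectGroup_iff hB D).1 hD)
  have hmax : IsMax 2 (Ek M B) ((D, e) : Pr (resField M) G) := ⟨he, (isDefectGroup_iff hB D).1 hD⟩
  have hz : d.z = d.x ^ h := by
    rw [Dih.z, ← zpow_natCast, hh]
    congr 1
    push_cast
    omega
  have hh1 : 1 ≤ h := Nat.one_le_two_pow
  let T₀ : Finset G := (Finset.Icc 1 h).image fun i => d.x ^ i
  have hinj : Set.InjOn (fun i => d.x ^ i) (Finset.Icc 1 h : Finset ℕ) := by
    intro i hi j hj e
    simp only [Finset.coe_Icc, Set.mem_Icc] at hi hj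
    exact pow_injOn_Iio_orderOf (x := d.x) (by rw [Set.mem_Iio, d.hm]; omega)
      (by rw [Set.mem_Iio, d.hm]; omega) e
  have hy0 : d.y ∉ T₀ := by
    simp only [T₀, Finset.mem_image, not_exists, not_and]
    exact fun i _ e => d.ynot (e ▸ Subgroup.npow_mem_zpowers _ _)
  have hsq : ∀ i, 1 ≤ i → i < h → d.x ^ i * d.x ^ i ≠ 1 := by
    intro i h1 h2
    rw [← pow_add]
    exact pow_ne_one_of_lt_orderOf (by omega) (by rw [d.hm]; omega)
  have hconjsq : ∀ {x v w : G}, x * v * x⁻¹ = w → (v * v = 1 ↔ w * w = 1) := by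
    intro x v w e
    rw [← e, show x * v * x⁻¹ * (x * v * x⁻¹) = x * (v * v) * x⁻¹ by group, conj_eq_one_iff]
  have := rank_add_card_le hM hB hmax (insert d.y T₀) ?_ ?_
  · rw [Finset.card_insert_of_notMem hy0, Finset.card_image_of_injOn hinj, Nat.card_Icc] at this
    have hcB : Nat.card B = 2 ^ (n - 2) + 3 := by
      rw [← hcard, Nat.card_eq_fintype_card, ← Set.toFinset_card]
      congr 1
      ext χ
      simp
    omega
  · intro v hv
    rcases Finset.mem_insert.1 hv with rfl | hv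
    · exact ⟨d.hy, fun e => d.ynot (e ▸ one_mem _)⟩
    · obtain ⟨i, hi, rfl⟩ := Finset.mem_image.1 hv
      rw [Finset.mem_Icc] at hi
      exact ⟨pow_mem d.hx i, pow_ne_one_of_lt_orderOf (by omega) (by rw [d.hm]; omega)⟩
  intro v hv w hw x f hf hfx hxw
  rcases Finset.mem_insert.1 hv with rfl | hv <;> rcases Finset.mem_insert.1 hw with rfl | hw
  · rfl
  · exfalso
    obtain ⟨k, hk, rfl⟩ := Finset.mem_image.1 hw
    rw [Finset.mem_Icc] at hk
    rcases lt_or_eq_of_le hk.2 with hlt | rfl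
    · exact hsq k hk.1 hlt ((hconjsq hxw).1 d.yy)
    · exact hne (isConj_iff.2 ⟨x, hxw.trans hz.symm⟩)
  · exfalso
    obtain ⟨i, hi, rfl⟩ := Finset.mem_image.1 hv
    rw [Finset.mem_Icc] at hi
    rcases lt_or_eq_of_le hi.2 with hlt | rfl
    · exact hsq i hi.1 hlt ((hconjsq hxw).2 d.yy)
    · exact hne (IsConj.symm (isConj_iff.2 ⟨x, (by rw [hz]; exact hxw)⟩))
  · obtain ⟨i, hi, rfl⟩ := Finset.mem_image.1 hv
    obtain ⟨k, hk, rfl⟩ := Finset.mem_image.1 hw
    rw [Finset.mem_Icc] at hi hk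
    rcases lt_or_eq_of_le hi.2 with hlt | rfl
    · rcases DihedralFusion.fusion_pm hmax d (Subgroup.npow_mem_zpowers d.x i) (hsq i hi.1 hlt)
        hf hfx with e1 | e1
      · exact e1.symm.trans hxw
      · exfalso
        have e2 : d.x ^ k = (d.x ^ i)⁻¹ := hxw.symm.trans e1
        have e3 : d.x ^ (k + i) = 1 := by rw [pow_add, e2, inv_mul_cancel]
        exact pow_ne_one_of_lt_orderOf (by omega) (by rw [d.hm]; omega) e3
    · rcases lt_or_eq_of_le hk.2 with hlt | rfl
      · refine absurd ((hconjsq hxw).1 ?_) (hsq k hk.1 hlt)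
        rw [← hz]; exact d.zz
      · rfl

end Cfsg.Agent.DihRankThree
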