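/-
An element of an abelian defect group fixed by the inertial quotient: the block of its centraliser
has the same numbers of characters.
-/
import Cfsg.Agent.Lib.BrauerPairs.AbelianSections

set_option linter.unusedSectionVars false
set_option linter.style.haveILetI false

namespace Cfsg.Agent.WatanabeFixed

open Cfsg Cfsg.Agent.Blocks Cfsg.Agent.BrauerPairs Cfsg.Agent.Char Cfsg.Agent.Star
  Cfsg.Agent.InertiaHeight Cfsg.Agent.AbelianSections

universe u

variable {G : Type u} [Group G] [Fintype G] {p : ℕ} [Fact p.Prime] {M : Ideal AlgInt} [M.IsPrime]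
  [CharP (resField M) p] {B : Set (IrrCharacter G)} {a : Pr (resField M) G}

/-- A pair seen inside a subgroup. -/
noncomputable def subPair (a : Pr (resField M) G) (H : Subgroup G) : Pr (resField M) H :=
  (a.1.subgroupOf H, restr H a.2)

theorem restr_spec (ha : IsPair p ⊤ a) {H : Subgroup G}
    (hCH : Subgroup.centralizer (a.1 : Set G) ≤ H) : emb H (restr H a.2) = a.2 :=
  emb_restr fun g hg => ha.blkC.inZ.supp g fun h => hg (hCH h)

theorem isPair_subPair (ha : IsPair p ⊤ a) {H : Subgroup G}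
    (hCH : Subgroup.centralizer (a.1 : Set G) ≤ H) (hPH : a.1 ≤ H) {K' : Subgroup H}
    (hK : Subgroup.centralizer (a.1 : Set G) ≤ K'.map H.subtype) (hPK : a.1 ≤ K'.map H.subtype) :
    IsPair p K' (subPair a H) := by
  have hmap : (a.1.subgroupOf H).map H.subtype = a.1 := Subgroup.map_subgroupOf_eq_of_le hPH
  refine ⟨ha.pgroup.comap_of_injective _ Subtype.val_injective, fun v hv => ?_, ?_⟩
  · obtain ⟨w, hw, e⟩ := hPK (Subgroup.mem_subgroupOf.1 hv)
    exact (Subtype.ext e : w = v) ▸ hw
  · refine isBlk_restr ?_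
    show IsBlk ((K' ⊓ Subgroup.centralizer ((a.1.subgroupOf H : Subgroup H) : Set H)).map H.subtype)
      (emb H (restr H a.2))
    rw [restr_spec ha hCH, Subgroup.map_inf _ _ _ (Subgroup.subtype_injective H),
      map_inf_centralizer, hmap, inf_eq_right.2 hCH, inf_eq_right.2 hK]
    exact ha.blkC

theorem isMax_subPair (hmax : IsMax p (Ek M B) a) {H : Subgroup G}
    (hCH : Subgroup.centralizer (a.1 : Set G) ≤ H) (hPH : a.1 ≤ H)
    {f : Set (IrrCharacter H)} (hf : IsPBlock M f) (hpf : IsPairOf p H (zB M H f) a) :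
    IsMax p (Ek M f) (subPair a H) := by
  have hnoT := hmax.pairOf.noExt hmax.isDef
  have hnoH : NoExt p H a := fun b hb => by
    have hCb : Subgroup.centralizer (b.1 : Set G) ≤ H :=
      (Subgroup.centralizer_le hb.le).trans hCH
    exact hnoT b ⟨hmax.pair, ((isPair_sub_iff hCb).1 hb.right).1, hb.le, hb.normal, hb.inv, hb.occ⟩
  have hdf : IsDefectGroup p M f (a.1.subgroupOf H) :=
    (isDefectGroup_subgroupOf_iff hf hPH).2 (hnoH.isDefGrp hpf)
  have htop : (⊤ : Subgroup H).map H.subtype = H := by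
    rw [← MonoidHom.range_eq_map, Subgroup.range_subtype]
  refine ⟨⟨isPair_subPair hmax.pair hCH hPH (by rw [htop]; exact hCH) (by rw [htop]; exact hPH),
    isBlk_Ek hf, emb_injective H ?_⟩, (isDefectGroup_iff hf _).1 hdf⟩
  show emb H (brTrunc (a.1.subgroupOf H) (Ek M f) * restr H a.2) = emb H (restr H a.2)
  rw [map_mul, ← brTrunc_emb, Subgroup.map_subgroupOf_eq_of_le hPH, restr_spec hmax.pair hCH]
  exact hpf.occ

theorem centralizer_subPair {H : Subgroup G} (hPH : a.1 ≤ H)
    (hab : a.1 ≤ Subgroup.centralizer (a.1 : Set G)) :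
    (subPair a H).1 ≤ Subgroup.centralizer ((subPair a H).1 : Set H) := by
  intro v hv
  refine Subgroup.mem_centralizer_iff.2 fun w hw => Subtype.ext ?_
  exact Subgroup.mem_centralizer_iff.1 (hab (Subgroup.mem_subgroupOf.1 hv)) w
    (Subgroup.mem_subgroupOf.1 hw)

theorem mem_stabP_subPair (ha : IsPair p ⊤ a) {H : Subgroup G}
    (hCH : Subgroup.centralizer (a.1 : Set G) ≤ H) (hPH : a.1 ≤ H) (x : H) :
    x ∈ stabP (subPair a H) ↔ (x : G) ∈ stabP a := by
  constructor
  · rintro ⟨h1, h2⟩
    refine ⟨Subgroup.mem_normalizer_iff.2 fun g => ⟨fun hg => ?_, fun hg => ?_⟩, ?_⟩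
    · exact (Subgroup.mem_normalizer_iff.1 h1 ⟨g, hPH hg⟩).1 hg
    · have hgH : g ∈ H := by
        simpa [mul_assoc] using mul_mem (mul_mem (inv_mem x.2) (hPH hg)) x.2
      exact (Subgroup.mem_normalizer_iff.1 h1 ⟨g, hgH⟩).2 hg
    · refine gaExt fun g => ?_
      rw [coeff_cj]
      by_cases hg : g ∈ H
      · have h := congrArg (fun y : MonoidAlgebra (resField M) H => y.coeff ⟨g, hg⟩) h2
        simp only [coeff_cj] at h
        exact h
      · rw [ha.blkC.inZ.supp g fun h => hg (hCH h), ha.blkC.inZ.supp]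
        exact fun h => hg (by simpa [mul_assoc] using mul_mem (mul_mem x.2 (hCH h)) (inv_mem x.2))
  · rintro ⟨h1, h2⟩
    refine ⟨Subgroup.mem_normalizer_iff.2 fun g => Subgroup.mem_normalizer_iff.1 h1 (g : G),
      gaExt fun g => ?_⟩
    rw [coeff_cj]
    have h := congrArg (fun y : MonoidAlgebra (resField M) G => y.coeff (g : G)) h2
    simp only [coeff_cj] at h
    exact h

theorem card_stab_sub (ha : IsPair p ⊤ a) {H : Subgroup G}
    (hCH : Subgroup.centralizer (a.1 : Set G) ≤ H) (hPH : a.1 ≤ H) (hTH : stabP a ≤ H)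
    (L' : Subgroup H) :
    Nat.card (stabP (subPair a H) ⊓ L' : Subgroup H) =
      Nat.card (stabP a ⊓ L'.map H.subtype : Subgroup G) := by
  rw [← Subgroup.card_map_of_injective (f := H.subtype) (Subgroup.subtype_injective H)]
  refine congrArg (fun X : Subgroup G => Nat.card X) ?_
  ext g
  simp only [Subgroup.mem_map, Subgroup.mem_inf]
  constructor
  · rintro ⟨x, ⟨h1, h2⟩, rfl⟩
    exact ⟨(mem_stabP_subPair ha hCH hPH x).1 h1, x, h2, rfl⟩
  · rintro ⟨h1, x, h2, rfl⟩
    exact ⟨x, ⟨(mem_stabP_subPair ha hCH hPH x).2 h1, h2⟩, rfl⟩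

/-- The local numbers seen inside a subgroup. -/
theorem lr_subPair (ha : IsPair p ⊤ a) {H : Subgroup G}
    (hCH : Subgroup.centralizer (a.1 : Set G) ≤ H) (hPH : a.1 ≤ H) {K' : Subgroup H}
    (hK : Subgroup.centralizer (a.1 : Set G) ≤ K'.map H.subtype) (hPK : a.1 ≤ K'.map H.subtype) :
    lr p (subPair a H) K' = lr p a (K'.map H.subtype) ∧
      kr p (subPair a H) K' = kr p a (K'.map H.subtype) := by
  classical
  obtain ⟨b, hb, hbp⟩ := exists_loc ((isPair_sub_iff hK).2 ⟨ha, hPK⟩)
  set e := K'.equivMapOfInjective H.subtype (Subgroup.subtype_injective H) with he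
  have hb' : IsPBlock M (pullB e b) := isPBlock_pullB e hb
  have hz : emb H (zB M K' (pullB e b)) = zB M (K'.map H.subtype) b := by
    rw [zB, zB, ← mapA_Ek e hb]
    refine gaExt fun g => ?_
    by_cases hg : g ∈ K'.map H.subtype
    · obtain ⟨x, hx, rfl⟩ := hg
      show (emb H (emb K' (Ek M (pullB e b)))).coeff (x : G) =
        (emb (K'.map H.subtype) (mapA e (Ek M (pullB e b)))).coeff ((e ⟨x, hx⟩ : K'.map H.subtype) : G)
      rw [coeff_emb_coe, coeff_emb_coe, coeff_emb_mem K' _ hx, coeff_mapA, MulEquiv.symm_apply_apply]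
    · rw [coeff_emb_notMem (K'.map H.subtype) _ hg]
      by_cases hgH : g ∈ H
      · rw [coeff_emb_mem H _ hgH, coeff_emb_notMem K']
        exact fun h => hg ⟨⟨g, hgH⟩, h, rfl⟩
      · rw [coeff_emb_notMem H _ hgH]
  have hp' : IsPairOf p K' (zB M K' (pullB e b)) (subPair a H) := by
    refine ⟨isPair_subPair ha hCH hPH hK hPK, isBlk_zB _ hb', emb_injective H ?_⟩
    show emb H (brTrunc (a.1.subgroupOf H) (zB M K' (pullB e b)) * restr H a.2) =
      emb H (restr H a.2)
    rw [map_mul, ← brTrunc_emb, Subgroup.map_subgroupOf_eq_of_le hPH, hz, restr_spec ha hCH]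
    exact hbp.occ
  rw [(lr_eq hb' hp').1, (lr_eq hb' hp').2, (lr_eq hb hbp).1, (lr_eq hb hbp).2, blockRank_pullB,
    card_pullB]
  exact ⟨rfl, rfl⟩

theorem lr_top (hB : IsPBlock M B) (hmax : IsMax p (Ek M B) a) :
    lr p a ⊤ = blockRank p B ∧ kr p a ⊤ = Nat.card B := by
  classical
  set e : (⊤ : Subgroup G) ≃* G := Subgroup.topEquiv with he
  have hb := isPBlock_pullB (M := M) e hB
  have hz : zB M (⊤ : Subgroup G) (pullB e B) = Ek M B := by
    refine gaExt fun g => ?_
    rw [zB, coeff_emb_mem _ _ (Subgroup.mem_top g), ← mapA_Ek e hB, coeff_mapA]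
    rfl
  have hp : IsPairOf p ⊤ (zB M (⊤ : Subgroup G) (pullB e B)) a := by
    rw [hz]; exact hmax.pairOf
  rw [(lr_eq hb hp).1, (lr_eq hb hp).2, blockRank_pullB, card_pullB]
  exact ⟨rfl, rfl⟩

theorem secC_one : secC (1 : G) = ⊤ :=
  top_le_iff.1 fun _ _ => mem_secC.2 (by simp)

theorem map_secC {H : Subgroup G} (y : H) : (secC y).map H.subtype = H ⊓ secC (y : G) := by
  ext g
  rw [Subgroup.mem_map, Subgroup.mem_inf, mem_secC]
  constructor
  · rintro ⟨x, hx, rfl⟩
    exact ⟨x.2, congrArg Subtype.val (mem_secC.1 hx)⟩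
  · rintro ⟨hg, h⟩
    exact ⟨⟨g, hg⟩, mem_secC.2 (Subtype.ext h), rfl⟩

/-- The numbers of the block of the centraliser of a fixed element. -/
theorem fixed_counts (hM : IsPModular p M) (hB : IsPBlock M B) (hmax : IsMax p (Ek M B) a)
    (hab : a.1 ≤ Subgroup.centralizer (a.1 : Set G)) {z : G} (hz : z ∈ a.1)
    (hfix : ∀ t ∈ stabP a, t * z * t⁻¹ = z) :
    lr p a (secC z) = blockRank p B ∧ kr p a (secC z) = Nat.card B := by
  induction hN : Nat.card G using Nat.strong_induction_on generalizing G with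
  | _ N ih =>
    classical
    have hD := hmax.isDef
    have hPD : IsDefectGroup p M B a.1 := (isDefectGroup_iff hB a.1).2 hD
    obtain ⟨cc, hcb, hce⟩ := exists_eq_zB hmax.pair.blkC
    replace hce : zB M (Subgroup.centralizer (a.1 : Set G)) cc = a.2 := hce
    have hpc : IsPairOf p ⊤ (Ek M B) (a.1, zB M (Subgroup.centralizer (a.1 : Set G)) cc) := by
      rw [hce]; exact hmax.pairOf
    have hind : IsInducedBlock M (Subgroup.centralizer (a.1 : Set G)) cc B :=
      induced_of_pairOf hM hcb hB (pairOf_self (M := M) hcb hD.pgroup hab rfl) le_rfl hpc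
    have hne := not_dvd_inertia hM hPD hab hind
    rw [show ((a.1, zB M (Subgroup.centralizer (a.1 : Set G)) cc) : Pr (resField M) G) = a from
      Prod.ext rfl hce] at hne
    obtain ⟨π, hinv, hfixim, hret⟩ :=
      exists_retraction (stabP_le_normalizer a) hab hD.pgroup hne
    have hidem : ∀ w : π.range, π w = w := by
      rintro ⟨_, v, rfl⟩
      exact hret (π v) fun t ht => hfixim t ht v
    have hπz : π ⟨z, hz⟩ = ⟨z, hz⟩ := hret _ hfix
    -- local numbers in a proper centraliser
    have hlocal : ∀ y : a.1, (y : G) ∉ Subgroup.center G →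
        lr p a (secC (y : G) ⊓ secC z) = lr p a (secC (y : G)) := by
      intro y hy
      obtain ⟨hPy, hCy⟩ := le_secC hab y.2
      obtain ⟨fy, hfy, hfyp⟩ := exists_loc ((isPair_sub_iff hCy).2 ⟨hmax.pair, hPy⟩)
      have hlt : Nat.card (secC (y : G)) < N := by
        rw [← hN]
        refine lt_of_le_of_ne (Subgroup.card_le_card_group _) fun heq => hy ?_
        have htop := Subgroup.eq_top_of_card_eq _ heq
        exact Subgroup.mem_center_iff.2 fun g =>
          mem_secC.1 (show g ∈ secC (y : G) from htop ▸ Subgroup.mem_top g)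
      obtain ⟨h1, -⟩ := ih _ hlt hfy (isMax_subPair hmax hCy hPy hfy hfyp)
        (centralizer_subPair hPy hab) (z := ⟨z, hPy hz⟩) hz
        (fun t ht => Subtype.ext (hfix t ((mem_stabP_subPair hmax.pair hCy hPy t).1 ht))) rfl
      obtain ⟨hPz, hCz⟩ := le_secC hab hz
      rw [(lr_eq hfy hfyp).1, ← h1, (lr_subPair hmax.pair hCy hPy
        (by rw [map_secC]; exact le_inf hCy hCz) (by rw [map_secC]; exact le_inf hPy hPz)).1,
        map_secC]
    have hcomm : ∀ y : a.1, secC (y : G) ⊓ secC z = secC ((z * y : G)) ⊓ secC z := by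
      intro y
      ext g
      constructor
      · rintro ⟨h1, h2⟩
        have e1 := mem_secC.1 h1
        have e2 := mem_secC.1 h2
        exact ⟨mem_secC.2 (by rw [← mul_assoc, e2, mul_assoc, e1, mul_assoc]), h2⟩
      · rintro ⟨h1, h2⟩
        have e1 := mem_secC.1 h1
        have e2 := mem_secC.1 h2
        refine ⟨mem_secC.2 (mul_left_cancel (a := z) ?_), h2⟩
        rw [← mul_assoc, ← e2, mul_assoc, e1, mul_assoc]
    have hcentral : ∀ y : a.1, (y : G) ∈ Subgroup.center G → π y = y := fun y hy =>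
      hret y fun t _ => by rw [Subgroup.mem_center_iff.1 hy t, mul_inv_cancel_right]
    -- the formula in the group
    let z' : π.range := ⟨⟨z, hz⟩, ⟨⟨z, hz⟩, hπz⟩⟩
    have hG1 := card_mul_eq_fiber_sum hM hB hmax hab π hinv hidem 1
    have hGz := card_mul_eq_fiber_sum hM hB hmax hab π hinv hidem z'
    set s : G → ℕ := fun g => Nat.card (stabP a ⊓ secC g : Subgroup G) with hs
    set F := Finset.univ.filter (fun v : a.1 => π v = 1) with hF
    have hF1 : (1 : a.1) ∈ F := Finset.mem_filter.2 ⟨Finset.mem_univ _, map_one π⟩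
    have hnc : ∀ y ∈ F.erase 1, (y : G) ∉ Subgroup.center G ∧
        ((z * y : G)) ∉ Subgroup.center G := by
      intro y hy
      obtain ⟨hy1, hyF⟩ := Finset.mem_erase.1 hy
      have hπy : π y = 1 := (Finset.mem_filter.1 hyF).2
      refine ⟨fun h => hy1 (by rw [← hcentral y h, hπy]), fun h => hy1 ?_⟩
      have e := hcentral (⟨z, hz⟩ * y) h
      rw [map_mul, hπz, hπy, mul_one] at e
      exact mul_left_cancel (a := (⟨z, hz⟩ : a.1)) (e.symm.trans (mul_one _).symm)
    have hshift : ∀ y ∈ F.erase 1, lr p a (secC (z * y : G)) = lr p a (secC (y : G)) := by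
      intro y hy
      obtain ⟨h1, h2⟩ := hnc y hy
      rw [← hlocal y h1, hcomm, hlocal ⟨z * y, mul_mem hz y.2⟩ h2]
    have hsz : ∀ y : a.1, s (z * y) = s y := by
      intro y
      refine congrArg (fun X : Subgroup G => Nat.card X) ?_
      ext g
      constructor
      · rintro ⟨hg, h1⟩
        have h2 : g * z = z * g := mul_inv_eq_iff_eq_mul.1 (hfix g hg)
        have e1 := mem_secC.1 h1
        refine ⟨hg, mem_secC.2 (mul_left_cancel (a := z) ?_)⟩
        rw [← mul_assoc, ← h2, mul_assoc, e1, mul_assoc]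
      · rintro ⟨hg, h1⟩
        have h2 : g * z = z * g := mul_inv_eq_iff_eq_mul.1 (hfix g hg)
        have e1 := mem_secC.1 h1
        exact ⟨hg, mem_secC.2 (by rw [← mul_assoc, h2, mul_assoc, e1, mul_assoc])⟩
    have hsum1 : ∑ v ∈ Finset.univ.filter (fun v : a.1 => π v = ((1 : π.range) : a.1)),
        lr p a (secC (v : G)) * s v = lr p a (secC ((1 : a.1) : G)) * s ((1 : a.1) : G) +
          ∑ v ∈ F.erase 1, lr p a (secC (v : G)) * s v :=
      (Finset.add_sum_erase _ _ hF1).symm
    have hsumz : ∑ v ∈ Finset.univ.filter (fun v : a.1 => π v = (z' : a.1)),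
        lr p a (secC (v : G)) * s v = lr p a (secC z) * s ((1 : a.1) : G) +
          ∑ v ∈ F.erase 1, lr p a (secC (v : G)) * s v := by
      have e : ∑ v ∈ Finset.univ.filter (fun v : a.1 => π v = (z' : a.1)),
          lr p a (secC (v : G)) * s v = ∑ v ∈ F, lr p a (secC (z * v : G)) * s (z * v : G) := by
        refine Finset.sum_bij (fun v _ => (⟨z, hz⟩ : a.1)⁻¹ * v) ?_ ?_ ?_ ?_
        · intro v hv
          refine Finset.mem_filter.2 ⟨Finset.mem_univ _, ?_⟩
          rw [map_mul, map_inv, hπz, (Finset.mem_filter.1 hv).2, inv_mul_eq_one]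
        · exact fun v _ w _ h => mul_left_cancel h
        · intro w hw
          refine ⟨⟨z, hz⟩ * w, Finset.mem_filter.2 ⟨Finset.mem_univ _, ?_⟩, inv_mul_cancel_left _ _⟩
          rw [map_mul, hπz, (Finset.mem_filter.1 hw).2, mul_one]
        · intro v _
          show _ = lr p a (secC (z * (z⁻¹ * (v : G)))) * s (z * (z⁻¹ * (v : G)))
          rw [mul_inv_cancel_left]
      rw [e, ← Finset.add_sum_erase _ _ hF1, hsz]
      congr 1
      · rw [show (z * ((1 : a.1) : G)) = z by simp]
      · exact Finset.sum_congr rfl fun v hv => by rw [hshift v hv, hsz]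
    rw [hsum1] at hG1
    rw [hsumz] at hGz
    rw [OneMemClass.coe_one, secC_one, (lr_top hB hmax).1] at hG1
    rw [OneMemClass.coe_one] at hGz
    have hs1 : 0 < s 1 := Nat.card_pos
    have hrank : lr p a (secC z) = blockRank p B := by
      have e := hGz.symm.trans hG1
      have h1 := Nat.eq_of_mul_eq_mul_left Nat.card_pos e
      exact Nat.eq_of_mul_eq_mul_right hs1 (Nat.add_right_cancel h1)
    refine ⟨hrank, ?_⟩
    -- the formula in the centraliser
    obtain ⟨hPz, hCz⟩ := le_secC hab hz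
    have hTH : stabP a ≤ secC z := fun t ht => mem_secC.2 (mul_inv_eq_iff_eq_mul.1 (hfix t ht))
    obtain ⟨f, hf, hfp⟩ := exists_loc ((isPair_sub_iff hCz).2 ⟨hmax.pair, hPz⟩)
    let e1 : (subPair a (secC z)).1 ≃* a.1 := Subgroup.subgroupOfEquivOfLe hPz
    let πH : (subPair a (secC z)).1 →* (subPair a (secC z)).1 :=
      (e1.symm.toMonoidHom.comp π).comp e1.toMonoidHom
    have hidemH : ∀ w : πH.range, πH w = w := by
      rintro ⟨_, v, rfl⟩
      show e1.symm (π (e1 (e1.symm (π (e1 v))))) = e1.symm (π (e1 v))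
      rw [MulEquiv.apply_symm_apply, hidem ⟨π (e1 v), ⟨e1 v, rfl⟩⟩]
    have hinvH : ∀ t ∈ stabP (subPair a (secC z)), ∀ (v : (subPair a (secC z)).1)
        (h : t * (v : secC z) * t⁻¹ ∈ (subPair a (secC z)).1), πH ⟨_, h⟩ = πH v := by
      intro t ht v h
      show e1.symm (π (e1 ⟨_, h⟩)) = e1.symm (π (e1 v))
      exact congrArg e1.symm
        (hinv t ((mem_stabP_subPair hmax.pair hCz hPz t).1 ht) (e1 v) (Subgroup.mem_subgroupOf.1 h))
    have hH := card_mul_eq_fiber_sum hM hf (isMax_subPair hmax hCz hPz hf hfp)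
      (centralizer_subPair hPz hab) πH hinvH hidemH 1
    have hcardT : Nat.card (stabP (subPair a (secC z))) = Nat.card (stabP a) := by
      have h := card_stab_sub hmax.pair hCz hPz hTH ⊤
      rwa [inf_top_eq, ← MonoidHom.range_eq_map, Subgroup.range_subtype, inf_eq_left.2 hTH] at h
    have hcardR : Nat.card πH.range = Nat.card π.range := by
      refine Nat.card_congr ⟨fun w => ⟨e1 w.1, ?_⟩, fun w => ⟨e1.symm w.1, ?_⟩,
        fun w => Subtype.ext (e1.symm_apply_apply _), fun w => Subtype.ext (e1.apply_symm_apply _)⟩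
      · obtain ⟨v, hv⟩ := w.2
        exact ⟨e1 v, by rw [← hv]; exact (e1.apply_symm_apply _).symm⟩
      · obtain ⟨v, hv⟩ := w.2
        exact ⟨e1.symm v, by rw [← hv]; exact congrArg (fun q => e1.symm (π q)) (e1.apply_symm_apply v)⟩
    have hsumH : ∑ v ∈ Finset.univ.filter (fun v : (subPair a (secC z)).1 =>
          πH v = ((1 : πH.range) : (subPair a (secC z)).1)),
        lr p (subPair a (secC z)) (secC (v : secC z)) *
          Nat.card (stabP (subPair a (secC z)) ⊓ secC (v : secC z) : Subgroup (secC z)) =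
        ∑ v ∈ F, lr p a (secC (v : G)) * s v := by
      refine Finset.sum_bij (fun v _ => e1 v) ?_ ?_ ?_ ?_
      · intro v hv
        refine Finset.mem_filter.2 ⟨Finset.mem_univ _, ?_⟩
        have h := congrArg e1 (Finset.mem_filter.1 hv).2
        rw [OneMemClass.coe_one, map_one] at h
        rw [← h]
        exact (e1.apply_symm_apply _).symm
      · exact fun v _ w _ h => e1.injective h
      · intro w hw
        refine ⟨e1.symm w, Finset.mem_filter.2 ⟨Finset.mem_univ _, ?_⟩, e1.apply_symm_apply w⟩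
        show e1.symm (π (e1 (e1.symm w))) = _
        rw [MulEquiv.apply_symm_apply, (Finset.mem_filter.1 hw).2, map_one, OneMemClass.coe_one]
      · intro v hv
        set y : a.1 := e1 v with hy
        have hv' : π y = 1 := by
          have h := congrArg e1 (Finset.mem_filter.1 hv).2
          rw [OneMemClass.coe_one, map_one] at h
          rw [← h]
          exact (e1.apply_symm_apply _).symm
        have hyG : ((v : secC z) : G) = (y : G) := rfl
        obtain ⟨hPy, hCy⟩ := le_secC hab y.2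
        have hm : (secC (v : secC z)).map (secC z).subtype = secC z ⊓ secC (y : G) := by
          rw [map_secC, hyG]
        rw [(lr_subPair hmax.pair hCz hPz (by rw [hm]; exact le_inf hCz hCy)
          (by rw [hm]; exact le_inf hPz hPy)).1, card_stab_sub hmax.pair hCz hPz hTH, hm]
        congr 1
        · by_cases h1 : y = 1
          · rw [h1, OneMemClass.coe_one, secC_one, inf_top_eq, hrank, (lr_top hB hmax).1]
          · rw [inf_comm]
            exact hlocal y fun hc => h1 (by rw [← hcentral y hc, hv'])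
        · refine congrArg (fun X : Subgroup G => Nat.card X) ?_
          rw [← inf_assoc, inf_eq_left.2 hTH]
    rw [hcardT, hcardR, hsumH, ← Finset.add_sum_erase _ _ hF1, OneMemClass.coe_one, secC_one,
      (lr_top hB hmax).1] at hH
    rw [(lr_eq hf hfp).2]
    exact Nat.eq_of_mul_eq_mul_right Nat.card_pos (hH.trans hG1.symm)

end Cfsg.Agent.WatanabeFixed
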