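import Cfsg.Agent.Lib.Blocks.GreenDefect
import Cfsg.Agent.Lib.Blocks.Real
import Cfsg.Agent.Lib.Blocks.SubsectionRow
import Cfsg.Agent.Lib.Transfer.Abelian

/-!
Characters of degree prime to `p` in the principal block over an extendible character.
-/

set_option linter.unusedSectionVars false
set_option linter.style.haveILetI false

namespace Cfsg.Agent.BrauerPairs

open Cfsg Cfsg.Agent.Blocks Cfsg.Agent.Char
open scoped ComplexConjugate

universe u

variable {G : Type u} [Group G] [Fintype G] {p : ℕ} {M : Ideal AlgInt} [M.IsPrime]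

theorem blockDefect_principal_eq (hM : IsPModular p M) :
    blockDefect p (principalBlock M G) = (Nat.card G).factorization p := by
  have h := degExp_ge hM (isPBlock_principalBlock M G) (χ := principal G) principal_mem_principalBlock
  have h1 : charDegree ((principal G : IrrCharacter G) : G → ℂ) = 1 := by simp [charDegree, principal]
  rw [h1] at h
  simp only [Nat.factorization_one, Finsupp.coe_zero, Pi.zero_apply] at h
  have := blockDefect_le (p := p) (principalBlock M G)
  omega

/-- The principal idempotent sums to a unit on a normal subgroup. -/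
theorem sum_blockCoeff_normal_unit (hM : IsPModular p M) (N : Subgroup G) [hN : N.Normal]
    [Fintype N] (P : Sylow p G) :
    ¬ MemLocalIdeal M (∑ n : N, blockCoeff (principalBlock M G) (n : G)) := by
  classical
  haveI := Fact.mk hM.1
  haveI : Finite G := inferInstance
  set B := principalBlock M G with hBdef
  have hB : IsPBlock M B := isPBlock_principalBlock M G
  letI act : MulAction (P : Subgroup G) N :=
    { smul := fun v n => ⟨(v : G) * n * (v : G)⁻¹, hN.conj_mem _ n.2 _⟩
      one_smul := fun n => Subtype.ext (show ((1 : (P : Subgroup G)) : G) * n * _ = _ by simp)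
      mul_smul := fun v w n => Subtype.ext (by
        show ((v * w : (P : Subgroup G)) : G) * n * ((v * w : (P : Subgroup G)) : G)⁻¹ =
          (v : G) * ((w : G) * n * (w : G)⁻¹) * (v : G)⁻¹
        rw [Subgroup.coe_mul]; group) }
  have hcong := sum_fixedPoints_congr (M := M) hM (X := N) P.isPGroup'
    (fun n : N => blockCoeff B (n : G))
    (fun v n => (blockCoeff_isConj B (isConj_iff.2 ⟨(v : G), rfl⟩)).symm)
    (fun n => blockCoeff_memLocalRing hB _)
  intro hS
  have hfix := MemLocalIdeal.sub hS hcong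
  rw [sub_sub_cancel] at hfix
  -- the fixed points
  obtain ⟨X, hX⟩ : ∃ X, X = N ⊓ Subgroup.centralizer ((P : Subgroup G) : Set G) := ⟨_, rfl⟩
  obtain ⟨S⟩ : Nonempty (Sylow p X) := inferInstance
  have hScent : ∀ z : X, (∃ k, orderOf z = p ^ k) → ∀ g : X, g * z = z * g := by
    rintro z ⟨k, hk⟩ g
    have hzC := (hX.le z.2).2
    have hgC := (hX.le g.2).2
    have hzP : (z : G) ∈ (P : Subgroup G) := by
      have hnorm : Subgroup.zpowers (z : G) ≤ Subgroup.normalizer ((P : Subgroup G) : Set G) :=
        Subgroup.zpowers_le.2 (Subgroup.mem_normalizer_iff.2 fun h => by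
          constructor
          · intro hh
            rwa [← Subgroup.mem_centralizer_iff.1 hzC h hh, mul_inv_cancel_right]
          · intro hh
            have h2 := Subgroup.mem_centralizer_iff.1 hzC _ hh
            have e : (z : G) * h * (z : G)⁻¹ = h := by
              have h3 : (z : G)⁻¹ * ((z : G) * h * (z : G)⁻¹) * z = (z : G) * h * (z : G)⁻¹ := by
                rw [mul_assoc, h2, ← mul_assoc, inv_mul_cancel, one_mul]
              simpa [mul_assoc] using h3.symm
            rwa [e] at hh)
      have hp : IsPGroup p (Subgroup.zpowers (z : G)) :=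
        IsPGroup.of_card (n := k) (by rw [Nat.card_zpowers, Subgroup.orderOf_coe, hk])
      have hsup := P.isPGroup'.to_sup_of_normal_left' hp hnorm
      exact (P.is_maximal' hsup le_sup_left).le
        (Subgroup.mem_sup_right (Subgroup.mem_zpowers _))
    exact Subtype.ext (Subgroup.mem_centralizer_iff.1 hgC _ hzP).symm
  have hXc : HasNormalPComplement p X := by
    refine Fusion.hasNormalPComplement_of_normalizer_le_centralizer S fun g _ => ?_
    refine Subgroup.mem_centralizer_iff.2 fun z hz => ?_
    obtain ⟨k, hk⟩ := IsPGroup.iff_orderOf.1 S.isPGroup' ⟨z, hz⟩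
    exact (hScent z ⟨k, by rw [← hk]; simp⟩ g).symm
  set O := pResidual p X with hO
  have hOc := PBasic.hasNormalPComplement_iff_pResidual.1 hXc
  let F := Finset.univ.filter (fun n : N => ∀ v : (P : Subgroup G), v • n = n)
  have hmemX : ∀ n : N, n ∈ F ↔ (n : G) ∈ X := fun n => by
    rw [hX, Subgroup.mem_inf, Subgroup.mem_centralizer_iff]
    simp only [F, Finset.mem_filter, Finset.mem_univ, true_and, n.2]
    constructor
    · intro h v hv
      exact mul_inv_eq_iff_eq_mul.1 (congrArg Subtype.val (h ⟨v, hv⟩))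
    · intro h v
      exact Subtype.ext (mul_inv_eq_iff_eq_mul.2 (h v v.2))
  have hval : ∀ n ∈ F, MemLocalIdeal M
      (blockCoeff B (n : G) - if p ∣ orderOf (n : G) then 0 else blockCoeff B 1) := by
    intro n hn
    by_cases hr : p ∣ orderOf (n : G)
    · rw [if_pos hr, blockCoeff_eq_zero_of_singular hM hB hr, sub_zero]; exact memLocalIdeal_zero
    · rw [if_neg hr]
      have hPC : (P : Subgroup G) ≤ Subgroup.centralizer ({(n : G)} : Set G) := fun v hv =>
        Subgroup.mem_centralizer_singleton_iff.2
          (Subgroup.mem_centralizer_iff.1 (hX.le ((hmemX n).1 hn)).2 v hv)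
      have hidx : ¬ p ∣ (Subgroup.centralizer ({(n : G)} : Set G)).index := fun h =>
        P.not_dvd_index (h.trans (Subgroup.index_dvd_of_le hPC))
      have hχ : ∀ χ ∈ B, MemLocalIdeal M (conj ((χ : G → ℂ) (n : G)) - conj ((χ : G → ℂ) 1)) := by
        intro χ hχ
        rw [← irr_inv, ← irr_inv, inv_one]
        have hne : (Subgroup.centralizer ({(n : G)⁻¹} : Set G)).index =
            (Subgroup.centralizer ({(n : G)} : Set G)).index := by
          congr 1; ext y
          simp only [Subgroup.mem_centralizer_singleton_iff]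
          exact ⟨fun h => by simpa using ((show Commute y ((n : G))⁻¹ from h).inv_right).eq,
            fun h => ((show Commute y (n : G) from h).inv_right).eq⟩
        have h1 : SameBlock M ((principal G : IrrCharacter G) : G → ℂ) (χ : G → ℂ) := hχ
        have h2 := h1 (n : G)⁻¹
        simp only [centralChar, principal, mul_one, div_one, hne] at h2
        have h3 := MemLocalIdeal.mul_left (inv_natCast_memLocalRing hM hidx) h2
        rw [mul_sub, inv_mul_cancel₀ (Nat.cast_ne_zero.2 Subgroup.index_ne_zero_of_finite),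
          mul_div_assoc, ← mul_assoc,
          inv_mul_cancel₀ (Nat.cast_ne_zero.2 Subgroup.index_ne_zero_of_finite), one_mul] at h3
        have h4 := MemLocalIdeal.mul_left (char_memLocalRing (irr_isCharacter χ) 1) (MemLocalIdeal.neg h3)
        convert h4 using 1
        have := irr_one_ne_zero χ
        field_simp
        ring
      choose m hm using exists_sum_subgroup_eq (P : Subgroup G)
      rw [blockCoeff_eq_regular hM hB P.isPGroup' hr m hm,
        blockCoeff_eq_regular hM hB P.isPGroup' (k := (1 : G)) (by simpa using hM.1.ne_one) m hm,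
        ← mul_sub, ← Finset.sum_sub_distrib]
      refine MemLocalIdeal.mul_left (memLocalRing_natDiv hM ?_) (memLocalIdeal_sum _ _ fun χ hχs => ?_)
      · rw [Sylow.card_eq_multiplicity, hM.1.factorization_pow, Finsupp.single_eq_same]
      · rw [← sub_mul]
        exact MemLocalIdeal.mul_right (hχ χ (Finset.mem_filter.1 hχs).2)
          (mem_locRing.1 (natCast_mem (locRing M) _))
  have hsum : MemLocalIdeal M ((Nat.card O : ℂ) * blockCoeff B 1) := by
    have h1 := MemLocalIdeal.sub hfix (memLocalIdeal_sum F _ hval)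
    rw [← Finset.sum_sub_distrib] at h1
    simp only [sub_sub_cancel] at h1
    have h2 : (F.filter fun n : N => ¬ p ∣ orderOf (n : G)).card = Nat.card O := by
      rw [Nat.card_eq_fintype_card, ← Finset.card_univ]
      refine Finset.card_bij
        (fun n hn => (⟨⟨(n : G), (hmemX n).1 (Finset.mem_filter.1 hn).1⟩, ?_⟩ : O))
        (fun _ _ => Finset.mem_univ _) (fun a _ b _ e => Subtype.ext
          (congrArg (fun z : O => ((z : X) : G)) e)) fun z _ => ?_
      · refine (PBasic.mem_pResidual_iff hXc).2 ?_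
        rw [Subgroup.orderOf_mk, Nat.coprime_comm]
        exact hM.1.coprime_iff_not_dvd.2 (Finset.mem_filter.1 hn).2
      · have hzN : ((z : X) : G) ∈ N := (hX.le (z : X).2).1
        refine ⟨⟨_, hzN⟩, Finset.mem_filter.2 ⟨(hmemX _).2 (z : X).2, ?_⟩, rfl⟩
        exact hM.1.coprime_iff_not_dvd.1 (by
          simpa [Subgroup.orderOf_coe] using ((PBasic.mem_pResidual_iff hXc).1 z.2).symm)
    have h3 : ∀ n ∈ F, (if p ∣ orderOf (n : G) then (0 : ℂ) else blockCoeff B 1) =
        if ¬ p ∣ orderOf (n : G) then blockCoeff B 1 else 0 := fun n _ => by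
      by_cases h : p ∣ orderOf (n : G) <;> simp [h]
    rwa [Finset.sum_congr rfl h3, ← Finset.sum_filter, Finset.sum_const, h2, nsmul_eq_mul] at h1
  have hu := blockCoeff_one_unit hM hB (blockDefect_principal_eq hM)
  have hO' : ¬ p ∣ Nat.card O := fun h => hM.1.ne_one (Nat.eq_one_of_dvd_coprimes hOc h dvd_rfl)
  refine hu ?_
  have := MemLocalIdeal.mul_left (inv_natCast_memLocalRing hM hO') hsum
  rwa [← mul_assoc, inv_mul_cancel₀ (Nat.cast_ne_zero.2 Nat.card_pos.ne'), one_mul] at this

theorem exists_principal_over (hM : IsPModular p M) (N : Subgroup G) [N.Normal] [Fintype N]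
    (P : Sylow p G) (θ : IrrCharacter N) (hθ : θ ∈ principalBlock M N)
    (hdeg : ¬ p ∣ charDegree (θ : N → ℂ)) {J : Subgroup G} (hJ : N ⊔ (P : Subgroup G) = J)
    (hNJ : N ≤ J) (η : IrrCharacter J)
    (hη : ∀ n : N, (η : J → ℂ) (Subgroup.inclusion hNJ n) = (θ : N → ℂ) n) :
    ∃ χ : IrrCharacter G, χ ∈ principalBlock M G ∧ ¬ p ∣ charDegree (χ : G → ℂ) ∧
      classInner (fun n : N => (χ : G → ℂ) n) (θ : N → ℂ) ≠ 0 := by
  classical
  haveI := Fact.mk hM.1
  set B := principalBlock M G with hBdef
  have hB : IsPBlock M B := isPBlock_principalBlock M G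
  haveI : Fintype J := Fintype.ofFinite J
  choose m hm hm' using fun χ : IrrCharacter G => exists_mults J χ
  set s := Finset.univ.filter (· ∈ B) with hs
  have hJidx : ¬ p ∣ J.index := fun h =>
    P.not_dvd_index (h.trans (Subgroup.index_dvd_of_le (hJ ▸ le_sup_right)))
  -- regular elements of `J` lie in `N`
  have hreg : ∀ j : J, ¬ p ∣ orderOf (j : G) → (j : G) ∈ N := by
    intro j hj
    obtain ⟨n, hn, v, hv, e⟩ : ∃ n ∈ N, ∃ v ∈ (P : Subgroup G), n * v = (j : G) := by
      have : (j : G) ∈ ((N ⊔ (P : Subgroup G) : Subgroup G) : Set G) := hJ.symm ▸ j.2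
      rw [Subgroup.normal_mul] at this
      exact Set.mem_mul.1 this
    rw [← QuotientGroup.eq_one_iff, ← orderOf_eq_one_iff]
    have e' : ((j : G) : G ⧸ N) = (v : G ⧸ N) := by
      rw [← e, QuotientGroup.mk_mul, (QuotientGroup.eq_one_iff n).2 hn, one_mul]
    obtain ⟨k, hk⟩ := IsPGroup.iff_orderOf.1 P.isPGroup' ⟨v, hv⟩
    rw [Subgroup.orderOf_mk] at hk
    refine Nat.eq_one_of_dvd_coprimes (a := p ^ k) (b := orderOf (j : G))
      ((hM.1.coprime_iff_not_dvd.2 hj).pow_left k) ?_ (orderOf_map_dvd (QuotientGroup.mk' N) _)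
    rw [e', ← hk]; exact orderOf_map_dvd (QuotientGroup.mk' N) v
  have hkey : ((∑ χ ∈ s, m χ η * charDegree (χ : G → ℂ) : ℕ) : ℂ) =
      (J.index : ℂ) * ((θ : N → ℂ) 1 * omegaR θ (restrictElt N (blockEltR M B))) := by
    rw [← Complex.conj_natCast, omega_eq_sum_div, mul_div_cancel₀ _ (irr_one_ne_zero θ)]
    push_cast
    simp only [← hm', ← irr_one_eq_charDegree, classInner, coeff_restrictElt, coeff_blockEltR hB]
    rw [map_sum]
    have hJN : ∑ n : N, blockCoeff B (n : G) * (θ : N → ℂ) n =
        ∑ j : J, blockCoeff B (j : G) * (η : J → ℂ) j := by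
      refine Finset.sum_bij_ne_zero (fun n _ _ => Subgroup.inclusion hNJ n)
        (fun _ _ _ => Finset.mem_univ _) (fun a _ _ b _ _ e => Subgroup.inclusion_injective hNJ e)
        (fun j _ hj => ?_) (fun n _ _ => by rw [hη]; rfl)
      have hr : ¬ p ∣ orderOf (j : G) := fun h => hj (by
        rw [blockCoeff_eq_zero_of_singular hM hB h, zero_mul])
      refine ⟨⟨(j : G), hreg j hr⟩, Finset.mem_univ _, ?_, rfl⟩
      rw [← hη]
      exact hj
    rw [hJN]
    simp only [blockCoeff_eq_sum, ← J.card_mul_index, map_mul, map_inv₀, map_sum, map_natCast,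
      Complex.conj_conj, conj_irr_one, ← hs]
    rw [Finset.mul_sum]
    simp only [Finset.mul_sum, Finset.sum_mul]
    rw [Finset.sum_comm]
    refine Finset.sum_congr rfl fun j _ => Finset.sum_congr rfl fun χ _ => ?_
    push_cast
    have : (J.index : ℂ) ≠ 0 := Nat.cast_ne_zero.2 Subgroup.index_ne_zero_of_finite
    field_simp
  have hnd : ¬ p ∣ ∑ χ ∈ s, m χ η * charDegree (χ : G → ℂ) := by
    intro hd
    have h1 := (natCast_memLocalIdeal_iff hM _).2 hd
    rw [hkey] at h1
    have h2 := MemLocalIdeal.mul_left (inv_natCast_memLocalRing hM hJidx) h1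
    rw [← mul_assoc, inv_mul_cancel₀ (Nat.cast_ne_zero.2 Subgroup.index_ne_zero_of_finite),
      one_mul, irr_one_eq_charDegree] at h2
    have h3 := MemLocalIdeal.mul_left (inv_natCast_memLocalRing hM hdeg) h2
    rw [← mul_assoc, inv_mul_cancel₀ (Nat.cast_ne_zero.2 (charDegree_pos θ).ne'), one_mul] at h3
    have h4 := omegaR_congr (show SameBlock M ((principal N : IrrCharacter N) : N → ℂ) (θ : N → ℂ)
      from hθ) (IsClassElt.restrictElt (isClassElt_blockEltR (M := M) B) N)
    have h5 := MemLocalIdeal.add h4 h3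
    rw [sub_add_cancel, omega_eq_sum_div] at h5
    simp only [coeff_restrictElt, coeff_blockEltR hB, principal, mul_one, div_one] at h5
    exact sum_blockCoeff_normal_unit hM N P h5
  obtain ⟨χ, hχs, hχ⟩ : ∃ χ ∈ s, ¬ p ∣ m χ η * charDegree (χ : G → ℂ) := by
    by_contra hne
    push Not at hne
    exact hnd (Finset.dvd_sum hne)
  refine ⟨χ, (Finset.mem_filter.1 hχs).2, fun h => hχ (dvd_mul_of_dvd_right h _), ?_⟩
  have hmη : m χ η ≠ 0 := fun h => hχ (by rw [h, zero_mul]; exact dvd_zero p)
  choose c hc using fun φ : IrrCharacter J => IsCharacter.exists_classInner_nat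
    (show IsCharacter N (fun n : N => (φ : J → ℂ) (Subgroup.inclusion hNJ n)) from
      IsCharacter.comp (IsIrrCharacter.isCharacter φ.2) (Subgroup.inclusion hNJ))
    (IsIrrCharacter.isCharacter θ.2)
  have e : classInner (fun n : N => (χ : G → ℂ) n) (θ : N → ℂ) = ((∑ φ, m χ φ * c φ : ℕ) : ℂ) := by
    push_cast
    simp only [← hc, classInner, Finset.mul_sum]
    rw [Finset.sum_comm]
    refine Finset.sum_congr rfl fun n _ => ?_
    rw [show (χ : G → ℂ) n = (χ : G → ℂ) ((Subgroup.inclusion hNJ n : J) : G) from rfl, hm χ,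
      Finset.sum_mul, Finset.mul_sum]
    exact Finset.sum_congr rfl fun φ _ => by ring
  rw [e, Nat.cast_ne_zero]
  have hcη : c η = 1 := by
    have := hc η
    rw [show (fun n : N => (η : J → ℂ) (Subgroup.inclusion hNJ n)) = (θ : N → ℂ) from funext hη,
      classInner_self_irr θ.2] at this
    exact_mod_cast this.symm
  intro h
  have := (Finset.sum_eq_zero_iff.1 h) η (Finset.mem_univ _)
  rw [hcη, mul_one] at this
  exact hmη this

end Cfsg.Agent.BrauerPairs
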