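/-
A stable block of a normal subgroup of `p`-power index under a block with abelian defect group.
-/
import Cfsg.Agent.Lib.Star.CenterCount
import Cfsg.Agent.Lib.BrauerPairs.AbelianInertia
import Cfsg.Agent.Lib.Blocks.CoverAll

set_option linter.unusedSectionVars false
set_option linter.style.haveILetI false

namespace Cfsg.Agent.AbelianPIndex

open Cfsg Cfsg.Agent.Blocks Cfsg.Agent.BrauerPairs Cfsg.Agent.Char Cfsg.Agent.Star
open scoped ComplexConjugate

universe u

variable {G : Type u} [Group G] [Fintype G] {p : ℕ} [Fact p.Prime] {M : Ideal AlgInt} [M.IsPrime]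
  {B : Set (IrrCharacter G)} {N : Subgroup G} [N.Normal]

/-- Multiplication by a linear character of the quotient is a star product. -/
theorem star_global [CharP (resField M) p] {a : Pr (resField M) G} (hM : IsPModular p M)
    (hB : IsPBlock M B) (hmax : IsMax p (Ek M B) a) (hN : ∃ k : ℕ, N.index = p ^ k)
    (ν : G →* ℂˣ) (hν : N ≤ ν.ker) {χ : IrrCharacter G} (hχ : χ ∈ B) :
    IsTriv p a (ν.comp a.1.subtype) ∧
      star p a (chFun (ν.comp a.1.subtype)) χ = fun x => (ν x : ℂ) * (χ : G → ℂ) x := by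
  classical
  have htriv : IsTriv p a (ν.comp a.1.subtype) := by
    intro g b _ _ u _ h₁ h₂
    show ν (g * u * g⁻¹) = ν u
    rw [map_mul, map_mul, map_inv, mul_comm (ν g), mul_inv_cancel_right]
  refine ⟨htriv, funext fun x => ?_⟩
  have hsec := isSec_parts (p := p) x
  let s : secC (pp p x) := ⟨rp p x, mem_secC.2 hsec.comm.eq.symm⟩
  have hs : ¬ p ∣ orderOf s := by rw [← Subgroup.orderOf_coe]; exact hsec.reg
  have hx : x = pp p x * (s : G) := (pp_mul_rp x).symm
  have hνx : ν x = ν (pp p x) := by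
    rw [hx, map_mul, show ν (s : G) = 1 from hν (mem_of_pow_pRegular hN hsec.reg), mul_one,
      hsec.pp_eq]
  rw [hνx]
  conv_lhs => rw [hx, starFun_section hM hsec.pow χ hs]
  have hcl : IsClassFunction (secC (pp p x)) (secFun (pp p x) (secC (pp p x)) (χ : G → ℂ)) :=
    isClassFunction_secFun (secC_eq _) (IsCharacter.isClassFunction (irr_isCharacter χ))
  have hs' := sum_blockPart (M := M) hcl s
  rw [show secFun (pp p x) (secC (pp p x)) (χ : G → ℂ) s = (χ : G → ℂ) x from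
    congrArg (χ : G → ℂ) hx.symm] at hs'
  rw [← hs', Finset.mul_sum]
  refine Finset.sum_congr rfl fun b hb => ?_
  by_cases hp : IsPairOf p ⊤ (Ek M B) (Subgroup.zpowers (pp p x), zB M (secC (pp p x)) b)
  · obtain ⟨g, hg⟩ := exists_subLE_of_pairOf hmax hp
    have hm : g * pp p x * g⁻¹ ∈ a.1 := hg.le (mem_cjS_of_eq (g := g) (Subgroup.mem_zpowers _))
    rw [val_eq (isStarFn_chFun htriv) hg, chFun_mem _ hm]
    congr 2
    show ν (g * pp p x * g⁻¹) = ν (pp p x)
    rw [map_mul, map_mul, map_inv, mul_comm (ν g), mul_inv_cancel_right]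
  · rw [blockPart_eq_zero_of_not_pair hM hB hsec.pow hχ (mem_blocks.1 hb) hp hs, mul_zero, mul_zero]

theorem counts (hM : IsPModular p M) [iN : Fintype N] (hN : ∃ k : ℕ, N.index = p ^ k)
    {b : Set (IrrCharacter N)} (hb : IsPBlock M b) (hstab : ∀ g : G, StabilizesBlock N b g)
    (hB : IsPBlock M B)
    (hcov : ∃ χ ∈ B, ∃ θ ∈ b, classInner (fun n : N => (χ : G → ℂ) n) (θ : N → ℂ) ≠ 0)
    {P : Subgroup G} (hPD : IsDefectGroup p M B P) (hPab : ∀ x ∈ P, ∀ y ∈ P, x * y = y * x) :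
    N ⊔ P = ⊤ ∧ IsDefectGroup p M b ((P ⊓ N).subgroupOf N) ∧
      (∀ χ ∈ B, ∃ θ ∈ b, ∀ n : N, (χ : G → ℂ) n = (θ : N → ℂ) n) ∧
      (∀ θ ∈ b, Nat.card {χ : IrrCharacter G //
        χ ∈ B ∧ ∀ n : N, (χ : G → ℂ) n = (θ : N → ℂ) n} = N.index) ∧
      Nat.card B = N.index * Nat.card b ∧ blockRank p B = blockRank p b := by
  classical
  haveI : CharP (resField M) p := resField_charP hM
  obtain rfl : iN = fintypeSubgroupBP N := Subsingleton.elim _ _
  have hst : ∀ x : G, cj x (zB M N b) = zB M N b := fun x =>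
    (stabilizesBlock_iff hb (hstab x).1).1 (hstab x)
  obtain ⟨B', hB', hBe, -⟩ := exists_block_stable hM hN hb hstab
  obtain rfl : B' = B := by
    refine (existsUnique_covering N hM hN hb).unique ⟨hB', ?_⟩ ⟨hB, hcov⟩
    rw [covers_iff_mul_ne_zero N hB' hb, hBe, (isBlk_zB N hb).idem]
    exact (isBlk_zB N hb).ne_zero
  have hD := (isDefectGroup_iff hB P).1 hPD
  obtain ⟨hsup, hdN⟩ := defect_of_stable hM hN (isBlk_zB N hb) hst (hBe ▸ hD)
  have hdb : IsDefectGroup p M b ((P ⊓ N).subgroupOf N) :=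
    (isDefectGroup_subgroupOf_iff hb inf_le_right).2 hdN
  obtain ⟨e, he⟩ := exists_pairOf_defGrp (isBlk_Ek hB) hD
  have hmax : IsMax p (Ek M B') ((P, e) : Pr (resField M) G) := ⟨he, hD⟩
  have hPC : P ≤ Subgroup.centralizer (P : Set G) := fun x hx =>
    Subgroup.mem_centralizer_iff.2 fun y hy => hPab y hy x hx
  have hrepr : ∀ q : G ⧸ N, ∃ v ∈ P, (v : G ⧸ N) = q := by
    intro q
    induction q using QuotientGroup.induction_on with
    | _ g =>
      obtain ⟨n, hn, v, hv, rfl⟩ :=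
        Subgroup.mem_sup_of_normal_left.1 (hsup.symm ▸ Subgroup.mem_top g)
      exact ⟨v, hv, by rw [QuotientGroup.mk_mul, (QuotientGroup.eq_one_iff n).2 hn, one_mul]⟩
  letI : CommGroup (G ⧸ N) :=
    { (inferInstance : Group (G ⧸ N)) with
      mul_comm := fun q q' => by
        obtain ⟨v, hv, rfl⟩ := hrepr q
        obtain ⟨w, hw, rfl⟩ := hrepr q'
        rw [← QuotientGroup.mk_mul, ← QuotientGroup.mk_mul, hPab v hv w hw] }
  let Λ := (G ⧸ N) →* ℂˣ
  haveI : Fintype Λ := Fintype.ofFinite _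
  have hcard : Nat.card Λ = N.index :=
    CommGroup.card_monoidHom_of_hasEnoughRootsOfUnity (G ⧸ N) ℂ
  let nu : Λ → G →* ℂˣ := fun l => l.comp (QuotientGroup.mk' N)
  have hker : ∀ l, N ≤ (nu l).ker := fun l n hn => by
    show l (QuotientGroup.mk' N n) = 1
    rw [show (QuotientGroup.mk' N n) = 1 from (QuotientGroup.eq_one_iff n).2 hn, map_one]
  have hsumΛ : ∀ g : G, ∑ l : Λ, (nu l g : ℂ) = if g ∈ N then (N.index : ℂ) else 0 := by
    intro g
    split_ifs with hg
    · rw [Finset.sum_congr rfl fun l _ => by rw [show nu l g = 1 from hker l hg, Units.val_one],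
        Finset.sum_const, Finset.card_univ, ← Nat.card_eq_fintype_card, hcard, nsmul_eq_mul,
        mul_one]
    · have hq : (g : G ⧸ N) ≠ 1 := fun h => hg ((QuotientGroup.eq_one_iff g).1 h)
      obtain ⟨l₀, hl₀⟩ := CommGroup.exists_apply_ne_one_of_hasEnoughRootsOfUnity (G ⧸ N) ℂ hq
      have h1 : (l₀ (g : G ⧸ N) : ℂ) * ∑ l : Λ, (nu l g : ℂ) = ∑ l : Λ, (nu l g : ℂ) := by
        rw [Finset.mul_sum]
        refine Fintype.sum_equiv (Equiv.mulLeft l₀) _ _ fun l => ?_
        simp [nu, Units.val_mul]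
      by_contra h0
      exact hl₀ (Units.ext ((mul_right_cancel₀ h0 (h1.trans (one_mul _).symm)).trans
        Units.val_one.symm))
  have hact : ∀ (l : Λ) (χ : IrrCharacter G), χ ∈ B' → ∃ ψ : IrrCharacter G, ψ ∈ B' ∧
      (ψ : G → ℂ) = (fun x => (nu l x : ℂ) * (χ : G → ℂ) x) ∧ ((ψ = χ) → l = 1) := by
    intro l χ hχ
    obtain ⟨htriv, hstar⟩ := star_global hM hB hmax hN (nu l) (hker l) hχ
    obtain ⟨ψ, hψ, hψe⟩ := exists_linMul hM hB hmax htriv hχ
    refine ⟨ψ, hψ, hψe.trans hstar, fun he => MonoidHom.ext fun q => ?_⟩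
    obtain ⟨v, hv, rfl⟩ := hrepr q
    exact lam_eq_one_of_fixed hM hB hmax htriv hχ (by rw [← hψe, he]) hv (hPC hv)
  choose act hact1 hact2 hact3 using hact
  have hkey : ∀ χ : IrrCharacter G, ∀ hχ : χ ∈ B', ∀ φ : IrrCharacter G,
      classInner (fun n : N => (φ : G → ℂ) n) (fun n : N => (χ : G → ℂ) n) =
        ∑ l : Λ, classInner (φ : G → ℂ) (act l χ hχ : G → ℂ) := by
    intro χ hχ φ
    have hN0 : (Nat.card N : ℂ) ≠ 0 := Nat.cast_ne_zero.2 Nat.card_pos.ne'
    have hi0 : (N.index : ℂ) ≠ 0 := Nat.cast_ne_zero.2 Subgroup.index_ne_zero_of_finite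
    simp only [classInner, hact2, map_mul, ← Finset.mul_sum]
    rw [Finset.sum_comm]
    rw [Finset.sum_congr rfl fun g _ => show
        ∑ l : Λ, (φ : G → ℂ) g * (conj (nu l g : ℂ) * conj ((χ : G → ℂ) g)) =
          if g ∈ N then (N.index : ℂ) * ((φ : G → ℂ) g * conj ((χ : G → ℂ) g)) else 0 by
      rw [← Finset.mul_sum, ← Finset.sum_mul, ← map_sum, hsumΛ]
      split_ifs <;> simp <;> ring]
    rw [← Finset.sum_filter, Finset.sum_subtype _ (p := (· ∈ N)) (fun x => by simp),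
      ← Finset.mul_sum, ← N.card_mul_index, Nat.cast_mul]
    field_simp
  have hnorm : ∀ χ ∈ B', classInner (fun n : N => (χ : G → ℂ) n) (fun n : N => (χ : G → ℂ) n) = 1 := by
    intro χ hχ
    rw [hkey χ hχ χ, Finset.sum_eq_single (1 : Λ)]
    · rw [hact2]
      have e : (fun x => ((nu 1 x : ℂˣ) : ℂ) * (χ : G → ℂ) x) = (χ : G → ℂ) := by
        funext x; simp [nu]
      rw [e, classInner_self_irr χ.2]
    · exact fun l _ hl => classInner_irr_of_ne χ.2 (act l χ hχ).2 fun e =>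
        hl (hact3 l χ hχ (Subtype.ext e.symm))
    · exact fun h => absurd (Finset.mem_univ _) h
  have hirr : ∀ χ ∈ B', IsIrrCharacter N (fun n : N => (χ : G → ℂ) n) := by
    intro χ hχ
    rcases IsGeneralizedCharacter.of_norm_one
      (IsGeneralizedCharacter.of_isCharacter (IsCharacter.restrict (irr_isCharacter χ) N))
      (hnorm χ hχ) with h | h
    · exact h
    · exfalso
      have h1 := irr_one_eq_charDegree (⟨_, h⟩ : IrrCharacter N)
      have h2 : -((χ : G → ℂ) 1) = _ := h1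
      rw [irr_one_eq_charDegree χ] at h2
      have h3 := congrArg Complex.re h2
      simp only [Complex.neg_re, Complex.natCast_re] at h3
      have h4 : (0 : ℝ) < (charDegree (χ : G → ℂ) : ℝ) := Nat.cast_pos.2 (charDegree_pos χ)
      linarith [Nat.cast_nonneg (α := ℝ)
        (charDegree (((⟨_, h⟩ : IrrCharacter N) : IrrCharacter N) : N → ℂ))]
  obtain ⟨χ₀, hχ₀, θ₀, hθ₀, hc₀⟩ := hcov
  have hres : ∀ χ ∈ B', ∃ θ ∈ b, ∀ n : N, (χ : G → ℂ) n = (θ : N → ℂ) n := by
    intro χ hχ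
    let ψ : IrrCharacter N := ⟨_, hirr χ hχ⟩
    have hψ : classInner (fun n : N => (χ : G → ℂ) n) (ψ : N → ℂ) ≠ 0 := by
      rw [classInner_self_irr (hirr χ hχ)]
      exact one_ne_zero
    obtain ⟨g, θ', hθ', he⟩ := constituents_conjugate_blocks N hB hb hχ₀ hθ₀ hc₀ hχ hψ
    obtain ⟨-, h2⟩ := hstab g⁻¹
    obtain ⟨θ'', hθ'', hconj⟩ := h2 θ' hθ'
    refine ⟨θ'', hθ'', fun n => ?_⟩
    have e1 : (χ : G → ℂ) n = conjChar N g (θ' : N → ℂ) n := congrFun he n
    rw [e1, conjChar]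
    exact (hconj (Cfsg.Agent.Char.conjHom N g n) n (by simp [mul_assoc])).symm
  have hfibre : ∀ θ ∈ b, Nat.card {χ : IrrCharacter G //
      χ ∈ B' ∧ ∀ n : N, (χ : G → ℂ) n = (θ : N → ℂ) n} = N.index := by
    intro θ hθ
    obtain ⟨χ₁, hχ₁, hc₁⟩ := exists_over_of_covers N hB hb hχ₀ hθ₀ hc₀ hθ
    obtain ⟨θ₁, -, hθ₁⟩ := hres χ₁ hχ₁
    obtain rfl : θ₁ = θ := by
      by_contra hne
      refine hc₁ ?_
      rw [show (fun n : N => (χ₁ : G → ℂ) n) = (θ₁ : N → ℂ) from funext hθ₁]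
      exact classInner_irr_of_ne θ₁.2 θ.2 fun e => hne (Subtype.ext e)
    rw [← hcard]
    refine (Nat.card_eq_of_bijective (fun l : Λ => (⟨act l χ₁ hχ₁, hact1 l χ₁ hχ₁, fun n => by
      rw [hact2]
      show ((nu l (n : G) : ℂˣ) : ℂ) * (χ₁ : G → ℂ) n = _
      rw [show nu l (n : G) = 1 from hker l n.2, Units.val_one, one_mul, hθ₁ n]⟩ :
      {χ : IrrCharacter G // χ ∈ B' ∧ ∀ n : N, (χ : G → ℂ) n = (θ₁ : N → ℂ) n})) ⟨?_, ?_⟩).symm
    · intro l l' e
      have e' : (act l χ₁ hχ₁ : G → ℂ) = (act l' χ₁ hχ₁ : G → ℂ) :=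
        congrArg (fun q => ((q.1 : IrrCharacter G) : G → ℂ)) e
      rw [hact2, hact2] at e'
      have e2 : (act (l'⁻¹ * l) χ₁ hχ₁ : G → ℂ) = (χ₁ : G → ℂ) := by
        rw [hact2]
        funext x
        have h := congrFun e' x
        have hu : ((nu (l'⁻¹ * l) x : ℂˣ) : ℂ) = ((nu l' x : ℂˣ) : ℂ)⁻¹ * (nu l x : ℂ) := by
          rw [show nu (l'⁻¹ * l) x = (nu l' x)⁻¹ * nu l x from rfl, Units.val_mul,
            Units.val_inv_eq_inv_val]
        show ((nu (l'⁻¹ * l) x : ℂˣ) : ℂ) * (χ₁ : G → ℂ) x = _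
        rw [hu, mul_assoc]
        rw [show ((nu l x : ℂˣ) : ℂ) * (χ₁ : G → ℂ) x = (nu l' x : ℂ) * (χ₁ : G → ℂ) x from h,
          inv_mul_cancel_left₀ (Units.ne_zero _)]
      exact (inv_mul_eq_one.1 (hact3 _ χ₁ hχ₁ (Subtype.ext e2))).symm
    · rintro ⟨φ, hφ, hφe⟩
      have h1 : ∑ l : Λ, classInner (φ : G → ℂ) (act l χ₁ hχ₁ : G → ℂ) ≠ 0 := by
        rw [← hkey χ₁ hχ₁ φ, show (fun n : N => (φ : G → ℂ) n) = (θ₁ : N → ℂ) from funext hφe,
          show (fun n : N => (χ₁ : G → ℂ) n) = (θ₁ : N → ℂ) from funext hθ₁,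
          classInner_self_irr θ₁.2]
        exact one_ne_zero
      obtain ⟨l, -, hl⟩ := Finset.exists_ne_zero_of_sum_ne_zero h1
      refine ⟨l, Subtype.ext ?_⟩
      by_contra hne
      exact hl (classInner_irr_of_ne φ.2 (act l χ₁ hχ₁).2 fun e => hne (Subtype.ext e.symm))
  refine ⟨hsup, hdb, hres, hfibre, ?_, ?_⟩
  · choose r hr1 hr2 using hres
    rw [Nat.card_congr (Equiv.sigmaFiberEquiv fun χ : B' => (⟨r χ.1 χ.2, hr1 χ.1 χ.2⟩ : b)).symm,
      Nat.card_sigma]
    rw [Finset.sum_congr rfl fun θ _ => show _ = N.index by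
      rw [← hfibre θ.1 θ.2]
      refine Nat.card_congr
        { toFun := fun χ => ⟨χ.1.1, χ.1.2, fun n => by
            rw [hr2 χ.1.1 χ.1.2 n, show r χ.1.1 χ.1.2 = θ.1 from congrArg Subtype.val χ.2]⟩
          invFun := fun χ => ⟨⟨χ.1, χ.2.1⟩, Subtype.ext (Subtype.ext (funext fun n => by
            rw [← hr2 χ.1 χ.2.1 n, χ.2.2 n]))⟩
          left_inv := fun _ => rfl
          right_inv := fun _ => rfl }]
    rw [Finset.sum_const, Finset.card_univ, ← Nat.card_eq_fintype_card, smul_eq_mul, mul_comm]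
  · let E : (N → ℂ) →ₗ[ℂ] (G → ℂ) :=
      { toFun := fun f g => if h : g ∈ N then f ⟨g, h⟩ else 0
        map_add' := fun f f' => funext fun g => by by_cases h : g ∈ N <;> simp [h]
        map_smul' := fun c f => funext fun g => by by_cases h : g ∈ N <;> simp [h] }
    have hEinj : Function.Injective E := fun f f' h => funext fun n => by
      have := congrFun h (n : G)
      simpa [E] using this
    have hE : ∀ (χ : IrrCharacter G) (θ : IrrCharacter N),
        (∀ n : N, (χ : G → ℂ) n = (θ : N → ℂ) n) →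
        E (pRegularPart p (θ : N → ℂ)) = pRegularPart p (χ : G → ℂ) := by
      intro χ θ h
      funext g
      show (if hg : g ∈ N then pRegularPart p (θ : N → ℂ) ⟨g, hg⟩ else 0) = _
      rw [pRegularPart_apply (G := G)]
      by_cases hg : g ∈ N
      · rw [dif_pos hg, pRegularPart_apply, ← h ⟨g, hg⟩, ← Subgroup.orderOf_coe]
      · rw [dif_neg hg, if_pos]
        by_contra hd
        exact hg (mem_of_pow_pRegular hN hd)
    have himg : (fun χ : IrrCharacter G => pRegularPart p (χ : G → ℂ)) '' B' =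
        E '' ((fun θ : IrrCharacter N => pRegularPart p (θ : N → ℂ)) '' b) := by
      ext f
      constructor
      · rintro ⟨χ, hχ, rfl⟩
        obtain ⟨θ, hθ, h⟩ := hres χ hχ
        exact ⟨_, ⟨θ, hθ, rfl⟩, hE χ θ h⟩
      · rintro ⟨_, ⟨θ, hθ, rfl⟩, rfl⟩
        obtain ⟨χ, hχ, hc⟩ := exists_over_of_covers N hB hb hχ₀ hθ₀ hc₀ hθ
        obtain ⟨θ', hθ', h⟩ := hres χ hχ
        obtain rfl : θ' = θ := by
          by_contra hne
          refine hc ?_
          rw [show (fun n : N => (χ : G → ℂ) n) = (θ' : N → ℂ) from funext h]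
          exact classInner_irr_of_ne θ'.2 θ.2 fun e => hne (Subtype.ext e)
        exact ⟨χ, hχ, (hE χ θ' h).symm⟩
    rw [blockRank, blockRank, himg, ← Submodule.map_span]
    exact (LinearEquiv.finrank_eq (Submodule.equivMapOfInjective E hEinj _)).symm

end Cfsg.Agent.AbelianPIndex
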