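/-
Blocks with cyclic defect group: local ranks, and nilpotency from rank one.
-/
import Cfsg.Agent.Lib.BrauerPairs.FreeInertia
import Cfsg.Agent.Lib.BlockAlg.CyclicRankOne

set_option linter.unusedSectionVars false
set_option linter.style.haveILetI false

namespace Cfsg.Agent.BrauerPairs

open Cfsg MonoidAlgebra Cfsg.Agent.Blocks

universe u

variable {G : Type u} [Group G] [Fintype G] {p : ℕ} [Fact p.Prime] {M : Ideal AlgInt} [M.IsPrime]
  {B : Set (IrrCharacter G)} {P : Subgroup G}
  {c : Set (IrrCharacter (Subgroup.centralizer (P : Set G)))}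

theorem cyclic_le_centralizer (hcyc : IsCyclic P) : P ≤ Subgroup.centralizer (P : Set G) := by
  obtain ⟨g, hg⟩ := IsCyclic.exists_generator (α := P)
  intro u hu
  refine Subgroup.mem_centralizer_iff.2 fun v hv => ?_
  obtain ⟨i, hi⟩ := Subgroup.mem_zpowers_iff.1 (hg ⟨u, hu⟩)
  obtain ⟨j, hj⟩ := Subgroup.mem_zpowers_iff.1 (hg ⟨v, hv⟩)
  have := congrArg Subtype.val ((Commute.zpow_zpow_self g j i).eq)
  rw [hi, hj] at this
  exact this

theorem cyclic_free (hM : IsPModular p M) (hPD : IsDefectGroup p M B P) (hcyc : IsCyclic P)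
    (hc : IsInducedBlock M (Subgroup.centralizer (P : Set G)) c B) {g : G}
    (hg : g ∈ stabP (P, zB M (Subgroup.centralizer (P : Set G)) c)) {x : G} (hx : x ∈ P)
    (hx1 : x ≠ 1) (hfix : g * x * g⁻¹ = x) : g ∈ Subgroup.centralizer (P : Set G) := by
  haveI : CharP (resField M) p := resField_charP hM
  let C := Subgroup.centralizer (P : Set G)
  let T := stabP (P, zB M C c)
  have hTN : T ≤ Subgroup.normalizer (P : Set G) := stabP_le_normalizer _
  haveI : (C.subgroupOf T).Normal := Subgroup.normal_subgroupOf_of_le_normalizer (fun u hu =>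
    mem_normalizer_of_cjS_eq (by rw [cjS_centralizer, cjS_eq_of_mem_normalizer (hTN hu)]))
  have hpow : ∀ u ∈ T, u ^ C.relIndex T ∈ C := fun u hu =>
    Subgroup.mem_subgroupOf.1 (Subgroup.pow_index_mem (C.subgroupOf T) ⟨u, hu⟩)
  exact mem_centralizer_of_fix ((isDefectGroup_iff hc.2.1 P).1 hPD).pgroup hcyc hTN
    (not_dvd_inertia hM hPD (cyclic_le_centralizer hcyc) hc) hpow hg hx hx1 hfix

/-- A block of rank one with cyclic defect group has trivial inertia. -/
theorem stabP_le_centralizer_of_rank_one (hM : IsPModular p M) (hl : blockRank p B = 1)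
    (hPD : IsDefectGroup p M B P) (hcyc : IsCyclic P)
    (hc : IsInducedBlock M (Subgroup.centralizer (P : Set G)) c B) :
    stabP (P, zB M (Subgroup.centralizer (P : Set G)) c) ≤
      Subgroup.centralizer (P : Set G) :=
  stabP_le_centralizer_of_free hM hl hPD (cyclic_le_centralizer hcyc) hc
    (fun _ hg _ hx hx1 hfix => cyclic_free hM hPD hcyc hc hg hx hx1 hfix)
    (BlockAlg.card_defect_le_card hM hc.2.1 hl hPD hcyc)

/-- Local blocks at nonidentity elements of a cyclic defect group have rank one. -/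
theorem cyclic_local_rank_one (hM : IsPModular p M) (hPD : IsDefectGroup p M B P)
    (hcyc : IsCyclic P) (hc : IsInducedBlock M (Subgroup.centralizer (P : Set G)) c B) {x : G}
    (hx : x ∈ P) (hx1 : x ≠ 1) {f : Set (IrrCharacter (Subgroup.centralizer ({x} : Set G)))}
    (hf : IsInducedBlockIn M (Subgroup.centralizer ({x} : Set G))
      (Subgroup.centralizer (P : Set G)) c f) : blockRank p f = 1 :=
  free_local_rank_one hM hPD (cyclic_le_centralizer hcyc) hc
    (fun _ hg _ hx hx1 hfix => cyclic_free hM hPD hcyc hc hg hx hx1 hfix) hx hx1 hf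

/-- A block with cyclic defect group is nilpotent iff it has rank one. -/
theorem cyclic_nilpotent_iff (hM : IsPModular p M) (hB : IsPBlock M B)
    (hPD : IsDefectGroup p M B P) (hcyc : IsCyclic P) :
    IsNilpotentBlock p M B ↔ blockRank p B = 1 := by
  haveI : CharP (resField M) p := resField_charP hM
  have hPC := cyclic_le_centralizer hcyc
  refine ⟨fun h => blockRank_eq_one_of_nilpotent_abelian hM h hPD hPC, fun hl => ?_⟩
  have hD := (isDefectGroup_iff hB P).1 hPD
  obtain ⟨e, he⟩ := exists_pairOf_defGrp (isBlk_Ek hB) hD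
  obtain ⟨c, hcb, hce⟩ := exists_eq_zB he.pair.blkC
  replace hce : zB M (Subgroup.centralizer (P : Set G)) c = e := hce
  rw [← hce] at he
  have hc : IsInducedBlock M (Subgroup.centralizer (P : Set G)) c B :=
    induced_of_pairOf hM hcb hB (pairOf_self (M := M) hcb hD.pgroup hPC rfl) le_rfl he
  exact (isNilpotentBlock_iff hM).2 ⟨hB, (isNilB_iff_abelian ⟨he, hD⟩ hPC).2
    (stabP_le_centralizer_of_rank_one hM hl hPD hcyc hc)⟩

end Cfsg.Agent.BrauerPairs
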