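/-
Short integer vectors for a block with abelian defect group and free inertia.
-/
import Cfsg.Agent.Lib.Star.Abelian.Count
import Cfsg.Agent.Lib.Blocks.ExceptionalCoherence
import Cfsg.Agent.Lib.Blocks.ProjectiveVectors
import Cfsg.Agent.Lib.BrauerPairs.CyclicNilpotent

set_option linter.unusedSectionVars false
set_option linter.style.haveILetI false

namespace Cfsg.Agent.ProjVec

open Cfsg Cfsg.Agent.Blocks Cfsg.Agent.Char Cfsg.Agent.BrauerPairs
open scoped ComplexConjugate

universe u w

/-- Integer vectors orthogonal to rows of inner products `δ + e`, of small total length. -/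
theorem exists_dual {β : Type w} [Fintype β] [DecidableEq β] {m e : ℕ} (hm : 2 ≤ m)
    (x : β → Fin m → ℤ)
    (hgram : ∀ i i', ∑ b, x b i * x b i' = (if i = i' then 1 else 0) + (e : ℤ))
    (hnz : ∀ b, ∃ i, x b i ≠ 0) (hk : m + 1 ≤ Fintype.card β)
    (deg : β → ℤ) (hdeg : ∀ b, 0 < deg b) (h0 : ∀ i, ∑ b, x b i * deg b = 0) :
    ∃ z : β → β → ℤ, (∀ k i, ∑ b, z k b * x b i = 0) ∧
      ∑ k, ∑ b, z k b ^ 2 ≤ (m : ℤ) * e + 1 ∧
      (∀ a g : β → ℂ, (∀ k, ∑ b, a b * (z k b : ℂ) = 0) → (∀ i, ∑ b, (x b i : ℂ) * g b = 0) →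
        ∑ b, a b * g b = 0) ∧
      ∀ c : Fin m → ℂ, (∀ b, ∑ i, c i * (x b i : ℂ) = 0) → c = 0 := by
  classical
  obtain ⟨δ, η, hδ, -, hinj, hdiff⟩ := Cfsg.Agent.ExPrincipal.coherent (Finset.univ : Finset β)
    (Finset.univ : Finset (Fin m)) (fun i b => x b i) deg
    (by rw [Finset.card_univ, Fintype.card_fin]; exact hm) (fun b _ => hdeg b)
    (fun i _ j _ k _ l _ => by
      simp only [sub_mul, mul_sub, Finset.sum_sub_distrib, hgram]
      ring)
    (fun i _ j _ => by simp only [sub_mul, Finset.sum_sub_distrib, h0, sub_zero])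
  have hinj' : Function.Injective η := fun i j h =>
    hinj (Finset.mem_coe.2 (Finset.mem_univ i)) (Finset.mem_coe.2 (Finset.mem_univ j)) h
  have hδ2 : δ * δ = 1 := by rcases hδ with h | h <;> rw [h] <;> norm_num
  set i₀ : Fin m := ⟨0, by omega⟩ with hi₀
  let base : β → ℤ := fun b => x b i₀ - δ * (if b = η i₀ then 1 else 0)
  have hform : ∀ b i, x b i = base b + δ * (if b = η i then 1 else 0) := by
    intro b i
    have h := hdiff i (Finset.mem_univ i) i₀ (Finset.mem_univ i₀) b (Finset.mem_univ b)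
    simp only [Cfsg.Agent.ExPrincipal.ud] at h
    simp only [base]
    linear_combination h
  have hQ : ∀ i, base (η i) = base (η i₀) := by
    have key : ∀ i, ∑ b, base b ^ 2 + 2 * δ * base (η i) + 1 = 1 + (e : ℤ) := by
      intro i
      have h := hgram i i
      rw [if_pos rfl, Finset.sum_congr rfl fun b _ => show x b i * x b i =
        base b ^ 2 + (if b = η i then 2 * δ * base (η i) + 1 else 0) by
          rw [hform b i]
          by_cases hb : b = η i
          · rw [if_pos hb, if_pos hb, hb]; linear_combination hδ2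
          · rw [if_neg hb, if_neg hb]; ring,
        Finset.sum_add_distrib, Finset.sum_ite_eq' Finset.univ (η i)
          (fun _ => 2 * δ * base (η i) + 1), if_pos (Finset.mem_univ _)] at h
      linarith
    intro i
    have h1 := key i
    have h2 := key i₀
    rcases hδ with h | h <;> rw [h] at h1 h2 <;> linarith
  set Q := base (η i₀) with hQdef
  set R := (Finset.univ : Finset (Fin m)).image η with hR
  set Cs := Rᶜ with hCs
  have hRcard : R.card = m := by
    rw [hR, Finset.card_image_of_injective _ hinj', Finset.card_univ, Fintype.card_fin]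
  have hoff : ∀ b ∈ Cs, ∀ i, x b i = base b := fun b hb i => by
    rw [hform, if_neg (show b ≠ η i from fun h => Finset.mem_compl.1 hb
      (h ▸ Finset.mem_image_of_mem _ (Finset.mem_univ i))), mul_zero, add_zero]
  have hsplit : ∀ f : β → ℤ, ∑ b, f b = ∑ b ∈ Cs, f b + ∑ j, f (η j) := fun f => by
    rw [← Finset.sum_compl_add_sum R, hR, Finset.sum_image fun a _ b _ h => hinj' h]
  have hsplitC : ∀ f : β → ℂ, ∑ b, f b = ∑ b ∈ Cs, f b + ∑ j, f (η j) := fun f => by
    rw [← Finset.sum_compl_add_sum R, hR, Finset.sum_image fun a _ b _ h => hinj' h]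
  have hrow : ∀ j i, x (η j) i = Q + δ * (if j = i then 1 else 0) := fun j i => by
    rw [hform, hQ]
    by_cases h : j = i
    · subst h; simp
    · rw [if_neg h, if_neg fun h' => h (hinj' h')]
  obtain ⟨b₀, hb₀, hmin⟩ := Finset.exists_min_image Cs (fun b => base b ^ 2)
    (Finset.card_pos.1 (by rw [hCs, Finset.card_compl, hRcard]; omega))
  set c₀ := base b₀ with hc₀
  have hc0 : c₀ ≠ 0 := fun h => by
    obtain ⟨i, hi⟩ := hnz b₀
    exact hi (by rw [hoff b₀ hb₀ i, ← hc₀, h])
  set Rr := (m : ℤ) * Q + δ with hRr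
  let z : β → β → ℤ := fun k b => if k ∈ R then 0 else if k = b₀ then
      (if b = b₀ then Rr else if b ∈ R then -c₀ else 0)
    else (if b = k then c₀ else if b = b₀ then -base k else 0)
  have hnR : ∀ b ∈ Cs, b ∉ R := fun b hb => Finset.mem_compl.1 hb
  have hzR : ∀ j, η j ∈ R := fun j => Finset.mem_image_of_mem _ (Finset.mem_univ j)
  have hzb : ∀ b, z b₀ b = if b = b₀ then Rr else if b ∈ R then -c₀ else 0 := fun b => by
    simp only [z, if_neg (hnR b₀ hb₀), if_true]
  have hzk : ∀ k ∈ Cs, k ≠ b₀ → ∀ b,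
      z k b = (if b = k then c₀ else 0) + (if b = b₀ then -base k else 0) := fun k hk hne b => by
    simp only [z, if_neg (hnR k hk), if_neg hne]
    by_cases h : b = k
    · rw [if_pos h, if_pos h, if_neg (h ▸ hne), add_zero]
    · rw [if_neg h, if_neg h, zero_add]
  have hzs : ∀ f : β → ℂ, ∀ k ∈ Cs, k ≠ b₀ →
      ∑ b, (z k b : ℂ) * f b = (c₀ : ℂ) * f k - (base k : ℂ) * f b₀ := fun f k hk hne => by
    simp only [hzk k hk hne, Int.cast_add, apply_ite (Int.cast : ℤ → ℂ), Int.cast_zero, add_mul,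
      Finset.sum_add_distrib, ite_mul, zero_mul, Finset.sum_ite_eq', Finset.mem_univ, if_true]
    push_cast
    ring
  have hzs₀ : ∀ f : β → ℂ,
      ∑ b, (z b₀ b : ℂ) * f b = (Rr : ℂ) * f b₀ - (c₀ : ℂ) * ∑ j, f (η j) := fun f => by
    rw [hsplitC, Finset.sum_eq_single_of_mem b₀ hb₀ fun b hb hne => by
      rw [hzb, if_neg hne, if_neg (hnR b hb)]; simp]
    rw [hzb, if_pos rfl, Finset.mul_sum, sub_eq_add_neg, ← Finset.sum_neg_distrib]
    congr 1
    refine Finset.sum_congr rfl fun j _ => ?_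
    rw [hzb, if_neg (show η j ≠ b₀ from fun h => hnR b₀ hb₀ (h ▸ hzR j)), if_pos (hzR j)]
    push_cast
    ring
  refine ⟨z, fun k i => ?_, ?_, fun a g ha hg => ?_, fun c hc => ?_⟩
  · apply Int.cast_injective (α := ℂ)
    push_cast
    by_cases hk' : k ∈ R
    · simp [z, hk']
    by_cases hne : k = b₀
    · subst hne
      rw [hzs₀ fun b => (x b i : ℂ)]
      simp only [hrow, hoff _ hb₀, hc₀, hRr]
      push_cast
      simp only [Finset.sum_add_distrib, Finset.sum_const, Finset.card_univ, Fintype.card_fin,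
        nsmul_eq_mul, mul_ite, mul_one, mul_zero, Finset.sum_ite_eq', Finset.mem_univ, if_true]
      ring
    · have hk'' := Finset.mem_compl.2 hk'
      rw [hzs (fun b => (x b i : ℂ)) k hk'' hne, hoff _ hb₀, hoff _ hk'', hc₀]
      ring
  · set A := ∑ b ∈ Cs, base b ^ 2 with hA
    have hAe : A + (m : ℤ) * Q ^ 2 + 2 * δ * Q = e := by
      have h := hgram i₀ i₀
      rw [if_pos rfl, hsplit, Finset.sum_congr rfl fun b hb => show x b i₀ * x b i₀ = base b ^ 2 by
        rw [hoff b hb, sq], ← hA, Finset.sum_congr rfl fun j _ => show x (η j) i₀ * x (η j) i₀ =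
          Q ^ 2 + (if j = i₀ then 2 * δ * Q + 1 else 0) by
          rw [hrow]
          by_cases hj : j = i₀
          · rw [if_pos hj, if_pos hj]; linear_combination hδ2
          · rw [if_neg hj, if_neg hj]; ring,
        Finset.sum_add_distrib, Finset.sum_const, Finset.card_univ, Fintype.card_fin, nsmul_eq_mul,
        Finset.sum_ite_eq' Finset.univ i₀ (fun _ => 2 * δ * Q + 1),
        if_pos (Finset.mem_univ _)] at h
      linarith
    have hcA : c₀ ^ 2 ≤ A := Finset.single_le_sum (fun b _ => sq_nonneg (base b)) hb₀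
    have hnA : (Cs.card : ℤ) * c₀ ^ 2 ≤ A := by
      rw [← nsmul_eq_mul]
      exact Finset.card_nsmul_le_sum _ _ _ hmin
    have hk1 : ∀ k ∈ Cs.erase b₀, ∑ b, z k b ^ 2 = c₀ ^ 2 + base k ^ 2 := by
      intro k hk
      obtain ⟨hne, hkC⟩ := Finset.mem_erase.1 hk
      rw [Finset.sum_congr rfl fun b _ => show z k b ^ 2 =
        (if b = k then c₀ ^ 2 else 0) + (if b = b₀ then base k ^ 2 else 0) by
          rw [hzk k hkC hne]
          by_cases h1 : b = k
          · subst h1; simp [hne]
          · by_cases h2 : b = b₀ <;> simp [h1, h2, neg_sq, Ne.symm hne],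
        Finset.sum_add_distrib]
      simp
    have hk2 : ∑ b, z b₀ b ^ 2 = Rr ^ 2 + (m : ℤ) * c₀ ^ 2 := by
      rw [hsplit, Finset.sum_eq_single_of_mem b₀ hb₀ fun b hb hne => by
        rw [hzb, if_neg hne, if_neg (hnR b hb)]; simp]
      rw [hzb, if_pos rfl, Finset.sum_congr rfl fun j _ => show z b₀ (η j) ^ 2 = c₀ ^ 2 by
        rw [hzb, if_neg (show η j ≠ b₀ from fun h => hnR b₀ hb₀ (h ▸ hzR j)), if_pos (hzR j), neg_sq],
        Finset.sum_const, Finset.card_univ, Fintype.card_fin, nsmul_eq_mul]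
    have hzero : ∑ j, ∑ b, z (η j) b ^ 2 = 0 := Finset.sum_eq_zero fun j _ => by simp [z, hzR j]
    rw [hsplit, hzero, add_zero, ← Finset.add_sum_erase _ _ hb₀, hk2, Finset.sum_congr rfl hk1,
      Finset.sum_add_distrib, Finset.sum_const, nsmul_eq_mul]
    have hsum : ∑ k ∈ Cs.erase b₀, base k ^ 2 = A - c₀ ^ 2 := by
      rw [hA, ← Finset.add_sum_erase _ _ hb₀, hc₀]; ring
    have hcard : ((Cs.erase b₀).card : ℤ) = (Cs.card : ℤ) - 1 := by
      rw [Finset.card_erase_of_mem hb₀, Nat.cast_sub (Finset.card_pos.2 ⟨b₀, hb₀⟩)]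
      simp
    rw [hsum, hcard, hRr]
    have hm' : (0 : ℤ) ≤ (m : ℤ) - 2 := by omega
    nlinarith [mul_le_mul_of_nonneg_left hcA hm']
  · have hV : ∀ j, g (η j) = -(δ : ℂ) * ∑ b, (base b : ℂ) * g b := by
      intro j
      have h := hg j
      simp only [hform _ j, Int.cast_add, Int.cast_mul, apply_ite (Int.cast : ℤ → ℂ), Int.cast_one,
        Int.cast_zero, add_mul, Finset.sum_add_distrib, mul_ite, mul_one, mul_zero, ite_mul,
        zero_mul, Finset.sum_ite_eq', Finset.mem_univ, if_true] at h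
      have hd : (δ : ℂ) * (δ : ℂ) = 1 := by exact_mod_cast hδ2
      linear_combination (δ : ℂ) * h - g (η j) * hd
    set W := ∑ b, (base b : ℂ) * g b with hW
    set C₀ := ∑ b ∈ Cs, (base b : ℂ) * g b with hC₀
    have hrel : C₀ + (Rr : ℂ) * (-(δ : ℂ) * W) = 0 := by
      have h : W = C₀ + (m : ℂ) * ((Q : ℂ) * (-(δ : ℂ) * W)) := by
        conv_lhs => rw [hW, hsplitC]
        simp [hV, hQ, hC₀]
      have hd : (δ : ℂ) * (δ : ℂ) = 1 := by exact_mod_cast hδ2
      rw [hRr]
      push_cast
      linear_combination -h - W * hd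
    have h₀ := ha b₀
    simp only [mul_comm (a _)] at h₀
    rw [hzs₀ a] at h₀
    have hoff' : ∀ k ∈ Cs, (c₀ : ℂ) * a k = (base k : ℂ) * a b₀ := by
      intro k hk
      by_cases hne : k = b₀
      · subst hne; rw [hc₀]
      have h := ha k
      simp only [mul_comm (a _)] at h
      rw [hzs a k hk hne] at h
      linear_combination h
    have hkey : (c₀ : ℂ) * ∑ b, a b * g b = 0 := by
      rw [hsplitC, mul_add, Finset.mul_sum, Finset.sum_congr rfl fun b hb => show
        (c₀ : ℂ) * (a b * g b) = a b₀ * ((base b : ℂ) * g b) by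
          rw [← mul_assoc, hoff' b hb]; ring, ← Finset.mul_sum, ← hC₀,
        Finset.sum_congr rfl fun j _ => by rw [hV j], ← Finset.sum_mul]
      linear_combination (a b₀) * hrel + (δ : ℂ) * W * h₀
    exact (mul_eq_zero.1 hkey).resolve_left (Int.cast_ne_zero.2 hc0)
  · have hS : ∑ i, c i = 0 := by
      have h := hc b₀
      simp only [hoff _ hb₀, ← Finset.sum_mul] at h
      exact (mul_eq_zero.1 h).resolve_right (Int.cast_ne_zero.2 hc0)
    funext j
    have h := hc (η j)
    simp only [hrow, Int.cast_add, Int.cast_mul, apply_ite (Int.cast : ℤ → ℂ), Int.cast_one,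
      Int.cast_zero, mul_add, Finset.sum_add_distrib, ← Finset.sum_mul, hS, zero_mul, zero_add,
      mul_ite, mul_one, mul_zero, Finset.sum_ite_eq, Finset.mem_univ, if_true] at h
    exact (mul_eq_zero.1 h).resolve_right
      (Int.cast_ne_zero.2 (by rcases hδ with h' | h' <;> rw [h'] <;> norm_num))

variable {G : Type u} [Group G] [Fintype G] {p : ℕ} [Fact p.Prime] {M : Ideal AlgInt} [M.IsPrime]
  {B : Set (IrrCharacter G)} {P : Subgroup G}

/-- A block with abelian defect group and free inertia with at least two orbits has short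
vectors. -/
theorem hasVectors_of_free (hM : IsPModular p M) (hPD : IsDefectGroup p M B P) (hP1 : P ≠ ⊥)
    (hPC : P ≤ Subgroup.centralizer (P : Set G))
    {c : Set (IrrCharacter (Subgroup.centralizer (P : Set G)))}
    (hc : IsInducedBlock M (Subgroup.centralizer (P : Set G)) c B)
    (hfree : FreeInertia P (zB M (Subgroup.centralizer (P : Set G)) c))
    (hlt : (Subgroup.centralizer (P : Set G)).relIndex
      (stabP (P, zB M (Subgroup.centralizer (P : Set G)) c)) + 1 < Nat.card P) :
    HasVectors p B (Nat.card P) := by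
  classical
  have hB := hc.2.1
  set e := (Subgroup.centralizer (P : Set G)).relIndex
    (stabP (P, zB M (Subgroup.centralizer (P : Set G)) c)) with he
  obtain ⟨m, x, hm, hgram, hnz, hkill⟩ := Abelian.exists_inertial_rows hM hPD hP1 hPC hc hfree
  rw [← he] at hm hgram
  obtain ⟨m', hm', he1, hk, -, -⟩ := Abelian.abelian_free_counts hM hPD hP1 hPC hc hfree he.symm
  rw [show m' = m from Nat.eq_of_mul_eq_mul_right (by omega : 0 < e) (by omega)] at hk
  have hm2 : 2 ≤ m := by
    by_contra h
    have := Nat.mul_le_mul_right e (show m ≤ 1 by omega)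
    omega
  have hl1 := one_le_blockRank hM hB
  have hcard : Fintype.card {χ // χ ∈ B} = Nat.card B := Nat.card_eq_fintype_card.symm
  have h1 : ¬ p ∣ orderOf (1 : G) := by simp [hM.1.ne_one]
  obtain ⟨z, hzx, hzN, hzinj, hxind⟩ := exists_dual hm2 x hgram hnz (by omega)
    (fun b => (charDegree (b.1 : G → ℂ) : ℤ)) (fun b => by exact_mod_cast charDegree_pos b.1)
    (fun i => by
      have h := hkill i 1 h1
      simp only [irr_one_eq_charDegree] at h
      apply Int.cast_injective (α := ℂ)
      push_cast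
      exact h)
  have hsub : ∀ f : IrrCharacter G → ℂ, ∑ θ ∈ bs B, f θ = ∑ b : {χ // χ ∈ B}, f b.1 := fun f =>
    Finset.sum_subtype (p := fun θ => θ ∈ B) (bs B) (fun θ => mem_bs) f
  -- the singular columns lie in the span of the rows
  let L : ({χ // χ ∈ B} → ℂ) →ₗ[ℂ] (G → ℂ) :=
    Fintype.linearCombination ℂ fun b => pRegularPart p (b.1 : G → ℂ)
  have hrange : LinearMap.range L = Submodule.span ℂ
      ((fun χ : IrrCharacter G => pRegularPart p (χ : G → ℂ)) '' B) := by
    rw [Fintype.range_linearCombination, Set.image_eq_range]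
  have hLker : ∀ v : {χ // χ ∈ B} → ℂ,
      v ∈ LinearMap.ker L ↔ ∀ s : G, ¬ p ∣ orderOf s → ∑ b, v b * (b.1 : G → ℂ) s = 0 := by
    intro v
    rw [LinearMap.mem_ker, funext_iff]
    simp only [L, Fintype.linearCombination_apply, Finset.sum_apply, Pi.smul_apply, smul_eq_mul,
      pRegularPart_apply, Pi.zero_apply]
    refine ⟨fun h s hs => by simpa [hs] using h s, fun h s => ?_⟩
    by_cases hs : p ∣ orderOf s
    · simp [hs]
    · simpa [hs] using h s hs
  let X : Fin m → LinearMap.ker L := fun i => ⟨fun b => (x b i : ℂ), (hLker _).2 (hkill i)⟩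
  have hli : LinearIndependent ℂ X := by
    refine LinearIndependent.of_comp (LinearMap.ker L).subtype
      (Fintype.linearIndependent_iff.2 fun c hc i => congrFun (hxind c fun b => ?_) i)
    have h := congrFun hc b
    simpa [X] using h
  have hfin : Module.finrank ℂ (LinearMap.ker L) = m := by
    have h2 := L.finrank_range_add_finrank_ker
    rw [hrange, Module.finrank_pi, hcard, hk] at h2
    change blockRank p B + _ = _ at h2
    omega
  have hspan : ∀ v ∈ LinearMap.ker L, ∃ c : Fin m → ℂ, ∀ b, v b = ∑ i, c i * (x b i : ℂ) := by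
    intro v hv
    have htop := hli.span_eq_top_of_card_eq_finrank' (by rw [Fintype.card_fin, hfin])
    have hmem : (⟨v, hv⟩ : LinearMap.ker L) ∈ Submodule.span ℂ (Set.range X) := by
      rw [htop]; exact Submodule.mem_top
    obtain ⟨c, hc⟩ := (Submodule.mem_span_range_iff_exists_fun ℂ).1 hmem
    refine ⟨c, fun b => ?_⟩
    have h := congrArg (fun q : LinearMap.ker L => (q : {χ // χ ∈ B} → ℂ) b) hc
    simpa [X] using h.symm
  let eqv := Fintype.equivFin {χ // χ ∈ B}
  let zz : Fin (Fintype.card {χ // χ ∈ B}) → IrrCharacter G → ℤ := fun k θ =>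
    if h : θ ∈ B then z (eqv.symm k) ⟨θ, h⟩ else 0
  have hzz : ∀ k (b : {χ // χ ∈ B}), zz k b.1 = z (eqv.symm k) b := fun k b => dif_pos b.2
  refine ⟨_, zz, fun k w hw => ?_, fun a ha s hs => ?_, ?_⟩
  · rw [hsub]
    simp only [hzz]
    obtain ⟨c, hc⟩ := hspan (fun b => conj ((b.1 : G → ℂ) w)) ((hLker _).2 fun s hs => by
      rw [← hsub fun θ => conj ((θ : G → ℂ) w) * (θ : G → ℂ) s,
        ← blockPair_regular_singular hM hB hs hw]
      unfold blockPair
      exact Finset.sum_congr (by ext; simp) fun θ _ => mul_comm _ _)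
    refine (map_eq_zero (starRingEnd ℂ)).1 ?_
    simp only [map_sum, map_mul, map_intCast, hc, Finset.mul_sum]
    rw [Finset.sum_comm]
    refine Finset.sum_eq_zero fun i _ => ?_
    rw [Finset.sum_congr rfl fun b _ => show (z (eqv.symm k) b : ℂ) * (c i * (x b i : ℂ)) =
      c i * ((z (eqv.symm k) b * x b i : ℤ) : ℂ) by push_cast; ring, ← Finset.mul_sum,
      ← Int.cast_sum, hzx, Int.cast_zero, mul_zero]
  · rw [hsub fun θ => a θ * (θ : G → ℂ) s]
    refine hzinj (fun b => a b.1) (fun b => (b.1 : G → ℂ) s) (fun k => ?_)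
      fun i => hkill i s hs
    have h := ha (eqv k)
    rw [hsub fun θ => a θ * (zz (eqv k) θ : ℂ)] at h
    simpa only [hzz, Equiv.symm_apply_apply] using h
  · rw [← hm, Fintype.sum_equiv eqv.symm (fun k => ∑ θ ∈ bs B, zz k θ ^ 2)
      (fun k => ∑ b, z k b ^ 2) fun k => by
        rw [Finset.sum_subtype (p := fun θ => θ ∈ B) (bs B) (fun θ => mem_bs) fun θ => zz k θ ^ 2]
        exact Finset.sum_congr rfl fun b _ => by rw [hzz]]
    push_cast
    exact hzN

/-- A block with cyclic defect group of order at least `p ^ 2` has short vectors. -/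
theorem hasVectors_of_cyclic (hM : IsPModular p M) (hB : IsPBlock M B)
    (hPD : IsDefectGroup p M B P) (hcyc : IsCyclic P) {a : ℕ} (ha : 2 ≤ a)
    (hPa : Nat.card P = p ^ a) : HasVectors p B (Nat.card P) := by
  classical
  have hp : p.Prime := Fact.out
  have hPC := cyclic_le_centralizer hcyc
  have hex := exists_inducing_block hM hB hPD
  rw [sup_eq_right.2 hPC] at hex
  obtain ⟨c, -, hc⟩ := hex
  have hP1 : P ≠ ⊥ := by
    rw [← Subgroup.one_lt_card_iff_ne_bot, hPa]
    exact Nat.one_lt_pow (by omega) hp.one_lt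
  have hfree : FreeInertia P (zB M (Subgroup.centralizer (P : Set G)) c) :=
    fun g hg v hv hv1 hfix => cyclic_free hM hPD hcyc hc hg hv hv1 hfix
  refine hasVectors_of_free hM hPD hP1 hPC hc hfree ?_
  set T := stabP (P, zB M (Subgroup.centralizer (P : Set G)) c) with hT
  have hTN : T ≤ Subgroup.normalizer (P : Set G) := stabP_le_normalizer _
  rw [← Abelian.card_autImage P T hTN]
  obtain ⟨g, hg⟩ := IsCyclic.exists_generator (α := P)
  have hgo : orderOf g = p ^ a := by rw [orderOf_eq_card_of_forall_mem_zpowers hg, hPa]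
  have hgp : g ^ p ≠ 1 := fun h => by
    have hdvd := orderOf_dvd_of_pow_eq_one h
    rw [hgo] at hdvd
    have := Nat.le_of_dvd hp.pos hdvd
    have h2 : p ^ 2 ≤ p ^ a := Nat.pow_le_pow_right hp.pos ha
    have := hp.two_le
    nlinarith
  have hgpo : orderOf (g ^ p) < p ^ a := by
    rw [orderOf_pow' g hp.ne_zero, hgo, Nat.gcd_eq_right (dvd_pow_self p (by omega))]
    exact Nat.div_lt_self (pow_pos hp.pos a) hp.one_lt
  haveI : Fintype P := Fintype.ofFinite _
  haveI : Fintype (Abelian.autImage P T hTN) := Fintype.ofFinite _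
  have hmaps : ∀ τ ∈ (Finset.univ : Finset (Abelian.autImage P T hTN)),
      (τ.1 g) ∈ ((Finset.univ : Finset P).erase 1).erase (g ^ p) := by
    intro τ _
    have ho : orderOf (τ.1 g) = p ^ a := by rw [MulEquiv.orderOf_eq, hgo]
    refine Finset.mem_erase.2 ⟨fun h => ?_, Finset.mem_erase.2 ⟨fun h => ?_, Finset.mem_univ _⟩⟩
    · rw [h] at ho; omega
    · rw [h, orderOf_one] at ho
      exact absurd ho.symm (Nat.one_lt_pow (by omega) hp.one_lt).ne'
  have hle := Finset.card_le_card_of_injOn (fun τ : Abelian.autImage P T hTN => τ.1 g) hmaps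
    fun τ _ τ' _ h => Subtype.ext (MulEquiv.ext fun v => by
      obtain ⟨i, rfl⟩ := Subgroup.mem_zpowers_iff.1 (hg v)
      rw [map_zpow, map_zpow]
      exact congrArg (· ^ i) h)
  rw [Finset.card_erase_of_mem (Finset.mem_erase.2 ⟨hgp, Finset.mem_univ _⟩),
    Finset.card_erase_of_mem (Finset.mem_univ _), Finset.card_univ, Finset.card_univ,
    ← Nat.card_eq_fintype_card, ← Nat.card_eq_fintype_card] at hle
  have : 2 ≤ Nat.card P := by rw [hPa]; exact Nat.one_lt_pow (by omega) hp.one_lt
  omega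

end Cfsg.Agent.ProjVec
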