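/-
Blocks of a group with a central element of order p: the characters trivial on that element
carry the Brauer characters of the block.
-/
import Cfsg.Agent.Lib.Blocks.SubsectionRow
import Cfsg.Agent.Lib.Blocks.Quotient
import Cfsg.Agent.Lib.Blocks.RankOneModP
import Cfsg.Agent.Lib.BrauerPairs.RankQuotient

set_option linter.unusedSectionVars false
set_option linter.style.haveILetI false

namespace Cfsg.Agent.CentralQuotientRank

open Cfsg Cfsg.Agent.Blocks Cfsg.Agent.Char Cfsg.Agent.BrauerPairs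
open scoped ComplexConjugate

universe u

variable {G : Type u} [Group G] [Fintype G] {p : ℕ} {M : Ideal AlgInt} [M.IsPrime] {z : G}

/-- The members of a block at which `z` acts trivially. -/
noncomputable def trivSet (z : G) (b : Set (IrrCharacter G)) : Finset (IrrCharacter G) := by
  classical
  exact Finset.univ.filter fun φ => φ ∈ b ∧ (φ : G → ℂ) z = (φ : G → ℂ) 1

theorem mem_trivSet {b : Set (IrrCharacter G)} {φ : IrrCharacter G} :
    φ ∈ trivSet z b ↔ φ ∈ b ∧ (φ : G → ℂ) z = (φ : G → ℂ) 1 := by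
  classical simp [trivSet]

/-- On the regular elements the block is carried by the characters trivial on `z`. -/
theorem blockPair_central (hM : IsPModular p M) {b : Set (IrrCharacter G)} (hb : IsPBlock M b)
    (hz : z ∈ Subgroup.center G) (ho : orderOf z = p) {u w : G} (hu : ¬ p ∣ orderOf u)
    (hw : ¬ p ∣ orderOf w) :
    blockPair b u w = (p : ℂ) * ∑ φ ∈ trivSet z b, (φ : G → ℂ) u * conj ((φ : G → ℂ) w) := by
  classical
  have hp := hM.1
  choose c hc1 hc hc2 using fun φ : IrrCharacter G =>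
    IsIrrCharacter.exists_central_scalar φ.2 hz
  have hpow : ∀ (φ : IrrCharacter G) (i : ℕ) (g : G),
      (φ : G → ℂ) (z ^ i * g) = c φ ^ i * (φ : G → ℂ) g := by
    intro φ i
    induction i with
    | zero => simp
    | succ i ih => intro g; rw [pow_succ', mul_assoc, hc, ih, pow_succ', mul_assoc]
  have hcp : ∀ φ, c φ ^ p = 1 := by
    intro φ
    have h := hpow φ p 1
    rw [← ho, pow_orderOf_eq_one, one_mul, ho] at h
    exact mul_right_cancel₀ (irr_one_ne_zero φ) (h.symm.trans (one_mul _).symm)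
  have hsum : ∀ φ, ∑ i ∈ Finset.range p, c φ ^ i =
      if (φ : G → ℂ) z = (φ : G → ℂ) 1 then (p : ℂ) else 0 := by
    intro φ
    split_ifs with h
    · simp [(hc2 φ).2 h]
    · have h1 := geom_sum_mul (c φ) p
      rw [hcp, sub_self] at h1
      exact (mul_eq_zero.1 h1).resolve_right (sub_ne_zero.2 fun e => h ((hc2 φ).1 e))
  have hsing : ∀ i ∈ Finset.range p, i ≠ 0 → blockPair b (z ^ i * u) w = 0 := by
    intro i hi hi0
    have hoi : orderOf (z ^ i) = p := by
      rw [orderOf_pow' z hi0, ho, Nat.Coprime.gcd_eq_one, Nat.div_one]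
      exact (hp.coprime_iff_not_dvd).2 (Nat.not_dvd_of_pos_of_lt (Nat.pos_of_ne_zero hi0)
        (Finset.mem_range.1 hi))
    have hcomm : Commute (z ^ i) u :=
      (Subgroup.mem_center_iff.1 (pow_mem hz i) u).symm
    have hdvd : p ∣ orderOf (z ^ i * u) := by
      rw [hcomm.orderOf_mul_eq_mul_orderOf_of_coprime (by
        rw [hoi]; exact hp.coprime_iff_not_dvd.2 hu), hoi]
      exact dvd_mul_right _ _
    rw [← blockPair_conj, blockPair_regular_singular hM hb hw hdvd, map_zero]
  calc blockPair b u w = ∑ i ∈ Finset.range p, blockPair b (z ^ i * u) w := by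
        rw [Finset.sum_eq_single_of_mem 0 (Finset.mem_range.2 hp.pos) fun i hi h => hsing i hi h]
        simp
    _ = ∑ φ ∈ Finset.univ.filter (· ∈ b),
        (∑ i ∈ Finset.range p, c φ ^ i) * ((φ : G → ℂ) u * conj ((φ : G → ℂ) w)) := by
        simp only [blockPair, hpow, Finset.sum_mul]
        rw [Finset.sum_comm]
        exact Finset.sum_congr rfl fun φ _ => Finset.sum_congr rfl fun i _ => by ring
    _ = _ := by
        simp only [hsum, ite_mul, zero_mul, trivSet]
        rw [← Finset.sum_filter, Finset.filter_filter, Finset.mul_sum]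

section Matrix

variable {b : Set (IrrCharacter G)} {r : IrrCharacter G → IrrCharacter G → ℤ}

/-- The regular part of a member is a combination of those of the members trivial on `z`. -/
theorem expansion (hM : IsPModular p M) (hb : IsPBlock M b) (hz : z ∈ Subgroup.center G)
    (ho : orderOf z = p)
    (hr : ∀ θ ∈ b, ∀ η ∈ b,
      regPair p (blockScale p b) (θ : G → ℂ) (η : G → ℂ) = (r θ η : ℂ))
    {θ : IrrCharacter G} (hθ : θ ∈ b) {u : G} (hu : ¬ p ∣ orderOf u) :
    (p : ℂ) ^ blockDefect p b * (θ : G → ℂ) u =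
      (p : ℂ) * ∑ φ ∈ trivSet z b, (r θ φ : ℂ) * (φ : G → ℂ) u := by
  classical
  have hG : (Nat.card G : ℂ) ≠ 0 := Nat.cast_ne_zero.2 Nat.card_pos.ne'
  have hθv : blockPart b (θ : G → ℂ) = (θ : G → ℂ) := by
    rw [← bcomb_single b hθ, blockPart_bcomb]
  have h := sum_regular_pair hM hb (θ : G → ℂ) hu
  rw [hθv] at h
  have h2 : ∀ φ ∈ trivSet z b, (Nat.card G : ℂ) * (r θ φ : ℂ) = (p : ℂ) ^ blockDefect p b *
      ∑ w ∈ Finset.univ.filter (fun w : G => ¬ p ∣ orderOf w),
        (θ : G → ℂ) w * conj ((φ : G → ℂ) w) := by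
    intro φ hφ
    rw [← hr θ hθ φ (mem_trivSet.1 hφ).1, regPair_eq_sum, blockScale]
    push_cast
    field_simp
  have h3 : (Nat.card G : ℂ) * (θ : G → ℂ) u = (p : ℂ) * ∑ φ ∈ trivSet z b, (φ : G → ℂ) u *
      ∑ w ∈ Finset.univ.filter (fun w : G => ¬ p ∣ orderOf w),
        (θ : G → ℂ) w * conj ((φ : G → ℂ) w) := by
    rw [← h, Finset.sum_congr rfl fun w hw => by
      rw [blockPair_central hM hb hz ho hu (Finset.mem_filter.1 hw).2]]
    simp only [Finset.mul_sum, Finset.sum_mul]
    rw [Finset.sum_comm]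
    exact Finset.sum_congr rfl fun φ _ => Finset.sum_congr rfl fun w _ => by ring
  refine mul_left_cancel₀ hG ?_
  rw [mul_left_comm, h3, mul_left_comm (Nat.card G : ℂ), Finset.mul_sum, Finset.mul_sum,
    Finset.mul_sum, Finset.mul_sum]
  refine Finset.sum_congr rfl fun φ hφ => ?_
  rw [← mul_assoc (Nat.card G : ℂ), h2 φ hφ]
  ring

/-- The matrix on the members trivial on `z` is a projection up to a power of `p`. -/
theorem sum_mul (hM : IsPModular p M) (hb : IsPBlock M b) (hz : z ∈ Subgroup.center G)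
    (ho : orderOf z = p)
    (hr : ∀ θ ∈ b, ∀ η ∈ b,
      regPair p (blockScale p b) (θ : G → ℂ) (η : G → ℂ) = (r θ η : ℂ))
    {θ η : IrrCharacter G} (hθ : θ ∈ b) (hη : η ∈ b) :
    (p : ℤ) ^ blockDefect p b * r θ η = p * ∑ φ ∈ trivSet z b, r θ φ * r φ η := by
  classical
  apply Int.cast_injective (α := ℂ)
  push_cast
  rw [← hr θ hθ η hη, regPair_eq_sum, mul_left_comm, Finset.mul_sum, Finset.sum_congr rfl
    fun u hu => by rw [← mul_assoc, expansion hM hb hz ho hr hθ (Finset.mem_filter.1 hu).2]]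
  simp only [Finset.mul_sum, Finset.sum_mul]
  rw [Finset.sum_comm]
  refine Finset.sum_congr rfl fun φ hφ => ?_
  rw [← hr φ (mem_trivSet.1 hφ).1 η hη, regPair_eq_sum]
  simp only [Finset.mul_sum]
  exact Finset.sum_congr rfl fun u _ => by ring

/-- The trace counts the Brauer characters. -/
theorem sum_diag (hM : IsPModular p M) (hb : IsPBlock M b) (hz : z ∈ Subgroup.center G)
    (ho : orderOf z = p)
    (hr : ∀ θ ∈ b, ∀ η ∈ b,
      regPair p (blockScale p b) (θ : G → ℂ) (η : G → ℂ) = (r θ η : ℂ)) :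
    (p : ℤ) ^ blockDefect p b * blockRank p b = p * ∑ φ ∈ trivSet z b, r φ φ := by
  classical
  have hG : (Nat.card G : ℂ) ≠ 0 := Nat.cast_ne_zero.2 Nat.card_pos.ne'
  apply Int.cast_injective (α := ℂ)
  push_cast
  rw [blockRank_eq hM hb, Finset.sum_congr rfl fun u hu => by
    rw [blockPair_central hM hb hz ho (Finset.mem_filter.1 hu).2 (Finset.mem_filter.1 hu).2]]
  simp only [Finset.mul_sum]
  rw [Finset.sum_comm]
  refine Finset.sum_congr rfl fun φ hφ => ?_
  rw [← hr φ (mem_trivSet.1 hφ).1 φ (mem_trivSet.1 hφ).1, regPair_eq_sum, blockScale]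
  simp only [Finset.mul_sum]
  refine Finset.sum_congr rfl fun u _ => ?_
  push_cast
  ring

/-- The rank is at most the number of members trivial on `z`. -/
theorem blockRank_le_card (hM : IsPModular p M) (hb : IsPBlock M b)
    (hz : z ∈ Subgroup.center G) (ho : orderOf z = p) :
    blockRank p b ≤ (trivSet z b).card := by
  classical
  obtain ⟨r, hr, -⟩ := exists_rMat hM hb
  let R : IrrCharacter G → G → ℂ := fun φ => pRegularPart p (φ : G → ℂ)
  have hle : Submodule.span ℂ (R '' b) ≤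
      Submodule.span ℂ (Set.range fun φ : trivSet z b => R φ) := by
    refine Submodule.span_le.2 ?_
    rintro _ ⟨θ, hθ, rfl⟩
    have e : R θ = ∑ φ : trivSet z b,
        ((p : ℂ) / (p : ℂ) ^ blockDefect p b * (r θ φ : ℂ)) • R φ := by
      funext u
      simp only [R, Finset.sum_apply, Pi.smul_apply, smul_eq_mul, pRegularPart_apply]
      by_cases hu : p ∣ orderOf u
      · simp [hu]
      · simp only [if_neg hu]
        have h := expansion hM hb hz ho hr hθ hu
        have hp0 : (p : ℂ) ^ blockDefect p b ≠ 0 := pow_ne_zero _ (Nat.cast_ne_zero.2 hM.1.ne_zero)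
        refine mul_left_cancel₀ hp0 (h.trans ?_)
        rw [Finset.sum_coe_sort (trivSet z b) fun φ =>
          (p : ℂ) / (p : ℂ) ^ blockDefect p b * (r θ φ : ℂ) * (φ : G → ℂ) u,
          Finset.mul_sum, Finset.mul_sum]
        exact Finset.sum_congr rfl fun φ _ => by field_simp
    rw [SetLike.mem_coe, e]
    exact Submodule.sum_mem _ fun φ _ => Submodule.smul_mem _ _ (Submodule.subset_span ⟨φ, rfl⟩)
  show Module.finrank ℂ (Submodule.span ℂ (R '' b)) ≤ _
  exact (Submodule.finrank_mono hle).trans ((finrank_range_le_card _).trans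
    (Fintype.card_coe _).le)

end Matrix

/-- The rank of a block is at most the size of some block of smaller defect of the quotient. -/
theorem exists_quotient_bound (hM : IsPModular p M) {b : Set (IrrCharacter G)}
    (hb : IsPBlock M b) (hz : z ∈ Subgroup.center G) (ho : orderOf z = p)
    (N : Subgroup G) [N.Normal] [Fintype (G ⧸ N)] (hN : N = Subgroup.zpowers z) :
    ∃ bbar : Set (IrrCharacter (G ⧸ N)), IsPBlock M bbar ∧
      blockDefect p bbar < blockDefect p b ∧ blockRank p b ≤ Nat.card bbar := by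
  classical
  have hp := hM.1
  haveI := Fact.mk hp
  have hNc : Nat.card N = p := by rw [hN, Nat.card_zpowers, ho]
  have hNp : IsPGroup p N := IsPGroup.of_card (n := 1) (by rw [hNc, pow_one])
  have hsup : N ⊔ Subgroup.centralizer (N : Set G) = ⊤ := by
    refine eq_top_iff.2 (le_trans ?_ le_sup_right)
    intro g _
    refine Subgroup.mem_centralizer_iff.2 fun x hx => ?_
    rw [hN] at hx
    obtain ⟨i, rfl⟩ := Subgroup.mem_zpowers_iff.1 hx
    exact (Subgroup.mem_center_iff.1 (zpow_mem hz i) g).symm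
  obtain ⟨bbar, hbb, hinfl, hdef⟩ := exists_quotient_block (N := N) hM hNp hb
  obtain ⟨Db, hDb⟩ := exists_isDefectGroup (p := p) hbb
  obtain ⟨P, hP, hPD⟩ := (hdef Db).1 hDb
  have hle : Nat.card P ≤ p * Nat.card Db := by
    let f : P →* G ⧸ N := (QuotientGroup.mk' N).comp P.subtype
    have h1 := f.ker.card_mul_index
    rw [Subgroup.index_ker, show f.range = Db by
      rw [hPD, MonoidHom.range_comp, Subgroup.range_subtype]] at h1
    have h2 : Nat.card f.ker ≤ p := by
      rw [← hNc]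
      refine Nat.card_le_card_of_injective (fun x => (⟨((x : P) : G), ?_⟩ : N)) fun x y h => ?_
      · exact (QuotientGroup.eq_one_iff _).1 (f.mem_ker.1 x.2)
      · exact Subtype.ext (Subtype.ext (Subtype.mk.inj h))
    rw [← h1]
    exact Nat.mul_le_mul_right _ h2
  rw [card_defectGroup hM hb hP, card_defectGroup hM hbb hDb, ← pow_succ',
    Nat.pow_le_pow_iff_right hp.one_lt] at hle
  have hcardG : (Nat.card G).factorization p = (Nat.card (G ⧸ N)).factorization p + 1 := by
    rw [← N.index_eq_card, ← N.card_mul_index, Nat.factorization_mul Nat.card_pos.ne'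
      Subgroup.index_ne_zero_of_finite, Finsupp.add_apply, hNc, hp.factorization_self, add_comm]
  obtain ⟨ψb, hψb, hψ0⟩ := exists_heightZero hM hbb
  set ψ := Cfsg.Agent.CharX.infl N ψb with hψdef
  have hψ : ψ ∈ b := hinfl ψb hψb
  have hdeg : charDegree (ψ : G → ℂ) = charDegree (ψb : G ⧸ N → ℂ) := by
    simp [charDegree, ψ, Cfsg.Agent.CharX.infl_apply, QuotientGroup.mk_one]
  have hd0 := (blockHeight_eq_zero_iff hM hbb hψb).1 hψ0
  have hge := degExp_ge hM hb hψ
  rw [hdeg, hd0] at hge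
  have hba := blockDefect_le (p := p) b
  have hbba := blockDefect_le (p := p) bbar
  have hlt : blockDefect p bbar < blockDefect p b := by omega
  refine ⟨bbar, hbb, hlt, ?_⟩
  have hh0 : blockHeight p b (ψ : G → ℂ) = 0 := by
    rw [blockHeight_eq_zero_iff hM hb hψ, hdeg, hd0]
    omega
  obtain ⟨r, hr, -, -, hunit⟩ := exists_rMat hM hb
  refine (blockRank_le_card hM hb hz ho).trans ?_
  have hzN : z ∈ N := hN ▸ Subgroup.mem_zpowers z
  have hmem : ∀ φ ∈ trivSet z b, ∃ φb ∈ bbar, Cfsg.Agent.CharX.infl N φb = φ := by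
    intro φ hφ
    obtain ⟨hφb, hφz⟩ := mem_trivSet.1 hφ
    have htriv : ∀ x ∈ N, (φ : G → ℂ) x = (φ : G → ℂ) 1 := by
      intro x hx
      obtain ⟨c, -, hc, hc2⟩ := IsIrrCharacter.exists_central_scalar φ.2 hz
      rw [hN] at hx
      obtain ⟨i, rfl⟩ := (mem_powers_iff_mem_zpowers (x := z)).2 hx
      have hc1 := hc2.2 hφz
      clear hx
      induction i with
      | zero => simp
      | succ i ih => simp only [pow_succ'] at ih ⊢; rw [hc, hc1, one_mul, ih]
    obtain ⟨φb, hφb'⟩ : ∃ φb, Cfsg.Agent.CharX.infl N φb = φ :=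
      ⟨(Cfsg.Agent.CharX.quotEquiv N).symm ⟨φ, htriv⟩,
        congrArg Subtype.val ((Cfsg.Agent.CharX.quotEquiv N).apply_symm_apply ⟨φ, htriv⟩)⟩
    refine ⟨φb, ?_, hφb'⟩
    by_contra hnot
    have hns : ¬ SameBlock M (φb : G ⧸ N → ℂ) (ψb : G ⧸ N → ℂ) := fun h =>
      hnot (isPBlock_mem_of_sameBlock hbb hψb (sameBlock_symm h))
    have h0 := sum_regular_eq_zero (p := p) hM hns
    have h1 : regPair p (blockScale p b) (φ : G → ℂ) (ψ : G → ℂ) = 0 := by
      rw [regPair_eq_sum, ← hφb']
      refine mul_eq_zero_of_right _ (Eq.trans ?_ h0)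
      refine Finset.sum_bij (fun g _ => (g : G ⧸ N)) ?_ ?_ ?_ ?_
      · exact fun g hg => Finset.mem_filter.2
          ⟨Finset.mem_univ _, regular_mk N hp (Finset.mem_filter.1 hg).2⟩
      · exact fun g hg g' hg' e => regular_lift_unique N hp hNp hsup (Finset.mem_filter.1 hg).2
          (Finset.mem_filter.1 hg').2 e
      · intro y hy
        obtain ⟨g, hg, e⟩ := exists_regular_lift N hp (Finset.mem_filter.1 hy).2
        exact ⟨g, Finset.mem_filter.2 ⟨Finset.mem_univ _, hg⟩, e⟩
      · exact fun g _ => rfl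
    rw [hr φ hφb ψ hψ, Int.cast_eq_zero] at h1
    -- against a height zero member
    have h2 := (hunit ψ hψ ψ hψ hh0).2 hh0
    have h3 : r ψ φ = 0 := by
      have := (regPair_conj (p := p) (blockScale p b) (φ : G → ℂ) (ψ : G → ℂ))
      rw [hr φ hφb ψ hψ, hr ψ hψ φ hφb, h1, Int.cast_zero, map_zero] at this
      exact_mod_cast this.symm
    obtain ⟨n, hn, hn0, -⟩ := (blockHeight_zero_iff_mult hM hb hψ hφb).1 hh0
    refine hn0 ?_
    have hp0 : ((Nat.card G : ℂ)) ≠ 0 := Nat.cast_ne_zero.2 Nat.card_pos.ne'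
    have hR : regPair p (blockScale p b) (ψ : G → ℂ) (φ : G → ℂ) = 0 := by
      rw [hr ψ hψ φ hφb, h3, Int.cast_zero]
    rw [regPair_eq_sum, mul_eq_zero, or_iff_right (by
      rw [blockScale]; push_cast
      exact div_ne_zero (pow_ne_zero _ (Nat.cast_ne_zero.2 hp.ne_zero)) hp0)] at hR
    rw [classInner_regTr hp, hR, zero_div] at hn
    exact_mod_cast hn.symm
  choose f hf hfi using hmem
  rw [Nat.card_eq_fintype_card, ← Set.toFinset_card]
  refine Finset.card_le_card_of_injOn (fun φ => if h : φ ∈ trivSet z b then f φ h else ψb)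
    (fun φ hφ => by simpa [dif_pos (Finset.mem_coe.1 hφ)] using hf φ hφ) ?_
  intro φ hφ φ' hφ' e
  simp only [dif_pos (Finset.mem_coe.1 hφ), dif_pos (Finset.mem_coe.1 hφ')] at e
  rw [← hfi φ hφ, ← hfi φ' hφ', e]

/-- With defect two the rank is at most every nonzero value of the form of the block. -/
theorem rank_le_form (hM : IsPModular p M) {b : Set (IrrCharacter G)} (hb : IsPBlock M b)
    [DecidablePred (· ∈ b)]
    (hz : z ∈ Subgroup.center G) (ho : orderOf z = p) (hd : blockDefect p b = 2)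
    {r : IrrCharacter G → IrrCharacter G → ℤ}
    (hr : ∀ θ ∈ b, ∀ η ∈ b,
      regPair p (blockScale p b) (θ : G → ℂ) (η : G → ℂ) = (r θ η : ℂ))
    (c : {θ // θ ∈ b} → ℤ) (ha : 0 < ∑ a, ∑ a', c a * c a' * r a a') :
    (blockRank p b : ℤ) ≤ ∑ a, ∑ a', c a * c a' * r a a' := by
  classical
  obtain ⟨r', hr', hsymm', hrank', hunit'⟩ := exists_rMat hM hb
  have hrr : ∀ θ ∈ b, ∀ η ∈ b, r θ η = r' θ η := fun θ hθ η hη => by
    exact_mod_cast (hr θ hθ η hη).symm.trans (hr' θ hθ η hη)
  obtain ⟨A, hA⟩ := Int.eq_ofNat_of_zero_le ha.le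
  rw [hA] at ha ⊢
  have hp := hM.1
  have hpz : (p : ℤ) ≠ 0 := Int.natCast_ne_zero.2 hp.ne_zero
  obtain ⟨ψ, hψ, hψ0⟩ := exists_heightZero hM hb
  have hh : ∀ θ ∈ b, blockHeight p b (θ : G → ℂ) = 0 := by
    intro θ hθ
    by_contra h
    have := height_add_two_le hM hb hθ h
    omega
  have hnd : ∀ θ ∈ b, ∀ η ∈ b, ¬ (p : ℤ) ∣ r' θ η := fun θ hθ η hη =>
    (hunit' θ hθ η hη (hh η hη)).2 (hh θ hθ)
  have hmul : ∀ θ ∈ b, ∀ η ∈ b, ∑ φ ∈ trivSet z b, r' θ φ * r' φ η = p * r' θ η := by
    intro θ hθ η hη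
    have h := sum_mul hM hb hz ho hr' hθ hη
    rw [hd, sq, mul_assoc] at h
    exact (mul_left_cancel₀ hpz h).symm
  let J := {φ // φ ∈ trivSet z b}
  have hJ : ∀ j : J, (j : IrrCharacter G) ∈ b := fun j => (mem_trivSet.1 j.2).1
  let R : Matrix J J ℤ := Matrix.of fun i j => r' i j
  let v : J → ℤ := fun j => ∑ a, c a * r' j a
  have hform : ∑ a, ∑ a', c a * c a' * r' a a' = (A : ℤ) := by
    rw [← hA]
    exact Finset.sum_congr rfl fun a _ => Finset.sum_congr rfl fun a' _ => by
      rw [hrr _ a.2 _ a'.2]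
  have hle := Cfsg.Agent.RankOneModP.le_norm_of_rank_one (a := A) (l := blockRank p b) hp R v
    (Matrix.IsSymm.ext fun i j => hsymm' _ _) ?_ ?_ ?_ ?_ (by exact_mod_cast ha) ?_ (r' ψ ψ)
    (∑ a, c a * r' a ψ) (fun j => r' j ψ) ?_ ?_ ?_ ?_
  · exact_mod_cast hle
  · ext i j
    rw [Matrix.mul_apply, Matrix.smul_apply, smul_eq_mul]
    exact (Finset.sum_coe_sort (trivSet z b) fun φ => r' i φ * r' φ j).trans
      (hmul _ (hJ i) _ (hJ j))
  · have h := sum_diag hM hb hz ho hr'
    rw [hd, sq, mul_assoc] at h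
    rw [Matrix.trace]
    exact (Finset.sum_coe_sort (trivSet z b) fun φ => r' φ φ).trans (mul_left_cancel₀ hpz h).symm
  · funext i
    rw [Matrix.mulVec, dotProduct, Pi.smul_apply, smul_eq_mul]
    simp only [R, v, Matrix.of_apply, Finset.mul_sum]
    rw [Finset.sum_comm]
    refine Finset.sum_congr rfl fun a _ => ?_
    calc ∑ j : J, r' i j * (c a * r' j a)
        = c a * ∑ φ ∈ trivSet z b, r' i φ * r' φ a := by
          rw [← Finset.sum_coe_sort (trivSet z b), Finset.mul_sum]
          exact Finset.sum_congr rfl fun j _ => by ring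
      _ = _ := by rw [hmul _ (hJ i) _ a.2]; ring
  · rw [dotProduct, ← hform]
    simp only [v, Finset.sum_mul_sum]
    simp only [Finset.mul_sum]
    rw [Finset.sum_comm]
    refine Finset.sum_congr rfl fun a _ => ?_
    rw [Finset.sum_comm]
    refine Finset.sum_congr rfl fun a' _ => ?_
    calc ∑ j : J, c a * r' j a * (c a' * r' j a')
        = c a * c a' * ∑ φ ∈ trivSet z b, r' a φ * r' φ a' := by
          rw [← Finset.sum_coe_sort (trivSet z b), Finset.mul_sum]
          exact Finset.sum_congr rfl fun j _ => by rw [hsymm' (a : IrrCharacter G) j]; ring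
      _ = _ := by rw [hmul _ a.2 _ a'.2]; ring
  · intro j
    have h := hmul _ (hJ j) _ (hJ j)
    have h1 : r' j j * r' j j ≤ p * r' j j := by
      rw [← h]
      exact Finset.single_le_sum (f := fun φ => r' j φ * r' φ j)
        (fun φ _ => by rw [hsymm' φ j]; exact mul_self_nonneg _) j.2
    have h2 : r' j j ≠ 0 := fun e => hnd _ (hJ j) _ (hJ j) (by rw [e]; exact dvd_zero _)
    have h3 : r' j j ≠ p := fun e => hnd _ (hJ j) _ (hJ j) (by rw [e])
    have hp0 : (0 : ℤ) < p := by exact_mod_cast hp.pos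
    show r' j j < p
    by_contra hge
    have : (p : ℤ) < r' j j := lt_of_le_of_ne (not_lt.1 hge) h3.symm
    nlinarith
  · exact hnd _ hψ _ hψ
  · have h := sum_rMat_congr Finset.univ (fun a a' : {θ // θ ∈ b} => r' a a') (ψ := ⟨ψ, hψ⟩)
      (fun a _ a' _ => hrank' _ a.2 _ a'.2 _ hψ) c c
    rw [hform] at h
    convert h using 1
    rw [mul_comm (r' ψ ψ)]
    congr 1
    exact congrArg _ (Finset.sum_congr rfl fun a _ => by rw [hsymm' ψ a])
  · intro j
    have h : (p : ℤ) ∣ ∑ a : {θ // θ ∈ b},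
        c a * (r' j a * r' ψ ψ - r' j ψ * r' ψ a) :=
      Finset.dvd_sum fun a _ => (hrank' _ (hJ j) _ a.2 _ hψ).mul_left _
    convert h using 1
    simp only [v, Finset.mul_sum, Finset.sum_mul, mul_sub, Finset.sum_sub_distrib]
    congr 1
    · exact Finset.sum_congr rfl fun a _ => by ring
    · exact Finset.sum_congr rfl fun a _ => by rw [hsymm' ψ a]; ring
  · intro i j
    have h := hrank' _ (hJ i) _ (hJ j) _ hψ
    rw [hsymm' ψ j, mul_comm (r' i j)] at h
    exact h

end Cfsg.Agent.CentralQuotientRank
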