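/-
Bounds on the characters of a block weighted by their heights.
-/
import Cfsg.Agent.Lib.Blocks.HeightsApp

set_option linter.unusedSectionVars false
set_option linter.style.haveILetI false

namespace Cfsg.Agent.BrauerPairs

open Cfsg Cfsg.Agent.Blocks
open scoped ComplexConjugate

universe u

variable {G : Type u} [Group G] [Fintype G] {p : ℕ} {M : Ideal AlgInt} [M.IsPrime]

theorem classInner_regTr_symm (hp : p.Prime) (χ φ : G → ℂ) :
    classInner (regTr p χ) φ = conj (classInner (regTr p φ) χ) := by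
  classical
  rw [classInner_regTr hp, classInner_regTr hp, map_div₀, map_natCast, map_sum]
  congr 1
  exact Finset.sum_congr rfl fun x _ => by rw [map_mul, Complex.conj_conj, mul_comm]

theorem degExp_eq_add_height (hM : IsPModular p M) {B : Set (IrrCharacter G)} (hB : IsPBlock M B)
    {φ : IrrCharacter G} (hφ : φ ∈ B) :
    (charDegree (φ : G → ℂ)).factorization p =
      ((Nat.card G).factorization p - blockDefect p B) + blockHeight p B (φ : G → ℂ) := by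
  have := degExp_ge hM hB hφ
  rw [blockHeight, sInf_degExp_eq' hM hB]
  omega

/-- The off-diagonal weights of the row of a character of a block. -/
theorem exists_row_bound (hM : IsPModular p M) {B : Set (IrrCharacter G)} (hB : IsPBlock M B)
    [DecidablePred (· ∈ B)] [DecidableEq (IrrCharacter G)] {χ : IrrCharacter G} (hχ : χ ∈ B) :
    ∃ r : IrrCharacter G → ℤ,
      4 * ∑ φ ∈ (Finset.univ.filter (· ∈ B)).erase χ, r φ ^ 2 ≤
        (p : ℤ) ^ (2 * blockDefect p B) ∧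
      ∀ φ ∈ B, ((p : ℤ) ^ blockHeight p B (φ : G → ℂ) ∣ r φ) ∧
        ((p : ℤ) ^ blockHeight p B (χ : G → ℂ) ∣ r φ) ∧
        (blockHeight p B (χ : G → ℂ) = 0 ∨ blockHeight p B (φ : G → ℂ) = 0 → r φ ≠ 0) := by
  obtain ⟨r, hr, hpos, hsum⟩ := exists_row hM hB hχ
  have hp0 : (0 : ℤ) < p := by exact_mod_cast hM.1.pos
  have hpp : (p : ℤ) ^ ((Nat.card G).factorization p - blockDefect p B) ≠ 0 :=
    (pow_pos hp0 _).ne'
  refine ⟨r, ?_, fun φ hφ => ⟨?_, ?_, ?_⟩⟩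
  · rw [← Finset.add_sum_erase _ _ (Finset.mem_filter.2
      ⟨Finset.mem_univ _, hχ⟩ : χ ∈ Finset.univ.filter (· ∈ B))] at hsum
    rw [mul_comm 2, pow_mul]
    nlinarith [sq_nonneg (2 * r χ - (p : ℤ) ^ blockDefect p B)]
  · obtain ⟨m, hm, hmd, -⟩ := exists_mult hM (irr_isCharacter χ) φ
    have he : (p : ℤ) ^ ((Nat.card G).factorization p - blockDefect p B) * r φ = m := by
      exact_mod_cast (hr φ).symm.trans hm
    rw [← he, degExp_eq_add_height hM hB hφ, pow_add] at hmd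
    exact (mul_dvd_mul_iff_left hpp).1 hmd
  · obtain ⟨m, hm, hmd, -⟩ := exists_mult hM (irr_isCharacter φ) χ
    have he : (p : ℤ) ^ ((Nat.card G).factorization p - blockDefect p B) * r φ = m := by
      have := (classInner_regTr_symm hM.1 (χ : G → ℂ) (φ : G → ℂ)).symm.trans (hr φ)
      rw [hm, map_intCast] at this
      exact_mod_cast this.symm
    rw [← he, degExp_eq_add_height hM hB hχ, pow_add] at hmd
    exact (mul_dvd_mul_iff_left hpp).1 hmd
  · intro h0 hz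
    rcases h0 with h0 | h0
    · obtain ⟨n, hn, hn0, -⟩ := (blockHeight_zero_iff_mult hM hB hχ hφ).1 h0
      refine hn0 ?_
      have := hn.symm.trans (hr φ)
      rw [hz, mul_zero] at this
      exact_mod_cast this
    · obtain ⟨n, hn, hn0, -⟩ := (blockHeight_zero_iff_mult hM hB hφ hχ).1 h0
      refine hn0 ?_
      have := (classInner_regTr_symm hM.1 (χ : G → ℂ) (φ : G → ℂ)).symm.trans (hr φ)
      rw [hn, map_intCast, hz, mul_zero] at this
      exact_mod_cast this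

theorem pow_two_mul_le_sq {n : ℤ} (hn : n ≠ 0) {h : ℕ} (hd : (p : ℤ) ^ h ∣ n) :
    ((p ^ (2 * h) : ℕ) : ℤ) ≤ n ^ 2 := by
  have h1 : (p : ℤ) ^ h ≤ |n| := Int.le_of_dvd (abs_pos.2 hn) ((dvd_abs _ _).2 hd)
  have h2 : (0 : ℤ) ≤ (p : ℤ) ^ h := pow_nonneg (Int.natCast_nonneg p) _
  push_cast
  rw [mul_comm 2, pow_mul, ← sq_abs n]
  exact pow_le_pow_left₀ h2 h1 2

/-- The height-weighted bound of Brauer and Feit. -/
theorem sum_pow_height_le (hM : IsPModular p M) {B : Set (IrrCharacter G)} (hB : IsPBlock M B) :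
    4 * ∑ᶠ χ ∈ B, p ^ (2 * blockHeight p B (χ : G → ℂ)) ≤ p ^ (2 * blockDefect p B) + 4 := by
  classical
  obtain ⟨ψ, hψ, h0⟩ := exists_heightZero hM hB
  obtain ⟨r, hsum, hr⟩ := exists_row_bound hM hB hψ
  rw [finsum_mem_eq_finite_toFinset_sum _ (Set.toFinite B),
    show (Set.toFinite B).toFinset = Finset.univ.filter (· ∈ B) from by ext; simp,
    ← Finset.add_sum_erase _ _ (Finset.mem_filter.2
      ⟨Finset.mem_univ _, hψ⟩ : ψ ∈ Finset.univ.filter (· ∈ B)), h0, mul_zero, pow_zero]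
  have h1 : ((∑ φ ∈ (Finset.univ.filter (· ∈ B)).erase ψ,
      p ^ (2 * blockHeight p B (φ : G → ℂ)) : ℕ) : ℤ) ≤
      ∑ φ ∈ (Finset.univ.filter (· ∈ B)).erase ψ, r φ ^ 2 := by
    rw [Nat.cast_sum]
    refine Finset.sum_le_sum fun φ hφ => ?_
    obtain ⟨h2, -, h3⟩ := hr φ (Finset.mem_filter.1 (Finset.mem_of_mem_erase hφ)).2
    exact pow_two_mul_le_sq (h3 (Or.inl h0)) h2
  zify
  push_cast at h1 ⊢
  linarith

/-- A character of positive height halves the bound. -/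
theorem two_card_le_of_pos_height (hM : IsPModular p M) {B : Set (IrrCharacter G)}
    (hB : IsPBlock M B) {χ : IrrCharacter G} (hχ : χ ∈ B)
    (h : 0 < blockHeight p B (χ : G → ℂ)) :
    2 * Nat.card B ≤ p ^ (2 * blockDefect p B - 2) := by
  classical
  obtain ⟨ψ, hψ, h0⟩ := exists_heightZero hM hB
  set s := Finset.univ.filter (· ∈ B) with hs
  set s0 := s.filter (fun φ : IrrCharacter G => blockHeight p B (φ : G → ℂ) = 0) with hs0
  set s1 := s.filter (fun φ : IrrCharacter G => ¬ blockHeight p B (φ : G → ℂ) = 0) with hs1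
  have hp2 : ∀ {n : ℤ} {j : ℕ}, n ≠ 0 → 0 < j → (p : ℤ) ^ j ∣ n → (p : ℤ) ^ 2 ≤ n ^ 2 := by
    intro n j hn hj hd
    have := pow_two_mul_le_sq hn ((dvd_pow_self (p : ℤ) hj.ne').trans hd |>
      fun h => (pow_one (p : ℤ)).symm ▸ h)
    exact_mod_cast this
  have key : ∀ (c : IrrCharacter G) (t : Finset (IrrCharacter G)), c ∈ B → t ⊆ s.erase c →
      (∀ r : IrrCharacter G → ℤ, (∀ φ ∈ B, ((p : ℤ) ^ blockHeight p B (φ : G → ℂ) ∣ r φ) ∧
        ((p : ℤ) ^ blockHeight p B (c : G → ℂ) ∣ r φ) ∧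
        (blockHeight p B (c : G → ℂ) = 0 ∨ blockHeight p B (φ : G → ℂ) = 0 → r φ ≠ 0)) →
        ∀ φ ∈ t, (p : ℤ) ^ 2 ≤ r φ ^ 2) →
      4 * (t.card : ℤ) * (p : ℤ) ^ 2 ≤ (p : ℤ) ^ (2 * blockDefect p B) := by
    intro c t hc ht hbound
    obtain ⟨r, hsum, hr⟩ := exists_row_bound hM hB hc
    have h1 : (t.card : ℤ) * (p : ℤ) ^ 2 ≤ ∑ φ ∈ s.erase c, r φ ^ 2 := by
      calc (t.card : ℤ) * (p : ℤ) ^ 2 = ∑ _φ ∈ t, (p : ℤ) ^ 2 := by simp
        _ ≤ ∑ φ ∈ t, r φ ^ 2 := Finset.sum_le_sum fun φ hφ => hbound r hr φ hφ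
        _ ≤ _ := Finset.sum_le_sum_of_subset_of_nonneg ht fun _ _ _ => sq_nonneg _
    linarith
  have e0 : 4 * (s0.card : ℤ) * (p : ℤ) ^ 2 ≤ (p : ℤ) ^ (2 * blockDefect p B) := by
    refine key χ s0 hχ (fun φ hφ => ?_) fun r hr φ hφ => ?_
    · obtain ⟨hφs, hφ0⟩ := Finset.mem_filter.1 hφ
      exact Finset.mem_erase.2 ⟨fun e => h.ne' (e ▸ hφ0), hφs⟩
    · obtain ⟨hφs, hφ0⟩ := Finset.mem_filter.1 hφ
      obtain ⟨-, h2, h3⟩ := hr φ (Finset.mem_filter.1 hφs).2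
      exact hp2 (h3 (Or.inr hφ0)) h h2
  have e1 : 4 * (s1.card : ℤ) * (p : ℤ) ^ 2 ≤ (p : ℤ) ^ (2 * blockDefect p B) := by
    refine key ψ s1 hψ (fun φ hφ => ?_) fun r hr φ hφ => ?_
    · obtain ⟨hφs, hφ0⟩ := Finset.mem_filter.1 hφ
      exact Finset.mem_erase.2 ⟨fun e => hφ0 (e ▸ h0), hφs⟩
    · obtain ⟨hφs, hφ0⟩ := Finset.mem_filter.1 hφ
      obtain ⟨h1, -, h3⟩ := hr φ (Finset.mem_filter.1 hφs).2
      exact hp2 (h3 (Or.inl h0)) (Nat.pos_of_ne_zero hφ0) h1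
  have hd2 : 2 ≤ blockDefect p B := by
    have := height_add_two_le hM hB hχ h.ne'
    omega
  have hk : Nat.card B = s0.card + s1.card := by
    rw [hs0, hs1, Finset.card_filter_add_card_filter_not, hs, Nat.card_eq_fintype_card,
      Fintype.card_subtype]
  rw [show 2 * blockDefect p B = 2 * blockDefect p B - 2 + 2 by omega, pow_add] at e0 e1
  have hpp : (0 : ℤ) < (p : ℤ) ^ 2 := pow_pos (by exact_mod_cast hM.1.pos) _
  have f0 := le_of_mul_le_mul_right e0 hpp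
  have f1 := le_of_mul_le_mul_right e1 hpp
  have : (2 * Nat.card B : ℤ) ≤ ((p ^ (2 * blockDefect p B - 2) : ℕ) : ℤ) := by
    rw [hk]; push_cast; linarith
  exact_mod_cast this

end Cfsg.Agent.BrauerPairs
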