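/-
The bound of Brauer and Feit: at most p ^ d characters in a block of defect d ≤ 2, and at most
p ^ (2 d - 2) in a block of larger defect.
-/
import Cfsg.Agent.Lib.BrauerPairs.CentralQuotientRank
import Cfsg.Agent.Lib.BrauerPairs.HeightBounds
import Cfsg.Agent.Lib.BrauerPairs.NilpotentRankOne
import Cfsg.Agent.Lib.Star.Linear

set_option linter.unusedSectionVars false
set_option linter.style.haveILetI false

namespace Cfsg.Agent.BrauerFeit

open Cfsg Cfsg.Agent.Blocks Cfsg.Agent.BrauerPairs Cfsg.Agent.Char Cfsg.Agent.Star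
open scoped ComplexConjugate

universe u

variable {G : Type u} [Group G] [Fintype G] {p : ℕ} {M : Ideal AlgInt} [M.IsPrime]

/-- A block of positive defect has a major subsection at an element of order `p`. -/
theorem exists_major (hM : IsPModular p M) {B : Set (IrrCharacter G)} (hB : IsPBlock M B)
    (hd : 1 ≤ blockDefect p B) :
    ∃ z : G, orderOf z = p ∧ ∃ b : Set (IrrCharacter (secC z)),
      IsInducedBlock M (secC z) b B ∧ blockDefect p b = blockDefect p B ∧
        ∃ P : Subgroup (secC z), IsDefectGroup p M b P ∧ ∀ hz : z ∈ secC z, ⟨z, hz⟩ ∈ P := by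
  classical
  haveI := Fact.mk hM.1
  haveI : CharP (resField M) p := resField_charP hM
  obtain ⟨D, hD⟩ := exists_isDefectGroup (p := p) hB
  have hDd := (isDefectGroup_iff hB D).1 hD
  obtain ⟨e, he⟩ := exists_pairOf_defGrp (isBlk_Ek hB) hDd
  have hmax : IsMax p (Ek M B) (D, e) := ⟨he, hDd⟩
  have hDp := isPGroup_defectGroup hD
  have hcard := card_defectGroup hM hB hD
  haveI : Nontrivial D := Finite.one_lt_card_iff_nontrivial.1
    (hcard ▸ Nat.one_lt_pow (by omega) hM.1.one_lt)
  haveI := hDp.center_nontrivial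
  obtain ⟨w, hw⟩ := exists_prime_orderOf_dvd_card' (G := Subgroup.center D) p (by
    obtain ⟨k, hk⟩ := (hDp.to_subgroup (Subgroup.center D)).exists_card_eq
    rw [hk]
    refine dvd_pow_self p fun h => ?_
    rw [h, pow_zero] at hk
    exact (Finite.one_lt_card (α := Subgroup.center D)).ne' hk)
  set z : G := ((w : D) : G) with hzdef
  have hzo : orderOf z = p := by rw [hzdef, Subgroup.orderOf_coe, Subgroup.orderOf_coe, hw]
  have hz : z ∈ (D, e).1 := (w : D).2
  have hzc : z ∈ Subgroup.centralizer ((D, e).1 : Set G) :=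
    Subgroup.mem_centralizer_iff.2 fun v hv =>
      congrArg Subtype.val (Subgroup.mem_center_iff.1 w.2 ⟨v, hv⟩)
  obtain ⟨f, hf, -⟩ := existsUnique_below hmax.pair (Subgroup.zpowers_le.2 hz)
  obtain ⟨b, hb, hbf⟩ := exists_eq_zB (H := secC z) (hf.left hmax.pair).blk
  replace hbf : zB M (secC z) b = f := hbf
  subst hbf
  have hp := hf.pairOf_iff.2 hmax.pairOf
  have hind := (induced_iff_pairOf hM hB ⟨1, by rw [hzo, pow_one]⟩ (secC_eq z) hb).2 hp
  have hPC : D ≤ secC z := fun v hv => mem_secC.2 (Subgroup.mem_centralizer_iff.1 hzc v hv)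
  have hCa : Subgroup.centralizer (D : Set G) ≤ secC z := fun v hv =>
    mem_secC.2 (Subgroup.mem_centralizer_iff.1 hv z hz).symm
  have hN : D ≤ Subgroup.normalizer (Subgroup.zpowers z : Set G) :=
    hPC.trans (inf_le_right.trans (Subgroup.centralizer_le_normalizer _))
  obtain ⟨f', hf', -⟩ := existsUnique_nsub hmax.pair (Subgroup.zpowers_le.2 hz) hN
  obtain rfl : f' = zB M (secC z) b :=
    (existsUnique_below hmax.pair (Subgroup.zpowers_le.2 hz)).unique
      (Relation.ReflTransGen.single hf') hf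
  have hpH : IsPairOf p (secC z) (zB M (secC z) b) (D, e) :=
    ⟨(isPair_sub_iff hCa).2 ⟨hmax.pair, hPC⟩, isBlk_zB _ hb, hf'.occ⟩
  have hnoT := hmax.pairOf.noExt hmax.isDef
  have hnoH : NoExt p (secC z) (D, e) := fun c hc => by
    have hCc : Subgroup.centralizer (c.1 : Set G) ≤ secC z :=
      (Subgroup.centralizer_le hc.le).trans hCa
    exact hnoT c ⟨hmax.pair, ((isPair_sub_iff hCc).1 hc.right).1, hc.le, hc.normal, hc.inv, hc.occ⟩
  have hDb : IsDefectGroup p M b (D.subgroupOf (secC z)) :=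
    (isDefectGroup_subgroupOf_iff hb hPC).2 (hnoH.isDefGrp hpH)
  exact ⟨z, hzo, b, hind, blockDefect_eq_of_subgroupOf hM hind hD hPC hDb, _, hDb,
    fun _ => Subgroup.mem_subgroupOf.2 hz⟩

section Major

variable {x : G} {C : Subgroup G} [Fintype C] {b : Set (IrrCharacter C)} [DecidablePred (· ∈ b)]
  {B : Set (IrrCharacter G)} [DecidablePred (· ∈ B)]

/-- A major subsection whose form has no nonzero value below the rank. -/
theorem card_le_of_form_ge (D : SubData p M x C b B) (hd : blockDefect p b = blockDefect p B)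
    (hl : ∀ c : {θ // θ ∈ b} → ℤ, 0 < D.form c c → (blockRank p b : ℤ) ≤ D.form c c) :
    Nat.card B ≤ p ^ blockDefect p B := by
  classical
  haveI := Fact.mk D.hM.1
  obtain ⟨χ₀, hχ₀, h0⟩ := exists_heightZero D.hM D.hind.2.1
  set T := primExps p (p ^ (D.j + 1)) with hT
  set s := Finset.univ.filter (· ∈ B) with hs
  have hk : Nat.card B = s.card := by rw [Nat.card_eq_fintype_card, Fintype.card_subtype]
  set φ : ℝ := ((p ^ D.j * (p - 1) : ℕ) : ℝ) with hφ
  have hφ0 : 0 < φ := by
    rw [hφ]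
    have := D.hM.1.two_le
    exact Nat.cast_pos.2 (Nat.mul_pos (pow_pos D.hM.1.pos _) (by omega))
  set N : ℝ := ((p ^ blockDefect p b : ℕ) : ℝ) with hN
  set l : ℝ := (blockRank p b : ℝ) with hldef
  have hl0 : 0 < l := Nat.cast_pos.2 (one_le_blockRank D.hM D.hind.1)
  have hlam : 0 < blockScale p b :=
    div_pos (pow_pos (Nat.cast_pos.2 D.hM.1.pos) _) (Nat.cast_pos.2 Nat.card_pos)
  have hlow : ∀ χ ∈ s, φ * l ≤ ∑ t ∈ T, D.diag χ t := by
    intro χ hχ
    refine le_sum_primExps D.hM.1.one_lt D.hζ (fun a : {θ // θ ∈ b} => D.e a)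
      (blockScale_nonneg b) hl0.le (D.wRow χ) (fun m hm => ?_) ?_
    · rw [D.qn_comb_wRow]
      set v := D.form (fun a => m a * D.n χ a) (fun a => m a * D.n χ a) with hv
      have hv0 : (0 : ℤ) ≤ v := by
        have := qn_nonneg (blockScale_nonneg (p := p) b) (comb (D.wRow χ) m)
        rw [D.qn_comb_wRow] at this
        exact_mod_cast this
      have hv2 : v ≠ 0 := by
        intro e
        refine hm (funext fun u => ?_)
        have h' : qn (blockScale p b) (comb (D.wRow χ) m) = 0 := by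
          rw [D.qn_comb_wRow, ← hv, e, Int.cast_zero]
        rw [qn, mul_eq_zero, or_iff_right hlam.ne',
          Finset.sum_eq_zero_iff_of_nonneg fun _ _ => Complex.normSq_nonneg _] at h'
        exact Complex.normSq_eq_zero.1 (h' u (Finset.mem_univ _))
      rw [hldef]
      exact_mod_cast hl _ (lt_of_le_of_ne hv0 hv2.symm)
    · intro e
      have hz : D.diag χ 1 = 0 := by rw [SubData.diag, e]; simp [qn]
      have hzero : ∀ u : C, pRegularPart p (D.fn (D.coef χ 1)) u = 0 := by
        intro u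
        have h' : qn (blockScale p b) (pRegularPart p (D.fn (D.coef χ 1))) = 0 :=
          Complex.ofReal_injective (by rw [qn_eq_regPair, ← D.diag_eq, hz])
        rw [qn, mul_eq_zero, or_iff_right hlam.ne',
          Finset.sum_eq_zero_iff_of_nonneg fun _ _ => Complex.normSq_nonneg _] at h'
        exact Complex.normSq_eq_zero.1 (h' u (Finset.mem_univ _))
      let c : {θ // θ ∈ b} → ℂ := fun a => if (a : IrrCharacter C) = D.ψ then 1 else 0
      have hcR : ∀ a, MemLocalRing M (conj (c a)) := fun a => by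
        simp only [c]
        split_ifs
        · rw [map_one]; exact (locRing M).one_mem
        · rw [map_zero]; exact (locRing M).zero_mem
      have hL : regPair p (blockScale p b) (D.fn (D.coef χ 1)) (D.fn c) = 0 := by
        rw [regPair]; simp [hzero]
      have h1 := (D.regPair_major' hd (Finset.mem_filter.1 hχ).2 hχ₀ h0 c hcR).2.1
        (by rw [hL, zero_div]; exact memLocalIdeal_zero)
      refine (D.dvd_row_iff hχ₀).1 ?_ h0
      rw [← intCast_memLocalIdeal_iff D.hM]
      have h2 : regPair p (blockScale p b) (D.fn (D.coef χ₀ 1)) (D.fn c) =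
          ∑ a : {θ // θ ∈ b}, D.ζ ^ (1 * D.e a) * ((D.nv χ₀ a * D.r a D.ψ : ℤ) : ℂ) := by
        rw [D.regPair_fn]
        refine Finset.sum_congr rfl fun a _ => ?_
        rw [Finset.sum_eq_single ⟨D.ψ, D.hψ⟩]
        · simp [c, SubData.coef, SubData.nv]; ring
        · intro a' _ ha'
          simp [c, show (a' : IrrCharacter C) ≠ D.ψ from fun h => ha' (Subtype.ext h)]
        · exact fun h => absurd (Finset.mem_univ _) h
      have h3 := MemLocalIdeal.sub h1 (h2 ▸ (sum_root_congr D.hM Finset.univ D.zeta_pow_eq_one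
        (fun a : {θ // θ ∈ b} => 1 * D.e a) fun a => D.nv χ₀ a * D.r a D.ψ))
      rwa [sub_sub_cancel] at h3
  have h1 : (s.card : ℝ) * (φ * l) ≤ N * (φ * l) := by
    calc (s.card : ℝ) * (φ * l) = ∑ _χ ∈ s, φ * l := by rw [Finset.sum_const, nsmul_eq_mul]
      _ ≤ ∑ χ ∈ s, ∑ t ∈ T, D.diag χ t := Finset.sum_le_sum hlow
      _ = φ * (N * l) := by
        rw [Finset.sum_comm, Finset.sum_congr rfl fun t ht => D.sum_diag ht, Finset.sum_const,
          nsmul_eq_mul, D.card_primExps_real]
      _ = _ := by ring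
  rw [hk, ← hd, ← Nat.cast_le (α := ℝ)]
  exact le_of_mul_le_mul_right h1 (mul_pos hφ0 hl0)

end Major

theorem card_le_aux (hM : IsPModular p M) (n : ℕ) :
    ∀ (G : Type u) [Group G] [Fintype G] (B : Set (IrrCharacter G)), IsPBlock M B →
      blockDefect p B = n →
      (n ≤ 2 → Nat.card B ≤ p ^ n) ∧ (3 ≤ n → Nat.card B ≤ p ^ (2 * n - 2)) := by
  induction n using Nat.strong_induction_on with
  | _ n ih =>
  intro G _ _ B hB hn
  classical
  haveI := Fact.mk hM.1
  have hp := hM.1
  rcases Nat.eq_zero_or_pos n with hn0 | hn0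
  · have h := card_block_le hM hB
    rw [hn, hn0] at h
    subst hn0
    simp only [pow_zero, mul_zero] at h ⊢
    exact ⟨fun _ => by omega, fun h' => by omega⟩
  by_cases hpos : ∃ χ ∈ B, 0 < blockHeight p B (χ : G → ℂ)
  · obtain ⟨χ, hχ, hh⟩ := hpos
    have h1 := height_add_two_le hM hB hχ hh.ne'
    have h2 := two_card_le_of_pos_height hM hB hχ hh
    rw [hn] at h1 h2
    exact ⟨fun h => by omega, fun _ => by omega⟩
  push Not at hpos
  have hh0 : ∀ χ ∈ B, blockHeight p B (χ : G → ℂ) = 0 := fun χ hχ => Nat.le_zero.1 (hpos χ hχ)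
  obtain ⟨z, hzo, b, hind, hbd, P, hP, hzP⟩ := exists_major hM hB (by omega)
  haveI : Fintype (secC z) := Fintype.ofFinite _
  have hzC : z ∈ secC z := mem_secC.2 rfl
  set zH : secC z := ⟨z, hzC⟩ with hzH
  have hcent : zH ∈ Subgroup.center (secC z) := Subgroup.mem_center_iff.2 fun g =>
    Subtype.ext (mem_secC.1 g.2)
  have hzHo : orderOf zH = p := by rw [← Subgroup.orderOf_coe]; exact hzo
  have hy : ∃ k, orderOf z = p ^ k := ⟨1, by rw [hzo, pow_one]⟩
  have hsq : Nat.card B ^ 2 ≤ p ^ (2 * n) * blockRank p b := by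
    have h := card_heightZero_sq_le hM hy (secC_eq z) hind
    rw [hbd, hn] at h
    refine le_of_eq_of_le ?_ h
    rw [Nat.card_eq_fintype_card, Fintype.card_subtype]
    congr 2
    exact Finset.filter_congr fun χ _ => ⟨fun h => ⟨h, hh0 χ h⟩, fun h => h.1⟩
  by_cases hn1 : n = 1
  · refine ⟨fun _ => ?_, fun h => by omega⟩
    have hl : blockRank p b = 1 := by
      refine blockRank_eq_one_of_central hM hind.1 hP ?_
      have hc : Nat.card P = p := by
        rw [card_defectGroup hM hind.1 hP, hbd, hn, hn1, pow_one]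
      rw [← Subgroup.eq_of_le_of_card_ge (Subgroup.zpowers_le.2 (hzP hzC))
        (by rw [hc, Nat.card_zpowers, ← hzH, hzHo])]
      exact Subgroup.zpowers_le.2 hcent
    rw [hl, mul_one, hn1] at hsq
    rw [hn1, pow_one]
    exact (Nat.pow_le_pow_iff_left two_ne_zero).1 (by simpa using hsq)
  by_cases hn2 : n = 2
  · refine ⟨fun _ => ?_, fun h => by omega⟩
    obtain ⟨D⟩ := nonempty_subData hM hy (secC_eq z) hind
    rw [← hn]
    exact card_le_of_form_ge D hbd fun c hc => CentralQuotientRank.rank_le_form hM hind.1 hcent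
      hzHo (by rw [hbd, hn, hn2]) D.hr c hc
  refine ⟨fun h => by omega, fun hn3 => ?_⟩
  set N : Subgroup (secC z) := Subgroup.zpowers zH with hN
  haveI : N.Normal := ⟨fun x hx g => by
    have hxc : x ∈ Subgroup.center (secC z) := (Subgroup.zpowers_le.2 hcent : N ≤ _) hx
    rwa [Subgroup.mem_center_iff.1 hxc g, mul_inv_cancel_right]⟩
  haveI : Fintype (secC z ⧸ N) := Fintype.ofFinite _
  obtain ⟨bbar, hbb, hlt, hle⟩ :=
    CentralQuotientRank.exists_quotient_bound hM hind.1 hcent hzHo N hN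
  rw [hbd, hn] at hlt
  have hk : Nat.card bbar ≤ p ^ (2 * n - 4) := by
    obtain ⟨h1, h2⟩ := ih _ hlt (secC z ⧸ N) bbar hbb rfl
    by_cases hle2 : blockDefect p bbar ≤ 2
    · exact (h1 hle2).trans (Nat.pow_le_pow_right hp.pos (by omega))
    · exact (h2 (by omega)).trans (Nat.pow_le_pow_right hp.pos (by omega))
  refine (Nat.pow_le_pow_iff_left two_ne_zero).1 (hsq.trans ?_)
  calc p ^ (2 * n) * blockRank p b ≤ p ^ (2 * n) * p ^ (2 * n - 4) :=
        Nat.mul_le_mul_left _ (hle.trans hk)
    _ = _ := by rw [← pow_add, ← pow_mul]; congr 1; omega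

end Cfsg.Agent.BrauerFeit
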