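/-
Blocks with abelian defect groups generated by two or three elements.
-/
import Cfsg.Agent.Lib.BrauerPairs.BrauerFeit
import Cfsg.Agent.Lib.BrauerPairs.AbelianRowVectors

set_option linter.unusedSectionVars false
set_option linter.style.haveILetI false

namespace Cfsg.Agent.ProjVec

open Cfsg Cfsg.Agent.Blocks Cfsg.Agent.Char Cfsg.Agent.BrauerPairs Cfsg.Agent.CharX Cfsg.Agent.Star
open scoped ComplexConjugate

universe u

variable {G : Type u} [Group G] [Fintype G] {p : ℕ} [Fact p.Prime] {M : Ideal AlgInt} [M.IsPrime]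
  {B : Set (IrrCharacter G)} {D : Subgroup G}

/-- The subsection below a maximal pair at an element of an abelian defect group. -/
theorem exists_major_at (hM : IsPModular p M) (hB : IsPBlock M B) (hD : IsDefectGroup p M B D)
    (hDC : D ≤ Subgroup.centralizer (D : Set G)) {z : G} (hz : z ∈ D) :
    ∃ b : Set (IrrCharacter (secC z)),
      IsInducedBlock M (secC z) b B ∧ blockDefect p b = blockDefect p B ∧
        IsDefectGroup p M b (D.subgroupOf (secC z)) := by
  classical
  haveI : CharP (resField M) p := resField_charP hM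
  have hDd := (isDefectGroup_iff hB D).1 hD
  obtain ⟨e, he⟩ := exists_pairOf_defGrp (isBlk_Ek hB) hDd
  have hmax : IsMax p (Ek M B) (D, e) := ⟨he, hDd⟩
  obtain ⟨k, hk⟩ := IsPGroup.iff_orderOf.1 (isPGroup_defectGroup hD) ⟨z, hz⟩
  rw [Subgroup.orderOf_mk] at hk
  have hzc := hDC hz
  have hz' : z ∈ (D, e).1 := hz
  obtain ⟨f, hf, -⟩ := existsUnique_below hmax.pair (Subgroup.zpowers_le.2 hz')
  obtain ⟨b, hb, hbf⟩ := exists_eq_zB (H := secC z) (hf.left hmax.pair).blk
  replace hbf : zB M (secC z) b = f := hbf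
  subst hbf
  have hp := hf.pairOf_iff.2 hmax.pairOf
  have hind := (induced_iff_pairOf hM hB ⟨k, hk⟩ (secC_eq z) hb).2 hp
  have hPC : D ≤ secC z := fun v hv => mem_secC.2 (Subgroup.mem_centralizer_iff.1 hzc v hv)
  have hCa : Subgroup.centralizer (D : Set G) ≤ secC z := fun v hv =>
    mem_secC.2 (Subgroup.mem_centralizer_iff.1 hv z hz).symm
  have hN : D ≤ Subgroup.normalizer (Subgroup.zpowers z : Set G) :=
    hPC.trans (inf_le_right.trans (Subgroup.centralizer_le_normalizer _))
  obtain ⟨f', hf', -⟩ := existsUnique_nsub hmax.pair (Subgroup.zpowers_le.2 hz') hN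
  obtain rfl : f' = zB M (secC z) b :=
    (existsUnique_below hmax.pair (Subgroup.zpowers_le.2 hz')).unique
      (Relation.ReflTransGen.single hf') hf
  have hpH : IsPairOf p (secC z) (zB M (secC z) b) (D, e) :=
    ⟨(isPair_sub_iff hCa).2 ⟨hmax.pair, hPC⟩, isBlk_zB _ hb, hf'.occ⟩
  have hnoT := hmax.pairOf.noExt hmax.isDef
  have hnoH : NoExt p (secC z) (D, e) := fun c hc => by
    have hCc : Subgroup.centralizer (c.1 : Set G) ≤ secC z :=
      (Subgroup.centralizer_le hc.le).trans hCa
    exact hnoT c ⟨hmax.pair, ((isPair_sub_iff hCc).1 hc.right).1, hc.le, hc.normal, hc.inv, hc.occ⟩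
  have hDb : IsDefectGroup p M b (D.subgroupOf (secC z)) :=
    (isDefectGroup_subgroupOf_iff hb hPC).2 (hnoH.isDefGrp hpH)
  exact ⟨b, hind, blockDefect_eq_of_subgroupOf hM hind hD hPC hDb, hDb⟩

/-- The quotient of a subsection by its element. -/
theorem exists_quotient_data (hM : IsPModular p M) (hB : IsPBlock M B)
    (hD : IsDefectGroup p M B D) (hDC : D ≤ Subgroup.centralizer (D : Set G)) {z : G}
    (hz : z ∈ D) :
    ∃ (H : Subgroup G) (_ : Fintype H) (N : Subgroup H) (_ : N.Normal) (_ : Fintype (H ⧸ N))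
      (b : Set (IrrCharacter H)) (bbar : Set (IrrCharacter (H ⧸ N))) (π : D →* H ⧸ N),
      H = Subgroup.centralizer ({z} : Set G) ∧ IsInducedBlock M H b B ∧
      blockDefect p b = blockDefect p B ∧ N ≤ Subgroup.center H ∧ IsPGroup p N ∧
      Nat.card N = orderOf z ∧ IsPBlock M bbar ∧ (∀ η ∈ bbar, infl N η ∈ b) ∧
      IsDefectGroup p M bbar π.range ∧ Nat.card π.range * orderOf z = Nat.card D ∧
      π ⟨z, hz⟩ = 1 := by
  classical
  obtain ⟨b, hind, hbd, hDb⟩ := exists_major_at hM hB hD hDC hz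
  haveI : Fintype (secC z) := Fintype.ofFinite _
  have hDH : D ≤ secC z := fun v hv => mem_secC.2 (Subgroup.mem_centralizer_iff.1 (hDC hz) v hv)
  set zH : secC z := ⟨z, hDH hz⟩ with hzH
  set N : Subgroup (secC z) := Subgroup.zpowers zH with hN
  have hcent : zH ∈ Subgroup.center (secC z) :=
    Subgroup.mem_center_iff.2 fun g => Subtype.ext (mem_secC.1 g.2)
  have hNc : N ≤ Subgroup.center (secC z) := Subgroup.zpowers_le.2 hcent
  haveI : N.Normal := ⟨fun x hx g => by
    rwa [Subgroup.mem_center_iff.1 (hNc hx) g, mul_inv_cancel_right]⟩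
  haveI : Fintype (secC z ⧸ N) := Fintype.ofFinite _
  obtain ⟨k, hk⟩ := IsPGroup.iff_orderOf.1 (isPGroup_defectGroup hD) ⟨z, hz⟩
  rw [Subgroup.orderOf_mk] at hk
  have hNcard : Nat.card N = orderOf z := by
    rw [hN, Nat.card_zpowers, ← Subgroup.orderOf_coe]
  have hNp : IsPGroup p N := IsPGroup.of_card (n := k) (by rw [hNcard, hk])
  obtain ⟨bbar, hbb, hinfl, hdef⟩ := exists_quotient_block (N := N) hM hNp hind.1
  let π : D →* secC z ⧸ N := (QuotientGroup.mk' N).comp (Subgroup.inclusion hDH)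
  have hrange : π.range = (D.subgroupOf (secC z)).map (QuotientGroup.mk' N) := by
    rw [MonoidHom.range_comp, Subgroup.inclusion_range]
  refine ⟨secC z, inferInstance, N, inferInstance, inferInstance, b, bbar, π,
    secC_eq z, hind, hbd, hNc, hNp, hNcard, hbb, hinfl,
    hrange ▸ (hdef _).2 ⟨_, hDb, rfl⟩, ?_, ?_⟩
  · rw [← π.ker.card_mul_index, Subgroup.index_ker, mul_comm]
    congr 1
    rw [← hNcard]
    refine Nat.card_congr
      { toFun := fun x => ⟨⟨((x : secC z) : G), ?_⟩, ?_⟩
        invFun := fun v => ⟨Subgroup.inclusion hDH (v : D), ?_⟩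
        left_inv := fun x => rfl
        right_inv := fun v => rfl }
    · obtain ⟨i, hi⟩ := Subgroup.mem_zpowers_iff.1 x.2
      rw [← hi, SubgroupClass.coe_zpow]
      exact zpow_mem hz i
    · rw [MonoidHom.mem_ker]
      show QuotientGroup.mk' N _ = 1
      rw [QuotientGroup.mk'_apply, QuotientGroup.eq_one_iff]
      exact x.2
    · exact (QuotientGroup.eq_one_iff _).1 v.2
  · show QuotientGroup.mk' N _ = 1
    rw [QuotientGroup.mk'_apply, QuotientGroup.eq_one_iff]
    exact Subgroup.mem_zpowers zH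

/-- Two generators of an abelian p-group of order at least `p ^ 3` can be chosen so that one has
index at least `p ^ 2`. -/
theorem exists_small_generator {A : Type*} [CommGroup A] [Finite A] {d : ℕ} (hd : 3 ≤ d)
    (hA : Nat.card A = p ^ d) {a b : A} (hab : Subgroup.closure ({a, b} : Set A) = ⊤) :
    ∃ a' b' : A, Subgroup.closure ({a', b'} : Set A) = ⊤ ∧
      orderOf b' * p ^ 2 ∣ p ^ d := by
  classical
  have hp : p.Prime := Fact.out
  haveI : Fintype A := Fintype.ofFinite A
  obtain ⟨⟨a, b⟩, hm, hmin⟩ := Finset.exists_min_image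
    (Finset.univ.filter fun q : A × A => Subgroup.closure ({q.1, q.2} : Set A) = ⊤)
    (fun q => orderOf q.2) ⟨(a, b), Finset.mem_filter.2 ⟨Finset.mem_univ _, hab⟩⟩
  obtain ⟨-, hcl⟩ := Finset.mem_filter.1 hm
  simp only at hcl
  have hmin' : ∀ x y : A, Subgroup.closure ({x, y} : Set A) = ⊤ → orderOf b ≤ orderOf y :=
    fun x y h => hmin (x, y) (Finset.mem_filter.2 ⟨Finset.mem_univ _, h⟩)
  obtain ⟨i, hid, hi⟩ := (Nat.dvd_prime_pow hp).1 (hA ▸ orderOf_dvd_natCard b)
  refine ⟨a, b, hcl, ?_⟩
  rw [hi, ← pow_add]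
  refine pow_dvd_pow p ?_
  by_contra hcon
  have hcyc : ∀ x : A, orderOf x = p ^ d → False := by
    intro x hx
    have htop : Subgroup.zpowers x = ⊤ := Subgroup.eq_top_of_card_eq _ (by
      rw [Nat.card_zpowers, hx, hA])
    have h := hmin' x 1 (eq_top_iff.2 (htop ▸ Subgroup.zpowers_le.2
      (Subgroup.subset_closure (Set.mem_insert _ _))))
    rw [orderOf_one, hi] at h
    exact absurd h (not_le.2 (Nat.one_lt_pow (by omega) hp.one_lt))
  have hid' : i = d - 1 := by
    by_contra h
    exact hcyc b (by rw [hi]; congr 1; omega)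
  subst hid'
  obtain ⟨j, hjd, hj⟩ := (Nat.dvd_prime_pow hp).1 (hA ▸ orderOf_dvd_natCard a)
  have hle := hmin' b a (by rwa [Set.pair_comm])
  rw [hj, hi, Nat.pow_le_pow_iff_right hp.one_lt] at hle
  obtain rfl : j = d - 1 := by
    by_contra h
    exact hcyc a (by rw [hj]; congr 1; omega)
  have hindex : (Subgroup.zpowers b).index = p := by
    have h := (Subgroup.zpowers b).card_mul_index
    rw [Nat.card_zpowers, hi, hA] at h
    refine Nat.eq_of_mul_eq_mul_left (pow_pos hp.pos (d - 1)) (h.trans ?_)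
    rw [← pow_succ]; congr 1; omega
  have hap : a ^ p ∈ Subgroup.zpowers b := hindex ▸ Subgroup.pow_index_mem _ a
  obtain ⟨n, hn⟩ := (mem_powers_iff_mem_zpowers (x := b)).2 hap
  simp only at hn
  have hpn : p ∣ n := by
    by_contra h
    have h1 : orderOf (b ^ n) = orderOf b := Nat.Coprime.orderOf_pow (by
      rw [hi]; exact Nat.Coprime.pow_left _ (hp.coprime_iff_not_dvd.2 h))
    rw [hn, hi, orderOf_pow' a hp.ne_zero, hj, Nat.gcd_eq_right (dvd_pow_self p (by omega))] at h1
    exact absurd h1 (Nat.div_lt_self (pow_pos hp.pos _) hp.one_lt).ne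
  obtain ⟨k, rfl⟩ := hpn
  set a' := a * (b ^ k)⁻¹ with ha'
  have hcl' : Subgroup.closure ({b, a'} : Set A) = ⊤ := by
    refine eq_top_iff.2 (hcl ▸ (Subgroup.closure_le _).2 ?_)
    have hb : b ∈ Subgroup.closure ({b, a'} : Set A) :=
      Subgroup.subset_closure (Set.mem_insert _ _)
    intro v hv
    rcases hv with h | h <;> rw [h]
    · have h : a' * b ^ k ∈ Subgroup.closure ({b, a'} : Set A) :=
        mul_mem (Subgroup.subset_closure (Set.mem_insert_of_mem _ rfl)) (pow_mem hb k)
      rwa [ha', inv_mul_cancel_right] at h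
    · exact hb
  have h1 : a' ^ p = 1 := by
    rw [ha', mul_pow, inv_pow, ← pow_mul, mul_comm k p, hn, mul_inv_cancel]
  have h2 := (hmin' b a' hcl').trans (Nat.le_of_dvd hp.pos (orderOf_dvd_of_pow_eq_one h1))
  rw [hi] at h2
  have h3 : p ^ 2 ≤ p ^ (d - 1) := Nat.pow_le_pow_right hp.pos (by omega)
  have := hp.two_le
  nlinarith

/-- An abelian defect group generated by two elements. -/
theorem card_le_of_two_generated (hM : IsPModular p M) (hB : IsPBlock M B)
    (hD : IsDefectGroup p M B D) (hDC : D ≤ Subgroup.centralizer (D : Set G)) {a b : D}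
    (hab : Subgroup.closure ({a, b} : Set D) = ⊤) : Nat.card B ≤ Nat.card D := by
  classical
  have hp : p.Prime := Fact.out
  have hcard := card_defectGroup hM hB hD
  set d := blockDefect p B with hd
  by_cases hd2 : d ≤ 2
  · rw [hcard]; exact (BrauerFeit.card_le_aux hM d G B hB hd.symm).1 hd2
  letI : CommGroup D :=
    { (inferInstance : Group D) with
      mul_comm := fun x y => Subtype.ext (Subgroup.mem_centralizer_iff.1 (hDC y.2) x x.2) }
  obtain ⟨a, b, hcl, hdiv⟩ := exists_small_generator (p := p) (A := D) (by omega) hcard hab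
  obtain ⟨H, hHf, N, hNn, hQf, f, fbar, π, hH, hind, hfd, hNc, hNp, hNcard, hfb, hinfl, hdef,
    hπcard, hπb⟩ := exists_quotient_data hM hB hD hDC b.2
  haveI : IsCyclic π.range := by
    refine ⟨⟨⟨π a, a, rfl⟩, fun v => ?_⟩⟩
    obtain ⟨w, hw⟩ := v.2
    have hmem : w ∈ (Subgroup.zpowers (π a)).comap π := by
      refine ((Subgroup.closure_le _).2 ?_) (hcl.symm ▸ Subgroup.mem_top w)
      intro v' hv'
      rcases hv' with h | h <;> rw [h]
      · exact Subgroup.mem_zpowers _
      · show π b ∈ Subgroup.zpowers (π a)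
        rw [show π b = 1 from hπb]
        exact one_mem _
    obtain ⟨i, hi⟩ := Subgroup.mem_zpowers_iff.1 hmem
    exact Subgroup.mem_zpowers_iff.2 ⟨i, Subtype.ext (hi.trans hw)⟩
  obtain ⟨s, hs⟩ := (isPGroup_defectGroup hdef).exists_card_eq
  have hs2 : 2 ≤ s := by
    rw [Subgroup.orderOf_coe] at hπcard
    rw [hs, hcard] at hπcard
    rw [← hπcard] at hdiv
    have := Nat.eq_zero_or_pos (orderOf b)
    have hdvd : p ^ 2 ∣ p ^ s := (Nat.mul_dvd_mul_iff_left (orderOf_pos b)).1
      (by rwa [mul_comm (p ^ s)] at hdiv)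
    exact (Nat.pow_dvd_pow_iff_le_right hp.one_lt).1 hdvd
  have hv := hasVectors_lift hM hNp hNc hind.1 hfb hinfl
    (hasVectors_of_cyclic hM hfb hdef inferInstance hs2 hs)
  obtain ⟨k, hk⟩ := IsPGroup.iff_orderOf.1 (isPGroup_defectGroup hD) b
  refine (card_le_of_hasVectors hM ⟨k, by rw [Subgroup.orderOf_coe]; exact hk⟩ hH hind hfd
    hv).trans (le_of_eq ?_)
  rw [hNcard, mul_comm, hπcard]

/-- An abelian defect group generated by three elements. -/
theorem card_pow_three_le_of_three_generated (hM : IsPModular p M) (hB : IsPBlock M B)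
    (hD : IsDefectGroup p M B D) (hDC : D ≤ Subgroup.centralizer (D : Set G)) {a b c : D}
    (habc : Subgroup.closure ({a, b, c} : Set D) = ⊤) (ha : orderOf b ≤ orderOf a)
    (hc : orderOf c ≤ orderOf a) {d : ℕ} (hd : Nat.card D = p ^ d) :
    Nat.card B ^ 3 ≤ p ^ (5 * d) := by
  classical
  have hp : p.Prime := Fact.out
  obtain ⟨H, hHf, N, hNn, hQf, f, fbar, π, hH, hind, hfd, hNc, hNp, hNcard, hfb, hinfl, hdef,
    hπcard, hπa⟩ := exists_quotient_data hM hB hD hDC a.2
  have hRC : π.range ≤ Subgroup.centralizer (π.range : Set (H ⧸ N)) := by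
    rintro _ ⟨x, rfl⟩
    refine Subgroup.mem_centralizer_iff.2 ?_
    rintro _ ⟨y, rfl⟩
    rw [← map_mul, ← map_mul]
    exact congrArg π (Subtype.ext (Subgroup.mem_centralizer_iff.1 (hDC x.2) y y.2))
  have htwo : Nat.card fbar ≤ Nat.card π.range := by
    refine card_le_of_two_generated hM hfb hdef hRC
      (a := π.rangeRestrict b) (b := π.rangeRestrict c) (eq_top_iff.2 fun v _ => ?_)
    obtain ⟨w, rfl⟩ := π.rangeRestrict_surjective v
    refine ((Subgroup.closure_le (K := (Subgroup.closure _).comap π.rangeRestrict)).2 ?_)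
      (habc.symm ▸ Subgroup.mem_top w)
    intro v' hv'
    rcases hv' with h | h | h <;> rw [h]
    · rw [SetLike.mem_coe, Subgroup.mem_comap,
        show π.rangeRestrict a = 1 from Subtype.ext hπa]
      exact one_mem _
    · exact Subgroup.subset_closure (Set.mem_insert _ _)
    · exact Subgroup.subset_closure (Set.mem_insert_of_mem _ rfl)
  -- the order of the first generator
  have hbig : Nat.card D ≤ orderOf a * (orderOf a * orderOf a) := by
    have htop : Subgroup.zpowers a ⊔ (Subgroup.zpowers b ⊔ Subgroup.zpowers c) = ⊤ := by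
      refine eq_top_iff.2 (habc ▸ (Subgroup.closure_le _).2 ?_)
      intro v' hv'
      rcases hv' with h | h | h <;> rw [h]
      · exact Subgroup.mem_sup_left (Subgroup.mem_zpowers _)
      · exact Subgroup.mem_sup_right (Subgroup.mem_sup_left (Subgroup.mem_zpowers _))
      · exact Subgroup.mem_sup_right (Subgroup.mem_sup_right (Subgroup.mem_zpowers _))
    haveI : IsMulCommutative D :=
      ⟨⟨fun x y => Subtype.ext (Subgroup.mem_centralizer_iff.1 (hDC y.2) x x.2)⟩⟩
    have hsup : ∀ X Y : Subgroup D, Nat.card ↥(X ⊔ Y) ≤ Nat.card X * Nat.card Y := by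
      intro X Y
      haveI : Y.Normal := Subgroup.normal_of_isMulCommutative Y
      rw [← SetLike.coe_sort_coe, Subgroup.mul_normal, Nat.card_coe_set_eq]
      refine Set.natCard_mul_le.trans ?_
      simp only [SetLike.coe_sort_coe, le_refl]
    calc Nat.card D = Nat.card (⊤ : Subgroup D) := Subgroup.card_top.symm
      _ ≤ orderOf a * (orderOf a * orderOf a) := by
        rw [← htop]
        refine (hsup _ _).trans ?_
        rw [Nat.card_zpowers]
        refine Nat.mul_le_mul_left _ ((hsup _ _).trans ?_)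
        rw [Nat.card_zpowers, Nat.card_zpowers]
        exact Nat.mul_le_mul ha hc
  rw [Subgroup.orderOf_coe] at hπcard hNcard
  obtain ⟨k, hk⟩ := IsPGroup.iff_orderOf.1 (isPGroup_defectGroup hD) a
  obtain ⟨s, hs⟩ := (isPGroup_defectGroup hdef).exists_card_eq
  rw [hk, hd, hs, ← pow_add] at hπcard
  rw [hk, hd, ← pow_add, ← pow_add, Nat.pow_le_pow_iff_right hp.one_lt] at hbig
  have hsd : s + k = d := Nat.pow_right_injective hp.two_le hπcard
  have h1 := card_le_mul_rank hM ⟨k, by rw [Subgroup.orderOf_coe]; exact hk⟩ hH hind hfd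
  rw [show blockDefect p B = d from Nat.pow_right_injective hp.two_le
    ((card_defectGroup hM hB hD).symm.trans hd)] at h1
  have h2 := blockRank_le_quotient hM hNp (sup_centralizer_eq_top N hNc) hind.1 hfb hinfl
  have h3 : Nat.card B ≤ p ^ (d + s) := by
    rw [pow_add]
    exact h1.trans (Nat.mul_le_mul_left _ (h2.trans (hs ▸ htwo)))
  refine (Nat.pow_le_pow_left h3 3).trans ?_
  rw [← pow_mul]
  exact Nat.pow_le_pow_right hp.pos (by omega)

end Cfsg.Agent.ProjVec
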