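/-
Characters of height zero in a block whose defect group has a `p`-group of automorphisms.
-/
import Cfsg.Agent.Lib.Star.Focal
import Cfsg.Agent.Lib.BrauerPairs.FusionBridge
import Cfsg.Agent.Lib.Fusion.TransferControl
import Cfsg.Agent.Lib.Blocks.Degree

set_option linter.unusedSectionVars false
set_option linter.style.haveILetI false

namespace Cfsg.Agent.AutPGroup

open Cfsg MonoidAlgebra Cfsg.Agent.Blocks Cfsg.Agent.BrauerPairs Cfsg.Agent.Char Cfsg.Agent.Star
open scoped ComplexConjugate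

universe u

variable {G : Type u} [Group G] [Fintype G] {p : ℕ} [Fact p.Prime] {M : Ideal AlgInt} [M.IsPrime]
  [CharP (resField M) p] {B : Set (IrrCharacter G)} {P : Subgroup G}
  {e : Set (IrrCharacter (Subgroup.centralizer (P : Set G)))}

/-- The height zero characters satisfying a condition on the regular elements fall into free orbits. -/
theorem focal_index_dvd_card_of (hM : IsPModular p M) (hB : IsPBlock M B) (he : IsPBlock M e)
    (hmax : IsMax p (Ek M B) (zI M ⟨P, e⟩)) (F : Subgroup G)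
    (hF : ∀ (g : G) (b : Pr (resField M) G), SubLE p ⊤ b (zI M ⟨P, e⟩) →
      SubLE p ⊤ (cjP g b) (zI M ⟨P, e⟩) → ∀ u ∈ b.1, u⁻¹ * (g * u * g⁻¹) ∈ F)
    (hcomm : ∀ g ∈ P, ∀ u ∈ P, u⁻¹ * (g * u * g⁻¹) ∈ F) (Q : IrrCharacter G → Prop)
    (hQ : ∀ χ ψ : IrrCharacter G, (∀ x : G, ¬ p ∣ orderOf x → (ψ : G → ℂ) x = (χ : G → ℂ) x) → Q χ → Q ψ) :
    (F.subgroupOf P).index ∣
      Nat.card {χ : IrrCharacter G // χ ∈ B ∧ blockHeight p B (χ : G → ℂ) = 0 ∧ Q χ} := by
  classical
  let F' : Subgroup P := F.subgroupOf P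
  haveI hN : F'.Normal := ⟨fun n hn g => by
    have h1 : (n : G)⁻¹ * ((g : G) * n * (g : G)⁻¹) ∈ F := hcomm g g.2 n n.2
    show (g : G) * n * (g : G)⁻¹ ∈ F
    have h2 := F.mul_mem (show (n : G) ∈ F from hn) h1
    rwa [mul_inv_cancel_left] at h2⟩
  letI : CommGroup (P ⧸ F') :=
    { (inferInstance : Group (P ⧸ F')) with
      mul_comm := fun x y => by
        induction x using QuotientGroup.induction_on with
        | _ x =>
          induction y using QuotientGroup.induction_on with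
          | _ y =>
            rw [← QuotientGroup.mk_mul, ← QuotientGroup.mk_mul, QuotientGroup.eq]
            show ((x : G) * y)⁻¹ * ((y : G) * x) ∈ F
            have h1 := hcomm (x : G)⁻¹ (inv_mem x.2) (y : G) y.2
            convert h1 using 1
            group }
  let π : P →* P ⧸ F' := QuotientGroup.mk' F'
  have htriv : ∀ mu : (P ⧸ F') →* ℂˣ, IsTriv p (zI M ⟨P, e⟩) (mu.comp π) := by
    intro mu g b hb hgb u hu h₁ h₂
    show mu (π _) = mu (π _)
    refine congrArg mu (QuotientGroup.eq.2 ?_).symm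
    exact hF g b hb hgb u hu
  let X := {χ : IrrCharacter G // χ ∈ B ∧ blockHeight p B (χ : G → ℂ) = 0 ∧ Q χ}
  choose act hact1 hact2 using fun (mu : (P ⧸ F') →* ℂˣ) (χ : X) =>
    exists_linMul hM hB hmax (htriv mu) χ.2.1
  have hh : ∀ mu χ, blockHeight p B (act mu χ : G → ℂ) = 0 := by
    intro mu χ
    have e1 : (act mu χ : G → ℂ) 1 = (χ.1 : G → ℂ) 1 := by
      rw [hact2, star_regular hM hB hmax (isStarFn_chFun (htriv mu)) χ.2.1
        (by simp [(Fact.out : p.Prime).ne_one]), chFun_one, one_mul]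
    have e2 : charDegree (act mu χ : G → ℂ) = charDegree (χ.1 : G → ℂ) := by
      rw [charDegree, charDegree, e1]
    have h2 := χ.2.2.1
    rw [blockHeight] at h2 ⊢
    rw [e2]
    exact h2
  have hq : ∀ mu χ, Q (act mu χ) := fun mu χ => hQ χ.1 _ (fun x hx => by
    rw [hact2, star_regular hM hB hmax (isStarFn_chFun (htriv mu)) χ.2.1 hx, chFun_one, one_mul]) χ.2.2.2
  letI : SMul ((P ⧸ F') →* ℂˣ) X := ⟨fun mu χ => ⟨act mu χ, hact1 mu χ, hh mu χ, hq mu χ⟩⟩
  letI : MulAction ((P ⧸ F') →* ℂˣ) X :=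
    { one_smul := fun χ => Subtype.ext (Subtype.ext (by
        show (act 1 χ : G → ℂ) = _
        exact (hact2 1 χ).trans (star_chFun_one hM hB hmax χ.2.1)))
      mul_smul := fun mu nu χ => Subtype.ext (Subtype.ext (by
        show (act (mu * nu) χ : G → ℂ) = (act mu ⟨act nu χ, hact1 nu χ, hh nu χ, hq nu χ⟩ : G → ℂ)
        rw [hact2, hact2, star_star hM hmax (htriv mu) (htriv nu) (hact2 nu χ)]
        rfl)) }
  have hdvd := index_dvd_card_of_stabilizer (Γ := (P ⧸ F') →* ℂˣ) (X := X) ⊥ ?_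
  · rw [Subgroup.index_bot, CommGroup.card_monoidHom_of_hasEnoughRootsOfUnity (P ⧸ F') ℂ] at hdvd
    exact hdvd
  · intro χ mu hmu
    rw [MulAction.mem_stabilizer_iff] at hmu
    have he' : (act mu χ : G → ℂ) = (χ.1 : G → ℂ) :=
      congrArg (fun x : X => (x.1 : G → ℂ)) hmu
    rw [hact2] at he'
    have h1 := Star.lam_eq_one_of_fixed_heightZero hM hB he hmax (htriv mu) χ.2.1 χ.2.2.1 he'
    refine Subgroup.mem_bot.2 (MonoidHom.ext fun q => ?_)
    induction q using QuotientGroup.induction_on with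
    | _ x => exact DFunLike.congr_fun h1 x

/-- The sum of the squares of the height zero part of a row is a multiple of a power of `p`. -/
theorem exists_height_zero_row (hM : IsPModular p M) (hB : IsPBlock M B) [DecidablePred (· ∈ B)] :
    ∃ r : IrrCharacter G → ℤ,
      (∀ φ ψ : IrrCharacter G, (∀ x : G, ¬ p ∣ orderOf x → (ψ : G → ℂ) x = (φ : G → ℂ) x) → r ψ = r φ) ∧
      (∀ φ ∈ B, blockHeight p B (φ : G → ℂ) = 0 ↔ ¬ (p : ℤ) ∣ r φ) ∧
      (p : ℤ) ^ min 2 (blockDefect p B) ∣
        ∑ φ ∈ Finset.univ.filter (fun φ => φ ∈ B ∧ blockHeight p B (φ : G → ℂ) = 0), r φ ^ 2 := by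
  classical
  obtain ⟨χ, hχ, h0⟩ := exists_heightZero hM hB
  obtain ⟨r, hr, -, hsum⟩ := exists_row hM hB hχ
  have hp : Nat.Prime p := hM.1
  have hpp : (p : ℤ) ^ ((Nat.card G).factorization p - blockDefect p B) ≠ 0 :=
    pow_ne_zero _ (Int.natCast_ne_zero.2 hp.ne_zero)
  have hunit : ∀ φ ∈ B, blockHeight p B (φ : G → ℂ) = 0 ↔ ¬ (p : ℤ) ∣ r φ := by
    intro φ hφ
    obtain ⟨m, hm, hm0, hv⟩ := (blockHeight_zero_iff_mult hM hB hχ hφ).1 h0
    rw [hr] at hm
    have hm' : (p : ℤ) ^ ((Nat.card G).factorization p - blockDefect p B) * r φ = m := by exact_mod_cast hm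
    have hr0 : r φ ≠ 0 := fun h => hm0 (by rw [← hm', h, mul_zero])
    rw [← hm', padicValInt.mul hpp hr0] at hv
    have hval : padicValInt p ((p : ℤ) ^ ((Nat.card G).factorization p - blockDefect p B)) =
        (Nat.card G).factorization p - blockDefect p B := by
      rw [padicValInt, Int.natAbs_pow, Int.natAbs_natCast, padicValNat.prime_pow]
    have hge := degExp_ge hM hB hφ
    have hdvd : (p : ℤ) ∣ r φ ↔ 1 ≤ padicValInt p (r φ) := by
      rw [← pow_one (p : ℤ), padicValInt_dvd_iff]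
      simp [hr0]
    rw [hval] at hv
    rw [blockHeight, sInf_degExp_eq' hM hB, hdvd]
    omega
  refine ⟨r, fun φ ψ h => ?_, hunit, ?_⟩
  · have e : classInner (regTr p (χ : G → ℂ)) (ψ : G → ℂ) = classInner (regTr p (χ : G → ℂ)) (φ : G → ℂ) := by
      unfold classInner
      congr 1
      refine Finset.sum_congr rfl fun x _ => ?_
      simp only [regTr]
      split_ifs with hx
      · simp
      · rw [h x hx]
    rw [hr, hr] at e
    exact mul_left_cancel₀ hpp (by exact_mod_cast e)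
  · have h1 : (p : ℤ) ^ min 2 (blockDefect p B) ∣ ∑ φ ∈ Finset.univ.filter (· ∈ B), r φ ^ 2 := by
      rw [hsum]
      exact dvd_mul_of_dvd_left (pow_dvd_pow _ (min_le_right _ _)) _
    rw [← Finset.sum_filter_add_sum_filter_not (Finset.univ.filter (· ∈ B))
      (fun φ => blockHeight p B (φ : G → ℂ) = 0), Finset.filter_filter] at h1
    refine (dvd_add_left (Finset.dvd_sum fun φ hφ => ?_)).1 h1
    obtain ⟨hφB, hφ0⟩ := Finset.mem_filter.1 hφ
    have hd : (p : ℤ) ∣ r φ := not_not.1 fun h => hφ0 ((hunit φ (Finset.mem_filter.1 hφB).2).2 h)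
    exact (pow_dvd_pow _ (min_le_left _ _)).trans (pow_dvd_pow_of_dvd hd 2)

omit [M.IsPrime] [CharP (resField M) p] in
theorem card_ne_prime_of_aut {D : Subgroup G} (hp3 : 3 ≤ p) (hAut : IsPGroup p (MulAut D)) :
    Nat.card D ≠ p := by
  intro hD
  haveI := isCyclic_of_prime_card hD
  obtain ⟨k, hk⟩ := IsPGroup.iff_card.1 hAut
  rw [IsCyclic.card_mulAut, hD, Nat.totient_prime Fact.out] at hk
  rcases k with _ | k
  · simp at hk
    omega
  · have h1 : p ∣ p - 1 := hk ▸ dvd_pow_self p k.succ_ne_zero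
    exact absurd (Nat.le_of_dvd (by omega) h1) (by omega)

omit [M.IsPrime] [CharP (resField M) p] in
theorem neg_one_of_sum_sq (hp : p % 4 = 3) {a b : ZMod p} (ha : a ≠ 0) (h : a ^ 2 + b ^ 2 = 0) : False := by
  refine ZMod.exists_sq_eq_neg_one_iff.1 ⟨b / a, ?_⟩ hp
  field_simp
  linear_combination -h

/-- The count of the characters of height zero. -/
theorem height_zero_count (hM : IsPModular p M) (hB : IsPBlock M B) {D : Subgroup G}
    (hD : IsDefectGroup p M B D) (hD1 : D ≠ ⊥) (hAut : IsPGroup p (MulAut D)) :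
    p ∣ Nat.card {χ : IrrCharacter G // χ ∈ B ∧ blockHeight p B (χ : G → ℂ) = 0} ∧
    (3 < p → 2 * p ≤ Nat.card {χ : IrrCharacter G // χ ∈ B ∧ blockHeight p B (χ : G → ℂ) = 0}) ∧
    (3 < p → p % 4 = 3 →
      3 * p ≤ Nat.card {χ : IrrCharacter G // χ ∈ B ∧ blockHeight p B (χ : G → ℂ) = 0}) := by
  classical
  have hp : Nat.Prime p := hM.1
  haveI := Fact.mk hp
  obtain ⟨r, hrinv, hrunit, hrsum⟩ := exists_height_zero_row hM hB
  set Z := Finset.univ.filter (fun φ : IrrCharacter G => φ ∈ B ∧ blockHeight p B (φ : G → ℂ) = 0) with hZ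
  have hk0 : Nat.card {χ : IrrCharacter G // χ ∈ B ∧ blockHeight p B (χ : G → ℂ) = 0} = Z.card := by
    rw [Nat.card_eq_fintype_card, Fintype.card_subtype]
  rw [hk0]
  have hcard := card_defectGroup hM hB hD
  have hd1 : 1 ≤ blockDefect p B := by
    by_contra h
    rw [Nat.lt_one_iff.1 (not_le.1 h), pow_zero, Subgroup.card_eq_one] at hcard
    exact hD1 hcard
  by_cases hp3 : p ≤ 3
  · refine ⟨?_, fun h => absurd hp3 (by omega), fun h => absurd hp3 (by omega)⟩
    have h1 : (((∑ φ ∈ Z, r φ ^ 2 : ℤ)) : ZMod p) = 0 := by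
      rw [ZMod.intCast_zmod_eq_zero_iff_dvd]
      exact (dvd_pow_self _ (by omega)).trans hrsum
    rw [Int.cast_sum, Finset.sum_congr rfl (g := fun _ => (1 : ZMod p)) fun φ hφ => ?_,
      Finset.sum_const, nsmul_one, CharP.cast_eq_zero_iff (ZMod p) p] at h1
    · exact h1
    · have hne : ((r φ : ℤ) : ZMod p) ≠ 0 := by
        rw [Ne, ZMod.intCast_zmod_eq_zero_iff_dvd]
        exact (hrunit φ (Finset.mem_filter.1 hφ).2.1).1 (Finset.mem_filter.1 hφ).2.2
      rw [Int.cast_pow]
      have h23 : p = 2 ∨ p = 3 := by have := hp.two_le; omega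
      rcases h23 with rfl | rfl
      · have h := ZMod.pow_card_sub_one_eq_one hne
        rw [Nat.add_one_sub_one, pow_one] at h
        rw [h, one_pow]
      · exact ZMod.pow_card_sub_one_eq_one hne
  · have hp5 : 5 ≤ p := by
      have : p ≠ 4 := by rintro rfl; exact absurd hp (by decide)
      omega
    have hd2 : 2 ≤ blockDefect p B := by
      by_contra h
      rw [show blockDefect p B = 1 by omega, pow_one] at hcard
      exact card_ne_prime_of_aut (by omega) hAut hcard
    rw [min_eq_left hd2] at hrsum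
    obtain ⟨z, hpair⟩ := exists_pairOf_defGrp (isBlk_Ek hB) ((isDefectGroup_iff hB D).1 hD)
    have hmax : IsMax p (Ek M B) (D, z) := ⟨hpair, (isDefectGroup_iff hB D).1 hD⟩
    obtain ⟨⟨D', e⟩, hp', hz⟩ := exists_eq_zI hpair.pair
    obtain rfl : D' = D := congrArg Prod.fst hz
    have hmax' : IsMax p (Ek M B) (zI M ⟨D', e⟩) := by rw [hz]; exact hmax
    have hlt : (blockFusion hmax').focalSubgroup < D' := by
      refine Agent.FusionSys.focal_lt_of_functor Agent.Functors.isCharPFunctor_kInfLower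
        (fun Q _ _ hQ => (Agent.KInf.centralizer_kInf_le hQ).1)
        (fun H _ _ => (Agent.Functors.ctlTR_kInf hp5 H).1) ?_ (blockFusion_saturated hmax') hD1
        (hAut.to_subgroup _)
      exact IsPGroup.of_card hcard
    set F := blockFusion hmax' with hFdef
    have hgen : ∀ (g : G) (b : Pr (resField M) G), SubLE p ⊤ b (zI M ⟨D', e⟩) →
        SubLE p ⊤ (cjP g b) (zI M ⟨D', e⟩) → ∀ u ∈ b.1, u⁻¹ * (g * u * g⁻¹) ∈ F.focalSubgroup :=
      fun g b hb hgb u hu => Subgroup.subset_closure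
        ⟨b.1, conjHom b.1 g, ⟨u, hu⟩, ⟨g, fun _ => rfl, b.2, hb, hgb⟩, rfl⟩
    have hpidx : p ∣ (F.focalSubgroup.subgroupOf D').index := by
      obtain ⟨k, hk⟩ := (IsPGroup.of_card hcard).index (F.focalSubgroup.subgroupOf D')
      rcases k with _ | k
      · rw [pow_zero, Subgroup.index_eq_one, Subgroup.subgroupOf_eq_top] at hk
        exact absurd hk hlt.not_ge
      · exact hk ▸ dvd_pow_self p k.succ_ne_zero
    have hfib : ∀ v : ℤ, p ∣ (Z.filter fun φ => r φ = v).card := by
      intro v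
      refine hpidx.trans ((focal_index_dvd_card_of hM hB hp'.2 hmax' F.focalSubgroup hgen
        (fun g hg u hu => hgen g _ Relation.ReflTransGen.refl
          (by rw [hmax'.cjP_eq hg]; exact Relation.ReflTransGen.refl) u hu)
        (fun φ => r φ = v) fun φ ψ h hφ => (hrinv φ ψ h).trans hφ).trans (dvd_of_eq ?_))
      rw [Nat.card_eq_fintype_card, Fintype.card_subtype, hZ, Finset.filter_filter]
      simp only [and_assoc]
    choose m hm using hfib
    set V := Z.image r with hV
    have hcardZ : Z.card = p * ∑ v ∈ V, m v := by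
      rw [Finset.card_eq_sum_card_image r Z, Finset.mul_sum]
      exact Finset.sum_congr rfl fun v _ => hm v
    have hsq : ((∑ v ∈ V, (m v : ℤ) * v ^ 2 : ℤ) : ZMod p) = 0 := by
      rw [ZMod.intCast_zmod_eq_zero_iff_dvd]
      refine (mul_dvd_mul_iff_left (Int.natCast_ne_zero.2 hp.ne_zero)).1 ?_
      rw [← sq, Finset.mul_sum]
      refine hrsum.trans (dvd_of_eq ?_)
      rw [← Finset.sum_fiberwise_of_maps_to (fun φ hφ => Finset.mem_image_of_mem r hφ) (fun φ => r φ ^ 2)]
      refine Finset.sum_congr rfl fun v _ => ?_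
      rw [Finset.sum_congr rfl (g := fun _ => v ^ 2) fun φ hφ => by rw [(Finset.mem_filter.1 hφ).2],
        Finset.sum_const, hm v, nsmul_eq_mul, Nat.cast_mul, mul_assoc]
    have hVu : ∀ v ∈ V, ((v : ℤ) : ZMod p) ≠ 0 := by
      intro v hv
      obtain ⟨φ, hφ, rfl⟩ := Finset.mem_image.1 hv
      rw [Ne, ZMod.intCast_zmod_eq_zero_iff_dvd]
      exact (hrunit φ (Finset.mem_filter.1 hφ).2.1).1 (Finset.mem_filter.1 hφ).2.2
    have hm1 : ∀ v ∈ V, 1 ≤ m v := by
      intro v hv
      obtain ⟨φ, hφ, rfl⟩ := Finset.mem_image.1 hv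
      refine Nat.one_le_iff_ne_zero.2 fun h => ?_
      have := hm (r φ)
      rw [h, mul_zero, Finset.card_eq_zero] at this
      exact Finset.notMem_empty φ (this ▸ Finset.mem_filter.2 ⟨hφ, rfl⟩)
    obtain ⟨χ, hχ, h0⟩ := exists_heightZero hM hB
    have hv0 : r χ ∈ V := Finset.mem_image_of_mem r (Finset.mem_filter.2 ⟨Finset.mem_univ _, hχ, h0⟩)
    push_cast at hsq
    set N := ∑ v ∈ V, m v with hN
    have hN2 : 2 ≤ N := by
      by_contra h
      have h1 : m (r χ) ≤ N := Finset.single_le_sum (fun v _ => Nat.zero_le (m v)) hv0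
      have h2 : V = {r χ} := by
        refine Finset.eq_singleton_iff_unique_mem.2 ⟨hv0, fun v hv => ?_⟩
        by_contra hne
        have h3 := Finset.sum_le_sum_of_subset (f := m) (show ({v, r χ} : Finset ℤ) ⊆ V by
          simp [Finset.insert_subset_iff, hv, hv0])
        rw [Finset.sum_pair hne, ← hN] at h3
        have := hm1 v hv
        have := hm1 _ hv0
        omega
      have := hm1 _ hv0
      rw [h2, Finset.sum_singleton, show m (r χ) = 1 by omega, Nat.cast_one, one_mul] at hsq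
      exact hVu _ hv0 ((pow_eq_zero_iff two_ne_zero).1 hsq)
    refine ⟨⟨N, hcardZ⟩, fun _ => by rw [hcardZ, mul_comm 2]; exact Nat.mul_le_mul_left p hN2,
      fun _ h4 => ?_⟩
    rw [hcardZ, mul_comm 3]
    refine Nat.mul_le_mul_left p ?_
    by_contra h
    have hN' : N = 2 := by omega
    have h1 := hm1 _ hv0
    rcases eq_or_ne V {r χ} with hV1 | hV1
    · rw [hN, hV1, Finset.sum_singleton] at hN'
      rw [hV1, Finset.sum_singleton, hN', Nat.cast_two] at hsq
      exact neg_one_of_sum_sq h4 (hVu _ hv0) (show ((r χ : ℤ) : ZMod p) ^ 2 + ((r χ : ℤ) : ZMod p) ^ 2 = 0 by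
        rwa [← two_mul])
    · obtain ⟨w, hw, hne⟩ : ∃ w ∈ V, w ≠ r χ := by
        by_contra hc
        push Not at hc
        exact hV1 (Finset.eq_singleton_iff_unique_mem.2 ⟨hv0, hc⟩)
      have hsub : ({w, r χ} : Finset ℤ) ⊆ V := by simp [Finset.insert_subset_iff, hw, hv0]
      have h2 := hm1 w hw
      have hV2 : V = {w, r χ} := by
        refine Finset.Subset.antisymm (fun v hv => ?_) hsub
        by_contra hv'
        have h3 := Finset.sum_le_sum_of_subset (f := m) (Finset.insert_subset hv hsub)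
        rw [Finset.sum_insert hv', Finset.sum_pair hne, ← hN] at h3
        have := hm1 v hv
        omega
      rw [hN, hV2, Finset.sum_pair hne] at hN'
      rw [hV2, Finset.sum_pair hne, show m w = 1 by omega, show m (r χ) = 1 by omega, Nat.cast_one, one_mul,
        one_mul, add_comm] at hsq
      exact neg_one_of_sum_sq h4 (hVu _ hv0) hsq

end Cfsg.Agent.AutPGroup
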