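/-
Class multiplication counted over a p-subgroup: a degree divisibility criterion.
-/
import Cfsg.Agent.Lib.Blocks.Center
import Cfsg.Agent.Lib.Char.Integral

set_option linter.unusedSectionVars false
set_option linter.style.haveILetI false

namespace Cfsg.Agent.BrauerPairs

open Cfsg Cfsg.Agent.Blocks MonoidAlgebra
open scoped ComplexConjugate

universe u

variable {G : Type u} [Group G] [Fintype G]

theorem coeff_classElt_mul {x y : MonoidAlgebra ℂ G} (hx : IsClassElt x) (hy : IsClassElt y)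
    (u : G) : (x * y).coeff u = ∑ χ : IrrCharacter G, omega χ x * omega χ y *
      ((Nat.card G : ℂ)⁻¹ * ((χ : G → ℂ) 1 * conj ((χ : G → ℂ) u))) := by
  classical
  conv_lhs => rw [classElt_eq_sum (IsClassElt.mul hx hy)]
  rw [MonoidAlgebra.coeff_sum, Finset.sum_apply']
  refine Finset.sum_congr rfl fun χ _ => ?_
  rw [MonoidAlgebra.coeff_smul, Finsupp.smul_apply, smul_eq_mul, omega_mul χ hx hy, coeff_blockElt,
    blockCoeff]
  simp

theorem centralizer_singleton_inv (x : G) :
    Subgroup.centralizer ({x⁻¹} : Set G) = Subgroup.centralizer ({x} : Set G) := by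
  ext g
  simp only [Subgroup.mem_centralizer_singleton_iff]
  exact ⟨fun h => (Commute.inv_right_iff.1 (h : Commute g x⁻¹)),
    fun h => Commute.inv_right (h : Commute g x)⟩

theorem exists_sum_subgroup_nat (χ : IrrCharacter G) (P : Subgroup G) [Fintype P] :
    ∃ m : ℕ, ∑ u : P, (χ : G → ℂ) u = (Nat.card P : ℂ) * m := by
  obtain ⟨m, hm⟩ := Char.IsCharacter.exists_classInner_nat
    (Char.IsCharacter.restrict (irr_isCharacter χ) P) (Char.isCharacter_one (G := P))
  refine ⟨m, ?_⟩
  have hP : (Nat.card P : ℂ) ≠ 0 := Nat.cast_ne_zero.2 Nat.card_pos.ne'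
  rw [← hm]
  simp [Cfsg.classInner, hP]

/-- If no quotient of two conjugates of `x` is a nonidentity element of the subgroup `P` of
order `p ^ c`, then some degree is divisible by `p ^ (c - a)`, `p ^ a` the `p`-part of `|C(x)|`. -/
theorem exists_irr_pow_dvd {p : ℕ} (hp : p.Prime) (x : G) (P : Subgroup G) (c : ℕ)
    (hP : Nat.card P = p ^ c)
    (h : ∀ g h : G, IsConj x g → IsConj x h → g * h⁻¹ ∈ P → g * h⁻¹ = 1) :
    ∃ χ : IrrCharacter G, p ^ (c - (Nat.card (Subgroup.centralizer ({x} : Set G))).factorization p)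
      ∣ charDegree (χ : G → ℂ) := by
  classical
  set a := (Nat.card (Subgroup.centralizer ({x} : Set G))).factorization p with ha
  by_contra hc
  push Not at hc
  have hdv : ∀ χ : IrrCharacter G, (charDegree (χ : G → ℂ)).factorization p < c - a := fun χ => by
    by_contra hle
    exact hc χ ((Nat.pow_dvd_pow p (not_lt.1 hle)).trans (Nat.ordProj_dvd _ p))
  have hca : a < c := by have := hdv (Char.principal G); omega
  set n : ℕ := (Subgroup.centralizer ({x} : Set G)).index with hn
  have hn' : (Subgroup.centralizer ({x⁻¹} : Set G)).index = n := by rw [centralizer_singleton_inv]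
  set K := classSum ℂ x with hK
  set K' := classSum ℂ x⁻¹ with hK'
  have hconj : ∀ b : G, IsConj x⁻¹ b ↔ IsConj x b⁻¹ := fun b => by
    constructor <;> intro hb <;> obtain ⟨d, hd⟩ := isConj_iff.1 hb <;> refine isConj_iff.2 ⟨d, ?_⟩
    · rw [← hd]; group
    · rw [← inv_inv b, ← hd]; group
  have hcoef : ∀ u : G, (K * K').coeff u =
      ((Finset.univ.filter fun g => IsConj x g ∧ IsConj x (g⁻¹ * u)⁻¹).card : ℂ) := by
    intro u
    rw [coeff_mul_univ, Finset.natCast_card_filter]
    refine Finset.sum_congr rfl fun g _ => ?_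
    simp only [hK, hK', coeff_classSum, hconj]
    by_cases h1 : IsConj x g <;> by_cases h2 : IsConj x (g⁻¹ * u)⁻¹ <;>
      simp only [h1, h2, if_true, if_false, and_self, and_true, and_false, mul_one, mul_zero]
  have hsum : ∑ u : P, (K * K').coeff (u : G) = n := by
    rw [Finset.sum_eq_single (1 : P)]
    · rw [hcoef, OneMemClass.coe_one]
      simp only [mul_one, inv_inv, and_self]
      rw [hn, ← Char.card_classFinset]
      congr 2
    · intro u _ hu
      rw [hcoef, Nat.cast_eq_zero, Finset.card_eq_zero, Finset.filter_eq_empty_iff]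
      rintro g - ⟨hg, hh⟩
      have e : g * ((g⁻¹ * (u : G))⁻¹)⁻¹ = u := by group
      have h3 := h g _ hg hh (by rw [e]; exact u.2)
      rw [e] at h3
      exact hu (Subtype.ext h3)
    · simp
  choose m hm using fun χ : IrrCharacter G => exists_sum_subgroup_nat χ P
  have hm' : ∀ χ : IrrCharacter G,
      ∑ u : P, conj ((χ : G → ℂ) u) = (Nat.card P : ℂ) * m χ := fun χ => by
    rw [← map_sum, hm]; simp
  simp only [hK, hK', coeff_classElt_mul (isClassElt_classSum x) (isClassElt_classSum x⁻¹)]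
    at hsum
  rw [Finset.sum_comm] at hsum
  simp only [← Finset.mul_sum, hm', omega_classSum, centralChar, hn', ← hn, hP] at hsum
  have hnG : (n : ℂ) * Nat.card (Subgroup.centralizer ({x} : Set G)) = Nat.card G := by
    rw [← Nat.cast_mul, mul_comm, Subgroup.card_mul_index]
  have hn0 : (n : ℂ) ≠ 0 := Nat.cast_ne_zero.2 Subgroup.index_ne_zero_of_finite
  have hG0 : (Nat.card G : ℂ) ≠ 0 := Nat.cast_ne_zero.2 Nat.card_pos.ne'
  have hkey : (Nat.card (Subgroup.centralizer ({x} : Set G)) : ℂ) =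
      ∑ χ : IrrCharacter G, ((p ^ c : ℕ) : ℂ) *
        ((χ : G → ℂ) x * (χ : G → ℂ) x⁻¹ * m χ / (χ : G → ℂ) 1) := by
    apply mul_left_cancel₀ hn0
    rw [hnG, ← mul_inv_cancel_right₀ hn0 (Nat.card G : ℂ)]
    conv_lhs => arg 1; arg 2; rw [← hsum]
    rw [Finset.mul_sum, Finset.sum_mul, Finset.mul_sum]
    refine Finset.sum_congr rfl fun χ _ => ?_
    have h1 := irr_one_ne_zero χ
    field_simp
  let d : IrrCharacter G → ℕ := fun χ => charDegree (χ : G → ℂ)
  let L' : ℕ := ∏ χ : IrrCharacter G, d χ / p ^ (d χ).factorization p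
  let L : ℕ := p ^ (c - a - 1) * L'
  have hdL : ∀ χ, d χ ∣ L := fun χ => by
    rw [← Nat.ordProj_mul_ordCompl_eq_self (d χ) p]
    exact Nat.mul_dvd_mul (Nat.pow_dvd_pow p (by have := hdv χ; simp only [d]; omega))
      (Finset.dvd_prod_of_mem (fun χ => d χ / p ^ (d χ).factorization p) (Finset.mem_univ χ))
  have hint : IsIntegral ℤ (((Nat.card (Subgroup.centralizer ({x} : Set G)) * L : ℕ) : ℂ) /
      ((p ^ c : ℕ) : ℂ)) := by
    rw [Nat.cast_mul, hkey, ← Finset.mul_sum, mul_assoc,
      mul_div_cancel_left₀ _ (Nat.cast_ne_zero.2 (pow_ne_zero c hp.ne_zero)), Finset.sum_mul]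
    refine IsIntegral.sum _ fun χ _ => ?_
    obtain ⟨k, hk⟩ := hdL χ
    have : (χ : G → ℂ) x * (χ : G → ℂ) x⁻¹ * m χ / (χ : G → ℂ) 1 * (L : ℂ) =
        (χ : G → ℂ) x * (χ : G → ℂ) x⁻¹ * ((m χ * k : ℕ) : ℂ) := by
      have h1 := irr_one_ne_zero χ
      rw [hk, Nat.cast_mul, Nat.cast_mul]
      simp only [d, ← irr_one_eq_charDegree]
      field_simp
    rw [this]
    exact IsIntegral.mul (IsIntegral.mul (irr_isIntegral χ x) (irr_isIntegral χ x⁻¹))
      (isIntegral_algebraMap (R := ℤ) (A := ℂ) (x := ((m χ * k : ℕ) : ℤ)) |> fun h => by simpa using h)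
  have hdvd := Char.dvd_of_isIntegral_div (pow_ne_zero c hp.ne_zero) hint
  have hL'0 : L' ≠ 0 := Finset.prod_ne_zero_iff.2 fun χ _ =>
    (Nat.ordCompl_pos p (charDegree_pos χ).ne').ne'
  have hL'p : ¬ p ∣ L' := fun hdv' => by
    obtain ⟨χ, -, hχ⟩ := hp.prime.exists_mem_finset_dvd hdv'
    exact Nat.not_dvd_ordCompl hp (charDegree_pos χ).ne' hχ
  have hC0 : Nat.card (Subgroup.centralizer ({x} : Set G)) ≠ 0 := Nat.card_pos.ne'
  have hL0 : L ≠ 0 := mul_ne_zero (pow_ne_zero _ hp.ne_zero) hL'0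
  have h3 := (hp.pow_dvd_iff_le_factorization (mul_ne_zero hC0 hL0)).1 hdvd
  rw [Nat.factorization_mul hC0 hL0, Nat.factorization_mul (pow_ne_zero _ hp.ne_zero) hL'0,
    Nat.Prime.factorization_pow hp] at h3
  simp only [Finsupp.coe_add, Pi.add_apply, Finsupp.single_eq_same, ← ha,
    Nat.factorization_eq_zero_of_not_dvd hL'p] at h3
  omega

end Cfsg.Agent.BrauerPairs
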