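/-
When is a product of two classes a single class.
-/
import Cfsg.Agent.Lib.Blocks.Center
import Cfsg.Agent.Lib.Char.Complete

set_option linter.unusedSectionVars false

namespace Cfsg.Agent.BrauerPairs

open Cfsg Cfsg.Agent.Blocks MonoidAlgebra
open scoped commutatorElement

universe u

variable {G : Type u} [Group G] [Fintype G]

theorem conj_mul_conj_eq (x y c : G) : c * (x * y) * c⁻¹ = c * x * c⁻¹ * (c * y * c⁻¹) := by group

theorem product_class_iff (x y : G) :
    (∀ z : G, IsConj (x * y) z ↔ ∃ a b : G, z = a * x * a⁻¹ * (b * y * b⁻¹)) ↔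
      ∀ a b : G, IsConj (x * y) (a * x * a⁻¹ * (b * y * b⁻¹)) := by
  refine ⟨fun h a b => (h _).2 ⟨a, b, rfl⟩, fun h z => ⟨fun hz => ?_, ?_⟩⟩
  · obtain ⟨c, rfl⟩ := isConj_iff.1 hz
    exact ⟨c, c, conj_mul_conj_eq x y c⟩
  · rintro ⟨a, b, rfl⟩
    exact h a b

theorem irr_mul_of_product_class (x y : G)
    (h : ∀ a b : G, IsConj (x * y) (a * x * a⁻¹ * (b * y * b⁻¹))) (χ : IrrCharacter G) :
    (χ : G → ℂ) 1 * (χ : G → ℂ) (x * y) = (χ : G → ℂ) x * (χ : G → ℂ) y := by
  classical
  set K := classSum ℂ x * classSum ℂ y with hK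
  have hKcl : IsClassElt K := IsClassElt.mul (isClassElt_classSum x) (isClassElt_classSum y)
  have hsupp : K = K.coeff (x * y) • classSum ℂ (x * y) := by
    refine gaExt fun u => ?_
    rw [MonoidAlgebra.coeff_smul, Finsupp.smul_apply, coeff_classSum, smul_eq_mul]
    by_cases hu : IsConj (x * y) u
    · rw [if_pos hu, mul_one]
      obtain ⟨c, rfl⟩ := isConj_iff.1 hu
      exact hKcl _ c
    · rw [if_neg hu, mul_zero, hK, coeff_mul_univ]
      refine Finset.sum_eq_zero fun g _ => ?_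
      rw [coeff_classSum, coeff_classSum]
      split_ifs with h1 h2
      · obtain ⟨a, ha⟩ := isConj_iff.1 h1
        obtain ⟨b, hb⟩ := isConj_iff.1 h2
        refine absurd ?_ hu
        have := h a b
        rwa [ha, hb, mul_inv_cancel_left] at this
      all_goals simp
  have hω : ∀ ψ : IrrCharacter G, centralChar (ψ : G → ℂ) x * centralChar (ψ : G → ℂ) y =
      K.coeff (x * y) * centralChar (ψ : G → ℂ) (x * y) := fun ψ => by
    have e := congrArg (omega ψ) hsupp
    rw [omega_smul] at e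
    rw [← omega_classSum, ← omega_classSum, ← omega_classSum, ← e, hK,
      omega_mul ψ (isClassElt_classSum x) (isClassElt_classSum y)]
  have h1 := hω (Char.principal G)
  have h2 := hω χ
  simp only [centralChar, Char.principal, mul_one, div_one] at h1 h2
  have hx : ((Subgroup.centralizer ({x} : Set G)).index : ℂ) ≠ 0 :=
    Nat.cast_ne_zero.2 Subgroup.index_ne_zero_of_finite
  have hy : ((Subgroup.centralizer ({y} : Set G)).index : ℂ) ≠ 0 :=
    Nat.cast_ne_zero.2 Subgroup.index_ne_zero_of_finite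
  have hχ := irr_one_ne_zero χ
  field_simp at h2
  apply mul_left_cancel₀ (mul_ne_zero hx hy)
  linear_combination ((χ : G → ℂ) 1 * (χ : G → ℂ) (x * y)) * h1 - h2

theorem irr_conj_value (χ : IrrCharacter G) (x a : G) :
    (χ : G → ℂ) (a * x * a⁻¹) = (χ : G → ℂ) x := irr_conj_invariant χ x a

theorem product_class_iff_irr (x y : G) :
    (∀ a b : G, IsConj (x * y) (a * x * a⁻¹ * (b * y * b⁻¹))) ↔
      ∀ (a b : G) (χ : IrrCharacter G), (χ : G → ℂ) 1 * (χ : G → ℂ) (a * x * a⁻¹ * (b * y * b⁻¹)) =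
        (χ : G → ℂ) x * (χ : G → ℂ) y := by
  constructor
  · intro h a b χ
    rw [irr_isConj χ (h a b), irr_mul_of_product_class x y h χ]
  · intro h a b
    rw [Char.isConj_iff_forall_irr]
    intro χ
    have h11 := h 1 1 χ
    rw [one_mul, inv_one, mul_one, one_mul, mul_one] at h11
    exact mul_left_cancel₀ (irr_one_ne_zero χ) (h11.trans (h a b χ).symm)

theorem inv_mul_mem_commutator_of_isConj {w z : G} (h : IsConj w z) : w⁻¹ * z ∈ commutator G := by
  obtain ⟨c, rfl⟩ := isConj_iff.1 h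
  have := Subgroup.commutator_mem_commutator (Subgroup.mem_top w⁻¹) (Subgroup.mem_top c)
  rw [show w⁻¹ * (c * w * c⁻¹) = ⁅w⁻¹, c⁆ by rw [commutatorElement_def]; group]
  rwa [commutator_def]

theorem isConj_of_inv_mul_mem {w z : G} (h : w⁻¹ * z ∈ commutator G)
    (hnl : ∀ χ : IrrCharacter G, (χ : G → ℂ) 1 ≠ 1 → (χ : G → ℂ) w = 0) : IsConj w z := by
  classical
  by_contra hne
  have hlin : ∀ χ : IrrCharacter G, (χ : G → ℂ) 1 = 1 →
      (χ : G → ℂ) z = (χ : G → ℂ) w ∧ (χ : G → ℂ) w ≠ 0 := fun χ h1 => by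
    obtain ⟨f, hf⟩ := Char.exists_hom_of_degree_one (irr_isCharacter χ) h1
    have hker : commutator G ≤ f.ker := Abelianization.commutator_subset_ker f
    have h0 : f (w⁻¹ * z) = 1 := hker h
    rw [map_mul, map_inv, inv_mul_eq_one] at h0
    rw [hf]
    exact ⟨by simp [h0], Units.ne_zero _⟩
  have h0 := Char.column_orth_of_not_isConj hne
  have heq : ∀ χ : IrrCharacter G, (χ : G → ℂ) w * (starRingEnd ℂ) ((χ : G → ℂ) z) =
      (χ : G → ℂ) w * (starRingEnd ℂ) ((χ : G → ℂ) w) := fun χ => by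
    by_cases h1 : (χ : G → ℂ) 1 = 1
    · rw [(hlin χ h1).1]
    · rw [hnl χ h1, zero_mul, zero_mul]
  simp only [heq] at h0
  rw [Char.column_orth_of_isConj (IsConj.refl w), Nat.cast_eq_zero] at h0
  exact Nat.card_pos.ne' h0

end Cfsg.Agent.BrauerPairs
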