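import Cfsg.Agent.Lib.Blocks.Degree
import Cfsg.Agent.Lib.Blocks.CentralDefect
import Mathlib.RingTheory.RootsOfUnity.Complex
import Mathlib.FieldTheory.IntermediateField.Adjoin.Basic

/-!
Block idempotents have coefficients in the field of roots of unity of p'-order.
-/

set_option linter.unusedSectionVars false
set_option linter.style.haveILetI false

namespace Cfsg.Agent.BrauerPairs

open Cfsg Cfsg.Agent.Blocks Cfsg.Agent.Char

universe u

variable {G : Type u} [Group G] [Fintype G] {p : ℕ} {M : Ideal AlgInt} [M.IsPrime]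

theorem blockCoeff_mem_cyclotomic (hM : IsPModular p M) {B : Set (IrrCharacter G)}
    (hB : IsPBlock M B) (g : G) :
    blockCoeff B g ∈ IntermediateField.adjoin ℚ
      ({Complex.exp (2 * Real.pi * Complex.I /
        ((Nat.card G / p ^ (Nat.card G).factorization p : ℕ) : ℂ))} : Set ℂ) := by
  classical
  obtain ⟨m, hm⟩ : ∃ m, m = Nat.card G / p ^ (Nat.card G).factorization p := ⟨_, rfl⟩
  rw [← hm]
  set K := IntermediateField.adjoin ℚ ({Complex.exp (2 * Real.pi * Complex.I / (m : ℂ))} : Set ℂ)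
  have hm0 : m ≠ 0 := by rw [hm]; exact ordPrime_ne_zero (p := p) (G := G)
  by_cases hg : p ∣ orderOf g
  · rw [blockCoeff_eq_zero_of_singular hM hB hg]; exact zero_mem _
  have hζ := Complex.isPrimitiveRoot_exp m hm0
  have hroot : ∀ z : ℂ, z ^ m = 1 → z ∈ K := fun z hz => by
    haveI : NeZero m := ⟨hm0⟩
    obtain ⟨i, -, hi⟩ := hζ.eq_pow_of_pow_eq_one hz
    rw [← hi]
    have hmem : Complex.exp (2 * Real.pi * Complex.I / (m : ℂ)) ∈ K :=
      IntermediateField.mem_adjoin_simple_self ℚ _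
    exact pow_mem hmem i
  have hgm : g⁻¹ ^ m = 1 := by
    rw [inv_pow, hm]
    exact inv_eq_one.2 ((not_dvd_orderOf_iff_pow hM.1).1 hg)
  have hval : ∀ χ : IrrCharacter G, ∀ y : G, y ^ m = 1 → (χ : G → ℂ) y ∈ K := fun χ y hy => by
    obtain ⟨n, ρ, -, hc⟩ := χ.2
    obtain ⟨L, -, hL, hs, -⟩ := exists_eigenvalues ρ y
    have h := hs 1
    simp only [pow_one, Multiset.map_id'] at h
    rw [← hc, h]
    exact multiset_sum_mem _ fun z hz => hroot z
      (orderOf_dvd_iff_pow_eq_one.1 ((orderOf_dvd_of_pow_eq_one (hL z hz)).trans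
        (orderOf_dvd_of_pow_eq_one hy)))
  rw [blockCoeff_eq_sum]
  refine mul_mem (inv_mem (natCast_mem K _)) (sum_mem fun χ _ => mul_mem (hval χ 1 (one_pow m)) ?_)
  rw [← irr_inv]
  exact hval χ _ hgm

end Cfsg.Agent.BrauerPairs
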