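/-
Defect groups and stabilisers of covered blocks.
-/
import Cfsg.Agent.Lib.BrauerPairs.HarrisKnoerr
import Cfsg.Agent.Lib.BrauerPairs.NormalPIndex

set_option linter.unusedSectionVars false
set_option linter.style.haveILetI false

namespace Cfsg.Agent.BrauerPairs

open Cfsg MonoidAlgebra Cfsg.Agent.Blocks

universe u

variable {G : Type u} [Group G] [Fintype G] {p : ℕ} [Fact p.Prime] {M : Ideal AlgInt} [M.IsPrime]

theorem defectGroup_conj_of {B : Set (IrrCharacter G)} (hB : IsPBlock M B) (hM : IsPModular p M)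
    {P P' : Subgroup G} (h : IsDefectGroup p M B P) (h' : IsDefectGroup p M B P') :
    ∃ x : G, P' = cjS x P := by
  haveI : CharP (resField M) p := resField_charP hM
  obtain ⟨x, -, hx⟩ := ((isDefectGroup_iff hB P).1 h).exists_conj_eq
    ((isDefectGroup_iff hB P').1 h') (isBlk_Ek hB)
  exact ⟨x, hx⟩

/-- A defect group of `B` fixes a covered block and meets `N` in a defect group of it. -/
theorem exists_stable_covered (hM : IsPModular p M) (N : Subgroup G) [N.Normal]
    {B : Set (IrrCharacter G)} (hB : IsPBlock M B) {P : Subgroup G}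
    (hP : IsDefectGroup p M B P) :
    ∃ c : Set (IrrCharacter N), IsPBlock M c ∧ (∀ x ∈ P, StabilizesBlock N c x) ∧
      (∃ χ ∈ B, ∃ θ ∈ c, classInner (fun n : N => (χ : G → ℂ) n) (θ : N → ℂ) ≠ 0) ∧
      IsDefectGroup p M c ((P ⊓ N).subgroupOf N) := by
  classical
  haveI : CharP (resField M) p := resField_charP hM
  have hD := (isDefectGroup_iff hB P).1 hP
  have hPp := hD.pgroup
  have hn : ∀ x : G, x ∈ Subgroup.normalizer (N : Set G) := fun x =>
    Subgroup.normalizer_eq_top_iff.2 ‹N.Normal› ▸ Subgroup.mem_top x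
  obtain ⟨w, hw, hne⟩ : ∃ w ∈ (blks (resField M) N).filter (fun w => IsInvElt P w),
      brTrunc P w * brTrunc P (Ek M B) ≠ 0 := by
    by_contra hall
    push Not at hall
    refine hD.brTrunc_ne_zero ?_
    rw [← one_mul (brTrunc P (Ek M B)), ← brTrunc_one P, ← sum_blks (k := resField M) N,
      brTrunc_sum_fixed hPp _ (fun u _ z hz =>
        mem_blks.2 (cj_blk_normal (hn u) (isBlk_of_mem hz))),
      Finset.sum_mul, Finset.sum_eq_zero hall]
  obtain ⟨hwb, hwinv⟩ := Finset.mem_filter.1 hw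
  obtain ⟨c, hc, rfl⟩ := exists_eq_zB (isBlk_of_mem hwb)
  have hinvB : IsInvElt P (Ek M B) := IsClassElt.isInvElt (isClassElt_Ek B) P
  have hcov : Ek M B * zB M N c ≠ 0 := fun h0 => by
    have h1 := congrArg (brTrunc P) h0
    rw [brTrunc_mul hPp hinvB hwinv, brTrunc_zero] at h1
    refine hne ?_
    have hY : InZ (Subgroup.centralizer (P : Set G)) (brTrunc P (Ek M B)) := by
      have := (isBlk_Ek hB).inZ.brTrunc P
      rwa [top_inf_eq] at this
    rw [← hY.comm fun g hg => coeff_brTrunc_neg hg]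
    exact h1
  have hcovc := (covers_iff_mul_ne_zero N hB hc).2 hcov
  refine ⟨c, hc, fun x hx => (stabilizesBlock_iff hc (hn x)).2 (isInvElt_iff_cj.1 hwinv x hx),
    hcovc, ?_⟩
  obtain ⟨Q, hQ⟩ := exists_isDefGrp (p := p) (isBlk_zB N hc)
  have hQd := (isDefectGroup_subgroupOf_iff hc hQ.le).2 hQ
  obtain ⟨P', hP', hP'N⟩ := exists_defectGroup_inf_eq N hM hB hc hcovc hQ.le hQd
  obtain ⟨x, hx⟩ := defectGroup_conj_of hB hM hP hP'
  have hcard : Nat.card (P ⊓ N : Subgroup G) = Nat.card Q := by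
    rw [← hP'N, hx, ← card_cjS x (P ⊓ N), cjS_inf, cjS_eq_of_mem_normalizer (hn x)]
  obtain ⟨n, hn', hle⟩ := hQ.exists_conj_ge (isBlk_zB N hc)
    (hPp.to_le (inf_le_left (b := N))) inf_le_right fun h0 => hne (by
      have h1 := congrArg (brTrunc P) h0
      rw [brTrunc_brTrunc (inf_le_left (b := N)), brTrunc_zero] at h1
      rw [h1, zero_mul])
  have heq : P ⊓ N = cjS n Q :=
    Subgroup.eq_of_le_of_card_ge hle (by rw [card_cjS, hcard])
  exact (isDefectGroup_subgroupOf_iff hc inf_le_right).2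
    (heq ▸ hQ.cj' (isBlk_zB N hc) hn')

/-- A block with defect group in `N` has trivial inertia in a `p`-extension of `N`. -/
theorem stabilizer_inf_eq (hM : IsPModular p M) (N L : Subgroup G) [N.Normal] [L.Normal]
    (hNL : N ≤ L) (hLN : ∃ k : ℕ, (N.subgroupOf L).index = p ^ k)
    {B : Set (IrrCharacter G)} (hB : IsPBlock M B) {c : Set (IrrCharacter N)} (hc : IsPBlock M c)
    (hcov : ∃ χ ∈ B, ∃ θ ∈ c, classInner (fun n : N => (χ : G → ℂ) n) (θ : N → ℂ) ≠ 0)
    {D : Subgroup G} (hD : IsDefectGroup p M B D) (hDN : D ≤ N) {T : Subgroup G}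
    (hT : ∀ x : G, x ∈ T ↔ StabilizesBlock N c x) : T ⊓ L = N := by
  classical
  haveI : CharP (resField M) p := resField_charP hM
  have hn : ∀ x : G, x ∈ Subgroup.normalizer (N : Set G) := fun x =>
    Subgroup.normalizer_eq_top_iff.2 ‹N.Normal› ▸ Subgroup.mem_top x
  set zc := zB M N c with hzc
  have hz : IsBlk N zc := isBlk_zB N hc
  have hst : ∀ x, x ∈ T ↔ cj x zc = zc := fun x => (hT x).trans (stabilizesBlock_iff hc (hn x))
  have hNT : N ≤ T := fun x hx => (hst x).2 (cj_eq_of_inZ hz.inZ hx)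
  set T0 := T ⊓ L with hT0
  have hN0 : N ≤ T0 := le_inf hNT hNL
  refine le_antisymm ?_ hN0
  -- a defect group in the stabiliser
  have hidx0 : ∃ k : ℕ, (N.subgroupOf T0).index = p ^ k := by
    obtain ⟨k, hk⟩ := hLN
    have h1 : N.relIndex T0 ∣ p ^ k := by
      have h := Subgroup.relIndex_mul_relIndex N T0 L hN0 inf_le_right
      rw [← hk]
      exact ⟨_, h.symm⟩
    obtain ⟨j, -, hj⟩ := (Nat.dvd_prime_pow (Fact.out : p.Prime)).1 h1
    exact ⟨j, hj⟩
  have hz0 : IsBlk (N.subgroupOf T0) (restr T0 zc) := by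
    refine isBlk_restr ?_
    rw [Subgroup.map_subgroupOf_eq_of_le hN0,
      emb_restr fun g hg => hz.inZ.supp g fun h => hg (hN0 h)]
    exact hz
  have hst0 : ∀ x : T0, cj x (restr T0 zc) = restr T0 zc := fun x => by
    refine gaExt fun g => ?_
    rw [coeff_cj]
    have h := congrArg (fun y : MonoidAlgebra (resField M) G => y.coeff (g : G))
      ((hst x).1 (Subgroup.mem_inf.1 x.2).1)
    simp only [coeff_cj] at h
    exact h
  have hT0b := isBlk_top_of_stable hM hidx0 hz0 hst0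
  obtain ⟨P₀, hP₀⟩ := exists_isDefGrp (p := p) hT0b
  obtain ⟨htop, -⟩ := defect_of_stable hM hidx0 hz0 hst0 hP₀
  set P := P₀.map T0.subtype with hPdef
  have hPp : IsPGroup p P := hP₀.pgroup.map _
  have hPz : brTrunc P zc ≠ 0 := by
    intro h0
    refine hP₀.brTrunc_ne_zero (emb_injective T0 ?_)
    rw [map_zero, ← brTrunc_emb, ← hPdef,
      emb_restr fun g hg => hz.inZ.supp g fun h => hg (hN0 h), h0]
  -- a block of `L` between
  have hne := (covers_iff_mul_ne_zero N hB hc).1 hcov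
  obtain ⟨b, hb, hbne⟩ := exists_block_mul_ne_zero (k := resField M) (H := L) hne
  have hbb := isBlk_of_mem hb
  have hLn : ∀ x : G, x ∈ Subgroup.normalizer (L : Set G) := fun x =>
    Subgroup.normalizer_eq_top_iff.2 ‹L.Normal› ▸ Subgroup.mem_top x
  have hbN : ∀ g, g ∉ N → b.coeff g = 0 := by
    intro g hg
    by_cases hgL : g ∈ L
    · haveI : (N.subgroupOf L).Normal :=
        Subgroup.normal_subgroupOf_of_le_normalizer fun x _ => hn x
      have h1 : InZ (⊤ : Subgroup L) (restr L b) :=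
        ⟨fun g hg => absurd (Subgroup.mem_top g) hg, fun u _ x => hbb.inZ.inv (u : G) u.2 (x : G)⟩
      have h2 : restr L b * restr L b = restr L b :=
        emb_injective L (by rw [map_mul, emb_restr hbb.inZ.supp, hbb.idem])
      exact (inZ_inf_of_idem hM hLN h1 h2).supp ⟨g, hgL⟩
        fun h => hg (Subgroup.mem_subgroupOf.1 (Subgroup.mem_inf.1 h).1)
    · exact hbb.inZ.supp g hgL
  have hbz : b * zc = zc := by
    refine (hz.prim b ⟨hbN, fun u hu => hbb.inZ.inv u (hNL hu)⟩ hbb.idem).resolve_left fun h0 =>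
      hbne ?_
    rw [mul_assoc, ← hbb.inZ.comm fun g hg => hz.inZ.supp g fun h => hg (hNL h), h0, mul_zero]
  have hPL : P ≤ L := (Subgroup.map_subtype_le _).trans inf_le_right
  have hPinv : IsInvElt P zc :=
    isInvElt_iff_cj.2 fun u hu => (hst u).1 ((Subgroup.map_subtype_le _).trans inf_le_left hu)
  have hPb : brTrunc P b ≠ 0 := fun h0 => hPz (by
    rw [← hbz, brTrunc_mul hPp (hbb.inZ.isInvElt hPL) hPinv, h0, zero_mul])
  obtain ⟨cb, hcb, rfl⟩ := exists_eq_zB hbb
  obtain ⟨Db, hDb⟩ := exists_isDefGrp (p := p) hbb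
  have hcovL : Ek M B * zB M L cb ≠ 0 := fun h0 => hbne (by
    have hEc : InZ ⊤ (Ek M B) := (isBlk_Ek hB).inZ
    rw [mul_assoc, ← hbb.inZ.comm fun g hg => hz.inZ.supp g fun h => hg (hNL h), ← mul_assoc, h0,
      zero_mul])
  obtain ⟨P', hP', hP'L⟩ := exists_defectGroup_inf_eq L hM hB hcb
    ((covers_iff_mul_ne_zero L hB hcb).2 hcovL) hDb.le
    ((isDefectGroup_subgroupOf_iff hcb hDb.le).2 hDb)
  obtain ⟨x, hx⟩ := defectGroup_conj_of hB hM hD hP'
  have hDbN : Db ≤ N := by
    rw [← hP'L, hx]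
    refine inf_le_left.trans ?_
    simpa [cjS_eq_of_mem_normalizer (hn x)] using cjS_mono x hDN
  obtain ⟨y, -, hy⟩ := hDb.exists_conj_ge hbb hPp hPL hPb
  have hPN : P ≤ N := hy.trans (by
    simpa [cjS_eq_of_mem_normalizer (hn y)] using cjS_mono y hDbN)
  intro g hg
  have h3 := Subgroup.mem_map_of_mem T0.subtype
    (htop.symm ▸ Subgroup.mem_top (⟨g, hg⟩ : T0) : (⟨g, hg⟩ : T0) ∈ N.subgroupOf T0 ⊔ P₀)
  rw [Subgroup.map_sup, Subgroup.map_subgroupOf_eq_of_le hN0] at h3
  exact sup_le le_rfl hPN h3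

end Cfsg.Agent.BrauerPairs
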