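/-
The criterion for a Brauer pair to be maximal.
-/
import Cfsg.Agent.Lib.BrauerPairs.LocalDefect
import Cfsg.Agent.Lib.BrauerPairs.Bridge
import Cfsg.Agent.Lib.Blocks.CentralDefect

set_option linter.unusedSectionVars false
set_option linter.style.haveILetI false

namespace Cfsg.Agent.BrauerPairs

open Cfsg MonoidAlgebra Cfsg.Agent.Blocks

universe u

section Abstract

variable {G : Type u} [Group G] [Fintype G] {k : Type*} [Field k] [SplitCenter k G]
variable {p : ℕ} [Fact p.Prime] [CharP k p]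

/-- The subgroup of a pair lies in every defect group of the block of its stabiliser. -/
theorem self_le_defect_stab {b : Pr k G} (hb : IsPair p ⊤ b) {D : Subgroup G}
    (hD : IsDefGrp p (stabP b) b.2 D) : b.1 ≤ D := by
  have hblk := isBlk_stabP hb.pgroup hb.blkC
  obtain ⟨x, hx, hxD⟩ := hD.exists_conj_ge hblk hb.pgroup (self_le_stabP hb.blkC) (by
    rw [brTrunc_eq_self_of_normal hb.pgroup (self_le_stabP hb.blkC) (stabP_le_normalizer b)
      hblk.inZ hblk.idem]
    exact hblk.ne_zero)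
  have := cjS_mono x⁻¹ hxD
  rwa [cjS_cjS, inv_mul_cancel, cjS_one,
    cjS_eq_of_mem_normalizer (inv_mem (stabP_le_normalizer b hx))] at this

/-- A pair is maximal exactly when it is its own defect group in the stabiliser. -/
theorem noExt_iff_defect_stab {b : Pr k G} (hb : IsPair p ⊤ b) {D : Subgroup G}
    (hD : IsDefGrp p (stabP b) b.2 D) : NoExt p ⊤ b ↔ D = b.1 := by
  refine ⟨fun hno => ?_, fun h c hc => ?_⟩
  · obtain ⟨g, hg⟩ := exists_nsub_of_brTrunc hb hD.pgroup hD.le hD.brTrunc_ne_zero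
    have h1 : b.1 ⊔ D = b.1 := hno _ hg
    exact le_antisymm (sup_eq_left.1 h1) (self_le_defect_stab hb hD)
  · have hcS : c.1 ≤ stabP b := fun u hu =>
      ⟨hc.normal hu, (isInvElt_iff_cj.1 hc.inv) u hu⟩
    obtain ⟨x, -, hx⟩ := hD.exists_conj_ge (isBlk_stabP hb.pgroup hb.blkC) hc.right.pgroup hcS
      fun h0 => hc.right.blk.ne_zero (by rw [← hc.occ, h0, zero_mul])
    exact (Subgroup.eq_of_le_of_card_ge hc.le
      ((Subgroup.card_le_of_le hx).trans (by rw [card_cjS, h]))).symm

/-- Maximality through the centraliser and the automiser. -/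
theorem noExt_iff_local {b : Pr k G} (hb : IsPair p ⊤ b) :
    ∃ D₀, IsDefGrp p (Subgroup.centralizer (b.1 : Set G)) b.2 D₀ ∧
      (NoExt p ⊤ b ↔
        Nat.card D₀ = Nat.card (b.1 ⊓ Subgroup.centralizer (b.1 : Set G) : Subgroup G) ∧
        ∀ g ∈ stabP b, (∃ j : ℕ, orderOf g = p ^ j) →
          g ∈ b.1 ⊔ Subgroup.centralizer (b.1 : Set G)) := by
  obtain ⟨D, hD⟩ := exists_isDefGrp (p := p) (isBlk_stabP hb.pgroup hb.blkC)
  obtain ⟨hsyl, hDC⟩ := defect_stab_props hb hD
  refine ⟨_, hDC, ?_⟩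
  have hQD := self_le_defect_stab hb hD
  set C := Subgroup.centralizer (b.1 : Set G) with hC
  rw [noExt_iff_defect_stab hb hD]
  constructor
  · intro h
    refine ⟨by rw [h], fun g hg hgp => ?_⟩
    subst h
    obtain ⟨j, hj⟩ := hgp
    have hgn : g ∈ Subgroup.normalizer (b.1 : Set G) := stabP_le_normalizer b hg
    have hgP : IsPGroup p (Subgroup.zpowers g) :=
      IsPGroup.of_card (by rw [Nat.card_zpowers, hj])
    have hR : IsPGroup p (b.1 ⊔ Subgroup.zpowers g : Subgroup G) := by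
      rw [sup_comm]
      exact hgP.to_sup_of_normal_right' hb.pgroup ((Subgroup.zpowers_le).2 hgn)
    have heq := hsyl.eq_of_le (X := autInducedBy (b.1 ⊔ Subgroup.zpowers g) b.1)
      (FusionSys.autInducedBy_mono le_sup_left)
      (FusionSys.autInducedBy_mono (sup_le hD.le ((Subgroup.zpowers_le).2 hg)))
      (FusionSys.autInducedBy_isPGroup hR)
    obtain ⟨α, hα, hαe⟩ := FusionSys.exists_conjAut (K := b.1 ⊔ Subgroup.zpowers g)
      (le_sup_right (a := b.1) (Subgroup.mem_zpowers g)) hgn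
    rw [← heq] at hα
    obtain ⟨v, hv, hve⟩ := (FusionSys.mem_autInducedBy_iff α).1 hα
    have hvg : v⁻¹ * g ∈ C := by
      rw [hC, Subgroup.mem_centralizer_iff]
      intro u hu
      have h1 := hαe ⟨u, hu⟩
      rw [hve] at h1
      simp only at h1
      calc u * (v⁻¹ * g) = v⁻¹ * (v * u * v⁻¹) * g := by group
        _ = v⁻¹ * (g * u * g⁻¹) * g := by rw [h1]
        _ = v⁻¹ * g * u := by group
    have := Subgroup.mul_mem_sup hv hvg
    rwa [mul_inv_cancel_left] at this
  · rintro ⟨hcard, hp⟩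
    have heq : b.1 ⊓ C = D ⊓ C :=
      Subgroup.eq_of_le_of_card_ge (inf_le_inf_right _ hQD) hcard.le
    refine le_antisymm (fun d hd => ?_) hQD
    have hdp : ∃ j : ℕ, orderOf d = p ^ j := by
      obtain ⟨i, hi⟩ := (IsPGroup.iff_orderOf).1 hD.pgroup ⟨d, hd⟩
      exact ⟨i, by simpa [Subgroup.orderOf_coe] using (Subgroup.orderOf_coe ⟨d, hd⟩).trans hi⟩
    have hm : d ∈ ((C ⊔ b.1 : Subgroup G) : Set G) := by
      rw [sup_comm]; exact hp d (hD.le hd) hdp
    rw [Subgroup.coe_mul_of_left_le_normalizer_right C b.1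
      (Subgroup.centralizer_le_normalizer _)] at hm
    obtain ⟨c, hc, q, hq, rfl⟩ := hm
    have hcD : c ∈ D ⊓ C := ⟨by simpa using mul_mem hd (inv_mem (hQD hq)), hc⟩
    rw [← heq] at hcD
    exact mul_mem hcD.1 hq

end Abstract

variable {G : Type u} [Group G] [Fintype G] {p : ℕ} [Fact p.Prime] {M : Ideal AlgInt} [M.IsPrime]

theorem restr_classSumIn_crit {H : Subgroup G} (t : H) :
    restr H (classSumIn (resField M) H (t : G)) = classSum (resField M) t := by
  classical
  refine gaExt fun h => ?_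
  show (classSumIn (resField M) H (t : G)).coeff (h : G) = _
  rw [coeff_classSum]
  by_cases hc : IsConj t h
  · rw [if_pos hc]
    obtain ⟨c, rfl⟩ := isConj_iff.1 hc
    exact coeff_classSumIn_pos ⟨c, c.2, by simp⟩
  · rw [if_neg hc, coeff_classSumIn_neg]
    rintro ⟨n, hn, hne⟩
    exact hc (isConj_iff.2 ⟨⟨n, hn⟩, Subtype.ext hne⟩)

/-- The order of a defect group of a block of a subgroup. -/
theorem card_defGrp_zB (hM : IsPModular p M) (H : Subgroup G)
    {e : Set (IrrCharacter H)} (he : IsPBlock M e) {D : Subgroup G}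
    (hD : IsDefGrp p H (zB M H e) D) : Nat.card D = p ^ blockDefect p e := by
  obtain ⟨t, htH, h1, h2, hS⟩ := hD
  have hcl : IsDefectClass M e (⟨t, htH⟩ : H) := by
    refine ⟨blockCoeff_memLocalRing he _, fun h => h1 ?_, fun ψ hψ hψt => h2 ?_⟩
    · rw [zB, coeff_emb_mem H _ htH, coeff_Ek he, res_eq_zero_iff]
      exact h
    · rw [lam_zB H he hψ (inZ_classSumIn le_rfl Subgroup.le_normalizer htH),
        restr_classSumIn_crit (⟨t, htH⟩ : H), omegaK_classSum, res_eq_zero_iff]
      exact hψt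
  obtain ⟨S, rfl⟩ := exists_sylow_of_isSylowIn hS
  rw [Subgroup.card_map_of_injective Subtype.val_injective, Sylow.card_eq_multiplicity,
    blockDefect_eq_classExp hM he hcl, classExp]
  congr 2
  refine congrArg (fun n : ℕ => n.factorization) ?_
  refine Nat.card_congr
    { toFun := fun x => ⟨⟨x.1, x.2.1⟩, Subgroup.mem_centralizer_singleton_iff.2
        (Subtype.ext (Subgroup.mem_centralizer_singleton_iff.1 x.2.2))⟩
      invFun := fun y => ⟨(y.1 : G), y.1.2, Subgroup.mem_centralizer_singleton_iff.2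
        (congrArg Subtype.val (Subgroup.mem_centralizer_singleton_iff.1 y.2))⟩
      left_inv := fun _ => rfl
      right_inv := fun _ => rfl }

/-- The criterion for maximal pairs. -/
theorem exists_maximal_iff (hM : IsPModular p M) {Q : Subgroup G}
    {e : Set (IrrCharacter (Subgroup.centralizer (Q : Set G)))} (he : IsBrauerPair p M Q e) :
    (∃ B : Set (IrrCharacter G), IsMaximalBrauerPair p M B Q e) ↔
      blockDefect p e =
          (Nat.card (Q ⊓ Subgroup.centralizer (Q : Set G) : Subgroup G)).factorization p ∧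
        ∀ g : G, g ∈ Subgroup.normalizer (Q : Set G) →
          StabilizesBlock (Subgroup.centralizer (Q : Set G)) e g →
          (∃ j : ℕ, orderOf g = p ^ j) → g ∈ Q ⊔ Subgroup.centralizer (Q : Set G) := by
  haveI : CharP (resField M) p := resField_charP hM
  have hb : IsPair p ⊤ (zI M ⟨Q, e⟩) := isPair_zI ⟨Q, e⟩ he
  have hstab : ∀ g : G, g ∈ stabP (zI M ⟨Q, e⟩) ↔ g ∈ Subgroup.normalizer (Q : Set G) ∧
      StabilizesBlock (Subgroup.centralizer (Q : Set G)) e g := by
    intro g
    refine and_congr_right fun hg => ?_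
    have hgC : g ∈ Subgroup.normalizer
        ((Subgroup.centralizer (Q : Set G) : Subgroup G) : Set G) := by
      refine mem_normalizer_of_cjS_eq ?_
      have hg' : g ∈ Subgroup.normalizer (Q : Set G) := hg
      rw [cjS_centralizer, cjS_eq_of_mem_normalizer hg']
    exact (stabilizesBlock_iff he.2 hgC).symm
  have hno : (∃ B : Set (IrrCharacter G), IsMaximalBrauerPair p M B Q e) ↔
      NoExt p ⊤ (zI M ⟨Q, e⟩) := by
    constructor
    · rintro ⟨B, hB⟩
      obtain ⟨h1, h2⟩ := (maximal_iff hM).1 hB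
      obtain ⟨-, hBb, hpo⟩ := (isBrauerPairOf_iff hM).1 h1
      exact hpo.noExt ((isDefectGroup_iff hBb Q).1 h2)
    · intro hn
      obtain ⟨z, hz, -⟩ := existsUnique_pairOf hb
      obtain ⟨B, hB, rfl⟩ := exists_eq_Ek hz.blk
      exact ⟨B, (maximal_iff hM).2 ⟨(isBrauerPairOf_iff hM).2 ⟨he, hB, hz⟩,
        (isDefectGroup_iff hB Q).2 (hn.isDefGrp hz)⟩⟩
  obtain ⟨D₀, hD₀, hiff⟩ := noExt_iff_local hb
  rw [hno, hiff]
  refine and_congr ?_ ⟨fun h g hg hs => h g ((hstab g).2 ⟨hg, hs⟩),
    fun h g hg => h g ((hstab g).1 hg).1 ((hstab g).1 hg).2⟩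
  have hc := card_defGrp_zB hM (Subgroup.centralizer (Q : Set G)) he.2 hD₀
  obtain ⟨i, hi⟩ := (he.1.to_le (inf_le_left (b := Subgroup.centralizer (Q : Set G)))).exists_card_eq
  show Nat.card D₀ = Nat.card (Q ⊓ Subgroup.centralizer (Q : Set G) : Subgroup G) ↔ _
  rw [hc, hi, hM.1.factorization_pow, Finsupp.single_eq_same]
  exact ⟨fun h => Nat.pow_right_injective hM.1.two_le h, fun h => by rw [h]⟩

end Cfsg.Agent.BrauerPairs
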