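/-
Counting 2-blocks of defect zero by elements of order three.
-/
import Cfsg.Agent.Lib.BrauerPairs.SeparatedClasses
import Cfsg.Agent.Lib.Char.Complete
import Cfsg.Agent.Lib.Char.GlaubermanMod

set_option linter.unusedSectionVars false
set_option linter.style.haveILetI false

namespace Cfsg.Agent.BrauerPairs

open Cfsg Cfsg.Agent.Blocks Cfsg.Agent.Char MonoidAlgebra
open scoped ComplexConjugate

universe u

variable {G : Type u} [Group G] [Fintype G]

/-- An element of order three normalising no non-trivial 2-subgroup is isolated in this sense. -/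
theorem eq_one_of_mul_pow_three {g u : G} (hg3 : g ^ 3 = 1) (hu : u * u = 1)
    (hgu : (g * u) ^ 3 = 1)
    (hfree : ∀ Q : Subgroup G, IsPGroup 2 Q → g ∈ Subgroup.normalizer (Q : Set G) → Q = ⊥) :
    u = 1 := by
  have huinv : u⁻¹ = u := inv_eq_of_mul_eq_one_right hu
  have hconj : ∀ v : G, v * v = 1 → (g * v * g⁻¹) * (g * v * g⁻¹) = 1 := fun v hv => by
    rw [show g * v * g⁻¹ * (g * v * g⁻¹) = g * (v * v) * g⁻¹ by group, hv, mul_one, mul_inv_cancel]
  set u₂ := g * u * g⁻¹ with hu₂
  set u₃ := g * u₂ * g⁻¹ with hu₃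
  have hg' : g * g * g = 1 := by rw [← pow_three', hg3]
  have hprod : u₂ * u₃ * u = 1 := by
    have e : g⁻¹ = g * g := inv_eq_of_mul_eq_one_right (by rw [← mul_assoc, hg'])
    calc u₂ * u₃ * u = g * u * g * u * g⁻¹ * g⁻¹ * u := by rw [hu₃, hu₂]; group
      _ = g * u * g * u * (g * (g * g * g)) * u := by rw [e]; simp only [mul_assoc]
      _ = g * u * (g * u) * (g * u) := by rw [hg', mul_one]; simp only [mul_assoc]
      _ = 1 := by rw [← pow_three', hgu]
  have h3 : u₃ = u₂ * u := by
    have h := hprod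
    rw [mul_assoc] at h
    have h1 : u₃ * u = u₂⁻¹ := eq_inv_of_mul_eq_one_right h
    rw [inv_eq_of_mul_eq_one_right (hconj u hu)] at h1
    calc u₃ = u₃ * (u * u) := by rw [hu, mul_one]
      _ = u₂ * u := by rw [← mul_assoc, h1]
  have hcomm : u₂ * u = u * u₂ := by
    have h := hconj _ (hconj u hu)
    rw [← hu₂, ← hu₃, h3] at h
    have h1 : (u₂ * u)⁻¹ = u₂ * u := inv_eq_of_mul_eq_one_right h
    rw [mul_inv_rev, huinv, inv_eq_of_mul_eq_one_right (hconj u hu)] at h1
    exact h1.symm
  set Q : Subgroup G := Subgroup.closure ({u, u₂} : Set G) with hQ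
  have hc : ∀ a ∈ ({u, u₂} : Set G), ∀ b ∈ ({u, u₂} : Set G), a * b = b * a := by
    rintro a (rfl | rfl) b (rfl | rfl) <;>
      first | rfl | exact hcomm | exact hcomm.symm
  haveI := Subgroup.isMulCommutative_closure hc
  have hsq : ∀ a ∈ Q, a * a = 1 := by
    intro a ha
    induction ha using Subgroup.closure_induction with
    | mem a ha => rcases ha with rfl | rfl
                  · exact hu
                  · exact hconj u hu
    | one => simp
    | mul a b ha hb h1 h2 =>
      have hab : a * b = b * a := congrArg Subtype.val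
        (mul_comm' (⟨a, ha⟩ : Q) (⟨b, hb⟩ : Q))
      calc a * b * (a * b) = a * (b * a) * b := by group
        _ = a * (a * b) * b := by rw [hab]
        _ = (a * a) * (b * b) := by group
        _ = 1 := by rw [h1, h2, one_mul]
    | inv a _ h1 => rw [← mul_inv_rev, h1, inv_one]
  have hQp : IsPGroup 2 Q := fun a => ⟨1, Subtype.ext (by
    simpa [sq] using hsq a a.2)⟩
  have hgN : g ∈ Subgroup.normalizer (Q : Set G) := by
    have hle : Q.map (MulAut.conj g).toMonoidHom ≤ Q := by
      rw [hQ, MonoidHom.map_closure, Subgroup.closure_le]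
      rintro _ ⟨a, ha, rfl⟩
      simp only [MulEquiv.coe_toMonoidHom, MulAut.conj_apply, SetLike.mem_coe]
      rcases ha with rfl | rfl
      · exact Subgroup.subset_closure (Or.inr rfl)
      · rw [← hu₃, h3]
        exact mul_mem (Subgroup.subset_closure (Or.inr rfl)) (Subgroup.subset_closure (Or.inl rfl))
    have heq : Q.map (MulAut.conj g).toMonoidHom = Q := Subgroup.eq_of_le_of_card_ge hle
      (by rw [Subgroup.card_map_of_injective (MulAut.conj g).injective])
    refine Subgroup.mem_normalizer_iff.2 fun a => ⟨fun ha => heq.le ⟨a, ha, by simp⟩, fun ha => ?_⟩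
    obtain ⟨b, hb, hbe⟩ := heq.ge ha
    simp only [MulEquiv.coe_toMonoidHom, MulAut.conj_apply] at hbe
    rwa [mul_left_cancel (mul_right_cancel hbe)] at hb
  have := hfree Q hQp hgN
  exact Subgroup.mem_bot.1 (this.le (Subgroup.subset_closure (Or.inl rfl)))

/-- The number of defect zero characters for the prime two bounds the isolated classes of order
three. -/
theorem card_le_defectZero {r : ℕ} (x : Fin r → G)
    (hx : ∀ i j : Fin r, IsConj (x i) (x j) → i = j) (h3 : ∀ i, orderOf (x i) = 3)
    (hfree : ∀ i, ∀ Q : Subgroup G, IsPGroup 2 Q → x i ∈ Subgroup.normalizer (Q : Set G) → Q = ⊥) :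
    r ≤ Nat.card {χ : IrrCharacter G //
      (charDegree (χ : G → ℂ)).factorization 2 = (Nat.card G).factorization 2} := by
  classical
  haveI : Fact (Nat.Prime 2) := ⟨Nat.prime_two⟩
  obtain ⟨M, hM⟩ := GlaubermanMod.exists_isPModular 2
  haveI := IsPModular.isPrime hM
  have hx3 : ∀ i, x i * x i * x i = 1 := fun i => by
    rw [← pow_three', ← h3 i, pow_orderOf_eq_one]
  have hodd : ∀ i, ¬ 2 ∣ Nat.card (Subgroup.centralizer ({x i} : Set G)) := by
    intro i hd
    obtain ⟨u, hu⟩ := exists_prime_orderOf_dvd_card' 2 hd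
    have huo : orderOf (u : G) = 2 := by rw [Subgroup.orderOf_coe, hu]
    have h := hfree i (Subgroup.zpowers (u : G))
      (IsPGroup.of_card (n := 1) (by rw [Nat.card_zpowers, huo, pow_one])) ?_
    · rw [Subgroup.zpowers_eq_bot] at h
      rw [h, orderOf_one] at huo
      omega
    · refine Subgroup.mem_normalizer_iff.2 fun n => ?_
      have hc : Commute (x i) (u : G) := Subgroup.mem_centralizer_iff.1 u.2 _ rfl
      have hfix : ∀ m ∈ Subgroup.zpowers (u : G), Commute (x i) m := fun m hm => by
        obtain ⟨k, rfl⟩ := Subgroup.mem_zpowers_iff.1 hm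
        exact hc.zpow_right k
      refine ⟨fun hn => ?_, fun hn => ?_⟩
      · rwa [(hfix n hn).eq, mul_inv_cancel_right]
      · have h1 := (hfix _ hn).eq
        have e : x i * n * (x i)⁻¹ = n := by
          have : (x i)⁻¹ * (x i * (x i * n * (x i)⁻¹)) = (x i)⁻¹ * ((x i * n * (x i)⁻¹) * x i) := by
            rw [h1]
          simpa [mul_assoc] using this
        rwa [e] at hn
  let Z := {χ : IrrCharacter G //
    (charDegree (χ : G → ℂ)).factorization 2 = (Nat.card G).factorization 2}
  haveI : Fintype Z := Fintype.ofFinite _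
  let T : Fin r → Finset G := fun j => classFinset (x j)⁻¹
  let f : IrrCharacter G → Fin r → ℂ := fun χ j =>
    conj ((χ : G → ℂ) (x j)) * centralChar (χ : G → ℂ) (x j)⁻¹
  have hf : ∀ χ j, MemLocalRing M (f χ j) := fun χ j =>
    mem_locRing.1 ((locRing M).mul_mem (by
      rw [← irr_inv]
      exact irr_memLocalRing χ _) (centralChar_memLocalRing _ _))
  have hzero : ∀ χ : IrrCharacter G, ¬ (charDegree (χ : G → ℂ)).factorization 2 =
      (Nat.card G).factorization 2 → ∀ j, MemLocalIdeal M (f χ j) := by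
    intro χ hχ j
    refine MemLocalIdeal.mul_left (by rw [← irr_inv]; exact irr_memLocalRing χ _) ?_
    by_contra hu
    refine hχ ?_
    have hB := isPBlock_blockOf (M := M) χ
    obtain ⟨g, hg⟩ := exists_defectClass hB
    have hle := classExp_le hM hB (self_mem_blockOf χ) hu hg.2.1
    have h0 : classExp 2 (x j)⁻¹ = 0 := by
      rw [classExp, centralizer_singleton_inv]
      exact Nat.factorization_eq_zero_of_not_dvd (hodd j)
    have hd : blockDefect 2 (blockOf M (χ : G → ℂ)) = 0 := by
      rw [blockDefect_eq_classExp hM hB hg]; omega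
    have h1 := degExp_ge hM hB (self_mem_blockOf χ)
    rw [hd, Nat.sub_zero] at h1
    refine le_antisymm ?_ h1
    exact (Nat.factorization_le_iff_dvd (charDegree_pos χ).ne' Nat.card_pos.ne').2
      (charDegree_dvd_card χ) 2
  have hid : ∀ i j, ∑ χ : IrrCharacter G, (χ : G → ℂ) (x i)⁻¹ * f χ j =
      ((Nat.card (Subgroup.centralizer ({x j} : Set G))) : ℂ) *
        (((T j).filter fun t => IsConj ((x i)⁻¹ * t) (x j)).card : ℂ) := by
    intro i j
    have hinv : ∀ u t : G, t ∈ T j → u * t * u⁻¹ ∈ T j := fun u t ht =>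
      mem_classFinset.2 ((mem_classFinset.1 ht).trans (isConj_iff.2 ⟨u, rfl⟩))
    calc ∑ χ : IrrCharacter G, (χ : G → ℂ) (x i)⁻¹ * f χ j
        = ∑ χ : IrrCharacter G, conj ((χ : G → ℂ) (x j)) *
            ∑ t ∈ T j, (χ : G → ℂ) ((x i)⁻¹ * t) := by
          refine Finset.sum_congr rfl fun χ _ => ?_
          rw [sum_mul_invariant χ (T j) hinv]
          simp only [f, T]
          rw [centralChar, ← card_classFinset, Finset.sum_congr rfl fun t ht =>
            (show (χ : G → ℂ) t = (χ : G → ℂ) (x j)⁻¹ by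
              obtain ⟨c, rfl⟩ := isConj_iff.1 (mem_classFinset.1 ht)
              exact irr_conj_invariant χ _ c), Finset.sum_const, nsmul_eq_mul]
          ring
      _ = ∑ t ∈ T j, ∑ χ : IrrCharacter G,
            (χ : G → ℂ) ((x i)⁻¹ * t) * conj ((χ : G → ℂ) (x j)) := by
          simp only [Finset.mul_sum]
          rw [Finset.sum_comm]
          exact Finset.sum_congr rfl fun t _ => Finset.sum_congr rfl fun χ _ => mul_comm _ _
      _ = ∑ t ∈ T j, if IsConj ((x i)⁻¹ * t) (x j) then
            ((Nat.card (Subgroup.centralizer ({x j} : Set G))) : ℂ) else 0 := by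
          refine Finset.sum_congr rfl fun t _ => ?_
          split_ifs with h
          · obtain ⟨c, hc⟩ := isConj_iff.1 h
            rw [← column_orth_of_isConj (IsConj.refl (x j))]
            refine Finset.sum_congr rfl fun χ _ => ?_
            rw [← hc, irr_conj_invariant χ _ c]
          · exact column_orth_of_not_isConj h
      _ = _ := by
          rw [← Finset.sum_filter, Finset.sum_const, nsmul_eq_mul, mul_comm]
  have hparity : ∀ i j, (((T j).filter fun t => IsConj ((x i)⁻¹ * t) (x j)).card : ℕ) % 2 =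
      if i = j then 1 else 0 := by
    intro i j
    set S := (T j).filter fun t => IsConj ((x i)⁻¹ * t) (x j) with hS
    set z := (x i)⁻¹ with hz
    let σ : G → G := fun t => t⁻¹ * z⁻¹
    have hmem : ∀ t, t ∈ S ↔ IsConj (x j) t⁻¹ ∧ IsConj (x j) (z * t) := fun t => by
      simp only [hS, T, Finset.mem_filter, mem_classFinset]
      refine and_congr ⟨fun h => ?_, fun h => ?_⟩ isConj_comm
      · obtain ⟨c, rfl⟩ := isConj_iff.1 h
        exact isConj_iff.2 ⟨c, by group⟩
      · obtain ⟨c, hc⟩ := isConj_iff.1 h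
        exact isConj_iff.2 ⟨c, by rw [← inv_inv t, ← hc]; group⟩
    have hσ : ∀ t ∈ S, σ t ∈ S := fun t ht => by
      obtain ⟨h1, h2⟩ := (hmem t).1 ht
      refine (hmem _).2 ⟨?_, ?_⟩
      · simpa [σ] using h2
      · refine h1.trans (isConj_iff.2 ⟨z, ?_⟩)
        simp [σ, mul_assoc]
    have hσ2 : ∀ t, σ (σ t) = z * t * z⁻¹ := fun t => by simp [σ, mul_assoc]
    let τ : G → G := fun t => z * t⁻¹ * z⁻¹ * z⁻¹
    have hτσ : ∀ t, τ t = σ (σ (σ t)) := fun t => by simp [σ, τ, mul_assoc]
    have hzz : z * z * z = 1 := by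
      rw [hz, ← mul_inv_rev, ← mul_inv_rev, ← mul_assoc, hx3, inv_one]
    have hτ2 : ∀ t, τ (τ t) = t := fun t => by
      calc τ (τ t) = (z * z * z) * t * (z * z * z)⁻¹ := by simp [τ, mul_assoc]
        _ = t := by rw [hzz, inv_one, one_mul, mul_one]
    have hfix : ∀ t, t ∈ S → τ t = t → t = x i ^ 2 ∧ i = j := by
      intro t ht hfx
      obtain ⟨h1, h2⟩ := (hmem t).1 ht
      simp only [τ, hz, inv_inv] at hfx
      set w := t * x i with hw
      have hw2 : w * w = 1 := by
        calc w * w = t * x i * (t * x i) := by rw [hw]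
          _ = (x i)⁻¹ * t⁻¹ * x i * x i * x i * (t * x i) := by rw [hfx]
          _ = (x i)⁻¹ * t⁻¹ * (x i * x i * x i) * (t * x i) := by simp only [mul_assoc]
          _ = 1 := by rw [hx3]; group
      have ht3 : (x i * w) ^ 3 = 1 := by
        have ho : orderOf t = 3 := by
          obtain ⟨c, hc⟩ := isConj_iff.1 h1
          rw [← orderOf_inv, ← hc, ← MulAut.conj_apply, MulEquiv.orderOf_eq, h3]
        have e : x i * w = t⁻¹ := eq_inv_of_mul_eq_one_right (by
          rw [hw, ← hw2, hw]; group)
        rw [e, inv_pow, ← ho, pow_orderOf_eq_one, inv_one]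
      have hw1 := eq_one_of_mul_pow_three (by rw [← h3 i, pow_orderOf_eq_one]) hw2 ht3 (hfree i)
      have ht2 : t = x i ^ 2 := by
        rw [hw, mul_eq_one_iff_eq_inv] at hw1
        rw [hw1, sq]
        exact inv_eq_of_mul_eq_one_left (hx3 i)
      refine ⟨ht2, (hx j i ?_).symm⟩
      refine h1.trans ?_
      rw [ht2, sq, inv_eq_of_mul_eq_one_left (by rw [← mul_assoc]; exact hx3 i)]
    have hcount : S.card % 2 = (S.filter fun t => τ t = t).card % 2 := by
      have h := Finset.card_filter_add_card_filter_not (s := S) (fun t => τ t = t)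
      have hev : (((S.filter fun t => ¬ τ t = t).card : ℕ) : ZMod 2) = 0 := by
        rw [Finset.card_eq_sum_ones, Nat.cast_sum]
        refine Finset.sum_involution (fun t _ => τ t) (fun _ _ => by rw [Nat.cast_one]; exact CharTwo.add_self_eq_zero _)
          (fun t ht _ => (Finset.mem_filter.1 ht).2) (fun t ht => ?_) (fun t _ => hτ2 t)
        obtain ⟨h1, h2⟩ := Finset.mem_filter.1 ht
        exact Finset.mem_filter.2 ⟨hτσ t ▸ hσ _ (hσ _ (hσ _ h1)), fun e => h2 (by
          rw [hτ2] at e; exact e.symm)⟩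
      rw [ZMod.natCast_eq_zero_iff_even] at hev
      obtain ⟨k, hk⟩ := hev
      omega
    rw [hcount]
    split_ifs with hij
    · subst hij
      rw [show (S.filter fun t => τ t = t) = {x i ^ 2} from ?_, Finset.card_singleton]
      have e2 : (x i ^ 2)⁻¹ = x i := by
        rw [sq]; exact inv_eq_of_mul_eq_one_left (by rw [← mul_assoc]; exact hx3 i)
      refine Finset.eq_singleton_iff_unique_mem.2 ⟨Finset.mem_filter.2 ⟨(hmem _).2 ⟨?_, ?_⟩, ?_⟩,
        fun t ht => (hfix t (Finset.mem_filter.1 ht).1 (Finset.mem_filter.1 ht).2).1⟩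
      · rw [e2]
      · rw [hz, sq, inv_mul_cancel_left]
      · simp only [τ, hz, inv_inv, e2]
        group
        exact (zpow_two (x i)).symm
    · rw [Finset.card_eq_zero.2 (Finset.filter_eq_empty_iff.2 fun t ht e => hij (hfix t ht e).2)]
  let U : Matrix (Fin r) Z (locRing M) := Matrix.of fun i χ =>
    ⟨(χ.1 : G → ℂ) (x i)⁻¹, irr_memLocalRing _ _⟩
  let W : Matrix Z (Fin r) (locRing M) := Matrix.of fun χ j => ⟨f χ.1 j, hf χ.1 j⟩
  have hUW : (U.map (res M) * W.map (res M)) = 1 := by
    rw [← Matrix.map_mul]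
    refine Matrix.ext fun i j => ?_
    rw [Matrix.map_apply, Matrix.one_apply, ← map_one (res M), ← map_zero (res M),
      ← apply_ite (res M), res_eq_res_iff, Matrix.mul_apply, AddSubmonoidClass.coe_finset_sum]
    have h1 : MemLocalIdeal M (∑ χ : IrrCharacter G, (χ : G → ℂ) (x i)⁻¹ * f χ j -
        if i = j then 1 else 0) := by
      rw [hid]
      obtain ⟨a, ha⟩ : Odd (Nat.card (Subgroup.centralizer ({x j} : Set G))) :=
        Nat.odd_iff.2 (by have := hodd j; omega)
      have hp := hparity i j
      set k := ((T j).filter fun t => IsConj ((x i)⁻¹ * t) (x j)).card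
      have h2 : MemLocalIdeal M (((2 : ℕ) : ℂ)) :=
        (natCast_memLocalIdeal_iff hM 2).2 dvd_rfl
      rw [ha]
      split_ifs at hp ⊢
      · obtain ⟨b, hb⟩ : ∃ b, k = 2 * b + 1 := ⟨k / 2, by omega⟩
        have := MemLocalIdeal.mul_left (x := ((2 * a * b + a + b : ℕ) : ℂ))
          (mem_locRing.1 (natCast_mem (locRing M) _)) h2
        rw [hb]; push_cast at this ⊢
        convert this using 1
        ring
      · obtain ⟨b, hb⟩ : ∃ b, k = 2 * b := ⟨k / 2, by omega⟩
        have := MemLocalIdeal.mul_left (x := (((2 * a + 1) * b : ℕ) : ℂ))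
          (mem_locRing.1 (natCast_mem (locRing M) _)) h2
        rw [hb]; push_cast at this ⊢
        convert this using 1
        ring
    rw [← Finset.sum_filter_add_sum_filter_not Finset.univ (fun χ : IrrCharacter G =>
      (charDegree (χ : G → ℂ)).factorization 2 = (Nat.card G).factorization 2)] at h1
    have h2 : MemLocalIdeal M (∑ χ ∈ Finset.univ.filter (fun χ : IrrCharacter G =>
        ¬ (charDegree (χ : G → ℂ)).factorization 2 = (Nat.card G).factorization 2),
        (χ : G → ℂ) (x i)⁻¹ * f χ j) := memLocalIdeal_sum _ _ fun χ hχ =>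
      MemLocalIdeal.mul_left (irr_memLocalRing _ _) (hzero χ (Finset.mem_filter.1 hχ).2 j)
    have h3' := MemLocalIdeal.sub h1 h2
    rw [Finset.sum_subtype (p := fun χ : IrrCharacter G =>
      (charDegree (χ : G → ℂ)).factorization 2 = (Nat.card G).factorization 2) _ (by simp)] at h3'
    split_ifs at h3' ⊢ <;> (convert h3' using 1; simp [U, W]; ring)
  obtain ⟨s, hs⟩ := exists_det_comp_ne_zero (U.map (res M)) (W.map (res M))
    (by rw [hUW, Matrix.det_one]; exact one_ne_zero)
  have hinj : Function.Injective s := fun a b hab => by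
    by_contra hne
    exact hs (Matrix.det_zero_of_row_eq hne (funext fun j => by simp [hab]))
  have := Nat.card_le_card_of_injective s hinj
  rwa [Nat.card_fin] at this

end Cfsg.Agent.BrauerPairs
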