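/-
Deficiency classes: non-principal blocks of large defect pass to centralisers and back.
-/
import Cfsg.Agent.Lib.BrauerPairs.FusionBridge
import Cfsg.Agent.Lib.Blocks.Degree

set_option linter.unusedSectionVars false
set_option linter.style.haveILetI false

namespace Cfsg.Agent.BrauerPairs

open Cfsg MonoidAlgebra Cfsg.Agent.Blocks

section Abstract

variable {G : Type*} [Group G] [Fintype G] {k : Type*} [Field k] [SplitCenter k G]
variable {p : ℕ} [Fact p.Prime] [CharP k p] {X : Subgroup G}

theorem IsPairOf.isPrin_iff {B : MonoidAlgebra k G} {a : Pr k G} (ha : IsPairOf p X B a) :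
    IsPrin X B ↔ IsPrin (X ⊓ Subgroup.centralizer (a.1 : Set G)) a.2 := by
  refine ⟨ha.isPrin, fun h => ?_⟩
  obtain ⟨z, hz, -⟩ := existsUnique_prin (k := k) X
  have h' : IsPairOf p X z (a.1, a.2) := hz.pairOf ha.pair.pgroup ha.pair.le h
  exact (ha.unique h').symm ▸ hz

end Abstract

universe u

variable {G : Type u} [Group G] [Fintype G] {p : ℕ} [Fact p.Prime] {M : Ideal AlgInt} [M.IsPrime]

theorem card_defect_eq (hM : IsPModular p M) {H : Subgroup G} {b : Set (IrrCharacter H)}
    (hb : IsPBlock M b) {D : Subgroup G} (hD : IsDefGrp p H (zB M H b) D) :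
    Nat.card D = p ^ blockDefect p b := by
  haveI : CharP (resField M) p := resField_charP hM
  rw [← card_defectGroup hM hb ((isDefectGroup_subgroupOf_iff hb hD.le).2 hD)]
  exact (Nat.card_congr (Subgroup.subgroupOfEquivOfLe hD.le).toEquiv).symm

theorem deficiency_down (hM : IsPModular p M) {r : ℕ}
    (h : ∀ B : Set (IrrCharacter G), IsPBlock M B → B ≠ principalBlock M G → blockDefect p B < r)
    {y : G} (hy : ∃ k : ℕ, orderOf y = p ^ k)
    {b : Set (IrrCharacter (Subgroup.centralizer ({y} : Set G)))} (hb : IsPBlock M b)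
    (hne : b ≠ principalBlock M (Subgroup.centralizer ({y} : Set G))) :
    blockDefect p b < r := by
  haveI : CharP (resField M) p := resField_charP hM
  by_contra hlt
  have hbl := isBlk_zB (M := M) (Subgroup.centralizer ({y} : Set G)) hb
  obtain ⟨D, hD⟩ := exists_isDefGrp (p := p) hbl
  obtain ⟨j, hj⟩ := hy
  have hyp : IsPGroup p (Subgroup.zpowers y) := IsPGroup.of_card (by rw [Nat.card_zpowers, hj])
  have hyC : Subgroup.zpowers y ≤ (Subgroup.centralizer ({y} : Set G)) := by
    rw [Subgroup.zpowers_le, Subgroup.mem_centralizer_singleton_iff]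
  have hbr : brTrunc (Subgroup.zpowers y) (zB M (Subgroup.centralizer ({y} : Set G)) b) = zB M (Subgroup.centralizer ({y} : Set G)) b :=
    brTrunc_eq_self fun g hg => hbl.inZ.supp g fun hgC => hg (by
      rw [← le_centralizer_singleton_iff, Subgroup.zpowers_le,
        Subgroup.mem_centralizer_singleton_iff]
      exact (Subgroup.mem_centralizer_singleton_iff.1 hgC).symm)
  obtain ⟨c, hc, hle⟩ := hD.exists_conj_ge hbl hyp hyC (hbr.symm ▸ hbl.ne_zero)
  have hD' := hD.cj' hbl hc
  have hcy : cjS c D ≤ (Subgroup.centralizer ({y} : Set G)) := hD'.le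
  have hCD : Subgroup.centralizer (cjS c D : Set G) ≤ (Subgroup.centralizer ({y} : Set G)) := fun g hg => by
    rw [Subgroup.mem_centralizer_singleton_iff]
    exact (Subgroup.mem_centralizer_iff.1 hg y (hle (Subgroup.mem_zpowers y))).symm
  obtain ⟨e, he⟩ := exists_pairOf_defGrp hbl hD'
  obtain ⟨z, hz, -⟩ := existsUnique_pairOf ((isPair_sub_iff hCD).1 he.pair).1
  obtain ⟨B, hB, rfl⟩ := exists_eq_Ek hz.blk
  have hBp : B = principalBlock M G := by
    by_contra hBne
    obtain ⟨D', hD''⟩ := exists_isDefGrp (p := p) hz.blk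
    have h1 := card_defectGroup hM hB ((isDefectGroup_iff hB D').2 hD'')
    have h2 : Nat.card (cjS c D) ≤ Nat.card D' := hz.card_le hD''
    rw [h1, card_defect_eq hM hb hD', Nat.pow_le_pow_iff_right (Fact.out : p.Prime).one_lt] at h2
    have := h B hB hBne
    omega
  subst hBp
  have hp := hz.isPrin_iff.1 isPrin_Ek
  rw [top_inf_eq] at hp
  refine hne (eq_principal_of_isPrin hb (he.isPrin_iff.2 ?_))
  rwa [inf_eq_right.2 hCD]

theorem deficiency_up (hM : IsPModular p M) {r : ℕ} (hr : 0 < r)
    (h : ∀ y : G, orderOf y = p → ∀ b : Set (IrrCharacter (Subgroup.centralizer ({y} : Set G))),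
      IsPBlock M b → b ≠ principalBlock M (Subgroup.centralizer ({y} : Set G)) →
        blockDefect p b < r)
    {B : Set (IrrCharacter G)} (hB : IsPBlock M B) (hne : B ≠ principalBlock M G) :
    blockDefect p B < r := by
  haveI : CharP (resField M) p := resField_charP hM
  by_contra hlt
  obtain ⟨D, hD⟩ := exists_isDefGrp (p := p) (isBlk_Ek (M := M) hB)
  have hcard := card_defectGroup hM hB ((isDefectGroup_iff hB D).2 hD)
  haveI : Nontrivial D := Finite.one_lt_card_iff_nontrivial.1 (by
    rw [hcard]; exact Nat.one_lt_pow (by omega) (Fact.out : p.Prime).one_lt)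
  haveI := hD.pgroup.center_nontrivial
  obtain ⟨⟨w, hwZ⟩, hw⟩ := exists_prime_orderOf_dvd_card' (G := Subgroup.center D) p (by
    obtain ⟨n, hn, hn'⟩ := (hD.pgroup.to_subgroup (Subgroup.center D)).nontrivial_iff_card.1
      inferInstance
    rw [hn']
    exact dvd_pow_self p hn.ne')
  set y : G := (w : G) with hy
  have hyo : orderOf y = p := by
    rw [hy, Subgroup.orderOf_coe]
    rwa [← Subgroup.orderOf_coe] at hw
  obtain ⟨e, he⟩ := exists_pairOf_defGrp (isBlk_Ek (M := M) hB) hD
  have hDC : D ≤ Subgroup.centralizer ({y} : Set G) := fun u hu => by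
    rw [Subgroup.mem_centralizer_singleton_iff]
    exact congrArg Subtype.val (Subgroup.mem_center_iff.1 hwZ ⟨u, hu⟩)
  have hCD : Subgroup.centralizer (D : Set G) ≤ Subgroup.centralizer ({y} : Set G) := fun g hg => by
    rw [Subgroup.mem_centralizer_singleton_iff]
    exact (Subgroup.mem_centralizer_iff.1 hg y w.2).symm
  have hpC := (isPair_sub_iff hCD).2 ⟨he.pair, hDC⟩
  obtain ⟨z, hz, -⟩ := existsUnique_pairOf hpC
  obtain ⟨b, hb, rfl⟩ := exists_eq_zB (H := Subgroup.centralizer ({y} : Set G)) hz.blk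
  have hbp : b = principalBlock M (Subgroup.centralizer ({y} : Set G)) := by
    by_contra hbne
    obtain ⟨D', hD'⟩ := exists_isDefGrp (p := p) hz.blk
    have h2 : Nat.card D ≤ Nat.card D' := hz.card_le hD'
    rw [hcard, card_defect_eq hM hb hD',
      Nat.pow_le_pow_iff_right (Fact.out : p.Prime).one_lt] at h2
    have := h y hyo b hb hbne
    omega
  subst hbp
  have hp := hz.isPrin_iff.1 (isPrin_zB _)
  rw [inf_eq_right.2 hCD] at hp
  refine hne (Ek_injective (M := M) hB (isPBlock_principalBlock M G)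
    (IsPrin.unique (he.isPrin_iff.2 ?_) isPrin_Ek))
  rwa [top_inf_eq]

end Cfsg.Agent.BrauerPairs
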