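/-
Landau's bound: a finite group with few classes is small.
-/
import Mathlib.GroupTheory.GroupAction.ConjAct
import Mathlib.GroupTheory.GroupAction.Quotient
import Mathlib.GroupTheory.Index
import Mathlib.Data.Rat.Floor
import Mathlib.Algebra.BigOperators.Field
import Mathlib.Tactic

namespace Cfsg.Agent.BrauerPairs

universe u

theorem egyptian_bound : ∀ (k : ℕ) (r : ℚ), ∃ N : ℕ, ∀ s : Multiset ℕ, Multiset.card s ≤ k →
    (∀ n ∈ s, 0 < n) → (s.map fun n : ℕ => (1 : ℚ) / n).sum = r → ∀ n ∈ s, n ≤ N := by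
  intro k
  induction k with
  | zero =>
    intro r
    refine ⟨0, fun s hs _ _ n hn => absurd hn ?_⟩
    rw [Multiset.card_eq_zero.1 (Nat.le_zero.1 hs)]
    simp
  | succ k ih =>
    intro r
    choose Nf hNf using ih
    set K := ⌊((k : ℚ) + 1) / r⌋₊ with hK
    refine ⟨max K ((Finset.range (K + 1)).sup fun m : ℕ => Nf (r - 1 / m)), ?_⟩
    intro s hs hpos hsum n hn
    obtain ⟨m, hm, hmin⟩ : ∃ m ∈ s, ∀ x ∈ s, m ≤ x := by
      have hne : s.toFinset.Nonempty := ⟨n, Multiset.mem_toFinset.2 hn⟩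
      exact ⟨s.toFinset.min' hne, Multiset.mem_toFinset.1 (Finset.min'_mem _ hne),
        fun x hx => Finset.min'_le _ x (Multiset.mem_toFinset.2 hx)⟩
    have hm0 : (0 : ℚ) < m := by exact_mod_cast hpos m hm
    have hle : r ≤ ((k : ℚ) + 1) * (1 / m) := by
      rw [← hsum]
      have h1 := Multiset.sum_le_card_nsmul (s.map fun x : ℕ => (1 : ℚ) / x) (1 / m) ?_
      · rw [Multiset.card_map, nsmul_eq_mul] at h1
        refine h1.trans (mul_le_mul_of_nonneg_right ?_ (by positivity))
        exact_mod_cast hs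
      · intro y hy
        obtain ⟨x, hx, rfl⟩ := Multiset.mem_map.1 hy
        exact one_div_le_one_div_of_le hm0 (by exact_mod_cast hmin x hx)
    have hr : 0 < r := by
      rw [← hsum, ← Multiset.cons_erase hm, Multiset.map_cons, Multiset.sum_cons]
      refine add_pos_of_pos_of_nonneg (by positivity) (Multiset.sum_nonneg ?_)
      intro y hy
      obtain ⟨x, -, rfl⟩ := Multiset.mem_map.1 hy
      positivity
    have hmK : m ≤ K := by
      refine Nat.le_floor ?_
      rw [le_div_iff₀ hr, mul_comm]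
      calc r * m ≤ ((k : ℚ) + 1) * (1 / m) * m := mul_le_mul_of_nonneg_right hle hm0.le
        _ = _ := by field_simp
    by_cases hnm : n = m
    · exact hnm ▸ hmK.trans (le_max_left _ _)
    refine le_trans (hNf (r - 1 / m) (s.erase m) ?_ (fun x hx => hpos x (Multiset.mem_of_mem_erase hx))
      ?_ n ((Multiset.mem_erase_of_ne hnm).2 hn)) (le_trans (Finset.le_sup
        (f := fun m : ℕ => Nf (r - 1 / m)) (Finset.mem_range.2 (Nat.lt_succ_of_le hmK)))
        (le_max_right _ _))
    · rw [Multiset.card_erase_of_mem hm, Nat.pred_eq_sub_one]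
      omega
    · rw [← hsum]
      conv_rhs => rw [← Multiset.cons_erase hm, Multiset.map_cons, Multiset.sum_cons]
      ring

theorem exists_landau_bound (k : ℕ) :
    ∃ N : ℕ, ∀ (G : Type u) [Group G] [Finite G], Nat.card (ConjClasses G) ≤ k → Nat.card G ≤ N := by
  classical
  obtain ⟨N, hN⟩ := egyptian_bound k 1
  refine ⟨N, fun G _ _ hk => ?_⟩
  haveI : Fintype G := Fintype.ofFinite G
  haveI : Finite (ConjClasses G) := Finite.of_surjective _ ConjClasses.mk_surjective
  haveI : Fintype (ConjClasses G) := Fintype.ofFinite _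
  let f : ConjClasses G → ℕ := fun C => (Finset.univ.filter fun g : G => ConjClasses.mk g = C).card
  have hdvd : ∀ C, f C ∣ Nat.card G := by
    intro C
    obtain ⟨g, rfl⟩ := ConjClasses.mk_surjective C
    have h1 : f (ConjClasses.mk g) = (MulAction.orbit (ConjAct G) g).ncard := by
      show (Finset.univ.filter fun x : G => ConjClasses.mk x = ConjClasses.mk g).card = _
      rw [ConjAct.orbit_eq_carrier_conjClasses, ← Set.ncard_coe_finset]
      congr 1
      ext x
      simp [ConjClasses.mem_carrier_iff_mk_eq]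
    rw [h1, ← MulAction.index_stabilizer, ← Nat.card_congr ConjAct.toConjAct.toEquiv.symm]
    exact Subgroup.index_dvd_card _
  have hpos : ∀ C, 0 < f C := by
    intro C
    obtain ⟨g, rfl⟩ := ConjClasses.mk_surjective C
    exact Finset.card_pos.2 ⟨g, Finset.mem_filter.2 ⟨Finset.mem_univ _, rfl⟩⟩
  have hone : f (ConjClasses.mk 1) = 1 := by
    refine Finset.card_eq_one.2 ⟨1, Finset.ext fun g => ?_⟩
    simp only [Finset.mem_filter, Finset.mem_univ, true_and, Finset.mem_singleton,
      ConjClasses.mk_eq_mk_iff_isConj]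
    exact ⟨fun h => isConj_one_left.1 h, fun h => h ▸ IsConj.refl _⟩
  let s : Multiset ℕ := Finset.univ.val.map fun C : ConjClasses G => Nat.card G / f C
  refine hN s ?_ ?_ ?_ _ (Multiset.mem_map.2 ⟨ConjClasses.mk 1, Finset.mem_univ _, ?_⟩)
  · rw [Multiset.card_map]
    simpa [Nat.card_eq_fintype_card] using hk
  · intro n hn
    obtain ⟨C, -, rfl⟩ := Multiset.mem_map.1 hn
    exact Nat.div_pos (Nat.le_of_dvd Nat.card_pos (hdvd C)) (hpos C)
  · rw [Multiset.map_map]
    show ∑ C : ConjClasses G, (1 : ℚ) / ((Nat.card G / f C : ℕ) : ℚ) = 1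
    have hG : (Nat.card G : ℚ) ≠ 0 := Nat.cast_ne_zero.2 Nat.card_pos.ne'
    have hsum : ∑ C : ConjClasses G, f C = Nat.card G := by
      rw [Nat.card_eq_fintype_card, ← Finset.card_univ]
      exact (Finset.card_eq_sum_card_fiberwise fun g _ => Finset.mem_univ _).symm
    calc ∑ C : ConjClasses G, (1 : ℚ) / ((Nat.card G / f C : ℕ) : ℚ)
        = ∑ C : ConjClasses G, (f C : ℚ) / (Nat.card G : ℚ) :=
          Finset.sum_congr rfl fun C _ => by
            rw [Nat.cast_div (hdvd C) (Nat.cast_ne_zero.2 (hpos C).ne'), one_div_div]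
      _ = 1 := by rw [← Finset.sum_div, ← Nat.cast_sum, hsum, div_self hG]
  · show Nat.card G / f (ConjClasses.mk 1) = Nat.card G
    rw [hone, Nat.div_one]

end Cfsg.Agent.BrauerPairs
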