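import Cfsg.Agent.Lib.BrauerPairs.InvolutionBound
import Cfsg.Agent.Lib.BrauerPairs.Landau
import Cfsg.Agent.Lib.Blocks.SecondMain
import Cfsg.Agent.Lib.Blocks.Heights
import Cfsg.Agent.Lib.Blocks.HeightsApp
import Cfsg.Agent.Lib.Char.Complete

/-!
Groups without non-principal 2-blocks of large defect and with a large elementary abelian
2-subgroup have bounded order.
-/

set_option linter.unusedSectionVars false
set_option linter.style.haveILetI false

namespace Cfsg.Agent.BrauerPairs

open Cfsg Cfsg.Agent.Blocks Cfsg.Agent.Char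

universe u

set_option maxHeartbeats 1000000 in
/-- The centraliser of a 2-subgroup of order at least `2 ^ r` has only the principal block. -/
theorem block_centralizer_eq_principal {G : Type u} [Group G] [Finite G] {M : Ideal Cfsg.AlgInt}
    (hM : IsPModular 2 M) {r : ℕ}
    (hB : ∀ B : Set (IrrCharacter G), IsPBlock M B → B ≠ principalBlock M G → blockDefect 2 B < r)
    {F : Subgroup G} (hF : IsPGroup 2 F) (hFc : ∀ x ∈ F, ∀ y ∈ F, x * y = y * x)
    (hFr : 2 ^ r ≤ Nat.card F) (b : Set (IrrCharacter (Subgroup.centralizer (F : Set G))))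
    (hb : IsPBlock M b) : b = principalBlock M (Subgroup.centralizer (F : Set G)) := by
  classical
  haveI : Fintype G := Fintype.ofFinite G
  haveI : Fact (Nat.Prime 2) := ⟨Nat.prime_two⟩
  haveI := IsPModular.isPrime hM
  generalize hH : Subgroup.centralizer (F : Set G) = H at b hb ⊢
  haveI : Fintype H := Fintype.ofFinite H
  have hFH : F ≤ H := hH ▸ fun x hx =>
    Subgroup.mem_centralizer_iff.2 fun y hy => hFc y hy x hx
  obtain ⟨B, hind⟩ := exists_isInducedBlock hM hF hFH hH.le
    (hH ▸ Subgroup.centralizer_le_normalizer _) hb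
  obtain ⟨D, hD⟩ := exists_isDefectGroup (p := 2) hb
  haveI : (F.subgroupOf H).Normal := ⟨fun n hn g => by
    have h : (n : G) * (g : G) = (g : G) * (n : G) :=
      Subgroup.mem_centralizer_iff.1 (hH.symm ▸ g.2 : (g : G) ∈ Subgroup.centralizer (F : Set G)) _
        (Subgroup.mem_subgroupOf.1 hn)
    rw [Subgroup.mem_subgroupOf] at hn ⊢
    rw [Subgroup.coe_mul, Subgroup.coe_mul, ← h, Subgroup.coe_inv, mul_inv_cancel_right]
    exact hn⟩
  have hFD := le_defectGroup_of_normal hM hb hD (F.subgroupOf H)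
    (hF.comap_of_injective _ Subtype.val_injective)
  obtain ⟨E, hE, hDE⟩ := defectGroup_le_of_induced hM hind hD
  have hprin : B = principalBlock M G := by
    by_contra hne
    have h1 := hB B hind.2.1 hne
    have h2 : 2 ^ r ≤ Nat.card E := by
      refine hFr.trans (Subgroup.card_le_of_le ?_)
      refine le_trans ?_ hDE
      calc F = (F.subgroupOf H).map H.subtype := (Subgroup.map_subgroupOf_eq_of_le hFH).symm
        _ ≤ D.map H.subtype := Subgroup.map_mono hFD
    rw [card_defectGroup hM hind.2.1 hE] at h2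
    exact absurd ((Nat.pow_le_pow_iff_right one_lt_two).1 h2) h1.not_ge
  subst hprin
  exact (induced_iff_of_restrict_irr hM (principal G) isIrrCharacter_one (blockHeight_one hM)
    (blockHeight_one hM) (e := b) ⟨_, hind⟩).1 hind

theorem exists_elementary_centralizer_bound (a j : ℕ) : ∃ N : ℕ, ∀ (G : Type u) [Group G]
    [Finite G] (M : Ideal Cfsg.AlgInt) (r : ℕ), Cfsg.IsPModular 2 M →
    (Nat.card G).factorization 2 ≤ a →
    (∀ B : Set (IrrCharacter G), IsPBlock M B → B ≠ principalBlock M G → blockDefect 2 B < r) →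
    ∀ E : Subgroup G, (∀ x ∈ E, ∀ y ∈ E, x * y = y * x) → (∀ x ∈ E, x * x = 1) →
      Nat.card E = 2 ^ (r + 1) → ∀ F ≤ E, 2 ^ r ≤ 2 ^ j * Nat.card F →
        Nat.card (Subgroup.centralizer (F : Set G)) ≤ N := by
  haveI : Fact (Nat.Prime 2) := ⟨Nat.prime_two⟩
  induction j with
  | zero =>
    obtain ⟨N, hN⟩ := exists_landau_bound.{u} (2 ^ (2 * a) / 4 + 1)
    refine ⟨N, fun G _ _ M r hM ha hB E hEc hE2 hEcard F hFE hFr => hN _ ?_⟩
    rw [pow_zero, one_mul] at hFr
    haveI := IsPModular.isPrime hM
    classical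
    haveI : Fintype G := Fintype.ofFinite G
    haveI : Fintype (Subgroup.centralizer (F : Set G)) := Fintype.ofFinite _
    have hF : IsPGroup 2 F := fun x => ⟨1, Subtype.ext (by simpa [sq] using hE2 x (hFE x.2))⟩
    have hall := block_centralizer_eq_principal hM hB hF
      (fun x hx y hy => hEc x (hFE hx) y (hFE hy)) hFr
    rw [← Cfsg.Agent.Char.card_irrCharacter]
    have h1 := card_block_le hM
      (isPBlock_principalBlock M (Subgroup.centralizer (F : Set G)))
    have h2 : 2 ^ (2 * blockDefect 2 (principalBlock M (Subgroup.centralizer (F : Set G)))) ≤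
        2 ^ (2 * a) := by
      refine Nat.pow_le_pow_right (by norm_num) (Nat.mul_le_mul le_rfl ((blockDefect_le _).trans ?_))
      refine le_trans ?_ ha
      exact (Nat.factorization_le_iff_dvd Nat.card_pos.ne' Nat.card_pos.ne').2
        (Subgroup.card_subgroup_dvd_card _) 2
    have h3 : Nat.card (IrrCharacter (Subgroup.centralizer (F : Set G))) ≤
        Nat.card (principalBlock M (Subgroup.centralizer (F : Set G))) := by
      refine le_of_eq (Nat.card_congr (Equiv.subtypeUnivEquiv fun χ => ?_).symm)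
      rw [← hall _ (isPBlock_blockOf χ)]
      exact self_mem_blockOf χ
    omega
  | succ j ih =>
    obtain ⟨N, hN⟩ := ih
    obtain ⟨N', hN'⟩ := exists_involution_bound.{u} a (max N (N * (N * N)))
    refine ⟨max N N', fun G _ _ M r hM ha hB E hEc hE2 hEcard F hFE hFr => ?_⟩
    by_cases hbig : 2 ^ r ≤ 2 ^ j * Nat.card F
    · exact (hN G M r hM ha hB E hEc hE2 hEcard F hFE hbig).trans (le_max_left _ _)
    refine le_trans ?_ (le_max_right _ _)
    have h1 : Nat.card F < 2 ^ r :=
      lt_of_le_of_lt (Nat.le_mul_of_pos_left _ (by positivity)) (not_le.1 hbig)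
    have hFn : ∀ x ∈ E, x * x = 1 → ∀ f ∈ F, x * f * x⁻¹ = f := fun x hx _ f hf => by
      rw [hEc x hx f (hFE hf), mul_inv_cancel_right]
    have hgrow : ∀ x ∈ E, x ∉ F → ∀ Q : Subgroup G, Q = F ⊔ Subgroup.zpowers x →
        Q ≤ E ∧ 2 ^ r ≤ 2 ^ j * Nat.card Q ∧ Nat.card Q ≤ 2 * Nat.card F := by
      rintro x hx hxF Q rfl
      have hQE : F ⊔ Subgroup.zpowers x ≤ E := sup_le hFE (Subgroup.zpowers_le.2 hx)
      have hlt : F < F ⊔ Subgroup.zpowers x := lt_of_le_of_ne le_sup_left fun h =>
        hxF (h.symm ▸ Subgroup.mem_sup_right (Subgroup.mem_zpowers x))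
      have hdvd := Subgroup.card_dvd_of_le hlt.le
      obtain ⟨k, hk⟩ := hdvd
      have hk2 : 2 ≤ k := by
        rcases k with _ | _ | k
        · exact absurd (hk.trans (mul_zero _)) Nat.card_pos.ne'
        · exact absurd (Subgroup.eq_of_le_of_card_ge hlt.le (by omega)) hlt.ne
        · omega
      have hle : Nat.card ↥(F ⊔ Subgroup.zpowers x) ≤ 2 * Nat.card F := by
        have hnorm : Subgroup.zpowers x ≤ Subgroup.normalizer (F : Set G) :=
          Subgroup.zpowers_le.2 (Subgroup.mem_normalizer_iff.2 fun f => ⟨fun hf => by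
            rwa [hFn x hx (hE2 x hx) f hf], fun hf => by
            have := hFn x hx (hE2 x hx) _ hf
            have e : f = x * f * x⁻¹ := by
              calc f = x⁻¹ * (x * f * x⁻¹) * x := by group
                _ = x⁻¹ * (x * (x * f * x⁻¹) * x⁻¹) * x := by rw [this]
                _ = x * f * x⁻¹ := by group
            rw [e]; exact hf⟩)
        have hprod := Subgroup.coe_mul_of_left_le_normalizer_right _ _ hnorm
        rw [sup_comm, ← SetLike.coe_sort_coe, hprod, Nat.card_coe_set_eq]
        refine Set.natCard_mul_le.trans ?_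
        simp only [SetLike.coe_sort_coe, Nat.card_zpowers]
        exact Nat.mul_le_mul_right _ (orderOf_le_of_pow_eq_one two_pos (sq x ▸ hE2 x hx))
      refine ⟨hQE, ?_, hle⟩
      calc 2 ^ r ≤ 2 ^ (j + 1) * Nat.card F := hFr
        _ = 2 ^ j * (2 * Nat.card F) := by ring
        _ ≤ _ := Nat.mul_le_mul_left _ (by rw [hk, mul_comm]; exact Nat.mul_le_mul_left _ hk2)
    obtain ⟨x, hx, hxF⟩ : ∃ x ∈ E, x ∉ F := by
      by_contra hne
      push Not at hne
      have := Subgroup.card_le_of_le (show E ≤ F from hne)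
      rw [hEcard, pow_succ] at this
      omega
    obtain ⟨y, hy, hyQ⟩ : ∃ y ∈ E, y ∉ F ⊔ Subgroup.zpowers x := by
      by_contra hne
      push Not at hne
      have := (Subgroup.card_le_of_le (show E ≤ F ⊔ Subgroup.zpowers x from hne)).trans
        (hgrow x hx hxF _ rfl).2.2
      rw [hEcard, pow_succ] at this
      omega
    have hyF : y ∉ F := fun h => hyQ (Subgroup.mem_sup_left h)
    have hxyF : x * y ∉ F := fun h => hyQ (by
      simpa [← mul_assoc] using Subgroup.mul_mem _
        ((F ⊔ Subgroup.zpowers x).inv_mem (Subgroup.mem_sup_right (Subgroup.mem_zpowers x)))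
        (Subgroup.mem_sup_left (T := Subgroup.zpowers x) h))
    generalize hX : Subgroup.centralizer (F : Set G) = X
    have hEX : ∀ z ∈ E, z ∈ X := fun z hz =>
      hX ▸ Subgroup.mem_centralizer_iff.2 fun f hf => hEc f (hFE hf) z hz
    have hbound : ∀ z ∈ E, z ∉ F → ∀ S : Subgroup G, S ≤ X →
        Nat.card ↥(S ⊓ Subgroup.centralizer ({z} : Set G)) ≤ N := by
      intro z hz hzF S hS
      obtain ⟨hQE, hQr, -⟩ := hgrow z hz hzF _ rfl
      refine (Subgroup.card_le_of_le ?_).trans (hN G M r hM ha hB E hEc hE2 hEcard _ hQE hQr)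
      intro s hs
      have hle : F ⊔ Subgroup.zpowers z ≤ Subgroup.centralizer ({s} : Set G) := by
        refine sup_le (fun f hf => ?_) (Subgroup.zpowers_le.2 ?_)
        · exact Subgroup.mem_centralizer_singleton_iff.2
            (Subgroup.mem_centralizer_iff.1 (hX.symm ▸ hS hs.1 : s ∈ Subgroup.centralizer (F : Set G)) f hf)
        · exact Subgroup.mem_centralizer_singleton_iff.2
            (Subgroup.mem_centralizer_iff.1 hs.2 z rfl)
      exact Subgroup.mem_centralizer_iff.2 fun q hq =>
        Subgroup.mem_centralizer_singleton_iff.1 (hle hq)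
    refine hN' X ⟨x, hEX x hx⟩ (Subtype.ext (hE2 x hx))
      (fun h => hxF (by rw [show x = 1 from congrArg Subtype.val h]; exact F.one_mem)) ?_ ?_ ?_
    · refine le_trans ?_ (le_max_left _ _)
      refine le_trans ?_ (hbound x hx hxF X le_rfl)
      refine Nat.card_le_card_of_injective (fun k => ⟨((k : X) : G), (k : X).2,
        Subgroup.mem_centralizer_singleton_iff.2 ?_⟩) fun k k' h => Subtype.ext (Subtype.ext (congrArg Subtype.val h :))
      exact congrArg Subtype.val (Subgroup.mem_centralizer_singleton_iff.1 k.2)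
    · refine le_trans ?_ (le_max_right _ _)
      haveI : (Cfsg.pPrimeCore 2 X).Normal := inferInstance
      rw [← Subgroup.card_map_of_injective (f := X.subtype) Subtype.val_injective]
      have hnorm : ∀ z ∈ E, ∀ k ∈ (Cfsg.pPrimeCore 2 X).map X.subtype,
          z * k * z⁻¹ ∈ (Cfsg.pPrimeCore 2 X).map X.subtype := by
        rintro z hz k ⟨k', hk', rfl⟩
        exact ⟨⟨z, hEX z hz⟩ * k' * ⟨z, hEX z hz⟩⁻¹,
          Subgroup.Normal.conj_mem inferInstance _ hk' _, rfl⟩
      refine (card_le_of_four_group _ ?_ (hE2 x hx) (hE2 y hy) (hEc x hx y hy)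
        (hnorm x hx) (hnorm y hy)).trans ?_
      · rw [Subgroup.card_map_of_injective Subtype.val_injective, Nat.odd_iff,
          ← Nat.two_dvd_ne_zero]
        exact Nat.prime_two.coprime_iff_not_dvd.1 (PBasic.pPrimeCore_coprime 2 X).symm
      · exact Nat.mul_le_mul (hbound x hx hxF _ (Subgroup.map_subtype_le _))
          (Nat.mul_le_mul (hbound y hy hyF _ (Subgroup.map_subtype_le _))
            (hbound _ (mul_mem hx hy) hxyF _ (Subgroup.map_subtype_le _)))
    · refine le_trans ?_ ha
      exact (Nat.factorization_le_iff_dvd Nat.card_pos.ne' Nat.card_pos.ne').2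
        (Subgroup.card_subgroup_dvd_card _) 2

end Cfsg.Agent.BrauerPairs
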