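/-
Blocks with dihedral or semidihedral defect group and a central involution have rank at most two.
-/
import Cfsg.Agent.Lib.BrauerPairs.DihedralRankThree
import Cfsg.Agent.Lib.Blocks.MinMax

set_option linter.unusedSectionVars false
set_option linter.style.haveILetI false

namespace Cfsg.Agent.DihRankThree

open Cfsg MonoidAlgebra Cfsg.Agent.Blocks Cfsg.Agent.Char Cfsg.Agent.BrauerPairs Cfsg.Agent.TwoFus

universe u

variable {G : Type u} [Group G] [Fintype G] {M : Ideal AlgInt} [M.IsPrime]

/-- Rank one for a Klein four defect group without odd automorphisms. -/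
theorem rank_eq_one_klein (hM : IsPModular 2 M) {B : Set (IrrCharacter G)} (hB : IsPBlock M B)
    {D : Subgroup G} (hD : IsDefectGroup 2 M B D) (hV : IsKleinFour D) (hodd : OddTrivial D) :
    blockRank 2 B = 1 := by
  classical
  haveI : Fact (Nat.Prime 2) := ⟨Nat.prime_two⟩
  haveI : Fact (Nat.Prime 3) := ⟨Nat.prime_three⟩
  haveI : CharP (resField M) 2 := resField_charP hM
  obtain ⟨e, he⟩ := exists_pairOf_defGrp (isBlk_Ek hB) ((isDefectGroup_iff hB D).1 hD)
  obtain ⟨c, hcb, hce⟩ := exists_eq_zB he.pair.blkC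
  replace hce : zB M (Subgroup.centralizer (D : Set G)) c = e := hce
  have hDC : D ≤ Subgroup.centralizer (D : Set G) :=
    le_centralizer_of_card_le_four ((isDefectGroup_iff hB D).1 hD).pgroup hV.card_four.le
  have hpC : IsPairOf 2 (Subgroup.centralizer (D : Set G))
      (zB M (Subgroup.centralizer (D : Set G)) c) (D, e) := by
    have hsb := pairOf_self (M := M) hcb he.pair.pgroup hDC rfl
    rw [hce] at hsb ⊢
    exact hsb
  have hc : IsInducedBlock M (Subgroup.centralizer (D : Set G)) c B :=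
    induced_of_pairOf hM hcb hB hpC le_rfl he
  obtain ⟨he13, -, hrank⟩ := klein_block hM hB hD hV hc
  rw [hrank]
  refine he13.resolve_right fun h3 => ?_
  set T := stabP (D, zB M (Subgroup.centralizer (D : Set G)) c) with hT
  obtain ⟨P⟩ := (inferInstance : Nonempty (Sylow 3 T))
  have hle : (P : Subgroup T) ≤ (Subgroup.centralizer (D : Set G)).subgroupOf T := by
    intro t ht
    refine Subgroup.mem_subgroupOf.2 (hodd (t : G) (stabP_le_normalizer _ t.2) ?_)
    obtain ⟨k, hk⟩ := IsPGroup.iff_orderOf.1 P.2 ⟨t, ht⟩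
    rw [Subgroup.orderOf_mk] at hk
    rw [Subgroup.orderOf_coe, hk]
    exact Odd.pow (by decide)
  have hdvd := Subgroup.index_dvd_of_le hle
  rw [show ((Subgroup.centralizer (D : Set G)).subgroupOf T).index = 3 from h3] at hdvd
  exact P.not_dvd_index hdvd

/-- A central involution in a defect group of this shape bounds the rank by two. -/
theorem rank_le_two_of_central (hM : IsPModular 2 M) {B : Set (IrrCharacter G)}
    (hB : IsPBlock M B) {P : Subgroup G} (hP : IsDefectGroup 2 M B P)
    {z x y : G} (hzc : z ∈ Subgroup.center G) (hzo : orderOf z = 2) {s m : ℕ} (hs : m = 2 ^ (s + 1))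
    (hx : x ∈ P) (hy : y ∈ P) (hxo : orderOf x = 2 * m) (hxz : x ^ m = z) (hyy : y * y = 1)
    (hyx : y * x * y⁻¹ * x ∈ Subgroup.zpowers z) (hynot : y ∉ Subgroup.zpowers x)
    (hcard : Nat.card P = 4 * m)
    (hcases : ∀ a ∈ P, (∃ i : ℤ, a = x ^ i) ∨ ∃ i : ℤ, a = x ^ i * y)
    (hodd : OddTrivial P) : blockRank 2 B ≤ 2 := by
  classical
  haveI : Fact (Nat.Prime 2) := ⟨Nat.prime_two⟩
  haveI : CharP (resField M) 2 := resField_charP hM
  set N := Subgroup.zpowers z with hN
  haveI : N.Normal := ⟨fun a ha g => by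
    obtain ⟨i, rfl⟩ := Subgroup.mem_zpowers_iff.1 ha
    rw [Subgroup.mem_center_iff.1 (zpow_mem hzc i) g, mul_inv_cancel_right]
    exact ha⟩
  haveI : Fintype (G ⧸ N) := Fintype.ofFinite _
  have hN2 : Nat.card N = 2 := by rw [hN, Nat.card_zpowers, hzo]
  have hNp : IsPGroup 2 N := IsPGroup.of_card (n := 1) (by rw [hN2, pow_one])
  have hsup : N ⊔ Subgroup.centralizer (N : Set G) = ⊤ := by
    refine eq_top_iff.2 (le_trans ?_ le_sup_right)
    intro g _
    refine Subgroup.mem_centralizer_iff.2 fun a ha => ?_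
    obtain ⟨i, rfl⟩ := Subgroup.mem_zpowers_iff.1 ha
    exact (Subgroup.mem_center_iff.1 (zpow_mem hzc i) g).symm
  have hNx : N ≤ Subgroup.zpowers x :=
    Subgroup.zpowers_le.2 (hxz ▸ Subgroup.npow_mem_zpowers x m)
  have hNP : N ≤ P := hNx.trans (Subgroup.zpowers_le.2 hx)
  obtain ⟨bbar, hbb, hinfl, hdef⟩ := exists_quotient_block (N := N) hM hNp hB
  set π := QuotientGroup.mk' N with hπ
  have hπ1 : ∀ g : G, π g = 1 ↔ g ∈ N := fun g => QuotientGroup.eq_one_iff g
  have hDb : IsDefectGroup 2 M bbar (P.map π) := (hdef _).2 ⟨P, hP, rfl⟩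
  refine (blockRank_le_blockRank N hM hNp hsup hB hbb hinfl).trans ?_
  have hz2 : ∀ a ∈ N, a = 1 ∨ a = z := by
    intro a ha
    obtain ⟨i, rfl⟩ := Subgroup.mem_zpowers_iff.1 ha
    rw [← zpow_mod_orderOf, hzo]
    rcases Int.emod_two_eq i with e | e <;> simp [e]
  have hz1 : z ≠ 1 := fun e => by rw [e, orderOf_one] at hzo; omega
  have hm1 : 2 ≤ m := hs ▸ Nat.le_self_pow (by omega) 2
  have hxm : orderOf (π x) = m := by
    refine Nat.dvd_antisymm (orderOf_dvd_of_pow_eq_one ?_) ?_
    · rw [← map_pow, hπ1, hxz]; exact Subgroup.mem_zpowers z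
    · have h1 : x ^ orderOf (π x) ∈ N := by rw [← hπ1, map_pow, pow_orderOf_eq_one]
      rcases hz2 _ h1 with e | e
      · exact dvd_trans (dvd_mul_left m 2) (hxo ▸ orderOf_dvd_of_pow_eq_one e)
      · have h2 : x ^ (2 * orderOf (π x)) = 1 := by
          rw [mul_comm, pow_mul, e, ← hzo, pow_orderOf_eq_one]
        have := hxo ▸ orderOf_dvd_of_pow_eq_one h2
        exact (Nat.mul_dvd_mul_iff_left two_pos).1 this
  have hyn : π y ∉ Subgroup.zpowers (π x) := by
    intro h
    obtain ⟨i, hi⟩ := Subgroup.mem_zpowers_iff.1 h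
    have h1 : y⁻¹ * x ^ i ∈ N := by rw [← hπ1, map_mul, map_inv, map_zpow, hi, inv_mul_cancel]
    have h2 := hNx h1
    exact hynot (inv_mem_iff.1
      ((Subgroup.mul_mem_cancel_right _ (zpow_mem (Subgroup.mem_zpowers x) i)).1 h2))
  have hcardb : Nat.card (P.map π) = 2 * m := by
    have h1 := (π.comp P.subtype).ker.card_mul_index
    rw [Subgroup.index_ker, MonoidHom.range_comp, Subgroup.range_subtype, hcard] at h1
    have h2 : Nat.card (π.comp P.subtype).ker = 2 := by
      rw [← hN2, show (π.comp P.subtype).ker = N.subgroupOf P by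
        ext a; rw [MonoidHom.mem_ker, Subgroup.mem_subgroupOf]; exact hπ1 _]
      exact Nat.card_congr (Subgroup.subgroupOfEquivOfLe hNP).toEquiv
    rw [h2] at h1
    omega
  let d : Dih (P.map π) :=
    { m := m
      x := π x
      y := π y
      even := hs ▸ dvd_pow_self 2 (by omega)
      two_le := hm1
      hm := hxm
      hx := Subgroup.mem_map_of_mem π hx
      hy := Subgroup.mem_map_of_mem π hy
      yy := by rw [← map_mul, hyy, map_one]
      inv := eq_inv_of_mul_eq_one_left (by
        rw [← map_inv, ← map_mul, ← map_mul, ← map_mul, hπ1]; exact hyx)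
      ynot := hyn
      card := hcardb
      cases := by
        rintro _ ⟨a, ha, rfl⟩
        rcases hcases a ha with ⟨i, rfl⟩ | ⟨i, rfl⟩
        · exact Or.inl ⟨i, map_zpow π x i⟩
        · exact Or.inr ⟨i, by rw [map_mul, map_zpow]⟩ }
  rcases Nat.eq_zero_or_pos s with rfl | hs0
  · -- Klein four image
    rw [zero_add, pow_one] at hs
    have hV : IsKleinFour (P.map π) := by
      refine ⟨by rw [hcardb, hs], ?_⟩
      refine ((Nat.dvd_prime Nat.prime_two).1 (Monoid.exponent_dvd_of_forall_pow_eq_one ?_)).resolve_left ?_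
      · rintro ⟨a, ha⟩
        refine Subtype.ext ?_
        show a ^ 2 = 1
        rw [pow_two]
        rcases d.cases a ha with ⟨i, rfl⟩ | ⟨i, rfl⟩
        · rw [← zpow_add, d.zpow_eq_one, show d.m = 2 from hs]
          exact ⟨i, by push_cast; ring⟩
        · exact d.form_sq i
      · rw [Monoid.exp_eq_one_iff]
        intro hsub
        have h1 := @Nat.card_of_subsingleton _ (1 : P.map π) hsub
        rw [hcardb] at h1
        omega
    refine (rank_eq_one_klein hM hbb hDb hV ?_).le.trans one_le_two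
    intro w hw how
    obtain ⟨g, hg, rfl⟩ := exists_regular_lift N Nat.prime_two
      (show ¬ 2 ∣ orderOf w from fun h => (Nat.not_even_iff_odd.2 how) (even_iff_two_dvd.2 h))
    have hgP : g ∈ Subgroup.normalizer (P : Set G) := by
      have hcm : (P.map π).comap π = P := by
        rw [Subgroup.comap_map_eq, hπ, QuotientGroup.ker_mk', sup_eq_left.2 hNP]
      rw [Subgroup.mem_normalizer_iff]
      intro a
      rw [← hcm, Subgroup.mem_comap, Subgroup.mem_comap, map_mul, map_mul, map_inv]
      exact Subgroup.mem_normalizer_iff.1 hw (π a)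
    have hgc := hodd g hgP (Nat.not_even_iff_odd.1 fun h => hg (even_iff_two_dvd.1 h))
    rw [Subgroup.mem_centralizer_iff]
    rintro _ ⟨a, ha, rfl⟩
    show π a * π g = π g * π a
    rw [← map_mul, ← map_mul, Subgroup.mem_centralizer_iff.1 hgc a ha]
  · refine rank_le_two hM hbb hDb (n := s + 2) (by omega) d (by
      show m = _; rw [hs]; congr 1) ?_
    intro hconj
    obtain ⟨c, hc⟩ := isConj_iff.1 hconj
    obtain ⟨g, rfl⟩ := QuotientGroup.mk_surjective c
    set h := 2 ^ s with hh
    have hmh : m = 2 * h := by rw [hs, hh, pow_succ']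
    have hdz : d.z = π (x ^ h) := by
      rw [Dih.z, map_pow, ← zpow_natCast]
      show π x ^ ((m : ℤ) / 2) = _
      congr 1
      push_cast [hmh]
      omega
    have h1 : (g * y * g⁻¹)⁻¹ * x ^ h ∈ N := by
      rw [← hπ1, map_mul, map_inv, ← hdz, ← hc]
      show (π (g * y * g⁻¹))⁻¹ * (π g * π y * (π g)⁻¹) = 1
      rw [map_mul, map_mul, map_inv, inv_mul_cancel]
    rcases hz2 _ h1 with e | e
    · rw [inv_mul_eq_one] at e
      have h2 : x ^ (h + h) = 1 := by
        rw [pow_add, ← e, show g * y * g⁻¹ * (g * y * g⁻¹) = g * (y * y) * g⁻¹ by group, hyy]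
        group
      rw [← two_mul, ← hmh, hxz] at h2
      exact hz1 h2
    · rw [inv_mul_eq_iff_eq_mul] at e
      have hzg : g * y * g⁻¹ * z = z * (g * y * g⁻¹) := Subgroup.mem_center_iff.1 hzc _
      have h2 : x ^ (h + h) = 1 := by
        rw [pow_add, e]
        calc g * y * g⁻¹ * z * (g * y * g⁻¹ * z)
            = g * y * g⁻¹ * (z * (g * y * g⁻¹)) * z := by group
          _ = g * (y * y) * g⁻¹ * (z * z) := by rw [← hzg]; group
          _ = 1 := by rw [hyy, ← pow_two z, ← hzo, pow_orderOf_eq_one]; group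
      rw [← two_mul, ← hmh, hxz] at h2
      exact hz1 h2

end Cfsg.Agent.DihRankThree
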