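/-
Dihedral and semidihedral subgroups: automizers, cores and the conjugacy of elements of odd
order in solvable groups with trivial odd core.
-/
import Cfsg.Agent.Lib.BrauerPairs.DihedralFusion
import Cfsg.Agent.Lib.LinearBlock.SylowTwoRankOne
import Cfsg.Agent.Lib.Solvable.Fitting
import Cfsg.Agent.Lib.Transfer.Basic
import Mathlib.GroupTheory.Transfer

set_option linter.unusedSectionVars false
set_option linter.style.haveILetI false

namespace Cfsg.Agent.DihRankThree

open Cfsg Cfsg.Agent.TwoFus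

universe u

/-- Dihedral of order at least eight, or semidihedral. -/
def Shape (S : Type u) [Group S] : Prop :=
  (∃ n : ℕ, 3 ≤ n ∧ Nonempty (S ≃* DihedralGroup (2 ^ (n - 1)))) ∨ Cfsg.IsQuasiDihedral S

theorem Shape.of_equiv {S T : Type u} [Group S] [Group T] (e : S ≃* T) (h : Shape S) : Shape T := by
  rcases h with ⟨n, hn, ⟨f⟩⟩ | h
  · exact Or.inl ⟨n, hn, ⟨e.symm.trans f⟩⟩
  · exact Or.inr (Cfsg.Agent.SylTwoRO.qd_of_equiv e h)

variable {G : Type u} [Group G] [Finite G]

theorem shape_facts {D : Subgroup G} (h : Shape D) (hD : IsPGroup 2 D) :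
    8 ≤ Nat.card D ∧ OddTrivial D ∧ ∃ c, CycMax D c := by
  rcases h with ⟨n, hn, ⟨e⟩⟩ | h
  · have h2 : 2 ≤ 2 ^ (n - 1) := Nat.le_self_pow (by omega) 2
    obtain ⟨d, hd⟩ := DihedralFusion.exists_data h2 (dvd_pow_self 2 (by omega)) e
    have h8 : 8 ≤ Nat.card D := by
      rw [d.card, hd]
      calc 8 = 2 * 2 ^ 2 := by norm_num
        _ ≤ 2 * 2 ^ (n - 1) := Nat.mul_le_mul_left 2 (Nat.pow_le_pow_right two_pos (by omega))
    refine ⟨h8, ?_, d.x, d.cycMax hD⟩
    rcases (d.cycMax hD).oddTrivial (le_refl D) with h | h | h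
    · exact h
    · have := h.card_four; omega
    · exact absurd h (no_quat d.out_sq le_rfl)
  · obtain ⟨d, -⟩ := QD.exists_pres h
    have h16 : 16 ≤ Nat.card D := by
      rw [d.hcard]
      exact (show 16 = 2 ^ 4 from rfl).trans_le (Nat.pow_le_pow_right two_pos (by omega))
    refine ⟨by omega, ?_, _, qd_cycMax d hD⟩
    rcases (qd_cycMax d hD).oddTrivial (le_refl D) with h | h | ⟨⟨e⟩⟩
    · exact h
    · have := h.card_four; omega
    · rw [Nat.card_congr e.toEquiv, Nat.card_eq_fintype_card, QuaternionGroup.card] at h16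
      omega

/-- In a solvable group with trivial odd core and such a Sylow 2-subgroup, either all elements
of odd order are trivial, or they are conjugate into a group of order three inverted by some
element. -/
theorem solvable_structure {X : Type u} [Group X] [Finite X] (hsol : Group.IsSolvable X)
    (hO : Cfsg.pPrimeCore 2 X = ⊥) (T : Sylow 2 X) (hT : Shape (T : Subgroup X)) :
    (∀ g : X, Odd (orderOf g) → g = 1) ∨
      ∃ t w : X, orderOf t = 3 ∧ w * t * w⁻¹ = t⁻¹ ∧
        ∀ g : X, Odd (orderOf g) → ∃ a : X, a * g * a⁻¹ ∈ Subgroup.zpowers t := by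
  haveI : Fact (Nat.Prime 2) := ⟨Nat.prime_two⟩
  haveI : Fact (Nat.Prime 3) := ⟨Nat.prime_three⟩
  haveI := hsol
  obtain ⟨h8, hTodd, c, hcm⟩ := shape_facts hT T.2
  set R := Cfsg.pCore 2 X with hR
  haveI hRn : R.Normal := Cfsg.pCore_normal 2 X
  have hC := FittingCores.centralizer_pCore_le (G := X) (p := 2) Nat.prime_two hO
  have hRT : R ≤ (T : Subgroup X) := PBasic.pCore_le_sylow T
  have hRp : IsPGroup 2 R := T.2.to_le hRT
  have hN : Subgroup.normalizer (R : Set X) = ⊤ := Subgroup.normalizer_eq_top_iff.2 hRn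
  have hodd1 : OddTrivial R → ∀ g : X, Odd (orderOf g) → g = 1 := by
    intro ho g hg
    obtain ⟨k, hk⟩ := IsPGroup.iff_orderOf.1 hRp ⟨g, hC (ho g (hN ▸ Subgroup.mem_top g) hg)⟩
    rw [Subgroup.orderOf_mk] at hk
    rw [hk] at hg
    rw [← orderOf_eq_one_iff, hk]
    rcases Nat.eq_zero_or_pos k with rfl | hk0
    · rfl
    · exact absurd (even_iff_two_dvd.2 (dvd_pow_self 2 hk0.ne')) (Nat.not_even_iff_odd.2 hg)
  -- the remaining cases: the index of the core divides six, and the core is small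
  obtain ⟨hidx, hsmall⟩ | h1 : (R.index ∣ 6 ∧ R ≠ (T : Subgroup X)) ∨
      (∀ g : X, Odd (orderOf g) → g = 1) := by
    rcases hcm.oddTrivial hRT with ho | hK | ⟨⟨e⟩⟩
    · exact Or.inr (hodd1 ho)
    · refine Or.inl ⟨?_, fun h => ?_⟩
      · have h1 := klein_relIndex_dvd hK
        haveI := hK
        have hRC : Subgroup.centralizer (R : Set X) = R := by
          refine le_antisymm hC fun a ha => Subgroup.mem_centralizer_iff.2 fun b hb => ?_
          exact congrArg Subtype.val (mul_comm_of_exponent_two hK.exponent_two ⟨b, hb⟩ ⟨a, ha⟩)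
        rwa [hN, hRC, Subgroup.relIndex_top_right] at h1
      · rw [← h, hK.card_four] at h8
        omega
    · by_cases heq : R = (T : Subgroup X)
      · exact Or.inr (hodd1 (heq ▸ hTodd))
      · refine Or.inl ⟨?_, heq⟩
        have h1 := quat_relIndex_dvd e
        rwa [hN, sup_eq_left.2 hC, Subgroup.relIndex_top_right] at h1
  swap
  · exact Or.inl h1
  obtain ⟨a, ha⟩ := IsPGroup.iff_card.1 hRp
  have hcard : Nat.card X ∣ 2 ^ a * 6 := by
    rw [← R.card_mul_index, ha]
    exact Nat.mul_dvd_mul_left _ hidx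
  by_cases h3 : 3 ∣ Nat.card X
  swap
  · refine Or.inl fun g hg => ?_
    have h1 : orderOf g ∣ 2 ^ a * 6 := (orderOf_dvd_natCard g).trans hcard
    have h2 : Nat.Coprime (orderOf g) (2 ^ (a + 1)) :=
      Nat.Coprime.pow_right _ (Nat.coprime_two_right.2 hg)
    have h4 : orderOf g ∣ 3 := h2.dvd_of_dvd_mul_left (by
      rwa [pow_succ, mul_assoc, show 2 * 3 = 6 from rfl])
    rcases (Nat.dvd_prime Nat.prime_three).1 h4 with e | e
    · exact orderOf_eq_one_iff.1 e
    · exact absurd (e ▸ orderOf_dvd_natCard g) h3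
  obtain ⟨t, ht⟩ := exists_prime_orderOf_dvd_card' 3 h3
  obtain ⟨P, hP⟩ := (IsPGroup.of_card (n := 1) (by rw [Nat.card_zpowers, ht, pow_one]) :
    IsPGroup 3 (Subgroup.zpowers t)).exists_le_sylow
  obtain ⟨b, hb⟩ := IsPGroup.iff_card.1 P.2
  have hb1 : b ≤ 1 := by
    by_contra hlt
    have h9 : 3 ^ 2 ∣ 2 ^ a * 6 :=
      ((pow_dvd_pow 3 (show 2 ≤ b by omega)).trans (hb ▸ Subgroup.card_subgroup_dvd_card _)).trans hcard
    rw [show 2 ^ a * 6 = 2 ^ (a + 1) * 3 by ring] at h9
    have := (Nat.Coprime.pow 2 (a + 1) (by decide : Nat.Coprime 3 2)).dvd_of_dvd_mul_left h9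
    norm_num at this
  have hPt : Subgroup.zpowers t = (P : Subgroup X) := by
    refine Subgroup.eq_of_le_of_card_ge hP ?_
    rw [hb, Nat.card_zpowers, ht]
    calc 3 ^ b ≤ 3 ^ 1 := Nat.pow_le_pow_right (by norm_num) hb1
      _ = 3 := by norm_num
  have hconj : ∀ g : X, Odd (orderOf g) → ∃ a : X, a * g * a⁻¹ ∈ Subgroup.zpowers t := by
    intro g hg
    have h1 : orderOf g ∣ 2 ^ a * 6 := (orderOf_dvd_natCard g).trans hcard
    have h2 : Nat.Coprime (orderOf g) (2 ^ (a + 1)) :=
      Nat.Coprime.pow_right _ (Nat.coprime_two_right.2 hg)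
    have h4 : orderOf g ∣ 3 := h2.dvd_of_dvd_mul_left (by
      rwa [pow_succ, mul_assoc, show 2 * 3 = 6 from rfl])
    obtain ⟨k, -, hk⟩ := (Nat.dvd_prime_pow Nat.prime_three (i := orderOf g) (m := 1)).1 (by rwa [pow_one])
    obtain ⟨P', hP'⟩ := (IsPGroup.of_card (n := k) (by rw [Nat.card_zpowers, hk]) :
      IsPGroup 3 (Subgroup.zpowers g)).exists_le_sylow
    obtain ⟨a, rfl⟩ := MulAction.exists_smul_eq X P' P
    refine ⟨a, ?_⟩
    rw [hPt, Sylow.smul_def, Sylow.pointwise_smul_def, Subgroup.mem_pointwise_smul_iff_inv_smul_mem,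
      ← map_inv, MulAut.smul_def, MulAut.conj_apply, inv_inv,
      show a⁻¹ * (a * g * a⁻¹) * a = g by group]
    exact hP' (Subgroup.mem_zpowers g)
  by_cases hinv : ∃ w : X, w * t * w⁻¹ = t⁻¹
  · obtain ⟨w, hw⟩ := hinv
    exact Or.inr ⟨t, w, ht, hw, hconj⟩
  exfalso
  push Not at hinv
  have hNC : Subgroup.normalizer ((P : Subgroup X) : Set X) ≤
      Subgroup.centralizer ((P : Subgroup X) : Set X) := by
    intro w hw
    have h1 : w * t * w⁻¹ ∈ Subgroup.zpowers t := by
      rw [hPt]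
      exact (Subgroup.mem_normalizer_iff.1 hw t).1 (hP (Subgroup.mem_zpowers t))
    have h2 : w * t * w⁻¹ = t := by
      obtain ⟨i, hi⟩ := Subgroup.mem_zpowers_iff.1 h1
      rw [← zpow_mod_orderOf, ht] at hi
      have h0 := Int.emod_nonneg i (by norm_num : ((3 : ℕ) : ℤ) ≠ 0)
      have h3 := Int.emod_lt_of_pos i (by norm_num : (0 : ℤ) < ((3 : ℕ) : ℤ))
      push_cast at h0 h3 hi
      interval_cases hr : i % 3
      · rw [zpow_zero] at hi
        have : t = 1 := conj_eq_one_iff.1 hi.symm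
        rw [this, orderOf_one] at ht
        omega
      · rw [zpow_one] at hi; exact hi.symm
      · refine absurd (hi.symm.trans ?_) (hinv w)
        rw [eq_inv_iff_mul_eq_one]
        nth_rw 2 [← zpow_one t]
        rw [← zpow_add, ← orderOf_dvd_iff_zpow_eq_one, ht]
        norm_num
    refine Subgroup.mem_centralizer_iff.2 fun v hv => ?_
    rw [← hPt] at hv
    obtain ⟨i, rfl⟩ := Subgroup.mem_zpowers_iff.1 hv
    exact (Commute.zpow_left (show Commute t w from (mul_inv_eq_iff_eq_mul.1 h2).symm) i).eq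
  set K := (MonoidHom.transferSylow P hNC).ker with hK
  have hcomp := MonoidHom.ker_transferSylow_isComplement' P hNC
  have hKc : Nat.card K * 3 = Nat.card X := by
    rw [← hcomp.card_mul, show Nat.card (P : Subgroup X) = 3 by rw [← hPt, Nat.card_zpowers, ht]]
  have hK2 : IsPGroup 2 K := by
    have h6 : Nat.card K * 3 ∣ 2 ^ (a + 1) * 3 := by
      rw [hKc, show 2 ^ (a + 1) * 3 = 2 ^ a * 6 by ring]; exact hcard
    obtain ⟨k, -, hk⟩ := (Nat.dvd_prime_pow Nat.prime_two).1
      (Nat.dvd_of_mul_dvd_mul_right (by norm_num : 0 < 3) h6)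
    exact IsPGroup.of_card hk
  have hKR : K ≤ R := PBasic.le_pCore inferInstance hK2
  refine hsmall (le_antisymm hRT fun v hv => ?_)
  obtain ⟨k, hk⟩ := IsPGroup.iff_orderOf.1 T.2 ⟨v, hv⟩
  rw [Subgroup.orderOf_mk] at hk
  refine hKR ?_
  rw [hK, MonoidHom.mem_ker, ← orderOf_eq_one_iff]
  refine Nat.eq_one_of_dvd_coprimes (Nat.Coprime.pow k 1 (by decide : Nat.Coprime 2 3))
    (hk ▸ orderOf_map_dvd (MonoidHom.transferSylow P hNC) v) ?_
  refine (orderOf_dvd_natCard _).trans (dvd_of_eq ?_)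
  rw [pow_one, show Nat.card (P : Subgroup X) = 3 by rw [← hPt, Nat.card_zpowers, ht]]

end Cfsg.Agent.DihRankThree
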