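/-
Blocks of solvable groups with dihedral or semidihedral defect group have rank at most two.
-/
import Cfsg.Agent.Lib.BrauerPairs.DihedralShape
import Cfsg.Agent.Lib.BrauerPairs.OneSubsection
import Cfsg.Agent.Lib.Blocks.FongSolvable
import Cfsg.Agent.Lib.Blocks.FongReynolds
import Cfsg.Agent.Lib.Char.Gallagher
import Cfsg.Agent.Lib.Char.ChiefRestrict
import Cfsg.Agent.Lib.PLocal.PSolvable

set_option linter.unusedSectionVars false
set_option linter.style.haveILetI false

namespace Cfsg.Agent.DihRankThree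

open Cfsg Cfsg.Agent.Blocks Cfsg.Agent.Char Cfsg.Agent.BrauerPairs Cfsg.Agent.TwoFus
open scoped ComplexConjugate

universe u

section Over

variable {H : Type u} [Group H] [Fintype H] (L : Subgroup H) [L.Normal] [Fintype L]
  (θ : IrrCharacter L)

/-- The irreducible characters over `θ`. -/
noncomputable def overSet : Finset (IrrCharacter H) := by
  classical
  exact Finset.univ.filter fun φ => classInner (fun x : L => (φ : H → ℂ) x) (θ : L → ℂ) ≠ 0

theorem mem_overSet {φ : IrrCharacter H} :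
    φ ∈ overSet L θ ↔ classInner (fun x : L => (φ : H → ℂ) x) (θ : L → ℂ) ≠ 0 := by
  classical simp [overSet]

variable {L θ}

theorem restrict_eq_smul (hinv : ∀ g : H, conjChar L g (θ : L → ℂ) = θ) {φ : IrrCharacter H}
    (hφ : φ ∈ overSet L θ) :
    (fun x : L => (φ : H → ℂ) x) =
      classInner (fun x : L => (φ : H → ℂ) x) (θ : L → ℂ) • (θ : L → ℂ) := by
  classical
  have hcl := IsCharacter.isClassFunction (IsCharacter.restrict (irr_isCharacter φ) L)
  conv_lhs => rw [classFunction_eq_sum hcl]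
  rw [Finset.sum_eq_single θ]
  · intro ψ _ hne
    by_contra h0
    have h1 : classInner (fun x : L => (φ : H → ℂ) x) (ψ : L → ℂ) ≠ 0 := fun e => h0 (by
      rw [e, zero_smul])
    obtain ⟨g, hg⟩ := (mem_conjOrbit L).1
      (restrict_constituent_conj L φ.2 θ.2 ψ.2 (mem_overSet L θ |>.1 hφ) h1)
    exact hne (Subtype.ext (hg.trans (hinv g)))
  · exact fun h => absurd (Finset.mem_univ θ) h

theorem card_overSet_le (hinv : ∀ g : H, conjChar L g (θ : L → ℂ) = θ) :
    (overSet L θ).card ≤ L.index := by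
  classical
  obtain ⟨a, ha⟩ := IsCharacter.exists_decomp
    (isCharacter_indFun L (IsIrrCharacter.isCharacter θ.2))
  have h1 := classInner_indFun_invariant L θ.2 hinv
  rw [ha, classInner_combination₂] at h1
  simp only [map_natCast] at h1
  have h2 : ∑ φ : IrrCharacter H, a φ * a φ = L.index := by exact_mod_cast h1
  rw [← h2, Finset.card_eq_sum_ones]
  refine le_trans (Finset.sum_le_sum fun φ hφ => ?_)
    (Finset.sum_le_sum_of_subset (f := fun φ => a φ * a φ) (Finset.subset_univ _))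
  refine Nat.one_le_iff_ne_zero.2 fun h0 => mem_overSet L θ |>.1 hφ ?_
  have h3 : a φ = 0 := by simpa using h0
  have h4 : classInner (indFun L (θ : L → ℂ)) (φ : H → ℂ) = 0 := by
    rw [ha, classInner_combination, h3, Nat.cast_zero]
  rw [classInner_indFun_left L _ (IsCharacter.isClassFunction (irr_isCharacter φ))] at h4
  rw [classInner_comm_of_isCharacter (IsCharacter.restrict (irr_isCharacter φ) L)
    (irr_isCharacter θ)]
  exact h4

/-- With index three and an automorphism inverting the quotient, the fixed combinations of the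
characters over `θ` span at most two dimensions. -/
theorem finrank_fixed_le (hinv : ∀ g : H, conjChar L g (θ : L → ℂ) = θ) (h3 : L.index = 3)
    (α : H → H) (hα : ∀ h, α h * h ∈ L) (V : Submodule ℂ (H → ℂ))
    (hV : ∀ v ∈ V, v ∈ Submodule.span ℂ ((fun φ : IrrCharacter H => (φ : H → ℂ)) ''
      (overSet L θ : Set (IrrCharacter H))) ∧ ∀ h, v (α h) = v h) :
    Module.finrank ℂ V ≤ 2 := by
  classical
  set W := Submodule.span ℂ ((fun φ : IrrCharacter H => (φ : H → ℂ)) ''
    (overSet L θ : Set (IrrCharacter H))) with hW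
  have hWle : Module.finrank ℂ W ≤ 3 := by
    rw [← h3]
    refine le_trans ?_ (card_overSet_le hinv)
    rw [hW, ← Finset.coe_image]
    exact (finrank_span_finset_le_card _).trans Finset.card_image_le
  by_contra hlt
  have hVW : V = W := Submodule.eq_of_le_of_finrank_le (fun v hv => (hV v hv).1) (by omega)
  obtain ⟨φ, hφ⟩ : ∃ φ, φ ∈ overSet L θ := by
    by_contra h
    push Not at h
    have : W = ⊥ := by
      rw [hW, Submodule.span_eq_bot]
      rintro _ ⟨φ, hφ, rfl⟩
      exact absurd hφ (h φ)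
    rw [hVW, this, finrank_bot] at hlt
    omega
  -- a faithful linear character of the quotient
  haveI : IsCyclic (H ⧸ L) := isCyclic_of_prime_card (p := 3) (hp := ⟨Nat.prime_three⟩)
    (by rw [← Subgroup.index_eq_card, h3])
  obtain ⟨e⟩ : Nonempty (H ⧸ L ≃* rootsOfUnity 3 ℂ) := by
    refine ⟨mulEquivOfCyclicCardEq ?_⟩
    rw [← Subgroup.index_eq_card, h3]
    haveI : NeZero (3 : ℕ) := ⟨by norm_num⟩
    rw [Complex.card_rootsOfUnity]
  set l : H →* ℂˣ :=
    ((rootsOfUnity 3 ℂ).subtype.comp e.toMonoidHom).comp (QuotientGroup.mk' L) with hl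
  have hl1 : ∀ h, l h = 1 ↔ h ∈ L := by
    intro h
    rw [← QuotientGroup.eq_one_iff h, hl]
    simp
  have hl3 : ∀ h, l h ^ 3 = 1 := fun h => (e (h : H ⧸ L)).2
  set φ' : IrrCharacter H := ⟨_, ChiefRestrict.isIrr_mul_linear φ.2 l⟩ with hφ'
  have hφ'mem : φ' ∈ overSet L θ := by
    rw [mem_overSet] at hφ ⊢
    refine fun h0 => hφ ?_
    rw [← h0]
    congr 1
    funext x
    show (φ : H → ℂ) x = (l (x : H) : ℂ) * (φ : H → ℂ) x
    rw [(hl1 x).2 x.2, Units.val_one, one_mul]
  have hfix : ∀ ψ ∈ overSet L θ, ∀ h, (ψ : H → ℂ) (α h) = (ψ : H → ℂ) h := fun ψ hψ =>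
    (hV _ (hVW ▸ Submodule.subset_span ⟨ψ, hψ, rfl⟩)).2
  have hzero : ∀ h, h ∉ L → (φ : H → ℂ) h = 0 := by
    intro h hh
    have h1 := hfix φ' hφ'mem h
    change (l (α h) : ℂ) * (φ : H → ℂ) (α h) = (l h : ℂ) * (φ : H → ℂ) h at h1
    rw [hfix φ hφ h] at h1
    by_contra h0
    have h2 : l (α h) = l h := Units.ext (mul_right_cancel₀ h0 h1)
    have h3' : l h * l h = 1 := by
      have := (hl1 _).2 (hα h)
      rwa [map_mul, h2] at this
    refine hh ((hl1 h).1 ?_)
    have := hl3 h
    rwa [pow_three, h3', mul_one] at this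
  set c := classInner (fun x : L => (φ : H → ℂ) x) (θ : L → ℂ) with hc
  obtain ⟨k, hk⟩ := IsCharacter.exists_classInner_nat
    (IsCharacter.restrict (irr_isCharacter φ) L) (irr_isCharacter θ)
  have hcard : (Nat.card H : ℂ) = 3 * Nat.card L := by
    rw [← L.card_mul_index, h3]; push_cast; ring
  have hL0 : (Nat.card L : ℂ) ≠ 0 := Nat.cast_ne_zero.2 Nat.card_pos.ne'
  have hnorm : classInner (φ : H → ℂ) (φ : H → ℂ) =
      (3 : ℂ)⁻¹ * classInner (fun x : L => (φ : H → ℂ) x) (fun x : L => (φ : H → ℂ) x) := by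
    simp only [classInner, hcard]
    rw [mul_inv, mul_assoc]
    congr 2
    rw [← Finset.sum_filter_of_ne (p := fun h => h ∈ L)
      (fun h _ hne => by by_contra hh; exact hne (by rw [hzero h hh, zero_mul]))]
    exact Finset.sum_subtype _ (fun h => by simp) _
  rw [classInner_self_irr φ.2, restrict_eq_smul hinv hφ, classInner_smul_left,
    classInner_smul_right, classInner_self_irr θ.2, hk, map_natCast, mul_one,
    eq_inv_mul_iff_mul_eq₀ (by norm_num), mul_one] at hnorm
  have h9 : (3 : ℕ) = k * k := by exact_mod_cast hnorm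
  rcases k with _ | _ | k
  · omega
  · omega
  · nlinarith [h9]

end Over

variable {G : Type u} [Group G] [Fintype G]

/-- The rank is bounded by the span of the restrictions to a subgroup meeting all regular
classes. -/
theorem blockRank_le_of_restrict (B : Set (IrrCharacter G)) (H : Subgroup G) {p : ℕ}
    (hreg : ∀ g : G, ¬ p ∣ orderOf g → ∃ a : G, a * g * a⁻¹ ∈ H) (hH : ∀ h : H, ¬ p ∣ orderOf h)
    (V : Submodule ℂ (H → ℂ)) (hV : ∀ χ ∈ B, (fun h : H => (χ : G → ℂ) h) ∈ V) :
    blockRank p B ≤ Module.finrank ℂ V := by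
  classical
  set S := Submodule.span ℂ ((fun χ : IrrCharacter G => pRegularPart p (χ : G → ℂ)) '' B) with hS
  let r : (G → ℂ) →ₗ[ℂ] (H → ℂ) :=
    { toFun := fun f h => f (h : G)
      map_add' := fun _ _ => rfl
      map_smul' := fun _ _ => rfl }
  have hmem : ∀ f ∈ S, r f ∈ V := by
    intro f hf
    refine (Submodule.span_le (p := V.comap r)).2 ?_ hf
    rintro _ ⟨χ, hχ, rfl⟩
    show (fun h : H => pRegularPart p (χ : G → ℂ) (h : G)) ∈ V
    convert hV χ hχ using 1
    funext h
    rw [pRegularPart_apply, if_neg (by rw [Subgroup.orderOf_coe]; exact hH h)]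
  have hzero : ∀ f ∈ S, (∀ g, p ∣ orderOf g → f g = 0) ∧ IsClassFunction G f := by
    intro f hf
    induction hf using Submodule.span_induction with
    | mem f hf =>
      obtain ⟨χ, -, rfl⟩ := hf
      refine ⟨fun g hg => by simp only [pRegularPart_apply, if_pos hg], fun g c => ?_⟩
      have ho : orderOf (c * g * c⁻¹) = orderOf g := by rw [← MulAut.conj_apply, MulEquiv.orderOf_eq]
      simp only [pRegularPart_apply, ho, irr_conj_invariant χ g c]
    | zero => exact ⟨fun _ _ => rfl, fun _ _ => rfl⟩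
    | add a b _ _ h1 h2 =>
      exact ⟨fun g hg => by simp [h1.1 g hg, h2.1 g hg], fun g c => by simp [h1.2 g c, h2.2 g c]⟩
    | smul c a _ h1 =>
      exact ⟨fun g hg => by simp [h1.1 g hg], fun g x => by simp [h1.2 g x]⟩
  let r' : S →ₗ[ℂ] V := LinearMap.codRestrict V (r.comp S.subtype) fun f => hmem _ f.2
  refine LinearMap.finrank_le_finrank_of_injective (f := r') ?_
  rw [← LinearMap.ker_eq_bot, LinearMap.ker_eq_bot']
  intro f hf
  refine Subtype.ext (funext fun g => ?_)
  by_cases hg : p ∣ orderOf g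
  · exact (hzero _ f.2).1 g hg
  · obtain ⟨a, ha⟩ := hreg g hg
    have := congrFun (congrArg Subtype.val hf) ⟨_, ha⟩
    change (f : G → ℂ) (a * g * a⁻¹) = 0 at this
    rwa [(hzero _ f.2).2] at this

/-- Rank at most two over an invariant character of the odd core. -/
theorem rank_le_two_invariant (hsol : Group.IsSolvable G) (N : Subgroup G) [N.Normal] [Fintype N]
    (hN : N = pPrimeCore 2 G) (θ : IrrCharacter N) (hinv : ∀ g : G, cjIrr N g θ = θ)
    (B : Set (IrrCharacter G))
    (hB : ∀ χ ∈ B, classInner (fun n : N => (χ : G → ℂ) n) (θ : N → ℂ) ≠ 0)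
    (P : Sylow 2 G) (hP : Shape (P : Subgroup G)) : blockRank 2 B ≤ 2 := by
  classical
  haveI : Fact (Nat.Prime 2) := ⟨Nat.prime_two⟩
  have hNodd : Odd (Nat.card N) := by
    have h := PBasic.pPrimeCore_coprime 2 G
    rw [← hN] at h
    exact Nat.coprime_two_right.1 h
  have hinv' : ∀ g : G, conjChar N g (θ : N → ℂ) = θ := fun g =>
    congrArg Subtype.val (hinv g)
  set π := QuotientGroup.mk' N with hπ
  have hπs : Function.Surjective π := QuotientGroup.mk'_surjective N
  have hπ1 : ∀ g : G, π g = 1 ↔ g ∈ N := fun g => QuotientGroup.eq_one_iff g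
  let Q := P.mapSurjective hπs
  have hQ : Shape (Q : Subgroup (G ⧸ N)) := by
    refine Shape.of_equiv ?_ hP
    refine MulEquiv.ofBijective (π.subgroupMap (P : Subgroup G)) ⟨?_, π.subgroupMap_surjective _⟩
    refine (MonoidHom.ker_eq_bot_iff _).1 ?_
    refine (Subgroup.eq_bot_iff_forall _).2 fun a ha => ?_
    have h1 : (a : G) ∈ N := (hπ1 _).1 (congrArg Subtype.val (MonoidHom.mem_ker.1 ha))
    obtain ⟨k, hk⟩ := IsPGroup.iff_orderOf.1 P.2 a
    have h2 : orderOf (a : G) ∣ Nat.card N := by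
      rw [← Subgroup.orderOf_mk _ h1]; exact orderOf_dvd_natCard _
    rw [Subgroup.orderOf_coe] at h2
    rw [← orderOf_eq_one_iff]
    exact Nat.eq_one_of_dvd_coprimes
      (Nat.Coprime.pow_left k (Nat.coprime_two_left.2 hNodd)) (dvd_of_eq hk) h2
  have hodd : ∀ g : G, ¬ 2 ∣ orderOf g → Odd (orderOf (π g)) := fun g hg =>
    Odd.of_dvd_nat (Nat.not_even_iff_odd.1 fun h => hg (even_iff_two_dvd.1 h)) (orderOf_map_dvd π g)
  have hrestr : ∀ χ ∈ B, (fun n : N => (χ : G → ℂ) n) =
      classInner (fun n : N => (χ : G → ℂ) n) (θ : N → ℂ) • (θ : N → ℂ) := fun χ hχ =>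
    restrict_eq_smul hinv' ((mem_overSet N θ).2 (hB χ hχ))
  have hNreg : ∀ n : N, ¬ 2 ∣ orderOf n := fun n h =>
    (Nat.not_even_iff_odd.2 hNodd) (even_iff_two_dvd.2 (h.trans (orderOf_dvd_natCard n)))
  rcases solvable_structure (solvable_of_surjective hπs) (by
      rw [show pPrimeCore 2 (G ⧸ N) = ⊥ by
        subst hN; exact PBasic.pPrimeCore_quotient_pPrimeCore 2 G]) Q hQ with
    htriv | ⟨t, w, ht, hw, hconj⟩
  · refine (blockRank_le_of_restrict B N (fun g hg => ⟨1, ?_⟩) hNreg
      (Submodule.span ℂ {(θ : N → ℂ)}) fun χ hχ => ?_).trans ?_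
    · rw [one_mul, inv_one, mul_one, ← hπ1]; exact htriv _ (hodd g hg)
    · rw [hrestr χ hχ]
      exact Submodule.smul_mem _ _ (Submodule.mem_span_singleton_self _)
    · exact (finrank_span_singleton (K := ℂ) fun h0 : (θ : N → ℂ) = 0 =>
        irr_one_ne_zero θ (congrFun h0 1)).le.trans (by norm_num)
  set H := (Subgroup.zpowers t).comap π with hH
  haveI : Fintype H := Fintype.ofFinite H
  have hNH : N ≤ H := fun n hn => by
    rw [hH, Subgroup.mem_comap, (hπ1 n).2 hn]; exact one_mem _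
  set L := N.subgroupOf H with hL
  haveI : Fintype L := Fintype.ofFinite L
  let e := Subgroup.subgroupOfEquivOfLe hNH
  let θL : IrrCharacter L := ⟨_, IsIrrCharacter.comp θ.2 e.toMonoidHom e.surjective⟩
  have hLinv : ∀ g : H, conjChar L g (θL : L → ℂ) = θL := fun g => funext fun x =>
    congrFun (hinv' (g : G)) (e x)
  have hLidx : L.index = 3 := by
    show N.relIndex H = 3
    have hker : N = (⊥ : Subgroup (G ⧸ N)).comap π := by
      rw [MonoidHom.comap_bot, hπ, QuotientGroup.ker_mk']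
    calc N.relIndex H = ((⊥ : Subgroup (G ⧸ N)).comap π).relIndex H :=
          congrArg (fun K => Subgroup.relIndex K H) hker
      _ = 3 := by
        rw [hH, Subgroup.relIndex_comap, Subgroup.map_comap_eq_self_of_surjective hπs,
          Subgroup.relIndex_bot_left, Nat.card_zpowers, ht]
  obtain ⟨w₀, hw₀⟩ := hπs w
  have hwH : ∀ h : H, w₀ * (h : G) * w₀⁻¹ ∈ H := by
    intro h
    obtain ⟨i, hi⟩ := Subgroup.mem_zpowers_iff.1 (Subgroup.mem_comap.1 h.2)
    show π (w₀ * (h : G) * w₀⁻¹) ∈ Subgroup.zpowers t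
    rw [map_mul, map_mul, map_inv, hw₀, ← hi, ← conj_zpow, hw]
    exact zpow_mem (inv_mem (Subgroup.mem_zpowers t)) i
  let α : H → H := fun h => ⟨_, hwH h⟩
  have hα : ∀ h, α h * h ∈ L := by
    intro h
    obtain ⟨i, hi⟩ := Subgroup.mem_zpowers_iff.1 (Subgroup.mem_comap.1 h.2)
    rw [hL, Subgroup.mem_subgroupOf, ← hπ1]
    show π (w₀ * (h : G) * w₀⁻¹ * h) = 1
    rw [map_mul, map_mul, map_mul, map_inv, hw₀, ← hi, ← conj_zpow, hw, inv_zpow, inv_mul_cancel]
  set W := Submodule.span ℂ ((fun φ : IrrCharacter H => (φ : H → ℂ)) ''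
    (overSet L θL : Set (IrrCharacter H))) with hW
  let F : Submodule ℂ (H → ℂ) :=
    { carrier := {v | ∀ h, v (α h) = v h}
      zero_mem' := fun _ => rfl
      add_mem' := fun ha hb h => by simp only [Pi.add_apply, ha h, hb h]
      smul_mem' := fun c v hv h => by simp only [Pi.smul_apply, hv h] }
  refine (blockRank_le_of_restrict B H (fun g hg => ?_) (fun h hh => ?_) (W ⊓ F) fun χ hχ => ?_).trans
    (finrank_fixed_le hLinv hLidx α hα (W ⊓ F) fun v hv => ⟨hv.1, hv.2⟩)
  · obtain ⟨a, ha⟩ := hconj _ (hodd g hg)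
    obtain ⟨a₀, rfl⟩ := hπs a
    exact ⟨a₀, by rw [hH, Subgroup.mem_comap, map_mul, map_mul, map_inv]; exact ha⟩
  · have h1 : Nat.card H = Nat.card N * 3 := by
      rw [← L.card_mul_index, hLidx, Nat.card_congr e.toEquiv]
    have h2 := hh.trans (orderOf_dvd_natCard h)
    rw [h1] at h2
    exact (Nat.not_even_iff_odd.2 (hNodd.mul (by decide))) (even_iff_two_dvd.2 h2)
  · refine ⟨?_, fun h => irr_conj_invariant χ (h : G) w₀⟩
    have hcl := IsCharacter.isClassFunction (IsCharacter.restrict (irr_isCharacter χ) H)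
    rw [SetLike.mem_coe, classFunction_eq_sum hcl]
    refine Submodule.sum_mem _ fun φ _ => ?_
    by_cases hc : classInner (fun h : H => (χ : G → ℂ) h) (φ : H → ℂ) = 0
    · rw [hc, zero_smul]; exact Submodule.zero_mem _
    refine Submodule.smul_mem _ _ (Submodule.subset_span ⟨φ, ?_, rfl⟩)
    rw [Finset.mem_coe, mem_overSet]
    obtain ⟨ψ, hψ⟩ := IsCharacter.exists_constituent
      (IsCharacter.comp (irr_isCharacter φ) (Subgroup.inclusion hNH)) fun h0 =>
        irr_one_ne_zero φ (congrFun h0 1)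
    obtain ⟨g, hg⟩ := (mem_conjOrbit N).1 (restrict_constituent_conj N χ.2 θ.2 ψ.2 (hB χ hχ)
      (classInner_restrict_ne_zero_of_two_step hNH χ φ ψ hc hψ))
    have hψθ : ψ = θ := Subtype.ext (hg.trans (hinv' g))
    subst hψθ
    have e1 : classInner (fun x : L => (φ : H → ℂ) x) (θL : L → ℂ) =
        classInner ((φ : H → ℂ) ∘ Subgroup.inclusion hNH) (ψ : N → ℂ) := by
      unfold classInner
      rw [Nat.card_congr e.toEquiv]
      congr 1
      exact Fintype.sum_equiv e.toEquiv _ _ fun x => rfl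
    rw [e1]
    exact hψ

theorem solvable_aux (n : ℕ) : ∀ (G : Type u) [Group G] [Fintype G] (M : Ideal AlgInt) [M.IsPrime],
    Nat.card G = n → IsPModular 2 M → Group.IsSolvable G →
    ∀ B : Set (IrrCharacter G), IsPBlock M B →
      ∀ D : Subgroup G, IsDefectGroup 2 M B D → Shape D → blockRank 2 B ≤ 2 := by
  induction n using Nat.strong_induction_on with
  | _ n ih =>
    intro G _ _ M _ hn hM hsol B hB D hD hS
    classical
    haveI : Fact (Nat.Prime 2) := ⟨Nat.prime_two⟩
    have hsolv : IsPSolvable 2 G := Cfsg.Agent.PSolvable.of_solvable hsol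
    set N := pPrimeCore 2 G with hN
    have hNp : ¬ 2 ∣ Nat.card N := Nat.prime_two.coprime_iff_not_dvd.1
      (Cfsg.Agent.PBasic.pPrimeCore_coprime 2 G).symm
    haveI : Fintype N := Fintype.ofFinite N
    obtain ⟨χ₀, hχ₀⟩ := isPBlock_nonempty hB
    obtain ⟨θ, hθ⟩ := exists_restrict_constituent χ₀.2 N
    by_cases hinv : ∀ g : G, cjIrr N g θ = θ
    · obtain ⟨B₀, hB₀, hmem, hsyl, huniq⟩ := fong_solvable hM hsolv N hN hNp θ hinv
      obtain rfl := isPBlock_eq_of_mem hB hB₀ hχ₀ ((hmem χ₀).2 hθ)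
      obtain ⟨P, rfl⟩ := huniq D hD
      exact rank_le_two_invariant hsol N hN θ hinv B (fun χ hχ => (hmem χ).1 hχ) P hS
    set T := inertia N (θ : N → ℂ) with hT
    haveI : Fintype T := Fintype.ofFinite T
    have hNT : N ≤ T := le_inertia N (IsCharacter.isClassFunction (irr_isCharacter θ))
    have hstab : ∀ g : G, g ∈ T ↔ ∀ φ ∈ ({θ} : Set (IrrCharacter N)),
        cjIrr N g φ ∈ ({θ} : Set (IrrCharacter N)) := by
      intro g
      simp only [Set.mem_singleton_iff, forall_eq]
      exact ⟨fun h => Subtype.ext h, fun h => congrArg Subtype.val h⟩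
    have hb : IsPBlock M ({θ} : Set (IrrCharacter N)) := by
      refine ⟨θ, (blockOf_eq_singleton hM θ ?_).symm⟩
      have h1 : (Nat.card N).factorization 2 = 0 := Nat.factorization_eq_zero_of_not_dvd hNp
      have h2 := degExp_le_card (p := 2) θ
      omega
    obtain ⟨ψ, hψ, hχψ, -⟩ := Cfsg.Agent.FongReynolds.exists_inducing N hNT
      ({θ} : Set (IrrCharacter N)) hstab hb (Set.mem_singleton θ) hθ
    set B' := blockOf M (ψ : T → ℂ) with hB'
    have hB'b : IsPBlock M B' := isPBlock_blockOf ψ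
    have hcov : ∃ φ ∈ B', Cfsg.Agent.FongReynolds.Over N hNT ({θ} : Set (IrrCharacter N)) φ :=
      ⟨ψ, self_mem_blockOf ψ, hψ⟩
    obtain ⟨B₁, hind, -, hirr, hmem⟩ := Cfsg.Agent.FongReynolds.fong_reynolds N hNT
      ({θ} : Set (IrrCharacter N)) hstab hb hM hB'b hcov
    obtain rfl : B = B₁ := isPBlock_eq_of_mem hB hind.2.1 hχ₀
      ((hmem χ₀).2 ⟨ψ, self_mem_blockOf ψ, hχψ⟩)
    have hlt : Nat.card T < n := by
      rw [← hn]
      refine lt_of_le_of_ne (Subgroup.card_le_card_group T) fun heq => hinv fun g => ?_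
      exact Subtype.ext (show g ∈ T by rw [Subgroup.eq_top_of_card_eq T heq]; exact Subgroup.mem_top g)
    obtain ⟨D', hD'⟩ := exists_isDefectGroup (p := 2) hB'b
    have hE := (Cfsg.Agent.FongReynolds.fong_reynolds_heights N hNT ({θ} : Set (IrrCharacter N))
      hstab hb hM hB'b hcov hind).1 D' hD'
    obtain ⟨y, rfl⟩ := defectGroup_conj hM hB hD hE
    refine (blockRank_le_of_indFun (p := 2) T (B' := B') (B := B)
      fun χ hχ => (hmem χ).1 hχ).trans ?_
    refine ih (Nat.card T) hlt T M rfl hM inferInstance B' hB'b D' hD' (Shape.of_equiv ?_ hS)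
    exact ((D'.equivMapOfInjective T.subtype T.subtype_injective).trans
      (Subgroup.equivMapOfInjective _ _ (MulAut.conj y).injective)).symm

end Cfsg.Agent.DihRankThree
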