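/-
Blocks in which all characters have the same degree: a single Brauer character, and as many
characters as the defect group has elements.
-/
import Cfsg.Agent.Lib.BrauerChar.Basis
import Cfsg.Agent.Lib.BrauerChar.Virtual
import Cfsg.Agent.Lib.BrauerPairs.CartanOne
import Cfsg.Agent.Lib.BrauerPairs.HeightBounds

set_option linter.unusedSectionVars false
set_option linter.style.haveILetI false

namespace Cfsg.Agent.EqualDeg

open Cfsg MonoidAlgebra Cfsg.Agent.Blocks Cfsg.Agent.BrauerPairs Cfsg.Agent.BrauerChar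
open scoped ComplexConjugate

universe u

variable {G : Type u} [Group G] [Fintype G] {p : ℕ} {M : Ideal AlgInt} [M.IsPrime]

/-- The `p`-part of the group order divides the degree of a sum of characters vanishing on the
singular elements. -/
theorem dvd_degree_sum (hM : IsPModular p M) (s : Finset (IrrCharacter G))
    (h : ∀ x : G, p ∣ orderOf x → ∑ χ ∈ s, (χ : G → ℂ) x = 0) :
    p ^ (Nat.card G).factorization p ∣ ∑ χ ∈ s, charDegree (χ : G → ℂ) := by
  classical
  haveI := Fact.mk hM.1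
  obtain ⟨P⟩ : Nonempty (Sylow p G) := inferInstance
  choose m hm using fun χ : IrrCharacter G => exists_sum_subgroup_eq (P : Subgroup G) χ
  have hcard : Nat.card (P : Subgroup G) = p ^ (Nat.card G).factorization p := P.card_eq_multiplicity
  refine ⟨∑ χ ∈ s, m χ, ?_⟩
  rw [← Nat.cast_inj (R := ℂ), ← hcard]
  push_cast
  simp only [← irr_one_eq_charDegree]
  rw [Finset.mul_sum]
  rw [← Finset.sum_congr rfl fun χ _ => hm χ, Finset.sum_comm,
    Finset.sum_eq_single (1 : (P : Subgroup G))]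
  · simp
  · intro x _ hx
    refine h _ ?_
    obtain ⟨k, hk⟩ := IsPGroup.iff_orderOf.1 P.2 x
    rw [Subgroup.orderOf_coe, hk]
    refine dvd_pow_self p fun h0 => hx ?_
    rw [h0, pow_zero, orderOf_eq_one_iff] at hk
    exact hk
  · simp

/-- All characters of a block of constant degree restrict to one Brauer character, which is a
simple component. -/
theorem exists_sys_single (hM : IsPModular p M) {B : Set (IrrCharacter G)} (hB : IsPBlock M B)
    {f : ℕ} (hf : ∀ χ ∈ B, charDegree (χ : G → ℂ) = f) :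
    ∃ (S : Sys M G) (l : Fin S.r), S.q (Ek M B) l = 1 ∧ (∀ i, i ≠ l → S.q (Ek M B) i = 0) ∧
      S.d l = f ∧ (∀ χ ∈ B, ∀ u : G, ¬ p ∣ orderOf u → (χ : G → ℂ) u = S.beta p l u) ∧
      blockRank p B = 1 := by
  classical
  have hp := hM.1
  obtain ⟨S, T, h1, h0, hcard, hLI, hspan⟩ := exists_sys hM hB
  obtain ⟨χ₀, hχ₀⟩ := isPBlock_nonempty hB
  have hf0 : 0 < f := hf χ₀ hχ₀ ▸ charDegree_pos χ₀
  have hfC : (f : ℂ) ≠ 0 := Nat.cast_ne_zero.2 hf0.ne'
  set sB := Finset.univ.filter (· ∈ B) with hsB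
  have hdeg : ∀ χ ∈ B, (χ : G → ℂ) 1 = (f : ℂ) := fun χ hχ => by
    rw [irr_one_eq_charDegree, hf χ hχ]
  have hreg1 : ¬ p ∣ orderOf (1 : G) := by simp [hp.ne_one]
  -- the sum of the block vanishes on the singular elements
  have hΘ : ∀ x : G, p ∣ orderOf x → ∑ χ ∈ sB, (χ : G → ℂ) x = 0 := by
    intro x hx
    have h := congrArg conj (blockPair_regular_singular hM hB hreg1 hx)
    rw [map_zero, blockPair, map_sum] at h
    rw [Finset.sum_congr rfl fun χ hχ => by
      rw [map_mul, Complex.conj_conj, hdeg χ (Finset.mem_filter.1 hχ).2, Complex.conj_natCast],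
      ← Finset.mul_sum] at h
    exact (mul_eq_zero.1 h).resolve_left hfC
  -- the pairing with the block evaluates at the identity
  have hpair : ∀ h ∈ regSpan p B, (f : ℂ) * ((Nat.card G : ℂ)⁻¹ *
      ∑ v, (∑ χ ∈ sB, (χ : G → ℂ) v) * conj (h v)) = conj (h 1) := by
    intro h hh
    induction hh using Submodule.span_induction with
    | mem h hh =>
      obtain ⟨ψ, hψ, rfl⟩ := hh
      have e : ∀ v, (∑ χ ∈ sB, (χ : G → ℂ) v) * conj (pRegularPart p (ψ : G → ℂ) v) =
          (∑ χ ∈ sB, (χ : G → ℂ) v) * conj ((ψ : G → ℂ) v) := by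
        intro v
        by_cases hv : p ∣ orderOf v
        · rw [hΘ v hv, zero_mul, zero_mul]
        · simp [pRegularPart, IsPRegular, hv]
      simp only [e, Finset.sum_mul, Finset.mul_sum]
      rw [Finset.sum_comm]
      rw [show pRegularPart p (ψ : G → ℂ) 1 = (ψ : G → ℂ) 1 by
        simp [pRegularPart, IsPRegular, hp.ne_one]]
      simp only [← Finset.mul_sum]
      rw [Finset.sum_eq_single ψ]
      · rw [show (Nat.card G : ℂ)⁻¹ * ∑ v, (ψ : G → ℂ) v * conj ((ψ : G → ℂ) v) = 1 from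
          Cfsg.Agent.Char.classInner_self_irr ψ.2, mul_one, hdeg ψ hψ, Complex.conj_natCast]
      · intro η _ hne
        have h : classInner (η : G → ℂ) (ψ : G → ℂ) = 0 :=
          Cfsg.Agent.Char.classInner_irr_of_ne η.2 ψ.2 fun e => hne (Subtype.ext e)
        exact (mul_eq_zero.1 h).resolve_left
          (inv_ne_zero (Nat.cast_ne_zero.2 Nat.card_pos.ne'))
      · intro hn
        exact absurd (Finset.mem_filter.2 ⟨Finset.mem_univ _, hψ⟩) hn
    | zero => simp
    | add a b _ _ ha hb =>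
      simp only [Pi.add_apply, map_add, mul_add, Finset.sum_add_distrib]
      rw [ha, hb]
    | smul c a _ ha =>
      simp only [Pi.smul_apply, smul_eq_mul, map_mul]
      rw [← ha]
      simp only [Finset.mul_sum]
      exact Finset.sum_congr rfl fun v _ => by ring
  -- the degree divides the dimensions of the components
  have hdvd : ∀ l ∈ T, f ∣ S.d l := by
    intro l hl
    have hmem : S.beta p l ∈ regSpan p B := hspan ▸ Submodule.subset_span ⟨⟨l, hl⟩, rfl⟩
    have hg := isGeneralizedCharacter_brExt hM (ofMat (comp S.q l))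
    choose n hn using fun χ : IrrCharacter G =>
      Cfsg.Agent.Char.IsGeneralizedCharacter.exists_classInner_int
        (Cfsg.Agent.Char.IsGeneralizedCharacter.of_isCharacter
          (Cfsg.Agent.Char.IsIrrCharacter.isCharacter χ.2)) hg
    have h2 := hpair _ hmem
    have e : ∀ v, (∑ χ ∈ sB, (χ : G → ℂ) v) * conj (S.beta p l v) =
        ∑ χ ∈ sB, (χ : G → ℂ) v * conj (brExt p hM.1 (ofMat (comp S.q l)) v) := by
      intro v
      rw [← Finset.sum_mul]
      by_cases hv : p ∣ orderOf v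
      · rw [hΘ v hv, zero_mul, zero_mul]
      · rw [brExt_regular hM.1 _ hv]; rfl
    simp only [e] at h2
    rw [Finset.sum_comm, Sys.beta, br_one hp.ne_one,
      Complex.conj_natCast, Module.finrank_fin_fun] at h2
    rw [Finset.mul_sum, Finset.sum_congr rfl fun (χ : IrrCharacter G) _ => show (Nat.card G : ℂ)⁻¹ * ∑ v, (χ : G → ℂ) v *
      conj (brExt p hM.1 (ofMat (comp S.q l)) v) = _ from hn χ] at h2
    have h3 : ((f : ℤ) * ∑ χ ∈ sB, n χ : ℤ) = (S.d l : ℤ) := by
      have : (((f : ℤ) * ∑ χ ∈ sB, n χ : ℤ) : ℂ) = ((S.d l : ℤ) : ℂ) := by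
        push_cast
        exact h2
      exact_mod_cast this
    exact Int.natCast_dvd_natCast.1 ⟨_, h3.symm⟩
  -- each character is one component
  have hone : ∀ χ ∈ B, ∃ l ∈ T, S.d l = f ∧ ∀ u : G, ¬ p ∣ orderOf u →
      (χ : G → ℂ) u = S.beta p l u := by
    intro χ hχ
    obtain ⟨n, F, hFu, hFB⟩ := exists_red (M := M) hM χ
    obtain ⟨c, hc, hc0⟩ := S.exists_expand hM (ofMat F)
    have hcT : ∀ l, l ∉ T → c l = 0 := fun l hl => hc0 (Ek M B) (Ek_idem hB)
      (by rw [ofMat, AlgHom.comp_apply, hFB B hB hχ, map_one]) l (h0 l hl)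
    have hexp : ∀ u, ¬ p ∣ orderOf u → (χ : G → ℂ) u = ∑ l ∈ T, (c l : ℂ) * S.beta p l u := by
      intro u hu
      rw [← hFu u hu, hc u]
      exact (Finset.sum_subset (Finset.subset_univ T) fun l _ hl => by simp [hcT l hl]).symm
    have hsum : ∑ l ∈ T, c l * S.d l = f := by
      have h := hexp 1 hreg1
      simp only [Sys.beta, br_one hp.ne_one, Module.finrank_fin_fun] at h
      rw [hdeg χ hχ] at h
      exact_mod_cast h.symm
    obtain ⟨l, hl, hne⟩ := Finset.exists_ne_zero_of_sum_ne_zero (hsum.trans_ne hf0.ne')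
    have hle : f ≤ S.d l := Nat.le_of_dvd (S.pos l) (hdvd l hl)
    have hcl : 1 ≤ c l := Nat.one_le_iff_ne_zero.2 fun h => hne (by rw [h, zero_mul])
    have hsplit := Finset.sum_erase_add T (fun i => c i * S.d i) hl
    rw [hsum] at hsplit
    have h4 : S.d l ≤ c l * S.d l := Nat.le_mul_of_pos_left _ hcl
    have hdl : S.d l = f := by omega
    have hcl1 : c l = 1 := Nat.eq_of_mul_eq_mul_right (S.pos l) (by rw [one_mul]; omega)
    refine ⟨l, hl, hdl, fun u hu => ?_⟩
    rw [hexp u hu, Finset.sum_eq_single l]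
    · rw [hcl1, Nat.cast_one, one_mul]
    · intro i hi hil
      have : c i * S.d i = 0 := by
        have h5 : c i * S.d i ≤ ∑ j ∈ T.erase l, c j * S.d j :=
          Finset.single_le_sum (f := fun j => c j * S.d j) (fun _ _ => Nat.zero_le _)
            (Finset.mem_erase.2 ⟨hil, hi⟩)
        omega
      rw [(Nat.mul_eq_zero.1 this).resolve_right (S.pos i).ne', Nat.cast_zero, zero_mul]
    · exact fun h => absurd hl h
  haveI : Nonempty (Fin S.r) := ⟨(hone χ₀ hχ₀).choose⟩
  choose! lam hlT hld hlu using hone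
  -- the fibre of one component is the whole block
  set l₀ := lam χ₀ with hl₀
  set s := sB.filter (fun χ => lam χ = l₀) with hs
  have hmemB : ∀ χ ∈ sB, χ ∈ B := fun χ hχ => (Finset.mem_filter.1 hχ).2
  have hsB' : ∀ χ ∈ s, χ ∈ B ∧ lam χ = l₀ := fun χ hχ =>
    ⟨hmemB χ (Finset.mem_filter.1 hχ).1, (Finset.mem_filter.1 hχ).2⟩
  have hfib : ∀ w : G, p ∣ orderOf w → ∑ χ ∈ s, (χ : G → ℂ) w = 0 := by
    intro w hw
    have hzero : ∀ u : G, ∑ l : T, conj (∑ χ ∈ sB.filter (fun χ => lam χ = l), (χ : G → ℂ) w) *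
        S.beta p l u = 0 := by
      intro u
      by_cases hu : p ∣ orderOf u
      · exact Finset.sum_eq_zero fun l _ => by simp [Sys.beta, br, hu]
      have h := blockPair_regular_singular hM hB hu hw
      rw [blockPair] at h
      refine Eq.trans ?_ h
      simp only [map_sum, Finset.sum_mul]
      rw [Finset.sum_coe_sort T (fun l => ∑ χ ∈ sB.filter (fun χ => lam χ = l),
        conj ((χ : G → ℂ) w) * S.beta p l u),
        ← Finset.sum_fiberwise_of_maps_to (g := lam) (fun χ hχ => hlT χ (hmemB χ hχ))]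
      refine Finset.sum_congr rfl fun l _ => Finset.sum_congr rfl fun χ hχ => ?_
      obtain ⟨hχ1, hχ2⟩ := Finset.mem_filter.1 hχ
      rw [hlu χ (hmemB χ hχ1) u hu, hχ2, mul_comm]
    have h := Fintype.linearIndependent_iff.1 hLI
      (fun l : T => conj (∑ χ ∈ sB.filter (fun χ => lam χ = l), (χ : G → ℂ) w))
      (funext fun u => by simpa [Finset.sum_apply] using hzero u) ⟨l₀, hlT χ₀ hχ₀⟩
    have h' := congrArg conj h
    rwa [Complex.conj_conj, map_zero] at h'
  obtain ⟨q, hq⟩ := dvd_degree_sum hM s hfib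
  rw [Finset.sum_congr rfl fun χ hχ => hf χ (hsB' χ hχ).1, Finset.sum_const, smul_eq_mul] at hq
  -- its idempotent is local
  let s' : Set (IrrCharacter G) := ↑s
  have hloc : ∀ v : G, MemLocalRing M (blockCoeff s' v) := by
    intro v
    have e : blockCoeff s' v = (Nat.card G : ℂ)⁻¹ * ∑ χ ∈ s, (f : ℂ) * conj ((χ : G → ℂ) v) := by
      rw [blockCoeff_eq_sum]
      congr 1
      rw [show Finset.univ.filter (· ∈ s') = s by ext; simp [s']]
      exact Finset.sum_congr rfl fun χ hχ => by rw [hdeg χ (hsB' χ hχ).1]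
    rw [e]
    by_cases hv : p ∣ orderOf v
    · rw [← Finset.mul_sum, ← map_sum, hfib v hv, map_zero, mul_zero, mul_zero]
      exact mem_locRing.1 (zero_mem _)
    have hval : ∀ χ ∈ s, conj ((χ : G → ℂ) v) = (χ₀ : G → ℂ) v⁻¹ := fun χ hχ => by
      rw [hlu χ (hsB' χ hχ).1 v hv, (hsB' χ hχ).2, hl₀, ← hlu χ₀ hχ₀ v hv, irr_inv]
    rw [Finset.sum_congr rfl fun χ hχ => by rw [hval χ hχ], Finset.sum_const, nsmul_eq_mul,
      ← mul_assoc, ← mul_assoc]
    refine mem_locRing.1 (mul_mem (mem_locRing.2 ?_) ?_)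
    · rw [mul_assoc, ← Nat.cast_mul, hq, mul_comm, Nat.cast_mul, ← div_eq_mul_inv, mul_div_right_comm]
      refine mem_locRing.1 (mul_mem (mem_locRing.2 (memLocalRing_natDiv hM (le_of_eq ?_)))
        (natCast_mem _ q))
      rw [hM.1.factorization_pow, Finsupp.single_eq_same]
    · exact mem_locRing_of_isIntegral
        (irr_isIntegral χ₀ v⁻¹)
  let x : MonoidAlgebra (locRing M) G := gaOfFun fun g => ⟨blockCoeff s' g, mem_locRing.2 (hloc g)⟩
  have hxC : toC x = blockElt s' := gaExt fun g => by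
    rw [coeff_toC, coeff_blockElt]; simp [x]
  have hxc : IsClassElt x := fun g h => Subtype.ext (by
    simpa [x, coeff_blockElt] using isClassElt_blockElt s' g h)
  have hom : ∀ ψ : IrrCharacter G, omegaR ψ x = if ψ ∈ s' then 1 else 0 := fun ψ => by
    rw [omegaR, hxC, omega_blockElt]
  have hall : ∀ ψ ∈ B, ψ ∈ s := by
    intro ψ hψ
    by_contra hns
    have h := omegaR_congr (isPBlock_sameBlock hB hχ₀ hψ) hxc
    rw [hom, hom, if_pos, if_neg, sub_zero] at h
    · exact not_memLocalIdeal_one h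
    · exact hns
    · exact Finset.mem_coe.2 (Finset.mem_filter.2 ⟨Finset.mem_filter.2 ⟨Finset.mem_univ _, hχ₀⟩, rfl⟩)
  have hlu' : ∀ χ ∈ B, ∀ u : G, ¬ p ∣ orderOf u → (χ : G → ℂ) u = S.beta p l₀ u := fun χ hχ u hu => by
    rw [hlu χ hχ u hu, (hsB' χ (hall χ hχ)).2]
  -- the rank
  have hrk : blockRank p B = 1 := by
    have hb0 : S.beta p l₀ ≠ 0 := fun h => hfC (by
      have := congrFun h 1
      rwa [← hlu' χ₀ hχ₀ 1 hreg1, hdeg χ₀ hχ₀] at this)
    have e : regSpan p B = ℂ ∙ S.beta p l₀ := by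
      have he : ∀ χ ∈ B, pRegularPart p (χ : G → ℂ) = S.beta p l₀ := fun χ hχ => by
        funext u
        by_cases hu : p ∣ orderOf u
        · simp [pRegularPart, IsPRegular, hu, Sys.beta, br]
        · simp only [pRegularPart, IsPRegular, hu, not_false_eq_true, if_true]
          exact hlu' χ hχ u hu
      unfold regSpan
      congr 1
      ext h
      constructor
      · rintro ⟨χ, hχ, rfl⟩
        exact he χ hχ
      · rintro rfl
        exact ⟨χ₀, hχ₀, he χ₀ hχ₀⟩
    show Module.finrank ℂ (regSpan p B) = 1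
    rw [e, finrank_span_singleton hb0]
  have hT : ∀ i ∈ T, i = l₀ := by
    have h2 : T.card ≤ 1 := by omega
    exact fun i hi => Finset.card_le_one.1 h2 i hi l₀ (hlT χ₀ hχ₀)
  exact ⟨S, l₀, h1 l₀ (hlT χ₀ hχ₀), fun i hi => h0 i fun h => hi (hT i h), hld χ₀ hχ₀, hlu', hrk⟩

/-- A block of constant degree and rank one has as many characters as the defect group has
elements. -/
theorem card_eq_defect (hM : IsPModular p M) {B : Set (IrrCharacter G)} (hB : IsPBlock M B)
    {f : ℕ} (hf : ∀ χ ∈ B, charDegree (χ : G → ℂ) = f) (hl : blockRank p B = 1) :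
    Nat.card B = p ^ blockDefect p B := by
  classical
  obtain ⟨φ, d, -, hd, hsum⟩ := exists_cartan_rank_one hM hB hl
  obtain ⟨χ₀, hχ₀, h0⟩ := exists_heightZero hM hB
  set sB := Finset.univ.filter (· ∈ B) with hsB
  have hone : IsPRegular p (1 : G) := by simp [IsPRegular, hM.1.ne_one]
  have hdeg : ∀ χ ∈ B, (χ : G → ℂ) 1 = (f : ℂ) := fun χ hχ => by
    rw [irr_one_eq_charDegree, hf χ hχ]
  have hf0 : 0 < f := hf χ₀ hχ₀ ▸ charDegree_pos χ₀
  have hdc : ∀ χ ∈ B, d χ = d χ₀ := fun χ hχ => by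
    have e1 := hd χ hχ 1 hone
    have e2 := hd χ₀ hχ₀ 1 hone
    rw [hdeg χ hχ, ← hdeg χ₀ hχ₀, e2] at e1
    have hφ : φ 1 ≠ 0 := fun h => irr_one_ne_zero χ₀ (by rw [e2, h, mul_zero])
    exact_mod_cast (mul_right_cancel₀ hφ e1).symm
  have hk : Nat.card B = sB.card := by
    rw [Nat.card_eq_fintype_card, Fintype.card_subtype]
  rw [finsum_mem_eq_finite_toFinset_sum _ (Set.toFinite B),
    show (Set.toFinite B).toFinset = sB from by ext; simp [hsB],
    Finset.sum_congr rfl fun χ hχ => by rw [hdc χ (Finset.mem_filter.1 hχ).2],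
    Finset.sum_const, smul_eq_mul, ← hk] at hsum
  have hΘ : ∀ x : G, p ∣ orderOf x → ∑ χ ∈ sB, (χ : G → ℂ) x = 0 := by
    intro x hx
    have h := congrArg conj (blockPair_regular_singular hM hB hone hx)
    rw [map_zero, blockPair, map_sum] at h
    rw [Finset.sum_congr rfl fun χ hχ => by
      rw [map_mul, Complex.conj_conj, hdeg χ (Finset.mem_filter.1 hχ).2, Complex.conj_natCast],
      ← Finset.mul_sum] at h
    exact (mul_eq_zero.1 h).resolve_left (Nat.cast_ne_zero.2 hf0.ne')
  have hdvd := dvd_degree_sum hM sB hΘ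
  rw [Finset.sum_congr rfl fun χ hχ => hf χ (Finset.mem_filter.1 hχ).2, Finset.sum_const,
    smul_eq_mul, ← hk] at hdvd
  have hk0 : Nat.card B ≠ 0 := by
    haveI : Nonempty B := ⟨⟨χ₀, hχ₀⟩⟩
    exact Nat.card_pos.ne'
  have h1 := (hM.1.pow_dvd_iff_le_factorization (Nat.mul_ne_zero hk0 hf0.ne')).1 hdvd
  rw [Nat.factorization_mul hk0 hf0.ne', Finsupp.add_apply] at h1
  have h2 := Cfsg.Agent.BrauerPairs.degExp_eq_add_height hM hB hχ₀
  rw [h0, hf χ₀ hχ₀] at h2
  have h3 : p ^ blockDefect p B ∣ Nat.card B :=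
    (hM.1.pow_dvd_iff_le_factorization hk0).2 (by
      have := blockDefect_le (p := p) B
      omega)
  exact Nat.dvd_antisymm ⟨_, hsum.symm⟩ h3

end Cfsg.Agent.EqualDeg
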