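/-
Blocks with abelian defect group and constant degree: the Brauer map is injective on the centre,
so the inertial quotient is trivial.
-/
import Cfsg.Agent.Lib.BrauerPairs.EqualDegreesRank
import Cfsg.Agent.Lib.BlockAlg.RankLift
import Cfsg.Agent.Lib.BlockAlg.Corner
import Cfsg.Agent.Lib.BrauerPairs.AbelianInertia
import Cfsg.Agent.Lib.BrauerPairs.CentralRankOne
import Cfsg.Agent.Lib.BrauerPairs.HeightZeroPairs
import Cfsg.Agent.Lib.BrauerPairs.NilBlock
import Cfsg.Agent.Lib.BrauerPairs.InducedPairs

set_option linter.unusedSectionVars false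
set_option linter.style.haveILetI false

namespace Cfsg.Agent.EqualDeg

open Cfsg MonoidAlgebra Cfsg.Agent.Blocks Cfsg.Agent.BrauerPairs Cfsg.Agent.BrauerChar
open Cfsg.Agent.BlockAlg
open scoped ComplexConjugate

universe u

variable {G : Type u} [Group G] [Fintype G] {p : ℕ} {M : Ideal AlgInt} [M.IsPrime]

/-- The centre of the block algebra. -/
noncomputable def zAlg (M : Ideal AlgInt) [M.IsPrime] (B : Set (IrrCharacter G)) :
    Submodule (resField M) (MonoidAlgebra (resField M) G) where
  carrier := {x | IsClassElt x ∧ x * Ek M B = x}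
  zero_mem' := ⟨IsClassElt.zero, zero_mul _⟩
  add_mem' := fun {x y} hx hy => ⟨fun g h => by
    rw [MonoidAlgebra.coeff_add, Finsupp.add_apply, Finsupp.add_apply, hx.1 g h, hy.1 g h],
    by rw [add_mul, hx.2, hy.2]⟩
  smul_mem' := fun c x hx => ⟨IsClassElt.smul hx.1 c, by rw [smul_mul_assoc, hx.2]⟩

theorem mem_zAlg {B : Set (IrrCharacter G)} {x : MonoidAlgebra (resField M) G} :
    x ∈ zAlg M B ↔ IsClassElt x ∧ x * Ek M B = x := Iff.rfl

theorem finrank_zAlg_le {B : Set (IrrCharacter G)} (hB : IsPBlock M B) :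
    Module.finrank (resField M) (zAlg M B) ≤ Nat.card B := by
  let b := Module.finBasis (resField M) (zAlg M B)
  have h := card_le_of_central_indep hB (fun j => (b j : MonoidAlgebra (resField M) G))
    (fun j => (b j).2.1) (fun j => (b j).2.2)
    (b.linearIndependent.map' (zAlg M B).subtype (Submodule.ker_subtype _))
  simpa using h

theorem sum_card_blocks : ∑ B ∈ blocks M G, Nat.card B = Nat.card (IrrCharacter G) := by
  classical
  rw [Nat.card_eq_fintype_card, ← Finset.card_univ,
    Finset.card_eq_sum_card_fiberwise (f := fun χ : IrrCharacter G => blockOf M (χ : G → ℂ))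
      (t := blocks M G) fun χ _ => mem_blocks.2 (isPBlock_blockOf χ)]
  refine Finset.sum_congr rfl fun B hB => ?_
  rw [Nat.card_eq_fintype_card, Fintype.card_subtype]
  refine congrArg Finset.card (Finset.ext fun χ => ?_)
  simp only [Finset.mem_filter, Finset.mem_univ, true_and]
  exact ⟨fun h => (isPBlock_eq_blockOf (mem_blocks.1 hB) h).symm, fun h => h ▸ self_mem_blockOf χ⟩

theorem finrank_zAlg {B : Set (IrrCharacter G)} (hB : IsPBlock M B) :
    Module.finrank (resField M) (zAlg M B) = Nat.card B := by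
  classical
  let k := resField M
  haveI : Fintype (ConjClasses G) := Fintype.ofFinite _
  refine le_antisymm (finrank_zAlg_le hB) ?_
  -- the class functions embed into the product of the centres
  let Z : Submodule k (MonoidAlgebra k G) :=
    { carrier := {x | IsClassElt x}
      zero_mem' := IsClassElt.zero
      add_mem' := fun {x y} hx hy g h => by
        rw [MonoidAlgebra.coeff_add, Finsupp.add_apply, Finsupp.add_apply, hx g h, hy g h]
      smul_mem' := fun c x hx => IsClassElt.smul hx c }
  have hZ : Nat.card (IrrCharacter G) ≤ Module.finrank k Z := by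
    let w : ConjClasses G → Z := fun C =>
      ⟨gaOfFun fun g => if ConjClasses.mk g = C then 1 else 0, isClassElt_gaOfFun fun g h => by
        rw [show ConjClasses.mk (h * g * h⁻¹) = ConjClasses.mk g from
          ConjClasses.mk_eq_mk_iff_isConj.2 (isConj_iff.2 ⟨h, rfl⟩).symm]⟩
    have hw : LinearIndependent k w := by
      rw [Fintype.linearIndependent_iff]
      intro c hc C
      obtain ⟨g, rfl⟩ := ConjClasses.exists_rep C
      have h := congrArg (fun x : Z => (x : MonoidAlgebra k G).coeff g) hc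
      simpa [w, MonoidAlgebra.coeff_sum, Finsupp.finsetSum_apply, Submodule.coe_sum] using h
    have := hw.fintype_card_le_finrank
    rwa [Cfsg.Agent.Char.card_irrCharacter, Nat.card_eq_fintype_card]
  let θ : Z →ₗ[k] ∀ B' : {B' // B' ∈ blocks M G}, zAlg M B'.1 :=
    LinearMap.pi fun B' =>
      { toFun := fun x => ⟨(x : MonoidAlgebra k G) * Ek M B'.1,
          IsClassElt.mul x.2 (isClassElt_Ek _),
          by rw [mul_assoc, Ek_idem (mem_blocks.1 B'.2)]⟩
        map_add' := fun x y => Subtype.ext (add_mul _ _ _)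
        map_smul' := fun c x => Subtype.ext (smul_mul_assoc _ _ _) }
  have hθ : Function.Injective θ := by
    intro x y h
    refine Subtype.ext ?_
    rw [← mul_one (x : MonoidAlgebra k G), ← mul_one (y : MonoidAlgebra k G), ← sum_Ek (M := M),
      Finset.mul_sum, Finset.mul_sum]
    exact Finset.sum_congr rfl fun B' hB' => congrArg Subtype.val (congrFun h ⟨B', hB'⟩)
  have h1 := LinearMap.finrank_le_finrank_of_injective hθ
  rw [Module.finrank_pi_fintype,
    Finset.sum_coe_sort (blocks M G) (fun B' => Module.finrank k (zAlg M B'))] at h1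
  have h2 : ∑ B' ∈ (blocks M G).erase B, Module.finrank k (zAlg M B') ≤
      ∑ B' ∈ (blocks M G).erase B, Nat.card B' :=
    Finset.sum_le_sum fun B' hB' => finrank_zAlg_le (mem_blocks.1 (Finset.mem_of_mem_erase hB'))
  have h3 := Finset.sum_erase_add (blocks M G) (fun B' => Module.finrank k (zAlg M B'))
    (mem_blocks.2 hB)
  have h4 := Finset.sum_erase_add (blocks M G) (fun B' => Nat.card B') (mem_blocks.2 hB)
  rw [sum_card_blocks] at h4
  show Nat.card B ≤ Module.finrank k (zAlg M B)
  omega

/-- The corner fills at most its share of the algebra. -/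
theorem mul_finrank_corner_le {k : Type*} [Field k] {R : Type*} [Ring R] [Algebra k R]
    [FiniteDimensional k R] {n : ℕ} {CD : CornerData k R n} (φ : Frame CD) :
    n * n * Module.finrank k φ.A ≤
      Module.finrank k (LinearMap.range (LinearMap.mulRight k CD.e)) := by
  classical
  have hve : ∀ i, φ.v i * CD.e = φ.v i := fun i => (φ.hv i).2.1
  let ψ : (Fin n → Fin n → φ.A) →ₗ[k] LinearMap.range (LinearMap.mulRight k CD.e) :=
    { toFun := fun a => ⟨∑ i, ∑ j, φ.u i * (a i j : R) * φ.v j,
        ∑ i, ∑ j, φ.u i * (a i j : R) * φ.v j, by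
          simp only [LinearMap.mulRight_apply, Finset.sum_mul, mul_assoc, hve]⟩
      map_add' := fun a b => Subtype.ext (by
        simp [mul_add, add_mul, Finset.sum_add_distrib])
      map_smul' := fun c a => Subtype.ext (by
        simp [Finset.smul_sum]) }
  have hψ : Function.Injective ψ := by
    intro a b h
    funext i₀ j₀
    refine Subtype.ext ?_
    have key : ∀ c : Fin n → Fin n → φ.A,
        φ.v i₀ * (∑ i, ∑ j, φ.u i * (c i j : R) * φ.v j) * φ.u j₀ = c i₀ j₀ := by
      intro c
      simp only [Finset.mul_sum, Finset.sum_mul]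
      rw [Finset.sum_eq_single i₀, Finset.sum_eq_single j₀]
      · rw [show φ.v i₀ * (φ.u i₀ * (c i₀ j₀ : R) * φ.v j₀) * φ.u j₀ =
          φ.v i₀ * φ.u i₀ * (c i₀ j₀ : R) * (φ.v j₀ * φ.u j₀) by
            simp only [mul_assoc], φ.hP, φ.hP, if_pos rfl, if_pos rfl, φ.left_id (c i₀ j₀).2,
          φ.right_id (c i₀ j₀).2]
      · intro j _ hj
        rw [show φ.v i₀ * (φ.u i₀ * (c i₀ j : R) * φ.v j) * φ.u j₀ =
          φ.v i₀ * φ.u i₀ * (c i₀ j : R) * (φ.v j * φ.u j₀) by
            simp only [mul_assoc], φ.hP j, if_neg hj, mul_zero]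
      · simp
      · intro i _ hi
        refine Finset.sum_eq_zero fun j _ => ?_
        rw [show φ.v i₀ * (φ.u i * (c i j : R) * φ.v j) * φ.u j₀ =
          φ.v i₀ * φ.u i * (c i j : R) * (φ.v j * φ.u j₀) by
            simp only [mul_assoc], φ.hP i₀, if_neg (Ne.symm hi), zero_mul, zero_mul]
      · simp
    rw [← key a, ← key b]
    exact congrArg (fun z => φ.v i₀ * ((z : LinearMap.range (LinearMap.mulRight k CD.e)) : R) *
      φ.u j₀) h
  refine le_trans (le_of_eq ?_) (LinearMap.finrank_le_finrank_of_injective hψ)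
  simp [Module.finrank_pi_fintype, mul_assoc]

/-- A trace form killing the products of a central element with a unit of the corner kills all
its products. -/
theorem trace_form_eq_zero {k : Type*} [Field k] {R : Type*} [Ring R] [Algebra k R]
    [FiniteDimensional k R] {n : ℕ} {CD : CornerData k R n} (φ : Frame CD) (Z : Submodule k R)
    (hc : ∀ Y ∈ Z, ∀ b : R, Y * b = b * Y) (he : ∀ Y ∈ Z, Y * CD.e = Y)
    (hmul : ∀ Y ∈ Z, ∀ Y' ∈ Z, Y * Y' ∈ Z)
    (hdim : Module.finrank k φ.A ≤ Module.finrank k Z)
    (τ : R →ₗ[k] k) (hτ : ∀ y z, τ (y * z) = τ (z * y)) {w : R} (hw : (CD.F w).trace ≠ 0)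
    {x : R} (hx : x ∈ Z) (h : ∀ Y ∈ Z, τ (x * Y * w) = 0) (b : R) : τ (x * b) = 0 := by
  classical
  let ι : Z →ₗ[k] φ.A :=
    { toFun := fun Y => ⟨(Y : R) * φ.z, φ.memA.2 (by
        rw [← mul_assoc, ← hc _ Y.2 φ.z, mul_assoc, φ.hz, mul_assoc, φ.hz])⟩
      map_add' := fun Y Y' => Subtype.ext (add_mul _ _ _)
      map_smul' := fun c Y => Subtype.ext (smul_mul_assoc _ _ _) }
  have hrec : ∀ Y ∈ Z, Y = ∑ i, φ.u i * (Y * φ.z) * φ.v i := by
    intro Y hY
    refine ((he Y hY).symm.trans (congrArg (Y * ·) φ.huv.symm)).trans ?_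
    rw [Finset.mul_sum]
    refine Finset.sum_congr rfl fun i _ => ?_
    rw [hc Y hY (φ.u i * φ.v i), hc Y hY φ.z, ← mul_assoc (φ.u i) φ.z, (φ.hu i).1, mul_assoc,
      mul_assoc, hc Y hY (φ.v i)]
  have hι : Function.Injective ι := by
    intro Y Y' h'
    refine Subtype.ext ?_
    rw [hrec _ Y.2, hrec _ Y'.2]
    have h'' : (Y : R) * φ.z = (Y' : R) * φ.z := congrArg Subtype.val h'
    rw [h'']
  have hιs : Function.Surjective ι :=
    (LinearMap.injective_iff_surjective_of_finrank_eq_finrank
      (le_antisymm (LinearMap.finrank_le_finrank_of_injective hι) hdim)).1 hι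
  let crn : R → φ.A := fun b =>
    ⟨∑ i, φ.v i * b * φ.u i, Submodule.sum_mem _ fun i _ => φ.sandwich b i i⟩
  have heps : φ.eps (crn w : R) ≠ 0 := by
    rw [show φ.eps (crn w : R) = (CD.F w).trace from ?_]
    · exact hw
    show CD.F (∑ i, φ.v i * w * φ.u i) φ.o φ.o = _
    rw [map_sum, Matrix.sum_apply, Matrix.trace]
    refine Finset.sum_congr rfl fun i _ => ?_
    rw [map_mul, map_mul, (φ.hu i).2.2, (φ.hv i).2.2, Matrix.single_mul_mul_single]
    simp
  obtain ⟨Yw, hYw⟩ := hιs (crn w)
  have hinj : ∀ Y : Z, (Y : R) * (Yw : R) = 0 → Y = 0 := by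
    intro Y hY
    have h1 : ((ι Y : φ.A) : R) * (crn w : R) = 0 := by
      rw [← hYw]
      show (Y : R) * φ.z * ((Yw : R) * φ.z) = 0
      rw [hc _ Yw.2 φ.z, mul_assoc (Y : R) φ.z, ← mul_assoc φ.z φ.z, φ.hz, ← hc _ Yw.2 φ.z,
        ← mul_assoc, hY, zero_mul]
    set y : R := ((ι Y : φ.A) : R)
    set a : R := (crn w : R)
    have hn : a - φ.eps a • φ.z ∈ φ.N := φ.subN (crn w).2
    have hyn : ∀ j : ℕ, y * (a - φ.eps a • φ.z) ^ j = (-φ.eps a) ^ j • y := by
      intro j
      induction j with
      | zero => simp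
      | succ j ih =>
        rw [pow_succ, ← mul_assoc, ih, smul_mul_assoc, mul_sub, h1, zero_sub, mul_smul_comm,
          φ.right_id (ι Y).2, pow_succ, mul_smul, neg_smul]
    have h2 := hyn (CD.nJ + 1)
    have h3 : (a - φ.eps a • φ.z) ^ (CD.nJ + 1) = 0 := by
      have := Submodule.pow_mem_pow φ.N hn (CD.nJ + 1)
      rwa [φ.N_pow_eq_bot, Submodule.mem_bot] at this
    rw [h3, mul_zero, eq_comm, smul_eq_zero] at h2
    have h4 : y = 0 := h2.resolve_left (pow_ne_zero _ (neg_ne_zero.2 heps))
    exact hι (Subtype.ext (by rw [map_zero]; exact h4))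
  let μ : Z →ₗ[k] Z :=
    { toFun := fun Y => ⟨(Y : R) * (Yw : R), hmul _ Y.2 _ Yw.2⟩
      map_add' := fun Y Y' => Subtype.ext (add_mul _ _ _)
      map_smul' := fun c Y => Subtype.ext (smul_mul_assoc _ _ _) }
  have hμ : Function.Surjective μ :=
    LinearMap.injective_iff_surjective.1 ((injective_iff_map_eq_zero μ).2 fun Y hY =>
      hinj Y (congrArg Subtype.val hY))
  have htrace : ∀ x' ∈ Z, ∀ b, τ (x' * b) = τ (x' * (crn b : R)) := by
    intro x' hx' b
    have e1 : x' * b = ∑ i, φ.u i * (φ.v i * b * x') := by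
      simp only [← mul_assoc]
      rw [← Finset.sum_mul, ← Finset.sum_mul, φ.huv, mul_assoc, ← hc x' hx' b, ← mul_assoc,
        CD.e_comm x', he x' hx']
    show τ (x' * b) = τ (x' * ∑ i, φ.v i * b * φ.u i)
    rw [e1, map_sum, Finset.mul_sum, map_sum]
    refine Finset.sum_congr rfl fun i _ => ?_
    rw [hτ, mul_assoc (φ.v i * b), hc x' hx' (φ.u i), ← mul_assoc (φ.v i * b) (φ.u i) x',
      ← hc x' hx']
  rw [htrace x hx b]
  obtain ⟨Y, hY⟩ := hιs (crn b)
  obtain ⟨Y', rfl⟩ := hμ Y
  rw [← hY]
  show τ (x * ((Y' : R) * (Yw : R) * φ.z)) = 0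
  rw [mul_assoc (Y' : R), ← mul_assoc x,
    show (Yw : R) * φ.z = (crn w : R) from congrArg Subtype.val hYw,
    ← htrace _ (hmul _ hx _ Y'.2) w]
  exact h _ Y'.2

/-- In a block of constant degree the Brauer map at a defect group is injective on the centre. -/
theorem brTrunc_injective (hM : IsPModular p M) {B : Set (IrrCharacter G)} (hB : IsPBlock M B)
    {f : ℕ} (hf : ∀ χ ∈ B, charDegree (χ : G → ℂ) = f) {D : Subgroup G}
    (hD : IsDefGrp p ⊤ (Ek M B) D) {x : MonoidAlgebra (resField M) G} (hx : x ∈ zAlg M B)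
    (h0 : brTrunc D x = 0) : x = 0 := by
  classical
  haveI := Fact.mk hM.1
  haveI : CharP (resField M) p := resField_charP hM
  obtain ⟨S, l, hl1, hl0, hdl, hval, hrk⟩ := exists_sys_single hM hB hf
  let k := resField M
  let E := Ek M B
  have hEc : ∀ b, E * b = b * E := fun b => IsClassElt.comm (isClassElt_Ek B) b
  have hcomm : ∀ Y ∈ zAlg M B, ∀ b, Y * b = b * Y := fun Y hY b => IsClassElt.comm hY.1 b
  let CD : CornerData k (MonoidAlgebra k G) (S.d l) :=
    { e := E
      e_idem := Ek_idem hB
      e_comm := hEc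
      F := comp S.q l
      F_surj := fun X => by
        obtain ⟨y, hy⟩ := S.surj (Pi.single l X)
        exact ⟨y, by rw [comp_apply, hy, Pi.single_eq_same]⟩
      F_e := by rw [comp_apply]; exact hl1
      J := S.J
      nJ := S.N
      J_pow := S.nil
      ker_le := fun y hy => S.ker _ (by
        funext i
        rw [map_mul, Pi.mul_apply, Pi.zero_apply]
        rcases eq_or_ne i l with rfl | hi
        · rw [comp_apply] at hy; rw [hy, zero_mul]
        · rw [hl0 i hi, mul_zero]) }
  obtain ⟨φ⟩ := exists_frame_exact (S.pos l) CD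
  have hA : Module.finrank k φ.A ≤ Module.finrank k (zAlg M B) := by
    have h1 := mul_finrank_corner_le φ
    have h2 : Module.finrank k (LinearMap.range (LinearMap.mulRight k E)) = Nat.card B * (f * f) := by
      rw [finrank_range_mulRight_Ek hB,
        Finset.sum_congr rfl fun χ hχ => by rw [hf χ (Finset.mem_filter.1 hχ).2],
        Finset.sum_const, smul_eq_mul, sq, Nat.card_eq_fintype_card, Fintype.card_subtype]
    rw [h2] at h1
    have hff : S.d l * S.d l = f * f := by rw [hdl]
    have hf0 : 0 < f := hdl ▸ S.pos l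
    rw [finrank_zAlg hB]
    refine Nat.le_of_mul_le_mul_left ?_ (Nat.mul_pos hf0 hf0)
    rw [← hff] at h1 ⊢
    exact h1.trans (le_of_eq (mul_comm _ _))
  -- the corner element of a group element with unit value
  obtain ⟨t, -, ht0, htl, htS⟩ := hD
  have htC : t ∈ Subgroup.centralizer (D : Set G) := by
    rw [top_inf_eq] at htS
    exact le_centralizer_singleton_iff.1 htS.le
  have htr : ¬ p ∣ orderOf t := by
    intro h
    refine ht0 ?_
    rw [coeff_Ek hB, res_eq_zero_iff]
    show MemLocalIdeal M (blockCoeff B t)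
    rw [blockCoeff_eq_zero_of_singular hM hB h]
    exact memLocalIdeal_zero
  obtain ⟨χ₁, hχ₁, hχ10⟩ := exists_heightZero hM hB
  have hu : ¬ MemLocalIdeal M ((χ₁ : G → ℂ) t) := by
    intro h
    rw [classSumIn_top, lam_Ek hB hχ₁ (isClassElt_classSum t), omegaK_classSum, Ne,
      res_eq_zero_iff] at htl
    refine htl ?_
    show MemLocalIdeal M (centralChar (χ₁ : G → ℂ) t)
    rw [centralChar, mul_div_right_comm, irr_one_eq_charDegree χ₁]
    refine MemLocalIdeal.mul_left (memLocalRing_natDiv hM ?_) h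
    rw [top_inf_eq] at htS
    have hDd := card_defectGroup hM hB ((isDefectGroup_iff hB D).2
      ⟨t, Subgroup.mem_top t, ht0, by
        rw [classSumIn_top, lam_Ek hB hχ₁ (isClassElt_classSum t), omegaK_classSum, Ne,
          res_eq_zero_iff]
        exact htl, by rw [top_inf_eq]; exact htS⟩)
    obtain ⟨P, hPe⟩ := exists_sylow_of_isSylowIn htS
    have hPc : Nat.card D = p ^ (Nat.card (Subgroup.centralizer ({t} : Set G))).factorization p := by
      rw [hPe, Subgroup.card_map_of_injective (Subgroup.subtype_injective _)]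
      exact P.card_eq_multiplicity
    have hd := Nat.pow_right_injective hM.1.two_le (hPc.symm.trans hDd)
    have hidx := congrArg (fun m => Nat.factorization m p)
      (Subgroup.centralizer ({t} : Set G)).card_mul_index
    simp only [Nat.factorization_mul Nat.card_pos.ne' Subgroup.index_ne_zero_of_finite,
      Finsupp.add_apply, hd] at hidx
    rw [Cfsg.Agent.BrauerPairs.degExp_eq_add_height hM hB hχ₁, hχ10]
    omega
  let w : MonoidAlgebra k G := MonoidAlgebra.single t 1
  have hwt : (CD.F w).trace ≠ 0 := by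
    obtain ⟨z, hz, hzt⟩ := res_br hM (comp S.q l) htr
    show (comp S.q l (MonoidAlgebra.single t 1)).trace ≠ 0
    rw [← hzt, Ne, res_eq_zero_iff, hz]
    rwa [hval χ₁ hχ₁ t htr] at hu
  -- the form
  let τ : MonoidAlgebra k G →ₗ[k] k :=
    { toFun := fun y => y.coeff 1
      map_add' := fun y z => by simp
      map_smul' := fun c y => by simp }
  have hτc : ∀ y z : MonoidAlgebra k G, τ (y * z) = τ (z * y) := by
    intro y z
    show (y * z).coeff 1 = (z * y).coeff 1
    rw [coeff_mul_univ, coeff_mul_univ]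
    refine Fintype.sum_equiv (Equiv.inv G) _ _ fun g => ?_
    simp [mul_comm]
  have hmulZ : ∀ Y ∈ zAlg M B, ∀ Y' ∈ zAlg M B, Y * Y' ∈ zAlg M B := fun Y hY Y' hY' =>
    ⟨IsClassElt.mul hY.1 hY'.1, by rw [mul_assoc, hY'.2]⟩
  have hzero := trace_form_eq_zero φ (zAlg M B) hcomm (fun Y hY => hY.2) hmulZ hA τ hτc hwt hx
    (fun Y hY => by
      show (x * Y * MonoidAlgebra.single t 1).coeff 1 = 0
      rw [coeff_mul_univ, Finset.sum_eq_single t⁻¹]
      · have hb : brTrunc D (x * Y) = 0 := by
          rw [brTrunc_mul (p := p) htS.pgroup (hx.1.isInvElt D) (hY.1.isInvElt D), h0, zero_mul]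
        have h := congrArg (fun z : MonoidAlgebra k G => z.coeff t⁻¹) hb
        rw [coeff_brTrunc_pos (inv_mem htC)] at h
        rw [h]; simp
      · intro g _ hg
        rw [MonoidAlgebra.coeff_single, Finsupp.single_apply, if_neg, mul_zero]
        intro e
        exact hg (by rw [e]; simp)
      · simp)
  refine gaExt fun g => ?_
  have h := hzero (MonoidAlgebra.single g⁻¹ 1)
  replace h : (x * MonoidAlgebra.single g⁻¹ 1).coeff 1 = 0 := h
  rw [coeff_mul_univ, Finset.sum_eq_single g] at h
  · simpa using h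
  · intro b _ hb
    rw [MonoidAlgebra.coeff_single, Finsupp.single_apply, if_neg, mul_zero]
    intro e
    exact hb (inv_injective (by rw [e]; simp))
  · simp

/-- An element of a block of a centralizer times a central p-element determines the element. -/
theorem single_mul_ne {D : Subgroup G} (hM : IsPModular p M) {e : Set (IrrCharacter (Subgroup.centralizer (D : Set G)))}
    (he : IsPBlock M e) (hD : IsPGroup p D) (hab : D ≤ Subgroup.centralizer (D : Set G))
    {v v' : G} (hv : v ∈ D) (hv' : v' ∈ D) (hne : v' ≠ v) :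
    MonoidAlgebra.single v (1 : resField M) * zB M (Subgroup.centralizer (D : Set G)) e ≠
      MonoidAlgebra.single v' 1 * zB M (Subgroup.centralizer (D : Set G)) e := by
  classical
  haveI := Fact.mk hM.1
  let C := Subgroup.centralizer (D : Set G)
  let z := zB M C e
  have hzb := isBlk_zB (M := M) C he
  obtain ⟨u, hu⟩ : ∃ u, z.coeff u ≠ 0 := by
    by_contra h
    push Not at h
    exact hzb.ne_zero (gaExt fun g => (h g).trans (by simp))
  have hsing : ∀ g : G, p ∣ orderOf g → z.coeff g = 0 := by
    intro g hg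
    by_cases hgC : g ∈ C
    · have hcoe : z.coeff ((⟨g, hgC⟩ : C) : G) = (Ek M e).coeff ⟨g, hgC⟩ :=
        coeff_emb_coe C _ _
      rw [show z.coeff g = z.coeff ((⟨g, hgC⟩ : C) : G) from rfl, hcoe, coeff_Ek he,
        res_eq_zero_iff]
      show MemLocalIdeal M (blockCoeff e ⟨g, hgC⟩)
      rw [blockCoeff_eq_zero_of_singular hM he (by rwa [← Subgroup.orderOf_coe])]
      exact memLocalIdeal_zero
    · exact hzb.inZ.supp g hgC
  have huC : u ∈ C := by
    by_contra h
    exact hu (hzb.inZ.supp u h)
  intro heq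
  have h := congrArg (fun y : MonoidAlgebra (resField M) G => y.coeff (v * u)) heq
  have key : ∀ a : G, (MonoidAlgebra.single a (1 : resField M) * z).coeff (v * u) =
      z.coeff (a⁻¹ * (v * u)) := by
    intro a
    rw [coeff_mul_univ, Finset.sum_eq_single a]
    · simp
    · intro b _ hb
      rw [MonoidAlgebra.coeff_single, Finsupp.single_apply, if_neg (Ne.symm hb), zero_mul]
    · simp
  replace h : (MonoidAlgebra.single v (1 : resField M) * z).coeff (v * u) =
      (MonoidAlgebra.single v' (1 : resField M) * z).coeff (v * u) := h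
  rw [key, key, inv_mul_cancel_left] at h
  refine hu ?_
  rw [h, ← mul_assoc]
  refine hsing _ ?_
  have hc : Commute (v'⁻¹ * v) u := Subgroup.mem_centralizer_iff.1 huC _ (D.mul_mem (D.inv_mem hv') hv)
  have hne1 : v'⁻¹ * v ≠ 1 := fun h => hne (inv_mul_eq_one.1 h)
  obtain ⟨j, hj⟩ := IsPGroup.iff_orderOf.1 hD ⟨_, D.mul_mem (D.inv_mem hv') hv⟩
  rw [← Subgroup.orderOf_coe] at hj
  have hj' : orderOf (v'⁻¹ * v) = p ^ j := hj
  by_contra hreg
  have hpj : j ≠ 0 := fun h0 => hne1 (orderOf_eq_one_iff.1 (by rw [hj', h0, pow_zero]))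
  have hur : ¬ p ∣ orderOf u := fun h => hu (hsing u h)
  have hco : (orderOf (v'⁻¹ * v)).Coprime (orderOf u) := by
    rw [hj']
    exact Nat.Coprime.pow_left j (hM.1.coprime_iff_not_dvd.2 hur)
  exact hreg (by
    rw [hc.orderOf_mul_eq_mul_orderOf_of_coprime hco, hj']
    exact dvd_mul_of_dvd_left (dvd_pow_self p hpj) _)

/-- A block with abelian defect group and constant degree has trivial inertial quotient. -/
theorem stabP_le (hM : IsPModular p M) {B : Set (IrrCharacter G)} (hB : IsPBlock M B)
    {f : ℕ} (hf : ∀ χ ∈ B, charDegree (χ : G → ℂ) = f) {D : Subgroup G}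
    {e : Set (IrrCharacter (Subgroup.centralizer (D : Set G)))} (he : IsPBlock M e)
    (hmax : IsMax p (Ek M B) (D, zB M (Subgroup.centralizer (D : Set G)) e))
    (hab : D ≤ Subgroup.centralizer (D : Set G)) :
    stabP ((D, zB M (Subgroup.centralizer (D : Set G)) e) : Pr (resField M) G) ≤
      Subgroup.centralizer (D : Set G) := by
  classical
  haveI := Fact.mk hM.1
  haveI : CharP (resField M) p := resField_charP hM
  let k := resField M
  let C := Subgroup.centralizer (D : Set G)
  let z := zB M C e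
  have hzb : IsBlk C z := isBlk_zB (M := M) C he
  have hDp : IsPGroup p D := hmax.pair.pgroup
  have hDB := (isDefectGroup_iff hB D).2 hmax.isDef
  have hk : Nat.card B = Nat.card D := by
    rw [card_defectGroup hM hB hDB]
    obtain ⟨-, -, -, -, -, -, hrk⟩ := exists_sys_single hM hB hf
    exact card_eq_defect hM hB hf hrk
  -- the block of the centraliser has at most as many characters
  have hke : Nat.card e ≤ Nat.card D := by
    have hpa := pairOf_self (M := M) he hDp hab rfl
    have hind := induced_of_pairOf hM he hB hpa le_rfl hmax.pairOf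
    have hdg := (abelian_pair hM hDB hab hind).2
    have hde := (isDefectGroup_subgroupOf_iff he hab).2 hdg
    have hcen : D.subgroupOf C ≤ Subgroup.center C := fun a ha =>
      Subgroup.mem_center_iff.2 fun b => Subtype.ext
        (Subgroup.mem_centralizer_iff.1 b.2 _ ha).symm
    have hl := blockRank_eq_one_of_central hM he hde hcen
    obtain ⟨φ, d, -, hd, hsum⟩ := exists_cartan_rank_one hM he hl
    have hcd := card_defectGroup hM he hde
    rw [Nat.card_congr (Subgroup.subgroupOfEquivOfLe hab).toEquiv] at hcd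
    rw [hcd, ← hsum, finsum_mem_eq_finite_toFinset_sum _ (Set.toFinite e), Nat.card_coe_set_eq,
      Set.ncard_eq_toFinset_card _ (Set.toFinite e), Finset.card_eq_sum_ones]
    refine Finset.sum_le_sum fun χ hχ => ?_
    refine Nat.one_le_pow _ _ (Nat.pos_of_ne_zero fun h0 => ?_)
    have := hd χ ((Set.Finite.mem_toFinset _).1 hχ) 1 (by simp [IsPRegular, hM.1.ne_one])
    rw [h0, Nat.cast_zero, zero_mul] at this
    exact irr_one_ne_zero χ this
  -- its centre
  let V : Submodule k (MonoidAlgebra k G) :=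
    { carrier := {y | InZ C y ∧ y * z = y}
      zero_mem' := ⟨⟨fun g _ => by simp, fun u _ g => by simp⟩, zero_mul z⟩
      add_mem' := fun {a b} ha hb => ⟨⟨fun g hg => by
        rw [MonoidAlgebra.coeff_add, Finsupp.add_apply, ha.1.supp g hg, hb.1.supp g hg, add_zero],
        fun u hu g => by
          rw [MonoidAlgebra.coeff_add, Finsupp.add_apply, Finsupp.add_apply, ha.1.inv u hu g,
            hb.1.inv u hu g]⟩, by rw [add_mul, ha.2, hb.2]⟩
      smul_mem' := fun c a ha => ⟨⟨fun g hg => by simp [ha.1.supp g hg],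
        fun u hu g => by simp [ha.1.inv u hu g]⟩, by rw [smul_mul_assoc, ha.2]⟩ }
  have hV : Module.finrank k V ≤ Nat.card D := by
    refine le_trans ?_ hke
    let b := Module.finBasis k V
    let rs : Fin (Module.finrank k V) → MonoidAlgebra k C := fun j =>
      restr C (b j : MonoidAlgebra k G)
    have hemb : ∀ j, emb C (rs j) = (b j : MonoidAlgebra k G) := fun j =>
      emb_restr fun g hg => (b j).2.1.supp g hg
    have h := card_le_of_central_indep he rs (fun j => InZ.isClassElt_restr (b j).2.1) (fun j => by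
      refine emb_injective C ?_
      rw [map_mul, hemb]
      exact (b j).2.2) ?_
    · simpa using h
    rw [Fintype.linearIndependent_iff]
    intro c hc i
    have h2 := congrArg (emb C) hc
    rw [map_sum, map_zero] at h2
    simp only [emb_smul, hemb] at h2
    exact Fintype.linearIndependent_iff.1
      (b.linearIndependent.map' V.subtype (Submodule.ker_subtype _)) c h2 i
  -- the fixed part of the centre
  intro g hg
  let W : Submodule k (MonoidAlgebra k G) :=
    V ⊓ LinearMap.eqLocus (cj (k := k) g).toLinearMap LinearMap.id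
  have hgD : cjS g D = D := cjS_eq_of_mem_normalizer (mem_stabP.1 hg).1
  have hgz : cj g z = z := (mem_stabP.1 hg).2
  have hψmem : ∀ x ∈ zAlg M B, brTrunc D x * z ∈ W := by
    intro x hx
    have hbr : InZ C (brTrunc D x) := by
      have h := ((isClassElt_iff_inZ_top.2 hx.1).brTrunc D)
      rwa [top_inf_eq] at h
    refine ⟨⟨hbr.mul hzb.inZ, by rw [mul_assoc, hzb.idem]⟩, ?_⟩
    show cj g (brTrunc D x * z) = brTrunc D x * z
    rw [map_mul, hgz, cj_brTrunc, hgD,
      isInvElt_iff_cj.1 (hx.1.isInvElt (⊤ : Subgroup G)) g (Subgroup.mem_top g)]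
  let Ψ : zAlg M B →ₗ[k] W :=
    { toFun := fun x => ⟨brTrunc D (x : MonoidAlgebra k G) * z, hψmem _ x.2⟩
      map_add' := fun x y => Subtype.ext (by
        show brTrunc D ((x : MonoidAlgebra k G) + (y : MonoidAlgebra k G)) * z = brTrunc D (x : MonoidAlgebra k G) * z +
          brTrunc D (y : MonoidAlgebra k G) * z
        rw [← add_mul]
        congr 1
        refine gaExt fun a => ?_
        simp [coeff_brTrunc, ite_add_ite])
      map_smul' := fun c x => Subtype.ext (by
        show brTrunc D (c • (x : MonoidAlgebra k G)) * z =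
          c • (brTrunc D (x : MonoidAlgebra k G) * z)
        rw [← smul_mul_assoc]
        congr 1
        refine gaExt fun a => ?_
        simp [coeff_brTrunc]) }
  have hΨ : Function.Injective Ψ := (injective_iff_map_eq_zero Ψ).2 fun x hx0 => by
    refine Subtype.ext (brTrunc_injective hM hB hf hmax.isDef x.2 ?_)
    have h0 : brTrunc D (x : MonoidAlgebra k G) * z = 0 := congrArg Subtype.val hx0
    have hEinv : IsInvElt D (Ek M B) := IsClassElt.isInvElt (isClassElt_Ek B) D
    have hxe : brTrunc D (x : MonoidAlgebra k G) =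
        brTrunc D (x : MonoidAlgebra k G) * brTrunc D (Ek M B) := by
      rw [← brTrunc_mul hDp (IsClassElt.isInvElt x.2.1 D) hEinv, x.2.2]
    rw [hxe, ← mul_one (brTrunc D (Ek M B)), ← sum_blks (⊤ ⊓ C), Finset.mul_sum, Finset.mul_sum]
    refine Finset.sum_eq_zero fun w hw => ?_
    have hwb := isBlk_of_mem hw
    rcases hwb.prim (brTrunc D (Ek M B)) ((isBlk_Ek hB).inZ.brTrunc D)
      (by rw [← brTrunc_mul hDp hEinv hEinv, Ek_idem hB]) with h | h
    · rw [h, mul_zero]
    · rw [h]
      have hp : IsPairOf p ⊤ (Ek M B) (D, w) := ⟨⟨hDp, le_top, hwb⟩, isBlk_Ek hB, h⟩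
      obtain ⟨n, -, hn⟩ := exists_conj_defect_pair hp hmax.pairOf hmax.isDef hmax.isDef
      have hnz : cj n z = w := congrArg Prod.snd hn
      have hnD : cjS n D = D := congrArg Prod.fst hn
      have h2 := congrArg (cj n) h0
      rwa [map_mul, hnz, cj_brTrunc, hnD,
        isInvElt_iff_cj.1 (x.2.1.isInvElt (⊤ : Subgroup G)) n (Subgroup.mem_top n), map_zero] at h2
  have hdim : Module.finrank k V ≤ Module.finrank k W := by
    have h := LinearMap.finrank_le_finrank_of_injective hΨ
    rw [finrank_zAlg hB, hk] at h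
    exact hV.trans h
  have hWV : W = V := Submodule.eq_of_le_of_finrank_le inf_le_left hdim
  rw [Subgroup.mem_centralizer_iff]
  intro v hv
  have hvmem : MonoidAlgebra.single v (1 : k) * z ∈ V := by
    refine ⟨⟨fun a ha => ?_, fun u hu a => ?_⟩, by rw [mul_assoc, hzb.idem]⟩
    · rw [coeff_mul_univ, Finset.sum_eq_single v]
      · rw [hzb.inZ.supp _ fun h => ha ?_, mul_zero]
        have h2 := C.mul_mem (hab hv) h
        rwa [mul_inv_cancel_left] at h2
      · intro b _ hb
        rw [MonoidAlgebra.coeff_single, Finsupp.single_apply, if_neg (Ne.symm hb), zero_mul]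
      · simp
    · have huv : v * u = u * v := Subgroup.mem_centralizer_iff.1 hu v hv
      have key : ∀ a : G, (MonoidAlgebra.single v (1 : k) * z).coeff a = z.coeff (v⁻¹ * a) := by
        intro a
        rw [coeff_mul_univ, Finset.sum_eq_single v]
        · simp
        · intro b _ hb
          rw [MonoidAlgebra.coeff_single, Finsupp.single_apply, if_neg (Ne.symm hb), zero_mul]
        · simp
      rw [key, key, show v⁻¹ * (u * a * u⁻¹) = u * (v⁻¹ * a) * u⁻¹ by
        have h3 : v⁻¹ * u = u * v⁻¹ := by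
          rw [inv_mul_eq_iff_eq_mul, ← mul_assoc, huv, mul_inv_cancel_right]
        rw [← mul_assoc, ← mul_assoc, h3]; group]
      exact hzb.inZ.inv u hu _
  rw [← hWV] at hvmem
  have hfix : cj g (MonoidAlgebra.single v (1 : k) * z) = MonoidAlgebra.single v 1 * z := hvmem.2
  have hcs : cj g (MonoidAlgebra.single v (1 : k)) = MonoidAlgebra.single (g * v * g⁻¹) 1 := by
    refine gaExt fun a => ?_
    rw [coeff_cj, MonoidAlgebra.coeff_single, MonoidAlgebra.coeff_single, Finsupp.single_apply,
      Finsupp.single_apply]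
    refine if_congr ⟨fun h => ?_, fun h => ?_⟩ rfl rfl
    · rw [h]; group
    · rw [← h]; group
  rw [map_mul, hgz, hcs] at hfix
  have hgv : g * v * g⁻¹ ∈ D := by
    rw [← hgD, mem_cjS]
    simpa [mul_assoc] using hv
  by_contra hne
  exact single_mul_ne hM he hDp hab hv hgv (fun h => hne (mul_inv_eq_iff_eq_mul.1 h).symm)
    hfix.symm

end Cfsg.Agent.EqualDeg
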