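import Cfsg.Agent.Lib.Blocks.SubsectionRow
import Cfsg.Agent.Lib.Char.Integral

/-!
Faithful characters of prime-power degree bound the defect of their block.
-/

set_option linter.unusedSectionVars false
set_option linter.style.haveILetI false

namespace Cfsg.Agent.BrauerPairs

open Cfsg Cfsg.Agent.Blocks Cfsg.Agent.Char

universe u

variable {G : Type u} [Group G] [Fintype G] {p : ℕ} {M : Ideal AlgInt} [M.IsPrime]

theorem eq_zero_of_coprime_class (hZ : Subgroup.center G = ⊥) (χ : IrrCharacter G)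
    (hfaith : ∀ g : G, (χ : G → ℂ) g = (χ : G → ℂ) 1 → g = 1) {g : G} (hg : g ≠ 1)
    (hcop : Nat.Coprime (charDegree (χ : G → ℂ)) (Subgroup.centralizer ({g} : Set G)).index) :
    (χ : G → ℂ) g = 0 := by
  obtain ⟨n, ρ, hρ, hc⟩ := χ.2
  haveI := hρ
  have h1 : (χ : G → ℂ) 1 = (n : ℂ) := by simp [← hc, Representation.char_one]
  have hn : charDegree (χ : G → ℂ) = n := by simp [charDegree, h1]
  rcases eq_zero_or_norm_eq ρ g (by simpa [hn] using hcop) with h | h
  · rwa [← hc]
  obtain ⟨ω, hω⟩ := (norm_char_eq_iff ρ g).1 h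
  refine absurd ?_ hg
  have hmem : g ∈ Subgroup.center G := Subgroup.mem_center_iff.2 fun k => by
    refine mul_inv_eq_one.1 (hfaith _ ?_)
    have hid : ρ (k * g * (g * k)⁻¹) = LinearMap.id := by
      have hcom : ρ (k * g) = ρ (g * k) := by
        rw [map_mul, map_mul, hω]; ext v; simp
      rw [map_mul ρ (k * g), hcom, ← map_mul, mul_inv_cancel, map_one, Module.End.one_eq_id]
    rw [← hc, (char_eq_degree_iff ρ _).2 hid, Representation.char_one]
  rwa [hZ, Subgroup.mem_bot] at hmem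

theorem blockDefect_le_sub_center (hM : IsPModular p M) (hZ : Subgroup.center G = ⊥)
    (P : Sylow p G) {b : ℕ} (hb : Nat.card (Subgroup.center (P : Subgroup G)) = p ^ b)
    (χ : IrrCharacter G) (hfaith : ∀ g : G, (χ : G → ℂ) g = (χ : G → ℂ) 1 → g = 1) {n : ℕ}
    (hdeg : charDegree (χ : G → ℂ) = p ^ n) :
    blockDefect p (blockOf M (χ : G → ℂ)) ≤ (Nat.card G).factorization p - b := by
  classical
  haveI : Fact p.Prime := ⟨hM.1⟩
  set B := blockOf M (χ : G → ℂ) with hBdef
  have hB : IsPBlock M B := isPBlock_blockOf χ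
  obtain ⟨θ, hθ, h0⟩ := exists_heightZero hM hB
  have hle := blockDefect_le (p := p) B
  suffices hv : b ≤ (charDegree (θ : G → ℂ)).factorization p by
    have hge := degExp_ge hM hB hθ
    rw [blockHeight, sInf_degExp_eq' hM hB] at h0
    omega
  by_contra hlt
  obtain ⟨Z, hZdef⟩ : ∃ Z, Z = (Subgroup.center (P : Subgroup G)).map (P : Subgroup G).subtype :=
    ⟨_, rfl⟩
  have hZcard : Nat.card Z = p ^ b := by
    rw [hZdef, Subgroup.card_map_of_injective Subtype.val_injective, hb]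
  have hsmall : ∀ y : Z, y ≠ 1 → MemLocalIdeal M ((θ : G → ℂ) y / (θ : G → ℂ) 1) := by
    intro y hy
    have hPC : (P : Subgroup G) ≤ Subgroup.centralizer ({(y : G)} : Set G) := fun q hq => by
      obtain ⟨y', hy', hyy⟩ := hZdef.le y.2
      refine Subgroup.mem_centralizer_singleton_iff.2 ?_
      rw [← hyy]
      exact congrArg Subtype.val (Subgroup.mem_center_iff.1 hy' ⟨q, hq⟩)
    have hidx : ¬ p ∣ (Subgroup.centralizer ({(y : G)} : Set G)).index := fun h =>
      P.not_dvd_index (h.trans (Subgroup.index_dvd_of_le hPC))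
    have hχy : (χ : G → ℂ) y = 0 := eq_zero_of_coprime_class hZ χ hfaith
      (fun h => hy (Subtype.ext h)) (hdeg ▸ (Nat.Coprime.pow_left n (hM.1.coprime_iff_not_dvd.2 hidx)))
    have h1 := (isPBlock_sameBlock hB hθ (self_mem_blockOf χ)) (y : G)
    rw [centralChar, centralChar, hχy, mul_zero, zero_div, sub_zero, mul_div_assoc] at h1
    have := MemLocalIdeal.mul_left (inv_natCast_memLocalRing hM hidx) h1
    rwa [← mul_assoc, inv_mul_cancel₀ (Nat.cast_ne_zero.2 Subgroup.index_ne_zero_of_finite),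
      one_mul] at this
  haveI : Fintype Z := Fintype.ofFinite Z
  obtain ⟨m, -, hm⟩ := exists_mults Z θ
  have hsum : ∑ y : Z, (θ : G → ℂ) y = ((p ^ b * m (principal Z) : ℕ) : ℂ) := by
    have h := hm (principal Z)
    rw [classInner] at h
    simp only [principal, map_one, mul_one] at h
    rw [inv_mul_eq_iff_eq_mul₀ (Nat.cast_ne_zero.2 Nat.card_pos.ne'), hZcard] at h
    rw [h, Nat.cast_mul]; rfl
  have hd0 : ((charDegree (θ : G → ℂ) : ℕ) : ℂ) ≠ 0 := Nat.cast_ne_zero.2 (charDegree_pos θ).ne'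
  have hrest : MemLocalIdeal M
      (∑ y ∈ (Finset.univ : Finset Z).erase 1, (θ : G → ℂ) y / (θ : G → ℂ) 1) :=
    memLocalIdeal_sum _ _ fun y hy => hsmall y (Finset.ne_of_mem_erase hy)
  have hq : MemLocalIdeal M (((p ^ b * m (principal Z) : ℕ) : ℂ) / (charDegree (θ : G → ℂ) : ℂ)) := by
    obtain ⟨u, hu⟩ : ∃ u, u = charDegree (θ : G → ℂ) / p ^ (charDegree (θ : G → ℂ)).factorization p :=
      ⟨_, rfl⟩
    have hprod : p ^ (charDegree (θ : G → ℂ)).factorization p * u = charDegree (θ : G → ℂ) :=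
      hu ▸ Nat.ordProj_mul_ordCompl_eq_self _ _
    have hup : ¬ p ∣ u := hu ▸ Nat.not_dvd_ordCompl hM.1 (charDegree_pos θ).ne'
    obtain ⟨v, hv⟩ : ∃ v, v = (charDegree (θ : G → ℂ)).factorization p := ⟨_, rfl⟩
    rw [← hv] at hprod hlt
    obtain ⟨c, hc⟩ : ∃ c, b = v + 1 + c := ⟨b - v - 1, by omega⟩
    have h1 : MemLocalIdeal M ((p : ℂ) * ((p ^ c * m (principal Z) : ℕ) : ℂ) * (u : ℂ)⁻¹) :=
      MemLocalIdeal.mul_right (MemLocalIdeal.mul_right ((natCast_memLocalIdeal_iff hM p).2 dvd_rfl)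
        (mem_locRing.1 (natCast_mem (locRing M) _))) (inv_natCast_memLocalRing hM hup)
    convert h1 using 1
    have hu0 : (u : ℂ) ≠ 0 := Nat.cast_ne_zero.2 fun h => hup (h ▸ dvd_zero p)
    have hp0 : (p : ℂ) ≠ 0 := Nat.cast_ne_zero.2 hM.1.ne_zero
    rw [← hprod, hc]
    push_cast
    field_simp
    ring
  refine not_memLocalIdeal_one (M := M) ?_
  have e := Finset.add_sum_erase (Finset.univ : Finset Z)
    (fun y : Z => (θ : G → ℂ) y / (θ : G → ℂ) 1) (Finset.mem_univ 1)
  rw [← Finset.sum_div (Finset.univ : Finset Z) _ ((θ : G → ℂ) 1), hsum, Subgroup.coe_one,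
    div_self (irr_one_ne_zero θ)] at e
  rw [← irr_one_eq_charDegree] at hq
  have := MemLocalIdeal.sub hq hrest
  rwa [← e, add_sub_cancel_right] at this

end Cfsg.Agent.BrauerPairs
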