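import Cfsg.Agent.Lib.Char.Induction
import Cfsg.Agent.Lib.Char.Complete
import Mathlib.RingTheory.Valuation.LocalSubring
import Mathlib.RingTheory.Nakayama
import Mathlib.GroupTheory.Sylow
import Cfsg.Prelude.Def_Blocks

/-!
A non-trivial irreducible representation with a vector fixed by a subgroup controlling a TI Sylow
subgroup has degree at least the order of the Sylow subgroup.
-/

set_option linter.unusedSectionVars false
set_option linter.style.haveILetI false

namespace Cfsg.Agent.BrauerPairs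

open Cfsg Cfsg.Agent.Char IsLocalRing
open scoped ComplexConjugate Pointwise

universe u

/-- There is a valuation ring of the complex numbers in which a given prime is not a unit. -/
theorem exists_valuationSubring_prime {p : ℕ} (hp : p.Prime) :
    ∃ V : ValuationSubring ℂ, (p : V) ∈ maximalIdeal V := by
  set A : Subring ℂ := (Int.castRingHom ℂ).range with hA
  have hI : Ideal.span {(p : A)} ≠ ⊤ := fun h => by
    obtain ⟨⟨a, m, rfl⟩, ha⟩ := Ideal.mem_span_singleton'.1 ((Ideal.eq_top_iff_one _).1 h)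
    have h1 : (((m * p : ℤ)) : ℂ) = ((1 : ℤ) : ℂ) := by
      have := congrArg Subtype.val ha
      push_cast at this ⊢
      simpa using this
    have h2 : m * (p : ℤ) = 1 := Int.cast_inj.1 h1
    have := Int.eq_one_of_dvd_one (by positivity) (Dvd.intro_left m h2)
    exact hp.ne_one (by exact_mod_cast this)
  obtain ⟨V, -, hV⟩ := Ideal.image_subset_nonunits_valuationSubring _ hI
  refine ⟨V, ?_⟩
  have h := hV ⟨(p : A), Ideal.subset_span rfl, rfl⟩
  rw [← V.image_maximalIdeal] at h
  obtain ⟨q, hq, e⟩ := h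
  rwa [show (p : V) = q from Subtype.ext (by simpa using e.symm)]

/-- An orbit of a `p`-group with sum outside the maximal ideal is linearly independent. -/
theorem card_le_of_orbit_sum {p n : ℕ} [Fact p.Prime] {P : Type*} [Group P] [Fintype P]
    (hP : IsPGroup p P) (V : ValuationSubring ℂ) (hpV : (p : V) ∈ maximalIdeal V)
    (M : Submodule V (Fin n → ℂ)) (σ : Representation ℂ P (Fin n → ℂ))
    (hσM : ∀ x, ∀ m ∈ M, σ x m ∈ M) {w : Fin n → ℂ} (hw : w ∈ M)
    (hne : ∑ x, σ x w ∉ maximalIdeal V • M) : Fintype.card P ≤ n := by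
  classical
  set N := maximalIdeal V • M with hN
  have hσN : ∀ x, ∀ m ∈ N, σ x m ∈ N := fun x m hm => by
    refine Submodule.smul_induction_on hm (fun r hr m hm => ?_) fun a b ha hb => ?_
    · have h : σ x (r • m) = r • σ x m := ((σ x).restrictScalars V).map_smul r m
      rw [h]
      exact Submodule.smul_mem_smul hr (hσM x m hm)
    · rw [map_add]; exact add_mem ha hb
  suffices hli : LinearIndependent ℂ fun x => σ x w by
    simpa using hli.fintype_card_le_finrank
  rw [Fintype.linearIndependent_iff]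
  intro c hc
  by_contra hne0
  push Not at hne0
  obtain ⟨x₀, -, hmax⟩ := Finset.exists_max_image Finset.univ (fun x => V.valuation (c x))
    Finset.univ_nonempty
  have hx₀ : c x₀ ≠ 0 := by
    intro h
    obtain ⟨i, hi⟩ := hne0
    have := hmax i (Finset.mem_univ _)
    rw [h, map_zero, le_zero_iff, map_eq_zero] at this
    exact hi this
  have ha : ∀ x, c x * (c x₀)⁻¹ ∈ V := fun x => by
    rw [← ValuationSubring.valuation_le_one_iff, map_mul, map_inv₀]
    refine (mul_inv_le_iff₀ (zero_lt_iff.2 ((map_ne_zero _).2 hx₀))).2 ?_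
    rw [one_mul]; exact hmax x (Finset.mem_univ _)
  have hp0 : ((p : ℕ) : ResidueField V) = 0 := by
    rw [← map_natCast (residue V), residue_eq_zero_iff]; exact hpV
  haveI : CharP (ResidueField V) p := (CharP.charP_iff_prime_eq_zero Fact.out).2 hp0
  -- the relations modulo the maximal ideal
  let T : Submodule V (P → V) :=
    { carrier := {a | ∑ x, a x • σ x w ∈ N}
      zero_mem' := by simp
      add_mem' := fun {a b} h1 h2 => by
        simpa [add_smul, Finset.sum_add_distrib] using add_mem h1 h2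
      smul_mem' := fun t a h1 => by
        simpa [Finset.smul_sum, mul_smul] using N.smul_mem t h1 }
  let a₀ : P → V := fun x => ⟨_, ha x⟩
  have ha₀ : a₀ ∈ T := by
    show ∑ x, a₀ x • σ x w ∈ N
    have e : ∑ x, a₀ x • σ x w = (c x₀)⁻¹ • ∑ x, c x • σ x w := by
      rw [Finset.smul_sum]
      exact Finset.sum_congr rfl fun x _ => by
        rw [smul_smul, mul_comm]; rfl
    rw [e, hc, smul_zero]; exact zero_mem _
  have hshift : ∀ (y : P), ∀ a ∈ T, (fun x => a (y * x)) ∈ T := by
    intro y a hat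
    show ∑ x, a (y * x) • σ x w ∈ N
    have e : ∑ x, a (y * x) • σ x w = σ y⁻¹ (∑ z, a z • σ z w) := by
      rw [map_sum]
      refine Fintype.sum_equiv (Equiv.mulLeft y) _ _ fun x => ?_
      have h : ∀ (t : V) (m : Fin n → ℂ), σ y⁻¹ (t • m) = t • σ y⁻¹ m := fun t m =>
        ((σ y⁻¹).restrictScalars V).map_smul t m
      rw [Equiv.coe_mulLeft, h, ← Module.End.mul_apply, ← map_mul, inv_mul_cancel_left]
    rw [e]; exact hσN _ _ hat
  -- the finite group spanned by the translates
  let Φ : (P → ZMod p) →+ (P → ResidueField V) :=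
    AddMonoidHom.mk' (fun t z => ∑ y, (ZMod.castHom dvd_rfl (ResidueField V)) (t y) * residue V (a₀ (y * z)))
      fun t t' => by ext z; simp [add_mul, Finset.sum_add_distrib]
  haveI hfin : Finite Φ.range := Finite.of_surjective _ Φ.rangeRestrict_surjective
  have hmem : (fun z => residue V (a₀ z)) ∈ Φ.range := by
    refine ⟨Pi.single 1 1, funext fun z => ?_⟩
    show ∑ y, _ = _
    rw [Finset.sum_eq_single 1 (fun y _ hy => by simp [Pi.single_eq_of_ne hy])
      (fun h => absurd (Finset.mem_univ _) h)]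
    simp
  have hne1 : (fun z => residue V (a₀ z)) ≠ 0 := fun h => by
    have h1 := congrFun h x₀
    have h2 : a₀ x₀ = 1 := Subtype.ext (mul_inv_cancel₀ hx₀)
    rw [h2, map_one] at h1
    exact one_ne_zero h1
  have hdvd : p ∣ Nat.card Φ.range := by
    have h1 : Nat.card Φ.range ∣ p ^ Fintype.card P := by
      have := AddSubgroup.card_dvd_of_surjective _ Φ.rangeRestrict_surjective
      simpa [Nat.card_fun, Nat.card_zmod] using this
    obtain ⟨i, -, hi⟩ := (Nat.dvd_prime_pow (Fact.out : p.Prime)).1 h1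
    rcases i with _ | i
    · exfalso
      rw [pow_zero, Nat.card_eq_one_iff_unique] at hi
      exact hne1 (congrArg Subtype.val (hi.1.allEq ⟨_, hmem⟩ ⟨0, zero_mem _⟩))
    · rw [hi]; exact dvd_pow_self p (Nat.succ_ne_zero i)
  have hact : ∀ (g : P), ∀ b ∈ Φ.range, (fun z => b (g⁻¹ * z)) ∈ Φ.range := by
    rintro g _ ⟨t, rfl⟩
    refine ⟨fun y => t (y * g), funext fun z => ?_⟩
    refine Fintype.sum_equiv (Equiv.mulRight g) _ _ fun y => ?_
    simp [mul_assoc]
  letI : MulAction P Φ.range :=
    { smul := fun g b => ⟨fun z => (b : P → ResidueField V) (g⁻¹ * z), hact g b b.2⟩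
      one_smul := fun b => Subtype.ext (funext fun z => by
        show (b : P → ResidueField V) (1⁻¹ * z) = _; rw [inv_one, one_mul])
      mul_smul := fun g h b => Subtype.ext (funext fun z => by
        show (b : P → ResidueField V) ((g * h)⁻¹ * z) = (b : P → ResidueField V) (h⁻¹ * (g⁻¹ * z))
        rw [mul_inv_rev, mul_assoc]) }
  obtain ⟨b, hb, hb0⟩ := hP.exists_fixed_point_of_prime_dvd_card_of_fixed_point Φ.range hdvd
    (a := ⟨0, zero_mem _⟩) (fun g => Subtype.ext (funext fun z => rfl))
  obtain ⟨t, ht⟩ := b.2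
  have hconst : ∀ z, (b : P → ResidueField V) z = (b : P → ResidueField V) 1 := fun z => by
    have h1 := congrFun (congrArg Subtype.val (hb z)) z
    have h2 : ((z • b : Φ.range) : P → ResidueField V) z = (b : P → ResidueField V) (z⁻¹ * z) := rfl
    rw [h2, inv_mul_cancel] at h1
    exact h1.symm
  have hb1 : (b : P → ResidueField V) 1 ≠ 0 := fun h =>
    hb0 (Subtype.ext (funext fun z => ((hconst z).trans h).symm))
  obtain ⟨u, hu⟩ := residue_surjective ((b : P → ResidueField V) 1)⁻¹
  choose l hl using fun y : P =>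
    residue_surjective (R := V) (ZMod.castHom dvd_rfl (ResidueField V) (t y))
  have hsum : (fun z => ∑ y, u * l y * a₀ (y * z)) ∈ T := by
    have e : (fun z => ∑ y, u * l y * a₀ (y * z)) = ∑ y, (u * l y) • (fun z => a₀ (y * z)) := by
      ext z; simp
    rw [e]
    exact sum_mem fun y _ => T.smul_mem _ (hshift y _ ha₀)
  refine hne ?_
  have hone : ∀ z, residue V (∑ y, u * l y * a₀ (y * z) - 1) = 0 := fun z => by
    simp only [map_sub, map_sum, map_mul, map_one, hu, hl, mul_assoc, ← Finset.mul_sum]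
    have h1 := congrFun ht z
    rw [hconst z] at h1
    change ∑ y, _ = _ at h1
    rw [h1, inv_mul_cancel₀ hb1, sub_self]
  have h3 : ∑ z, (∑ y, u * l y * a₀ (y * z) - 1) • σ z w ∈ N :=
    sum_mem fun z _ => Submodule.smul_mem_smul ((residue_eq_zero_iff _).1 (hone z)) (hσM z w hw)
  have h4 := sub_mem (show ∑ z, (∑ y, u * l y * a₀ (y * z)) • σ z w ∈ N from hsum) h3
  rw [← Finset.sum_sub_distrib] at h4
  simpa [sub_smul] using h4

variable {G : Type u} [Group G] [Fintype G]

/-- A fixed vector of a subgroup containing a Sylow subgroup with regular orbits elsewhere forces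
a large degree. -/
theorem card_le_of_fixed {p n : ℕ} [Fact p.Prime] (P : Sylow p G) (H : Subgroup G)
    (hPH : (P : Subgroup G) ≤ H)
    (hfree : ∀ g : G, g ∉ H → ∀ x ∈ (P : Subgroup G), g⁻¹ * x * g ∈ H → x = 1)
    (ρ : Representation ℂ G (Fin n → ℂ)) (hE : ∀ z, ∑ g, ρ g z = 0)
    {v : Fin n → ℂ} (hv : v ≠ 0) (hfix : ∀ h ∈ H, ρ h v = v) :
    Nat.card (P : Subgroup G) ≤ n := by
  classical
  obtain ⟨V, hpV⟩ := exists_valuationSubring_prime (Fact.out : p.Prime)
  haveI : Fintype (G ⧸ H) := Fintype.ofFinite _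
  haveI : Fintype (P : Subgroup G) := Fintype.ofFinite _
  let F : G ⧸ H → (Fin n → ℂ) := Quotient.lift (fun g => ρ g v) fun g g' hgg => by
    have h1 : g⁻¹ * g' ∈ H := QuotientGroup.leftRel_apply.1 hgg
    show ρ g v = ρ g' v
    conv_lhs => rw [← hfix _ h1]
    rw [← Module.End.mul_apply, ← map_mul, mul_inv_cancel_left]
  have hF : ∀ g : G, F (g : G ⧸ H) = ρ g v := fun g => rfl
  have hFsum : ∑ q, F q = 0 := by
    have h1 : ∑ g : G, F (g : G ⧸ H) = (Nat.card H : ℂ) • ∑ q, F q := by
      rw [← Finset.sum_fiberwise (Finset.univ : Finset G) (fun g : G => (g : G ⧸ H)), Finset.smul_sum]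
      refine Finset.sum_congr rfl fun q _ => ?_
      rw [Finset.sum_congr rfl (g := fun _ => F q) fun g hg => by
        rw [(Finset.mem_filter.1 hg).2], Finset.sum_const, ← Nat.cast_smul_eq_nsmul ℂ]
      congr 2
      rw [← Fintype.card_subtype, ← Nat.card_eq_fintype_card]
      obtain ⟨g, rfl⟩ := QuotientGroup.mk_surjective q
      refine Nat.card_congr ((Equiv.mulLeft g⁻¹).subtypeEquiv fun a => ?_)
      rw [Equiv.coe_mulLeft, QuotientGroup.eq, ← H.inv_mem_iff, mul_inv_rev, inv_inv]
    simp only [hF, hE] at h1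
    exact (smul_eq_zero.1 h1.symm).resolve_left (Nat.cast_ne_zero.2 Nat.card_pos.ne')
  let orb := MulAction.orbitRel (P : Subgroup G) (G ⧸ H)
  let R : Finset (G ⧸ H) := ((Finset.univ : Finset (G ⧸ H)).filter
    fun q => q ≠ ((1 : G) : G ⧸ H)).image fun q => (Quotient.mk orb q).out
  have hbase : ∀ x : (P : Subgroup G), x • ((1 : G) : G ⧸ H) = ((1 : G) : G ⧸ H) := fun x => by
    show (((x : G) * 1 : G) : G ⧸ H) = _
    rw [mul_one]
    exact QuotientGroup.eq.2 (by simpa using hPH x.2)
  have hout : ∀ q, ∃ x : (P : Subgroup G), x • (Quotient.mk orb q).out = q := fun q => by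
    have h := Quotient.exact (Quotient.out_eq (Quotient.mk orb q)).symm
    exact h
  have hne : ∀ r ∈ R, r ≠ ((1 : G) : G ⧸ H) := by
    intro r hr hr1
    obtain ⟨q, hq, rfl⟩ := Finset.mem_image.1 hr
    obtain ⟨x, hx⟩ := hout q
    rw [hr1, hbase] at hx
    exact (Finset.mem_filter.1 hq).2 hx.symm
  have hsum : ∑ q ∈ (Finset.univ : Finset (G ⧸ H)).erase ((1 : G) : G ⧸ H), F q =
      ∑ x : (P : Subgroup G), ρ (x : G) (∑ r ∈ R, F r) := by
    have hlin : ∀ x : (P : Subgroup G), ρ (x : G) (∑ r ∈ R, F r) = ∑ r ∈ R, F (x • r) := fun x => by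
      rw [map_sum]
      refine Finset.sum_congr rfl fun r _ => ?_
      obtain ⟨g, rfl⟩ := QuotientGroup.mk_surjective r
      show ρ (x : G) (F (g : G ⧸ H)) = F (((x : G) * g : G) : G ⧸ H)
      rw [hF, hF, map_mul]
      rfl
    simp only [hlin]
    rw [← Finset.sum_product']
    symm
    refine Finset.sum_bij (fun z _ => z.1 • z.2) (fun z hz => ?_) (fun z hz z' hz' e => ?_)
      (fun q hq => ?_) (fun _ _ => rfl)
    · refine Finset.mem_erase.2 ⟨fun h => hne _ (Finset.mem_product.1 hz).2 ?_, Finset.mem_univ _⟩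
      rw [← inv_smul_smul z.1 z.2, h, hbase]
    · obtain ⟨x, r⟩ := z
      obtain ⟨x', r'⟩ := z'
      simp only at e
      have hr : r ∈ R := (Finset.mem_product.1 hz).2
      have hr' : r' ∈ R := (Finset.mem_product.1 hz').2
      have hrr : r = r' := by
        obtain ⟨q, -, hq⟩ := Finset.mem_image.1 hr
        obtain ⟨q', -, hq'⟩ := Finset.mem_image.1 hr'
        have h1 : Quotient.mk orb r = Quotient.mk orb r' := Quotient.sound
          ⟨x⁻¹ * x', show (x⁻¹ * x') • r' = r by rw [mul_smul, ← e, inv_smul_smul]⟩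
        rw [← hq, ← hq', Quotient.out_eq, Quotient.out_eq] at h1
        rw [← hq, ← hq', h1]
      subst hrr
      refine Prod.ext ?_ rfl
      obtain ⟨g, rfl⟩ := QuotientGroup.mk_surjective r
      have hg : g ∉ H := fun h => hne _ hr (QuotientGroup.eq.2 (by simpa using h))
      have h2 : (x'⁻¹ * x) • ((g : G) : G ⧸ H) = g := by rw [mul_smul, e, inv_smul_smul]
      replace h2 : (((((x'⁻¹ * x : (P : Subgroup G)) : G) * g : G)) : G ⧸ H) = (g : G ⧸ H) := h2
      rw [QuotientGroup.eq] at h2
      have h3 := hfree g hg ((x'⁻¹ * x : (P : Subgroup G)) : G) (x'⁻¹ * x).2 (by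
        simpa [mul_assoc] using H.inv_mem h2)
      exact (inv_mul_eq_one.1 (Subtype.ext h3)).symm
    · obtain ⟨x, hx⟩ := hout q
      exact ⟨(x, _), Finset.mem_product.2 ⟨Finset.mem_univ _, Finset.mem_image.2
        ⟨q, Finset.mem_filter.2 ⟨Finset.mem_univ _, (Finset.mem_erase.1 hq).1⟩, rfl⟩⟩, hx⟩
  set M : Submodule V (Fin n → ℂ) := Submodule.span V (Set.range fun g => ρ g v) with hM
  have hρM : ∀ g, ∀ m ∈ M, ρ g m ∈ M := fun g m hm => by
    have h1 : M.map ((ρ g).restrictScalars V) ≤ M := by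
      rw [hM, Submodule.map_span, Submodule.span_le]
      rintro _ ⟨_, ⟨g', rfl⟩, rfl⟩
      refine Submodule.subset_span ⟨g * g', ?_⟩
      simp [map_mul]
    exact h1 ⟨m, hm, rfl⟩
  have hFM : ∀ q, F q ∈ M := fun q => by
    obtain ⟨g, rfl⟩ := QuotientGroup.mk_surjective q
    exact Submodule.subset_span ⟨g, rfl⟩
  have hvN : v ∉ maximalIdeal V • M := by
    intro h
    have hle : M ≤ maximalIdeal V • M := by
      rw [hM, Submodule.span_le]
      rintro _ ⟨g, rfl⟩
      rw [SetLike.mem_coe, ← hM]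
      show ρ g v ∈ maximalIdeal V • M
      refine Submodule.smul_induction_on h (fun t ht m hm => ?_) fun a b ha hb => ?_
      · have e : ρ g (t • m) = t • ρ g m := ((ρ g).restrictScalars V).map_smul t m
        rw [e]
        exact Submodule.smul_mem_smul ht (hρM g m hm)
      · rw [map_add]; exact add_mem ha hb
    have hbot := Submodule.eq_bot_of_le_smul_of_le_jacobson_bot (maximalIdeal V) M
      (Submodule.fg_span (Set.finite_range _)) hle
      (le_of_eq (IsLocalRing.jacobson_eq_maximalIdeal _ bot_ne_top).symm)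
    refine hv ?_
    have h1 : v ∈ M := Submodule.subset_span ⟨1, by simp⟩
    rw [hbot] at h1
    exact h1
  have hveq : ∑ x : (P : Subgroup G), ρ (x : G) (∑ r ∈ R, F r) = -v := by
    rw [← hsum, eq_neg_iff_add_eq_zero, show v = F ((1 : G) : G ⧸ H) by simp [hF],
      Finset.sum_erase_add _ _ (Finset.mem_univ _), hFsum]
  rw [Nat.card_eq_fintype_card]
  refine card_le_of_orbit_sum (w := ∑ r ∈ R, F r) P.isPGroup' V hpV M (ρ.comp (P : Subgroup G).subtype)
    (fun x m hm => hρM _ m hm) (sum_mem fun r _ => hFM r) fun h => hvN ?_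
  have : -v ∈ maximalIdeal V • M := hveq ▸ h
  simpa using neg_mem this

/-- TI Sylow subgroups act with regular orbits outside an overgroup of their normaliser. -/
theorem free_of_ti {p : ℕ} [Fact p.Prime] (P : Sylow p G)
    (hTI : ∀ g : G, g ∉ Subgroup.normalizer ((P : Subgroup G) : Set G) →
      (P : Subgroup G) ⊓ (MulAut.conj g • (P : Subgroup G)) = ⊥)
    (H : Subgroup G) (hH : Subgroup.normalizer ((P : Subgroup G) : Set G) ≤ H) :
    ∀ g : G, g ∉ H → ∀ x ∈ (P : Subgroup G), g⁻¹ * x * g ∈ H → x = 1 := by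
  intro g hg x hx hy
  have hPH : (P : Subgroup G) ≤ H := Subgroup.le_normalizer.trans hH
  have hyp : IsPGroup p (Subgroup.zpowers (⟨g⁻¹ * x * g, hy⟩ : H)) := by
    obtain ⟨i, hi⟩ := (IsPGroup.iff_orderOf).1 P.isPGroup' ⟨x, hx⟩
    refine IsPGroup.of_card (n := i) ?_
    rw [Nat.card_zpowers, ← Subgroup.orderOf_coe, ← hi, Subgroup.orderOf_mk]
    simpa using (MulAut.conj g⁻¹).orderOf_eq x
  obtain ⟨Q, hQ⟩ := hyp.exists_le_sylow
  obtain ⟨h, hh⟩ := MulAction.exists_smul_eq H (P.subtype hPH) Q
  have hy' : (⟨g⁻¹ * x * g, hy⟩ : H) ∈ (h • P.subtype hPH : Sylow p H) :=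
    hh.symm ▸ hQ (Subgroup.mem_zpowers _)
  obtain ⟨z, hz, e⟩ := Subgroup.mem_map.1 hy'
  have hgh : g * (h : G) ∉ Subgroup.normalizer ((P : Subgroup G) : Set G) := fun hh' => hg (by
    simpa using H.mul_mem (hH hh') (H.inv_mem h.2))
  have e' : (h : G) * (z : G) * (h : G)⁻¹ = g⁻¹ * x * g := congrArg Subtype.val e
  refine Subgroup.mem_bot.1 (hTI _ hgh ▸ ⟨hx, Subgroup.mem_map.2 ⟨(z : G), hz, ?_⟩⟩)
  show (g * (h : G)) * (z : G) * (g * (h : G))⁻¹ = x
  calc (g * (h : G)) * (z : G) * (g * (h : G))⁻¹ = g * ((h : G) * z * (h : G)⁻¹) * g⁻¹ := by group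
    _ = x := by rw [e']; group

/-- Characters of small degree keep their norm on overgroups of the normaliser of a TI Sylow. -/
theorem classInner_restrict_eq_of_ti {p : ℕ} [Fact p.Prime] (P : Sylow p G)
    (hTI : ∀ g : G, g ∉ Subgroup.normalizer ((P : Subgroup G) : Set G) →
      (P : Subgroup G) ⊓ (MulAut.conj g • (P : Subgroup G)) = ⊥)
    {χ : G → ℂ} (hχ : IsCharacter G χ)
    (hdeg : charDegree χ ^ 2 ≤ Nat.card (P : Subgroup G)) (H : Subgroup G) [Fintype H]
    (hH : Subgroup.normalizer ((P : Subgroup G) : Set G) ≤ H) :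
    classInner χ χ = classInner (fun h : H => χ h) (fun h : H => χ h) := by
  classical
  have hψc : IsCharacter G (χ * fun g => conj (χ g)) := IsCharacter.mul hχ (IsCharacter.conj hχ)
  obtain ⟨m, hm⟩ := IsCharacter.exists_decomp hψc
  let π := indFun H (fun _ : H => (1 : ℂ))
  have hπ : ∀ φ : G → ℂ, IsClassFunction G φ →
      classInner φ π = classInner (fun h : H => φ h) (fun _ : H => 1) := fun φ hφ =>
    classInner_indFun_right H _ hφ
  have hcl := IsCharacter.isClassFunction hψc
  have hH1 : classInner (fun h : H => χ h) (fun h : H => χ h) =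
      classInner (χ * fun g => conj (χ g)) π := by
    rw [hπ _ hcl]; simp [classInner]
  have hG1 : classInner χ χ = classInner (χ * fun g => conj (χ g)) (fun _ => 1) := by
    simp [classInner]
  have hm1 : classInner χ χ = (m (principal G) : ℂ) := by
    rw [hG1, hm]; exact classInner_combination _ (principal G)
  rcases eq_or_ne (χ 1) 0 with h0 | h0
  · rw [IsCharacter.eq_zero_of_one hχ h0]; simp [classInner]
  have hmpos : 0 < m (principal G) := by
    refine Nat.pos_of_ne_zero fun hz => h0 ?_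
    rw [hz, Nat.cast_zero] at hm1
    have h1 := classInner_self_eq χ
    rw [hm1] at h1
    have h2 : (0 : ℝ) = (Nat.card G : ℝ)⁻¹ * ∑ g : G, ‖χ g‖ ^ 2 := by exact_mod_cast h1
    have h3 := (mul_eq_zero.1 h2.symm).resolve_left (inv_ne_zero (Nat.cast_ne_zero.2 Nat.card_pos.ne'))
    have h4 := (Finset.sum_eq_zero_iff_of_nonneg fun g _ => by positivity).1 h3 1 (Finset.mem_univ _)
    simpa using h4
  rw [hm1, hH1, hm, classInner_sum_left, Finset.sum_eq_single (principal G)]
  · rw [classInner_smul_left, hπ _ (IsCharacter.isClassFunction ((fun φ : IrrCharacter G => IsIrrCharacter.isCharacter φ.2) _)),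
      show (fun h : H => ((principal G : IrrCharacter G) : G → ℂ) h) = ((principal H : IrrCharacter H) : H → ℂ)
        from rfl, show (fun _ : H => (1 : ℂ)) = ((principal H : IrrCharacter H) : H → ℂ) from rfl,
      classInner_self_irr (principal H).2, mul_one]
  · intro ψ _ hψ
    rw [classInner_smul_left]
    by_contra hne
    obtain ⟨hmψ, hne⟩ := mul_ne_zero_iff.1 hne
    rw [hπ _ (IsCharacter.isClassFunction ((fun φ : IrrCharacter G => IsIrrCharacter.isCharacter φ.2) ψ))] at hne
    obtain ⟨n, ρ, hρ, hc⟩ := ψ.2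
    haveI := hρ
    -- the average over `G` vanishes
    let E : Module.End ℂ (Fin n → ℂ) := ∑ g : G, ρ g
    have hEc : ∀ g x, E (ρ g x) = ρ g (E x) := fun g x => by
      simp only [E, LinearMap.sum_apply, map_sum, ← Module.End.mul_apply, ← map_mul]
      exact Fintype.sum_equiv (MulAut.conj g⁻¹).toEquiv _ _ fun a => by
        simp [MulAut.conj_apply, mul_assoc]
    obtain ⟨c, hc'⟩ := schur_scalar ρ E hEc
    have hn : (ψ : G → ℂ) 1 = (n : ℂ) := by simp [← hc, Representation.char_one]
    have htr : LinearMap.trace ℂ (Fin n → ℂ) E = 0 := by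
      have h1 := classInner_irr_of_ne ψ.2 (principal G).2 fun e => hψ (Subtype.ext e)
      simp only [classInner, principal, map_one, mul_one, mul_eq_zero, inv_eq_zero,
        Nat.cast_eq_zero, Nat.card_pos.ne', false_or] at h1
      rw [← h1, map_sum, ← hc]
      rfl
    have hn0 : (n : ℂ) ≠ 0 := hn ▸ IsIrrCharacter.one_ne_zero ψ.2
    have hE0 : ∀ z, ∑ g, ρ g z = 0 := fun z => by
      rw [hc', map_smul, LinearMap.trace_id, smul_eq_mul, mul_eq_zero] at htr
      have hc0 : c = 0 := htr.resolve_right (by simpa using hn0)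
      have := LinearMap.congr_fun hc' z
      simpa [E, hc0] using this
    obtain ⟨u, hu⟩ : ∃ u, ∑ h : H, ρ (h : G) u ≠ 0 := by
      by_contra hall
      push Not at hall
      refine hne ?_
      have h1 : (∑ h : H, ρ (h : G)) = 0 := LinearMap.ext fun u => by simpa using hall u
      have h2 := congrArg (LinearMap.trace ℂ (Fin n → ℂ)) h1
      rw [map_sum, map_zero] at h2
      simp only [classInner, map_one, mul_one, ← hc]
      rw [mul_eq_zero]; exact Or.inr h2
    have hbig := card_le_of_fixed P H (Subgroup.le_normalizer.trans hH) (free_of_ti P hTI H hH) ρ hE0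
      hu fun h hh => by
        rw [map_sum]
        refine Fintype.sum_equiv (Equiv.mulLeft (⟨h, hh⟩ : H)) _ _ fun x => ?_
        simp [map_mul]
    obtain ⟨d, ρχ, hd⟩ := hχ
    have hχ1 : χ 1 = (d : ℂ) := by simp [← hd, Representation.char_one]
    have h2 := congrFun hm 1
    simp only [Pi.mul_apply, Finset.sum_apply, Pi.smul_apply, smul_eq_mul, hχ1, map_natCast] at h2
    have hcd : charDegree χ = d := by simp [charDegree, hχ1]
    choose f hf using fun φ : IrrCharacter G => IsIrrCharacter.exists_degree φ.2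
    have h3 : d * d = ∑ φ, m φ * f φ := by
      simp only [fun φ => (hf φ).2] at h2
      exact_mod_cast h2
    have hfψ : f ψ = n := by exact_mod_cast (hf ψ).2.symm.trans hn
    have hf1 : 0 < f (principal G) := (hf _).1
    have h4 : m ψ * f ψ + m (principal G) * f (principal G) ≤ d * d := by
      rw [h3, ← Finset.sum_pair (f := fun φ => m φ * f φ) hψ]
      exact Finset.sum_le_univ_sum_of_nonneg fun _ => Nat.zero_le _
    have hmψ' : 0 < m ψ := Nat.pos_of_ne_zero (by exact_mod_cast hmψ)
    rw [hcd, sq] at hdeg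
    have h5 : n ≤ m ψ * f ψ := hfψ ▸ Nat.le_mul_of_pos_left _ hmψ'
    have h6 : 0 < m (principal G) * f (principal G) := Nat.mul_pos hmpos hf1
    omega
  · exact fun h => absurd (Finset.mem_univ _) h

end Cfsg.Agent.BrauerPairs
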