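/-
Bounding the order of a group by the centraliser of an involution, the odd core and the 2-part.
-/
import Cfsg.Agent.Lib.Transfer.Abelian
import Cfsg.Agent.Lib.Blocks.MinMax
import Cfsg.Agent.Lib.Char.Integral
import Mathlib.GroupTheory.GroupAction.Quotient

set_option linter.unusedSectionVars false
set_option linter.style.haveILetI false

namespace Cfsg.Agent.BrauerPairs

universe u

variable {G : Type u} [Group G] [Finite G]

/-- An odd-order group acted on by a four-group is bounded by its three fixed groups. -/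
theorem card_le_of_four_group (K : Subgroup G) (hK : Odd (Nat.card K)) {x y : G}
    (hx : x * x = 1) (hy : y * y = 1) (hxy : x * y = y * x)
    (hxK : ∀ k ∈ K, x * k * x⁻¹ ∈ K) (hyK : ∀ k ∈ K, y * k * y⁻¹ ∈ K) :
    Nat.card K ≤ Nat.card ↥(K ⊓ Subgroup.centralizer ({x} : Set G)) *
      (Nat.card ↥(K ⊓ Subgroup.centralizer ({y} : Set G)) *
        Nat.card ↥(K ⊓ Subgroup.centralizer ({x * y} : Set G))) := by
  obtain ⟨h, hh⟩ : ∃ h, Nat.card K = 2 * h + 1 := hK
  let rt : G → G := fun k => k ^ (h + 1)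
  have hrt : ∀ k ∈ K, rt k * rt k = k := fun k hk => by
    have h1 : k ^ Nat.card K = 1 :=
      orderOf_dvd_iff_pow_eq_one.1 (Subgroup.orderOf_dvd_natCard _ hk)
    simp only [rt, ← pow_add]
    rw [show h + 1 + (h + 1) = Nat.card K + 1 by omega, pow_succ, h1, one_mul]
  have hrtinv : ∀ k, rt k⁻¹ = (rt k)⁻¹ := fun k => inv_pow k _
  have hrtc : ∀ c k : G, rt (c * k * c⁻¹) = c * rt k * c⁻¹ := fun c k => conj_pow
  obtain ⟨σ, hσ⟩ : ∃ σ : G → G, ∀ k, σ k = x * k * x⁻¹ := ⟨_, fun _ => rfl⟩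
  obtain ⟨τ, hτ⟩ : ∃ τ : G → G, ∀ k, τ k = y * k * y⁻¹ := ⟨_, fun _ => rfl⟩
  have hσm : ∀ a b, σ (a * b) = σ a * σ b := fun a b => by simp [hσ, mul_assoc]
  have hτm : ∀ a b, τ (a * b) = τ a * τ b := fun a b => by simp [hτ, mul_assoc]
  have hσi : ∀ a, σ a⁻¹ = (σ a)⁻¹ := fun a => by simp [hσ, mul_assoc]
  have hτi : ∀ a, τ a⁻¹ = (τ a)⁻¹ := fun a => by simp [hτ, mul_assoc]
  have hσσ : ∀ a, σ (σ a) = a := fun a => by
    calc σ (σ a) = (x * x) * a * (x * x)⁻¹ := by simp only [hσ]; group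
      _ = a := by rw [hx, inv_one, one_mul, mul_one]
  have hττ : ∀ a, τ (τ a) = a := fun a => by
    calc τ (τ a) = (y * y) * a * (y * y)⁻¹ := by simp only [hτ]; group
      _ = a := by rw [hy, inv_one, one_mul, mul_one]
  have hcomm : ∀ a, σ (τ a) = τ (σ a) := fun a => by
    calc σ (τ a) = (x * y) * a * (x * y)⁻¹ := by simp only [hσ, hτ]; group
      _ = (y * x) * a * (y * x)⁻¹ := by rw [hxy]
      _ = τ (σ a) := by simp only [hσ, hτ]; group
  have hσrt : ∀ k, σ (rt k) = rt (σ k) := fun k => by rw [hσ, hσ, hrtc]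
  have hτrt : ∀ k, τ (rt k) = rt (τ k) := fun k => by rw [hτ, hτ, hrtc]
  have hrtK : ∀ k ∈ K, rt k ∈ K := fun k hk => pow_mem hk _
  have hfix : ∀ z a : G, z * a * z⁻¹ = a → a ∈ Subgroup.centralizer ({z} : Set G) := fun z a ha =>
    Subgroup.mem_centralizer_iff.2 fun q hq => by
      rw [Set.mem_singleton_iff.1 hq]
      exact mul_inv_eq_iff_eq_mul.1 ha
  -- the inverted part of an element, and the two coordinates of an inverted element
  let sI : G → G := fun k => rt (k⁻¹ * σ k)
  let gI : G → G := fun d => d * (rt (τ d * d))⁻¹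
  let eI : G → G := fun d => (rt (gI d))⁻¹ * d * (rt (gI d))⁻¹
  have hfirst : ∀ k ∈ K, sI k ∈ K ∧ σ (sI k) = (sI k)⁻¹ ∧ σ (k * sI k) = k * sI k := by
    intro k hk
    have hq : k⁻¹ * σ k ∈ K := mul_mem (inv_mem hk) (hσ k ▸ hxK k hk)
    have hinv : σ (k⁻¹ * σ k) = (k⁻¹ * σ k)⁻¹ := by
      rw [hσm, hσi, hσσ, mul_inv_rev, inv_inv]
    have h2 : σ (sI k) = (sI k)⁻¹ := by simp only [sI]; rw [hσrt, hinv, hrtinv]
    refine ⟨hrtK _ hq, h2, ?_⟩
    rw [hσm, h2]
    have h3 : σ k = k * (sI k * sI k) := by simp only [sI]; rw [hrt _ hq, mul_inv_cancel_left]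
    rw [h3]; group
  have hsecond : ∀ d ∈ K, σ d = d⁻¹ →
      gI d ∈ K ∧ σ (τ (gI d)) = gI d ∧ eI d ∈ K ∧ τ (eI d) = eI d := by
    intro d hd hdx
    have hw : τ d * d ∈ K := mul_mem (hτ d ▸ hyK d hd) hd
    have hg : gI d ∈ K := mul_mem hd (inv_mem (hrtK _ hw))
    have hdconj : rt (d * (τ d * d) * d⁻¹) = d * rt (τ d * d) * d⁻¹ := hrtc _ _
    have hg1 : σ (gI d) = (gI d)⁻¹ := by
      have e : σ (τ d * d) = (d * (τ d * d) * d⁻¹)⁻¹ := by
        rw [hσm, hcomm, hdx, hτi]; group
      simp only [gI]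
      rw [hσm, hσi, hσrt, e, hrtinv, hdconj, hdx, inv_inv]; group
    have hg2 : τ (gI d) = (gI d)⁻¹ := by
      have e : τ (τ d * d) = d * (τ d * d) * d⁻¹ := by rw [hτm, hττ]; group
      simp only [gI]
      rw [hτm, hτi, hτrt, e, hdconj]
      calc τ d * (d * rt (τ d * d) * d⁻¹)⁻¹ = (τ d * d) * (rt (τ d * d))⁻¹ * d⁻¹ := by group
        _ = rt (τ d * d) * rt (τ d * d) * (rt (τ d * d))⁻¹ * d⁻¹ := by rw [hrt _ hw]
        _ = (d * (rt (τ d * d))⁻¹)⁻¹ := by group
    refine ⟨hg, by rw [hg2, hσi, hg1, inv_inv],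
      mul_mem (mul_mem (inv_mem (hrtK _ hg)) hd) (inv_mem (hrtK _ hg)), ?_⟩
    have hτd : τ d = (gI d)⁻¹ * d * (gI d)⁻¹ := by
      have h1 : rt (τ d * d) = (gI d)⁻¹ * d := by simp only [gI]; group
      calc τ d = (τ d * d) * d⁻¹ := by group
        _ = rt (τ d * d) * rt (τ d * d) * d⁻¹ := by rw [hrt _ hw]
        _ = (gI d)⁻¹ * d * (gI d)⁻¹ := by rw [h1]; group
    simp only [eI]
    rw [hτm, hτm, hτi, hτrt, hg2, hrtinv, inv_inv, hτd]
    have hgg : gI d = rt (gI d) * rt (gI d) := (hrt _ hg).symm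
    calc rt (gI d) * ((gI d)⁻¹ * d * (gI d)⁻¹) * rt (gI d)
        = rt (gI d) * ((rt (gI d) * rt (gI d))⁻¹ * d * (rt (gI d) * rt (gI d))⁻¹) * rt (gI d) := by
          rw [← hgg]
      _ = (rt (gI d))⁻¹ * d * (rt (gI d))⁻¹ := by group
  have hmem : ∀ k : K, (sI k)⁻¹ ∈ K ∧ σ ((sI (k : G))⁻¹) = ((sI k)⁻¹)⁻¹ := fun k =>
    ⟨inv_mem (hfirst k k.2).1, by rw [hσi, (hfirst k k.2).2.1]⟩
  have hsc := fun k : K => hsecond _ (hmem k).1 (hmem k).2
  let F : K → ↥(K ⊓ Subgroup.centralizer ({x} : Set G)) ×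
      (↥(K ⊓ Subgroup.centralizer ({y} : Set G)) ×
        ↥(K ⊓ Subgroup.centralizer ({x * y} : Set G))) := fun k =>
    (⟨(k : G) * sI k, mul_mem k.2 (hfirst k k.2).1, hfix x _ ((hσ _).symm.trans (hfirst k k.2).2.2)⟩,
      ⟨eI (sI (k : G))⁻¹, (hsc k).2.2.1, hfix y _ ((hτ _).symm.trans (hsc k).2.2.2)⟩,
      ⟨gI (sI (k : G))⁻¹, (hsc k).1, hfix (x * y) _ ((show _ = σ (τ (gI (sI (k : G))⁻¹)) by
        simp only [hσ, hτ]; group).trans (hsc k).2.1)⟩)
  have hinj : Function.Injective F := by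
    intro k k' hkk
    have h1 : (k : G) * sI k = (k' : G) * sI k' := congrArg (fun z => (z.1 : G)) hkk
    have h2 : eI (sI (k : G))⁻¹ = eI (sI (k' : G))⁻¹ := congrArg (fun z => (z.2.1 : G)) hkk
    have h3 : gI (sI (k : G))⁻¹ = gI (sI (k' : G))⁻¹ := congrArg (fun z => (z.2.2 : G)) hkk
    have hd : (sI (k : G))⁻¹ = (sI (k' : G))⁻¹ := by
      have hrec : ∀ d, d = rt (gI d) * eI d * rt (gI d) := fun d => by simp only [eI]; group
      rw [hrec (sI (k : G))⁻¹, hrec (sI (k' : G))⁻¹, h2, h3]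
    rw [inv_inj] at hd
    rw [hd] at h1
    exact Subtype.ext (mul_right_cancel h1)
  have := Nat.card_le_card_of_injective F hinj
  rwa [Nat.card_prod, Nat.card_prod] at this

/-- Centralisers in quotients. -/
theorem card_centralizer_quotient_le (N : Subgroup G) [N.Normal] (g : G) :
    Nat.card (Subgroup.centralizer ({(g : G ⧸ N)} : Set (G ⧸ N))) ≤
      Nat.card N * Nat.card (Subgroup.centralizer ({g} : Set G)) := by
  classical
  haveI : Fintype G := Fintype.ofFinite G
  set T := Finset.univ.filter fun a : G =>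
    (a : G ⧸ N) ∈ Subgroup.centralizer ({(g : G ⧸ N)} : Set (G ⧸ N)) with hT
  have h1 : Nat.card (Subgroup.centralizer ({(g : G ⧸ N)} : Set (G ⧸ N))) ≤ T.card := by
    haveI : Fintype (G ⧸ N) := Fintype.ofFinite _
    rw [Nat.card_eq_fintype_card, Fintype.card_subtype]
    refine (Finset.card_le_card ?_).trans (Finset.card_image_le (f := fun a : G => (a : G ⧸ N)))
    intro q hq
    obtain ⟨a, rfl⟩ := QuotientGroup.mk_surjective q
    exact Finset.mem_image.2 ⟨a, Finset.mem_filter.2 ⟨Finset.mem_univ _,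
      (Finset.mem_filter.1 hq).2⟩, rfl⟩
  refine h1.trans ?_
  have himg : T.image (fun a => a * g * a⁻¹ * g⁻¹) ⊆ Finset.univ.filter (· ∈ N) := by
    intro n hn
    obtain ⟨a, ha, rfl⟩ := Finset.mem_image.1 hn
    refine Finset.mem_filter.2 ⟨Finset.mem_univ _, (QuotientGroup.eq_one_iff _).1 ?_⟩
    have h := Subgroup.mem_centralizer_iff.1 (Finset.mem_filter.1 ha).2 _ rfl
    rw [QuotientGroup.mk_mul, QuotientGroup.mk_mul, QuotientGroup.mk_mul, ← h,
      QuotientGroup.mk_inv, QuotientGroup.mk_inv]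
    group
  refine (Finset.card_le_mul_card_image (f := fun a => a * g * a⁻¹ * g⁻¹) T
    (Nat.card (Subgroup.centralizer ({g} : Set G)))
    fun n hn => ?_).trans ?_
  · obtain ⟨a₀, ha₀, rfl⟩ := Finset.mem_image.1 hn
    rw [Nat.card_eq_fintype_card, ← Finset.card_univ]
    refine Finset.card_le_card_of_injOn (fun a => if h : a₀⁻¹ * a ∈
      Subgroup.centralizer ({g} : Set G) then (⟨_, h⟩ : Subgroup.centralizer ({g} : Set G)) else 1) (fun _ _ => Finset.mem_univ _) ?_
    intro a ha b hb hab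
    have key : ∀ c, c * g * c⁻¹ * g⁻¹ = a₀ * g * a₀⁻¹ * g⁻¹ →
        a₀⁻¹ * c ∈ Subgroup.centralizer ({g} : Set G) := fun c hc => by
      refine Subgroup.mem_centralizer_iff.2 fun q hq => ?_
      rw [Set.mem_singleton_iff.1 hq]
      have := mul_right_cancel hc
      calc g * (a₀⁻¹ * c) = a₀⁻¹ * (a₀ * g * a₀⁻¹) * c := by group
        _ = a₀⁻¹ * (c * g * c⁻¹) * c := by rw [this]
        _ = a₀⁻¹ * c * g := by group
    simp only [dif_pos (key a (Finset.mem_filter.1 ha).2),
      dif_pos (key b (Finset.mem_filter.1 hb).2), Subtype.mk.injEq, mul_left_cancel_iff] at hab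
    exact hab
  · rw [mul_comm]
    refine Nat.mul_le_mul_right _ ((Finset.card_le_card himg).trans (le_of_eq ?_))
    rw [Nat.card_eq_fintype_card, Fintype.card_subtype]

/-- Brauer and Fowler: some non-trivial element has small index. -/
theorem exists_small_index {t : G} (ht : t * t = 1) {c : ℕ}
    (hc : Nat.card (Subgroup.centralizer ({t} : Set G)) ≤ c) :
    Nat.card G ≤ 2 * c * c ∨
      ∃ g : G, g ≠ 1 ∧ (Subgroup.centralizer ({g} : Set G)).index ≤ 2 * c * c := by
  classical
  haveI : Fintype G := Fintype.ofFinite G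
  by_contra hne
  push Not at hne
  obtain ⟨hbig, hidx⟩ := hne
  set K := Char.classFinset t with hK
  have hKc : Nat.card G ≤ c * K.card := by
    rw [Char.card_classFinset, ← (Subgroup.centralizer ({t} : Set G)).card_mul_index]
    exact Nat.mul_le_mul_right _ hc
  have hKG : K.card ≤ Nat.card G := by
    rw [Nat.card_eq_fintype_card]; exact Finset.card_le_univ _
  have hinv : ∀ u ∈ K, u * u = 1 := fun u hu => by
    obtain ⟨d, rfl⟩ := isConj_iff.1 (Char.mem_classFinset.1 hu)
    calc d * t * d⁻¹ * (d * t * d⁻¹) = d * (t * t) * d⁻¹ := by group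
      _ = 1 := by rw [ht, mul_one, mul_inv_cancel]
  have hfib : ∀ g : G, ((K ×ˢ K).filter fun x => x.1 * x.2 = g).card ≤
      if g = 1 then K.card else Nat.card (Subgroup.centralizer ({g} : Set G)) := by
    intro g
    split_ifs with hg
    · subst hg
      refine Finset.card_le_card_of_injOn Prod.fst
        (fun x hx => (Finset.mem_product.1 (Finset.mem_filter.1 hx).1).1) fun a ha b hb hab => ?_
      have h1 := (Finset.mem_filter.1 ha).2
      have h2 := (Finset.mem_filter.1 hb).2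
      exact Prod.ext hab (mul_left_cancel (a := a.1) (by rw [h1, hab, h2]))
    · have key : ∀ x ∈ (K ×ˢ K).filter (fun x => x.1 * x.2 = g), x.1 * g * x.1⁻¹ = g⁻¹ := by
        intro x hx
        obtain ⟨hxK, hxg⟩ := Finset.mem_filter.1 hx
        obtain ⟨h1, h2⟩ := Finset.mem_product.1 hxK
        rw [inv_eq_of_mul_eq_one_right (hinv _ h1)]
        refine eq_inv_of_mul_eq_one_left ?_
        rw [← hxg]
        calc x.1 * (x.1 * x.2) * x.1 * (x.1 * x.2)
            = (x.1 * x.1) * x.2 * (x.1 * x.1) * x.2 := by group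
          _ = 1 := by rw [hinv _ h1, one_mul, mul_one, hinv _ h2]
      rcases Finset.eq_empty_or_nonempty ((K ×ˢ K).filter fun x => x.1 * x.2 = g) with he | ⟨x₀, hx₀⟩
      · rw [he]; simp
      rw [Nat.card_eq_fintype_card, ← Finset.card_univ]
      refine Finset.card_le_card_of_injOn (fun x => if h : x₀.1⁻¹ * x.1 ∈
        Subgroup.centralizer ({g} : Set G) then (⟨_, h⟩ : Subgroup.centralizer ({g} : Set G)) else 1) (fun _ _ => Finset.mem_univ _) ?_
      intro a ha b hb hab
      have hm : ∀ x ∈ (K ×ˢ K).filter (fun x => x.1 * x.2 = g),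
          x₀.1⁻¹ * x.1 ∈ Subgroup.centralizer ({g} : Set G) := fun x hx => by
        refine Subgroup.mem_centralizer_iff.2 fun q hq => ?_
        rw [Set.mem_singleton_iff.1 hq]
        have h1 := key x hx
        have h0 := key x₀ hx₀
        calc g * (x₀.1⁻¹ * x.1) = x₀.1⁻¹ * (x₀.1 * g * x₀.1⁻¹) * x.1 := by group
          _ = x₀.1⁻¹ * (x.1 * g * x.1⁻¹) * x.1 := by rw [h0, h1]
          _ = x₀.1⁻¹ * x.1 * g := by group
      simp only [dif_pos (hm a ha), dif_pos (hm b hb), Subtype.mk.injEq,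
        mul_left_cancel_iff] at hab
      have h1 := (Finset.mem_filter.1 ha).2
      have h2 := (Finset.mem_filter.1 hb).2
      exact Prod.ext hab (mul_left_cancel (a := a.1) (by rw [h1, hab, h2]))
  set m := 2 * c * c with hm
  have htotal : K.card * K.card * m ≤ K.card * m + Nat.card G * Nat.card G := by
    rw [← Finset.card_product, Finset.card_eq_sum_card_fiberwise (f := fun x => x.1 * x.2)
      (t := Finset.univ) (fun _ _ => Finset.mem_univ _), Finset.sum_mul]
    refine (Finset.sum_le_sum fun g _ => Nat.mul_le_mul_right m (hfib g)).trans ?_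
    rw [← Finset.add_sum_erase _ _ (Finset.mem_univ (1 : G)), if_pos rfl]
    refine Nat.add_le_add_left ((Finset.sum_le_sum (g := fun _ => Nat.card G) fun g hg => ?_).trans ?_) _
    · rw [if_neg (Finset.ne_of_mem_erase hg)]
      refine le_trans (Nat.mul_le_mul_left _ (hidx g (Finset.ne_of_mem_erase hg)).le) ?_
      exact le_of_eq (Subgroup.card_mul_index _)
    · rw [Finset.sum_const, smul_eq_mul]
      refine Nat.mul_le_mul_right _ ((Finset.card_le_univ _).trans (le_of_eq ?_))
      rw [Nat.card_eq_fintype_card]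
  have h1 : Nat.card G * Nat.card G * m ≤ c * c * (K.card * K.card * m) := by
    calc Nat.card G * Nat.card G * m ≤ (c * K.card) * (c * K.card) * m :=
          Nat.mul_le_mul_right _ (Nat.mul_le_mul hKc hKc)
      _ = _ := by ring
  have hpos : 0 < Nat.card G := Nat.card_pos
  nlinarith [Nat.mul_le_mul_left (c * c) htotal, Nat.mul_le_mul_left (c * c * m) hKG]

/-- A normal subgroup with central 2-elements is small when the odd core is trivial. -/
theorem card_le_two_part (hO : Cfsg.pPrimeCore 2 G = ⊥) (X : Subgroup G) [X.Normal] {a : ℕ}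
    (ha : (Nat.card G).factorization 2 ≤ a)
    (hcent : ∀ x ∈ X, (∃ k, orderOf x = 2 ^ k) → ∀ y ∈ X, x * y = y * x) :
    Nat.card X ≤ 2 ^ a := by
  haveI : Fact (Nat.Prime 2) := ⟨Nat.prime_two⟩
  obtain ⟨P⟩ : Nonempty (Sylow 2 X) := inferInstance
  have hP : Cfsg.HasNormalPComplement 2 X := by
    refine Fusion.hasNormalPComplement_of_normalizer_le_centralizer P fun g _ => ?_
    refine Subgroup.mem_centralizer_iff.2 fun z hz => Subtype.ext ?_
    obtain ⟨k, hk⟩ := IsPGroup.iff_orderOf.1 P.isPGroup' ⟨z, hz⟩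
    exact hcent z z.2 ⟨k, by rw [← hk, Subgroup.orderOf_mk, ← Subgroup.orderOf_coe]⟩ g g.2
  have hbot : Cfsg.pPrimeCore 2 X = ⊥ := by
    have h := PBasic.map_pPrimeCore_le_of_normal (p := 2) X
    rw [hO, le_bot_iff, Subgroup.map_eq_bot_iff_of_injective _ Subtype.val_injective] at h
    exact h
  have h2 : IsPGroup 2 X := by
    refine (PBasic.quotient_pPrimeCore_isPGroup hP).of_equiv ?_
    exact (QuotientGroup.quotientMulEquivOfEq hbot).trans QuotientGroup.quotientBot
  obtain ⟨k, hk⟩ := IsPGroup.iff_card.1 h2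
  rw [hk]
  refine Nat.pow_le_pow_right (by norm_num) (le_trans ?_ ha)
  exact (Nat.prime_two.pow_dvd_iff_le_factorization Nat.card_pos.ne').1
    (hk ▸ Subgroup.card_subgroup_dvd_card X)

theorem card_comap_mk' (N : Subgroup G) [N.Normal] (M : Subgroup (G ⧸ N)) :
    Nat.card (M.comap (QuotientGroup.mk' N)) = Nat.card N * Nat.card M := by
  refine Nat.eq_of_mul_eq_mul_right (Nat.pos_of_ne_zero M.index_ne_zero_of_finite) ?_
  rw [mul_assoc, M.card_mul_index]
  conv_lhs => rw [← M.index_comap_of_surjective (QuotientGroup.mk'_surjective N)]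
  rw [Subgroup.card_mul_index, ← N.card_mul_index]
  rfl

/-- The odd core of a quotient by a bounded normal subgroup is bounded. -/
theorem card_oddCore_quotient_le (hO : Cfsg.pPrimeCore 2 G = ⊥) (N : Subgroup G) [N.Normal]
    {a : ℕ} (ha : (Nat.card G).factorization 2 ≤ a) :
    Nat.card (Cfsg.pPrimeCore 2 (G ⧸ N)) ≤ 2 ^ a * Nat.card N ^ Nat.card N := by
  classical
  haveI : Fintype G := Fintype.ofFinite G
  haveI : Fact (Nat.Prime 2) := ⟨Nat.prime_two⟩
  set M := (Cfsg.pPrimeCore 2 (G ⧸ N)).comap (QuotientGroup.mk' N) with hM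
  have hMN : (Cfsg.pPrimeCore 2 (G ⧸ N)).Normal := inferInstance
  haveI : M.Normal := hMN.comap _
  haveI : (Subgroup.centralizer (N : Set G)).Normal := Blocks.centralizer_normal_of_normal N
  set X := M ⊓ Subgroup.centralizer (N : Set G) with hX
  have hXc : Nat.card X ≤ 2 ^ a := by
    refine card_le_two_part hO X ha fun z hz ⟨k, hk⟩ w hw => ?_
    have hzN : z ∈ N := by
      rw [← QuotientGroup.eq_one_iff, ← orderOf_eq_one_iff]
      refine Nat.eq_one_of_dvd_coprimes ((PBasic.coprime_orderOf_of_mem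
        (PBasic.pPrimeCore_coprime 2 (G ⧸ N)) hz.1).symm.pow_left k) ?_ dvd_rfl
      exact hk ▸ orderOf_map_dvd (QuotientGroup.mk' N) z
    exact Subgroup.mem_centralizer_iff.1 hw.2 z hzN
  have hMle : Nat.card M ≤ Nat.card X * Nat.card N ^ Nat.card N := by
    haveI : Fintype M := Fintype.ofFinite _
    let f : M → (N → N) := fun m n =>
      ⟨(m : G) * (n : G) * (m : G)⁻¹, Subgroup.Normal.conj_mem inferInstance _ n.2 _⟩
    rw [Nat.card_eq_fintype_card (α := M), ← Finset.card_univ]
    refine (Finset.card_le_mul_card_image Finset.univ (Nat.card X) (f := f) fun b hb => ?_).trans ?_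
    · obtain ⟨m₀, -, rfl⟩ := Finset.mem_image.1 hb
      rw [Nat.card_eq_fintype_card, ← Finset.card_univ]
      refine Finset.card_le_card_of_injOn (fun m : M => if h : (m₀ : G)⁻¹ * (m : G) ∈ X
        then (⟨_, h⟩ : X) else 1) (fun _ _ => Finset.mem_univ _) ?_
      intro a ha' b hb' hab
      have key : ∀ m : M, f m = f m₀ → (m₀ : G)⁻¹ * (m : G) ∈ X := fun m hm =>
        ⟨M.mul_mem (M.inv_mem m₀.2) m.2, Subgroup.mem_centralizer_iff.2 fun n hn => by
          have h1 : (m : G) * n * (m : G)⁻¹ = (m₀ : G) * n * (m₀ : G)⁻¹ :=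
            congrArg Subtype.val (congrFun hm ⟨n, hn⟩)
          calc n * ((m₀ : G)⁻¹ * (m : G))
              = (m₀ : G)⁻¹ * ((m₀ : G) * n * (m₀ : G)⁻¹) * (m : G) := by group
            _ = (m₀ : G)⁻¹ * ((m : G) * n * (m : G)⁻¹) * (m : G) := by rw [h1]
            _ = (m₀ : G)⁻¹ * (m : G) * n := by group⟩
      simp only [dif_pos (key a (Finset.mem_filter.1 ha').2),
        dif_pos (key b (Finset.mem_filter.1 hb').2), Subtype.mk.injEq, mul_left_cancel_iff] at hab
      exact Subtype.ext hab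
    · refine Nat.mul_le_mul_left _ ((Finset.card_le_univ _).trans (le_of_eq ?_))
      simp only [Nat.card_eq_fintype_card, Fintype.card_fun]
  calc Nat.card (Cfsg.pPrimeCore 2 (G ⧸ N)) ≤ Nat.card M := by
        rw [hM, card_comap_mk']; exact Nat.le_mul_of_pos_left _ Nat.card_pos
    _ ≤ _ := hMle.trans (Nat.mul_le_mul_right _ hXc)

theorem index_normalCore_le_factorial (H : Subgroup G) :
    H.normalCore.index ≤ Nat.factorial H.index := by
  rw [Subgroup.normalCore_eq_ker, Subgroup.index_ker]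
  refine (Subgroup.card_le_card_group _).trans (le_of_eq ?_)
  rw [Nat.card_perm, Subgroup.index_eq_card]

/-- An involution's centraliser, the odd core and the 2-part together bound the order. -/
theorem exists_involution_bound (a : ℕ) : ∀ c : ℕ, ∃ N : ℕ, ∀ (G : Type u) [Group G] [Finite G]
    (t : G), t * t = 1 → t ≠ 1 → Nat.card (Subgroup.centralizer ({t} : Set G)) ≤ c →
    Nat.card (Cfsg.pPrimeCore 2 G) ≤ c → (Nat.card G).factorization 2 ≤ a → Nat.card G ≤ N := by
  haveI : Fact (Nat.Prime 2) := ⟨Nat.prime_two⟩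
  induction a with
  | zero =>
    refine fun c => ⟨0, fun G _ _ t ht ht1 _ _ ha => absurd ha (Nat.not_le.2 ?_)⟩
    refine Nat.prime_two.factorization_pos_of_dvd Nat.card_pos.ne' ?_
    rw [← orderOf_eq_prime (p := 2) (sq t ▸ ht) ht1]
    exact orderOf_dvd_natCard t
  | succ a ih =>
    intro c
    obtain ⟨d, hd⟩ : ∃ d, d = c * c := ⟨_, rfl⟩
    obtain ⟨B, hB⟩ : ∃ B, B = Nat.factorial (2 * d * d) * 2 ^ (a + 1) := ⟨_, rfl⟩
    obtain ⟨N₁, hN₁⟩ := ih (max (B * d) (2 ^ (a + 1) * B ^ B))
    refine ⟨c * max (max (2 * d * d) (B * d)) (B * N₁), fun G _ _ t ht ht1 hC hO ha => ?_⟩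
    set O := Cfsg.pPrimeCore 2 G with hOdef
    haveI : O.Normal := by rw [hOdef]; infer_instance
    have hmul := O.card_mul_index
    rw [Subgroup.index_eq_card] at hmul
    rw [← hmul]
    refine Nat.mul_le_mul hO ?_
    -- from here on the odd core is trivial
    have hb : Cfsg.pPrimeCore 2 (G ⧸ O) = ⊥ := PBasic.pPrimeCore_quotient_pPrimeCore 2 G
    have hT : (t : G ⧸ O) * (t : G ⧸ O) = 1 := by rw [← QuotientGroup.mk_mul, ht]; rfl
    have hT1 : (t : G ⧸ O) ≠ 1 := fun h => ht1 <| orderOf_eq_one_iff.1 <| by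
      have h1 := PBasic.coprime_orderOf_of_mem (PBasic.pPrimeCore_coprime 2 G)
        ((QuotientGroup.eq_one_iff t).1 h)
      rw [orderOf_eq_prime (p := 2) (sq t ▸ ht) ht1] at h1
      norm_num at h1
    have hTC : Nat.card (Subgroup.centralizer ({(t : G ⧸ O)} : Set (G ⧸ O))) ≤ d :=
      (card_centralizer_quotient_le O t).trans (hd ▸ Nat.mul_le_mul hO hC)
    have hTa : (Nat.card (G ⧸ O)).factorization 2 ≤ a + 1 := by
      refine le_trans ?_ ha
      exact (Nat.factorization_le_iff_dvd Nat.card_pos.ne' Nat.card_pos.ne').2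
        (Subgroup.card_quotient_dvd_card O) 2
    generalize (t : G ⧸ O) = T at hT hT1 hTC
    haveI : Fintype (G ⧸ O) := Fintype.ofFinite _
    clear ht ht1 hC hmul
    -- the reduced group
    rcases exists_small_index hT hTC with hsmall | ⟨g, hg, hidx⟩
    · exact hsmall.trans ((le_max_left _ _).trans (le_max_left _ _))
    set K := (Subgroup.centralizer ({g} : Set (G ⧸ O))).normalCore with hK
    haveI hKn : K.Normal := Subgroup.normalCore_normal _
    haveI hCKn : (Subgroup.centralizer (K : Set (G ⧸ O))).Normal :=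
      Blocks.centralizer_normal_of_normal K
    haveI : (K ⊓ Subgroup.centralizer (K : Set (G ⧸ O))).Normal := inferInstance
    have hgK : g ∈ Subgroup.centralizer (K : Set (G ⧸ O)) :=
      Subgroup.mem_centralizer_iff.2 fun k hk =>
        (Subgroup.mem_centralizer_iff.1 (Subgroup.normalCore_le _ hk) g rfl).symm
    set L := Subgroup.normalClosure ({g} : Set (G ⧸ O)) with hL
    haveI : L.Normal := Subgroup.normalClosure_normal
    have hLle : L ≤ Subgroup.centralizer (K : Set (G ⧸ O)) :=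
      Subgroup.normalClosure_le_normal (by simpa using hgK)
    have hLB : Nat.card L ≤ B := by
      refine (Subgroup.card_le_of_le hLle).trans ?_
      rw [← Subgroup.card_mul_index ((K ⊓ Subgroup.centralizer (K : Set (G ⧸ O))).subgroupOf
          (Subgroup.centralizer (K : Set (G ⧸ O)))), hB, mul_comm]
      refine Nat.mul_le_mul ?_ ?_
      · rw [Subgroup.inf_subgroupOf_right]
        refine le_trans ?_ ((index_normalCore_le_factorial _).trans (Nat.factorial_le hidx))
        exact Nat.le_of_dvd (Nat.pos_of_ne_zero Subgroup.index_ne_zero_of_finite)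
          (Subgroup.relIndex_dvd_index_of_normal K _)
      · rw [Nat.card_congr (Subgroup.subgroupOfEquivOfLe inf_le_right).toEquiv]
        exact card_le_two_part hb _ hTa fun x hx _ y hy =>
          Subgroup.mem_centralizer_iff.1 hy.2 x hx.1
    have hgL : g ∈ L := Subgroup.subset_normalClosure rfl
    have hmul := L.card_mul_index
    rw [Subgroup.index_eq_card] at hmul
    by_cases htL : T ∈ L
    · refine le_trans ?_ ((le_max_right _ _).trans (le_max_left _ _))
      rw [← (Subgroup.centralizer ({T} : Set (G ⧸ O))).card_mul_index, mul_comm B]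
      refine Nat.mul_le_mul hTC (le_trans ?_ hLB)
      classical
      rw [← Char.card_classFinset, Nat.card_eq_fintype_card, ← Finset.card_univ]
      refine Finset.card_le_card_of_injOn (fun x => if h : x ∈ L then (⟨x, h⟩ : L) else 1)
        (fun _ _ => Finset.mem_univ _) fun x hx y hy hxy => ?_
      have key : ∀ z, z ∈ Char.classFinset T → z ∈ L := fun z hz => by
        obtain ⟨w, rfl⟩ := isConj_iff.1 (Char.mem_classFinset.1 hz)
        exact Subgroup.Normal.conj_mem inferInstance _ htL w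
      simpa [key x hx, key y hy] using hxy
    · refine le_trans ?_ (le_max_right _ _)
      rw [← hmul]
      refine Nat.mul_le_mul hLB (hN₁ _ (T : (G ⧸ O) ⧸ L) ?_ ?_ ?_ ?_ ?_)
      · rw [← QuotientGroup.mk_mul, hT]; rfl
      · exact fun h => htL ((QuotientGroup.eq_one_iff _).1 h)
      · exact ((card_centralizer_quotient_le L T).trans (Nat.mul_le_mul hLB hTC)).trans
          (le_max_left _ _)
      · refine ((card_oddCore_quotient_le hb L hTa).trans (Nat.mul_le_mul_left _ ?_)).trans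
          (le_max_right _ _)
        exact (Nat.pow_le_pow_left hLB _).trans
          (Nat.pow_le_pow_right (Nat.card_pos.trans_le hLB) hLB)
      · have h2 : 2 ∣ Nat.card L := by
          by_contra h2
          have hle := PBasic.le_pPrimeCore (p := 2) (N := L) inferInstance
            ((Nat.prime_two.coprime_iff_not_dvd.2 h2).symm)
          rw [hb] at hle
          exact hg (Subgroup.mem_bot.1 (hle hgL))
        have h3 := Nat.prime_two.factorization_pos_of_dvd Nat.card_pos.ne' h2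
        rw [← hmul, Nat.factorization_mul Nat.card_pos.ne' Nat.card_pos.ne',
          Finsupp.add_apply] at hTa
        omega

end Cfsg.Agent.BrauerPairs
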