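/-
The perfect isometry of a block with a Klein four defect group and its correspondent in the
normaliser of the defect group.
-/
import Cfsg.Agent.Lib.BrauerPairs.KleinSections
import Cfsg.Agent.Lib.BrauerPairs.FusionBridge
import Cfsg.Prelude.Def_BlockLocal

set_option linter.unusedSectionVars false
set_option linter.style.haveILetI false

namespace Cfsg.Agent.KleinSigns

open Cfsg MonoidAlgebra Cfsg.Agent.Blocks Cfsg.Agent.BrauerPairs Cfsg.Agent.Char
open scoped ComplexConjugate

/-! ## Sign vectors on four points -/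

/-- The three balanced sign vectors on four points. -/
def balVec : Fin 3 → Fin 4 → ℤ := ![![1, 1, -1, -1], ![1, -1, 1, -1], ![1, -1, -1, 1]]

theorem balanced_cases (u : Fin 4 → ℤ) (hs : ∀ a, u a = 1 ∨ u a = -1) (h0 : ∑ a, u a = 0) :
    ∃ (k : Fin 3) (σ : ℤ), (σ = 1 ∨ σ = -1) ∧ ∀ a, u a = σ * balVec k a := by
  rw [Fin.sum_univ_four] at h0
  refine (show ∃ k : Fin 3, u 0 * balVec k 1 = u 1 ∧ u 0 * balVec k 2 = u 2 ∧
      u 0 * balVec k 3 = u 3 from ?_).imp fun k h => ⟨u 0, hs 0, fun a => ?_⟩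
  · rcases hs 0 with a | a <;> rcases hs 1 with b | b <;> rcases hs 2 with c | c <;>
      rcases hs 3 with d | d <;> simp [Fin.exists_fin_succ, balVec, a, b, c, d] at h0 ⊢
  · fin_cases a
    · fin_cases k <;> simp [balVec]
    · exact h.1.symm
    · exact h.2.1.symm
    · exact h.2.2.symm

theorem three_match (g : Fin 3 → Fin 4 → ℤ) (hg : ∀ j a, g j a = 1 ∨ g j a = -1)
    (horth : ∀ i j, i ≠ j → ∑ a, g i a * g j a = 0) (h : Fin 4 → ℤ)
    (hh : ∀ a, h a = 1 ∨ h a = -1) (hperp : ∑ a, h a * (g 0 a * g 1 a * g 2 a) = 0) :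
    ∃ (j : Fin 3) (σ : ℤ), (σ = 1 ∨ σ = -1) ∧ ∀ a, h a = σ * g j a := by
  set G3 : Fin 4 → ℤ := fun a => g 0 a * g 1 a * g 2 a with hG3
  have hs : ∀ a, G3 a = 1 ∨ G3 a = -1 := fun a => by
    rcases hg 0 a with x | x <;> rcases hg 1 a with y | y <;> rcases hg 2 a with z | z <;>
      simp [G3, x, y, z]
  have hsq : ∀ a, G3 a * G3 a = 1 := fun a => by rcases hs a with x | x <;> simp [x]
  have hmul : ∀ v : Fin 4 → ℤ, (∀ a, v a = 1 ∨ v a = -1) →
      ∀ a, v a * G3 a = 1 ∨ v a * G3 a = -1 := fun v hv a => by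
    rcases hv a with x | x <;> rcases hs a with y | y <;> simp [x, y]
  have hu : ∀ j, ∑ a, g j a * G3 a = 0 := by
    intro j
    have e : ∀ a, g 0 a * g 0 a = 1 ∧ g 1 a * g 1 a = 1 ∧ g 2 a * g 2 a = 1 := fun a => by
      refine ⟨?_, ?_, ?_⟩
      · rcases hg 0 a with x | x <;> simp [x]
      · rcases hg 1 a with x | x <;> simp [x]
      · rcases hg 2 a with x | x <;> simp [x]
    fin_cases j
    · show ∑ a, g 0 a * G3 a = 0
      rw [← horth 1 2 (by decide)]
      exact Finset.sum_congr rfl fun a _ => by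
        simp only [G3]; linear_combination (g 1 a * g 2 a) * (e a).1
    · show ∑ a, g 1 a * G3 a = 0
      rw [← horth 0 2 (by decide)]
      exact Finset.sum_congr rfl fun a _ => by
        simp only [G3]; linear_combination (g 0 a * g 2 a) * (e a).2.1
    · show ∑ a, g 2 a * G3 a = 0
      rw [← horth 0 1 (by decide)]
      exact Finset.sum_congr rfl fun a _ => by
        simp only [G3]; linear_combination (g 0 a * g 1 a) * (e a).2.2
  choose T s hT hTv using fun j => balanced_cases (fun a => g j a * G3 a) (hmul _ (hg j)) (hu j)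
  have hVV : ∀ k : Fin 3, ∑ a, balVec k a * balVec k a = 4 := by decide
  have hinj : Function.Injective T := by
    intro i j he
    by_contra hne
    have h1 := horth i j hne
    have h2 : ∑ a, g i a * g j a = ∑ a, (s i * s j) * (balVec (T j) a * balVec (T j) a) := by
      refine Finset.sum_congr rfl fun a _ => ?_
      have h3 := hTv i a
      have h4 := hTv j a
      beta_reduce at h3 h4
      rw [he] at h3
      linear_combination (g j a * G3 a) * h3 + (s i * balVec (T j) a) * h4 -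
        (g i a * g j a) * hsq a
    rw [h2, ← Finset.mul_sum, hVV] at h1
    rcases hT i with x | x <;> rcases hT j with y | y <;> simp [x, y] at h1
  obtain ⟨k, σ, hσ, hk⟩ := balanced_cases (fun a => h a * G3 a) (hmul _ hh) hperp
  obtain ⟨j, rfl⟩ := (Finite.injective_iff_surjective.1 hinj) k
  refine ⟨j, σ * s j, ?_, fun a => ?_⟩
  · rcases hσ with x | x <;> rcases hT j with y | y <;> simp [x, y]
  have h1 := hk a
  have h2 := hTv j a
  beta_reduce at h1 h2
  have h3 : s j * s j = 1 := by rcases hT j with x | x <;> simp [x]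
  linear_combination G3 a * h1 - σ * s j * G3 a * h2 - σ * G3 a * balVec (T j) a * h3 -
    (h a - σ * s j * g j a) * hsq a

/-- The sign making the transported vectors match. -/
theorem match_signs {α β : Type*} (s : Finset α) (t : Finset β) (ht : t.card = 4) {I : α → β}
    {J : β → α} (hI : ∀ a ∈ s, I a ∈ t) (hJ : ∀ b ∈ t, J b ∈ s) (hJI : ∀ a ∈ s, J (I a) = a)
    (hIJ : ∀ b ∈ t, I (J b) = b) {n : ℕ} (hn : n = 1 ∨ n = 3) (f : Fin n → α → ℤ)
    (g : Fin n → β → ℤ) (hf : ∀ i, ∀ a ∈ s, f i a = 1 ∨ f i a = -1)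
    (hfo : ∀ i j, i ≠ j → ∑ a ∈ s, f i a * f j a = 0)
    (hg : ∀ i, ∀ b ∈ t, g i b = 1 ∨ g i b = -1)
    (hgo : ∀ i j, i ≠ j → ∑ b ∈ t, g i b * g j b = 0) (ε : α → ℤ)
    (hε : ∀ a, ε a = (∏ i, f i a) * ∏ i, g i (I a)) (i : Fin n) :
    ∃ (j : Fin n) (σ : ℤ), (σ = 1 ∨ σ = -1) ∧ ∀ a ∈ s, ε a * f i a = σ * g j (I a) := by
  classical
  rcases hn with rfl | rfl
  · refine ⟨i, 1, .inl rfl, fun a ha => ?_⟩
    obtain rfl : i = 0 := Subsingleton.elim _ _
    rw [hε, Fin.prod_univ_one, Fin.prod_univ_one, one_mul]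
    rcases hf 0 a ha with x | x <;> simp [x]
  let e : Fin 4 ≃ t := (finCongr ht.symm).trans t.equivFin.symm
  have hsum : ∀ F : β → ℤ, ∑ k, F (e k) = ∑ b ∈ t, F b := fun F => by
    rw [Equiv.sum_comp e (fun b : t => F b), Finset.sum_coe_sort]
  let h : β → ℤ := fun b => ε (J b) * f i (J b)
  have hh : ∀ b ∈ t, h b = 1 ∨ h b = -1 := by
    intro b hb
    simp only [h, hε, hIJ b hb, Fin.prod_univ_three]
    rcases hf 0 _ (hJ b hb) with a | a <;> rcases hf 1 _ (hJ b hb) with a' | a' <;>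
      rcases hf 2 _ (hJ b hb) with a'' | a'' <;> rcases hg 0 b hb with c | c <;>
      rcases hg 1 b hb with c' | c' <;> rcases hg 2 b hb with c'' | c'' <;>
      rcases hf i _ (hJ b hb) with d | d <;> simp [a, a', a'', c, c', c'', d]
  have hperp : ∑ b ∈ t, h b * (g 0 b * g 1 b * g 2 b) = 0 := by
    have e1 : ∑ b ∈ t, h b * (g 0 b * g 1 b * g 2 b) =
        ∑ a ∈ s, (f 0 a * f 1 a * f 2 a) * f i a := by
      refine Finset.sum_nbij' J I hJ hI hIJ hJI fun b hb => ?_
      simp only [h, hε, hIJ b hb, Fin.prod_univ_three]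
      rcases hg 0 b hb with c | c <;> rcases hg 1 b hb with c' | c' <;>
        rcases hg 2 b hb with c'' | c'' <;> simp [c, c', c'']
    rw [e1]
    fin_cases i
    · rw [← hfo 1 2 (by decide)]
      exact Finset.sum_congr rfl fun a ha => by rcases hf 0 a ha with x | x <;> simp [x]
    · rw [← hfo 0 2 (by decide)]
      exact Finset.sum_congr rfl fun a ha => by rcases hf 1 a ha with x | x <;> simp [x]
    · rw [← hfo 0 1 (by decide)]
      exact Finset.sum_congr rfl fun a ha => by rcases hf 2 a ha with x | x <;> simp [x]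
  obtain ⟨j, σ, hσ, hj⟩ := three_match (fun j k => g j (e k)) (fun j k => hg j _ (e k).2)
    (fun a b hab => by rw [hsum (fun b' => g a b' * g b b')]; exact hgo a b hab)
    (fun k => h (e k)) (fun k => hh _ (e k).2)
    (by rw [hsum (fun b' => h b' * (g 0 b' * g 1 b' * g 2 b'))]; exact hperp)
  refine ⟨j, σ, hσ, fun a ha => ?_⟩
  have := hj (e.symm ⟨I a, hI a ha⟩)
  simpa [h, hJI a ha] using this

/-! ## The two halves of perfectness -/

universe u v

variable {G : Type u} [Group G] [Fintype G] {H : Type v} [Group H] [Fintype H]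
  {M : Ideal AlgInt} [M.IsPrime] {B : Set (IrrCharacter G)} [DecidablePred (· ∈ B)]
  {c : Set (IrrCharacter H)} [DecidablePred (· ∈ c)]

theorem kernel_eq_sum (I : IrrCharacter H → IrrCharacter G) (ε : IrrCharacter H → ℤ) (x : G)
    (y : H) : signedBijectionKernel c I ε x y =
      ∑ η ∈ Finset.univ.filter (· ∈ c), (ε η : ℂ) * (I η : G → ℂ) x * (η : H → ℂ) y := by
  rw [signedBijectionKernel, finsum_mem_eq_finite_toFinset_sum _ (Set.toFinite c)]
  exact Finset.sum_congr (by ext; simp) fun _ _ => rfl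

theorem kernel_swap {I : IrrCharacter H → IrrCharacter G} {J : IrrCharacter G → IrrCharacter H}
    (hI : ∀ η ∈ c, I η ∈ B) (hJ : ∀ χ ∈ B, J χ ∈ c) (hJI : ∀ η ∈ c, J (I η) = η)
    (hIJ : ∀ χ ∈ B, I (J χ) = χ) (ε : IrrCharacter H → ℤ) (x : G) (y : H) :
    signedBijectionKernel B J (fun χ => ε (J χ)) y x = signedBijectionKernel c I ε x y := by
  rw [kernel_eq_sum, kernel_eq_sum]
  refine Finset.sum_nbij' J I (fun a ha => ?_) (fun a ha => ?_) (fun a ha => ?_) (fun a ha => ?_)
    fun χ hχ => ?_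
  · exact Finset.mem_filter.2 ⟨Finset.mem_univ _, hJ a (Finset.mem_filter.1 ha).2⟩
  · exact Finset.mem_filter.2 ⟨Finset.mem_univ _, hI a (Finset.mem_filter.1 ha).2⟩
  · exact hIJ a (Finset.mem_filter.1 ha).2
  · exact hJI a (Finset.mem_filter.1 ha).2
  · rw [hIJ χ (Finset.mem_filter.1 hχ).2]; ring

/-- At a singular second argument the kernel is divisible by the first centraliser and vanishes
at a regular first argument. -/
theorem kernel_half {n m : ℕ} {f : Fin n → IrrCharacter H → ℤ}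
    {g : Fin m → IrrCharacter G → ℤ} (hf : SignBasis M c f) (hg : SignBasis M B g)
    {I : IrrCharacter H → IrrCharacter G} {J : IrrCharacter G → IrrCharacter H}
    (hI : ∀ η ∈ c, I η ∈ B) (hJ : ∀ χ ∈ B, J χ ∈ c) (hJI : ∀ η ∈ c, J (I η) = η)
    (hIJ : ∀ χ ∈ B, I (J χ) = χ) {ε : IrrCharacter H → ℤ}
    (hm : ∀ i, ∃ (j : Fin m) (σ : ℤ), ∀ η ∈ c, ε η * f i η = σ * g j (I η)) (x : G) {y : H}
    (hy : 2 ∣ orderOf y) :
    MemLocalRing M (signedBijectionKernel c I ε x y /
        (Nat.card (Subgroup.centralizer ({x} : Set G)) : ℂ)) ∧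
      (¬ 2 ∣ orderOf x → signedBijectionKernel c I ε x y = 0) := by
  classical
  obtain ⟨a, ha, hay⟩ := hf.sing y hy
  choose j σ hj using hm
  have e : signedBijectionKernel c I ε x y = ∑ i, a i * (σ i : ℂ) *
      ∑ χ ∈ Finset.univ.filter (· ∈ B), (g (j i) χ : ℂ) * (χ : G → ℂ) x := by
    have e1 : ∀ i, ∑ χ ∈ Finset.univ.filter (· ∈ B), (g (j i) χ : ℂ) * (χ : G → ℂ) x =
        ∑ η ∈ Finset.univ.filter (· ∈ c), (g (j i) (I η) : ℂ) * (I η : G → ℂ) x := by
      intro i
      refine Finset.sum_nbij' J I (fun a ha => ?_) (fun a ha => ?_) (fun a ha => ?_)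
        (fun a ha => ?_) fun χ hχ => ?_
      · exact Finset.mem_filter.2 ⟨Finset.mem_univ _, hJ a (Finset.mem_filter.1 ha).2⟩
      · exact Finset.mem_filter.2 ⟨Finset.mem_univ _, hI a (Finset.mem_filter.1 ha).2⟩
      · exact hIJ a (Finset.mem_filter.1 ha).2
      · exact hJI a (Finset.mem_filter.1 ha).2
      · rw [hIJ χ (Finset.mem_filter.1 hχ).2]
    simp only [e1, Finset.mul_sum]
    rw [kernel_eq_sum, Finset.sum_comm]
    refine Finset.sum_congr rfl fun η hη => ?_
    rw [hay η (Finset.mem_filter.1 hη).2, Finset.mul_sum]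
    refine Finset.sum_congr rfl fun i _ => ?_
    have := congrArg (fun z : ℤ => (z : ℂ)) (hj i η (Finset.mem_filter.1 hη).2)
    push_cast at this
    linear_combination (I η : G → ℂ) x * a i * this
  rw [e]
  refine ⟨?_, fun hx => Finset.sum_eq_zero fun i _ => by rw [hg.reg _ _ hx, mul_zero]⟩
  rw [Finset.sum_div]
  refine memLocalRing_sum _ _ fun i _ => ?_
  rw [mul_div_assoc]
  exact (locRing M).mul_mem ((locRing M).mul_mem (mem_locRing.2 (ha i))
    (intCast_mem (locRing M) _)) (mem_locRing.2 (hg.div _ _))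

/-- The first centraliser divides the kernel, and the kernel separates regular from singular. -/
theorem kernel_perfect_half (hM : IsPModular 2 M) {n m : ℕ} {f : Fin n → IrrCharacter H → ℤ}
    {g : Fin m → IrrCharacter G → ℤ} (hf : SignBasis M c f) (hg : SignBasis M B g)
    {I : IrrCharacter H → IrrCharacter G} {J : IrrCharacter G → IrrCharacter H}
    (hI : ∀ η ∈ c, I η ∈ B) (hJ : ∀ χ ∈ B, J χ ∈ c) (hJI : ∀ η ∈ c, J (I η) = η)
    (hIJ : ∀ χ ∈ B, I (J χ) = χ) {ε : IrrCharacter H → ℤ}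
    (hm : ∀ i, ∃ (j : Fin m) (σ : ℤ), ∀ η ∈ c, ε η * f i η = σ * g j (I η))
    (hm' : ∀ j, ∃ (i : Fin n) (σ : ℤ), ∀ χ ∈ B, ε (J χ) * g j χ = σ * f i (J χ)) (x : G)
    (y : H) :
    MemLocalRing M (signedBijectionKernel c I ε x y /
        (Nat.card (Subgroup.centralizer ({x} : Set G)) : ℂ)) ∧
      ((IsPRegular 2 x ↔ IsPRegular 2 y) ∨ signedBijectionKernel c I ε x y = 0) := by
  classical
  have hsw := kernel_swap hI hJ hJI hIJ ε
  by_cases hy : 2 ∣ orderOf y
  · obtain ⟨h1, h2⟩ := kernel_half hf hg hI hJ hJI hIJ hm x hy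
    refine ⟨h1, ?_⟩
    by_cases hx : 2 ∣ orderOf x
    · exact .inl (iff_of_false (not_not.2 hx) (not_not.2 hy))
    · exact .inr (h2 hx)
  have hzero : ∀ z : G, 2 ∣ orderOf z → signedBijectionKernel c I ε z y = 0 := fun z hz => by
    rw [← hsw]
    exact (kernel_half hg hf hJ hI hIJ hJI hm' y hz).2 hy
  by_cases hx : 2 ∣ orderOf x
  · rw [hzero x hx, zero_div]
    exact ⟨mem_locRing.1 (locRing M).zero_mem, .inr rfl⟩
  refine ⟨?_, .inl (iff_of_true hx hy)⟩
  have e : ∀ z : G, signedBijectionKernel c I ε z y =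
      ∑ χ ∈ Finset.univ.filter (· ∈ B), ((ε (J χ) : ℂ) * (J χ : H → ℂ) y) * (χ : G → ℂ) z :=
    fun z => by rw [← hsw, kernel_eq_sum]
  rw [e]
  refine regular_div_centralizer hM _ _ (fun χ _ => ?_) (fun z hz => by rw [← e, hzero z hz]) hx
  exact (locRing M).mul_mem (intCast_mem (locRing M) _)
    (mem_locRing_of_isIntegral (irr_isIntegral _ _))

/-- Two sign bases of the same length on blocks with four members give a perfect isometry. -/
theorem exists_isometry (hM : IsPModular 2 M) (hB4 : Nat.card B = 4) (hc4 : Nat.card c = 4)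
    {n : ℕ} (hn : n = 1 ∨ n = 3) {f : Fin n → IrrCharacter H → ℤ}
    {g : Fin n → IrrCharacter G → ℤ} (hf : SignBasis M c f) (hg : SignBasis M B g) :
    ∃ (I : IrrCharacter H → IrrCharacter G) (ε : IrrCharacter H → ℤ),
      IsPerfectIsometry 2 M c B I ε := by
  classical
  haveI : Nonempty (IrrCharacter G) :=
    ⟨((Nat.card_pos_iff.1 (by rw [hB4]; norm_num : 0 < Nat.card B)).1.some : B)⟩
  haveI : Nonempty (IrrCharacter H) :=
    ⟨((Nat.card_pos_iff.1 (by rw [hc4]; norm_num : 0 < Nat.card c)).1.some : c)⟩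
  obtain ⟨e⟩ : Nonempty (c ≃ B) := ⟨(Finite.equivFin _).trans
    ((finCongr (hc4.trans hB4.symm)).trans (Finite.equivFin _).symm)⟩
  set I : IrrCharacter H → IrrCharacter G :=
    fun η => if h : η ∈ c then e ⟨η, h⟩ else Classical.arbitrary _ with hIdef
  set J : IrrCharacter G → IrrCharacter H :=
    fun χ => if h : χ ∈ B then e.symm ⟨χ, h⟩ else Classical.arbitrary _ with hJdef
  have hI : ∀ η ∈ c, I η ∈ B := fun η h => by simp [hIdef, h]
  have hJ : ∀ χ ∈ B, J χ ∈ c := fun χ h => by simp [hJdef, h]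
  have hJI : ∀ η ∈ c, J (I η) = η := fun η h => by simp [hIdef, hJdef, h]
  have hIJ : ∀ χ ∈ B, I (J χ) = χ := fun χ h => by simp [hIdef, hJdef, h]
  let ε : IrrCharacter H → ℤ := fun η => if η ∈ c then (∏ i, f i η) * ∏ i, g i (I η) else 1
  let ε₀ : IrrCharacter H → ℤ := fun η => (∏ i, f i η) * ∏ i, g i (I η)
  let ε₁ : IrrCharacter G → ℤ := fun χ => (∏ i, g i χ) * ∏ i, f i (J χ)
  have hB : (Finset.univ.filter (· ∈ B)).card = 4 := by
    rw [← hB4, Nat.card_eq_fintype_card, Fintype.card_subtype]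
  have hc : (Finset.univ.filter (· ∈ c)).card = 4 := by
    rw [← hc4, Nat.card_eq_fintype_card, Fintype.card_subtype]
  have hm : ∀ i, ∃ (j : Fin n) (σ : ℤ), ∀ η ∈ c, ε η * f i η = σ * g j (I η) := fun i => by
    obtain ⟨j, σ, -, hj⟩ := match_signs (Finset.univ.filter (· ∈ c)) (Finset.univ.filter (· ∈ B))
      hB (I := I) (J := J) (by simpa using hI) (by simpa using hJ) (by simpa using hJI)
      (by simpa using hIJ) hn f g (by simpa using hf.sign) hf.orth (by simpa using hg.sign)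
      hg.orth ε₀ (fun _ => rfl) i
    exact ⟨j, σ, fun η h => by simpa [ε, ε₀, h] using hj η (by simpa using h)⟩
  have hm' : ∀ j, ∃ (i : Fin n) (σ : ℤ), ∀ χ ∈ B, ε (J χ) * g j χ = σ * f i (J χ) := fun i => by
    obtain ⟨j, σ, -, hj⟩ := match_signs (Finset.univ.filter (· ∈ B)) (Finset.univ.filter (· ∈ c))
      hc (I := J) (J := I) (by simpa using hJ) (by simpa using hI) (by simpa using hIJ)
      (by simpa using hJI) hn g f (by simpa using hg.sign) hg.orth (by simpa using hf.sign)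
      hf.orth ε₁ (fun _ => rfl) i
    refine ⟨j, σ, fun χ h => ?_⟩
    have e1 : ε (J χ) = ε₁ χ := by simp only [ε, ε₁, if_pos (hJ χ h), hIJ χ h, mul_comm]
    rw [e1]
    exact hj χ (by simpa using h)
  refine ⟨I, ε, ⟨fun η h => hI η h, fun a ha b hb h => ?_, fun χ h => ⟨J χ, hJ χ h, hIJ χ h⟩⟩,
    fun η h => ?_, fun x y => ?_⟩
  · rw [← hJI a ha, h, hJI b hb]
  · simp only [ε, if_pos h]
    have hmul : ∀ a b : ℤ, (a = 1 ∨ a = -1) → (b = 1 ∨ b = -1) → (a * b = 1 ∨ a * b = -1) := by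
      rintro a b (rfl | rfl) (rfl | rfl) <;> simp
    exact hmul _ _
      (Finset.prod_induction _ (fun z : ℤ => z = 1 ∨ z = -1) hmul (.inl rfl)
        fun i _ => hf.sign i η h)
      (Finset.prod_induction _ (fun z : ℤ => z = 1 ∨ z = -1) hmul (.inl rfl)
        fun i _ => hg.sign i _ (hI η h))
  · obtain ⟨h1, h2⟩ := kernel_perfect_half hM hf hg hI hJ hJI hIJ hm hm' x y
    refine ⟨h1, ?_, h2⟩
    have hm'' : ∀ j, ∃ (i : Fin n) (σ : ℤ), ∀ η ∈ c,
        ε (J (I η)) * f j η = σ * g i (I η) := fun j => by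
      obtain ⟨i, σ, h⟩ := hm j
      exact ⟨i, σ, fun η hη => by rw [hJI η hη]; exact h η hη⟩
    have h3 := (kernel_perfect_half hM hg hf hJ hI hIJ hJI
      (ε := fun χ => ε (J χ)) hm' hm'' y x).1
    rwa [kernel_swap hI hJ hJI hIJ] at h3

/-! ## The inertial index of the correspondent -/

omit [Fintype H] [DecidablePred fun χ => χ ∈ c]

section Correspondent

variable {P : Subgroup G}

/-- The centraliser of the defect group inside its normaliser. -/
noncomputable def centralizerEquiv (P : Subgroup G) :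
    Subgroup.centralizer ((P.subgroupOf (Subgroup.normalizer (P : Set G)) :
      Subgroup (Subgroup.normalizer (P : Set G))) : Set (Subgroup.normalizer (P : Set G))) ≃*
      Subgroup.centralizer (P : Set G) where
  toFun k := ⟨((k : Subgroup.normalizer (P : Set G)) : G), fun v hv =>
    congrArg Subtype.val (k.2 ⟨v, Subgroup.le_normalizer hv⟩ hv)⟩
  invFun k := ⟨⟨k, Subgroup.centralizer_le_normalizer _ k.2⟩, fun v hv =>
    Subtype.ext (k.2 (v : G) hv)⟩
  left_inv _ := rfl
  right_inv _ := rfl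
  map_mul' _ _ := rfl

/-- A block with a Klein four defect group and its correspondent in the normaliser have sign
bases of the same length. -/
theorem exists_signBases (hM : IsPModular 2 M) (hB : IsPBlock M B)
    (hPD : IsDefectGroup 2 M B P) (hV : IsKleinFour P)
    [Fintype (Subgroup.normalizer (P : Set G))]
    {c : Set (IrrCharacter (Subgroup.normalizer (P : Set G)))} [DecidablePred (· ∈ c)]
    (hcD : IsDefectGroup 2 M c (P.subgroupOf (Subgroup.normalizer (P : Set G))))
    (hc : IsInducedBlock M (Subgroup.normalizer (P : Set G)) c B) :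
    ∃ (n : ℕ) (f : Fin n → IrrCharacter (Subgroup.normalizer (P : Set G)) → ℤ)
      (g : Fin n → IrrCharacter G → ℤ),
      (n = 1 ∨ n = 3) ∧ Nat.card B = 4 ∧ Nat.card c = 4 ∧ SignBasis M c f ∧ SignBasis M B g := by
  classical
  haveI : CharP (resField M) 2 := resField_charP hM
  let N := Subgroup.normalizer (P : Set G)
  let C := Subgroup.centralizer (P : Set G)
  let P' := P.subgroupOf N
  let C' := Subgroup.centralizer (P' : Set N)
  have hCN : C ≤ N := Subgroup.centralizer_le_normalizer _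
  have hpg : IsPGroup 2 P := ((isDefectGroup_iff hB P).1 hPD).pgroup
  have hPC : P ≤ C := le_centralizer_of_card_le_four hpg hV.card_four.le
  -- the root block
  obtain ⟨z, hz⟩ := exists_pairOf_defGrp (isBlk_zB N hc.1)
    ((isDefectGroup_subgroupOf_iff hc.1 Subgroup.le_normalizer).1 hcD)
  have hzB := pairOf_of_induced hM hc hz hCN
  have hblk : IsBlk C z := hzB.pair.blkC
  obtain ⟨c0, hc0, rfl⟩ := exists_eq_zB hblk
  have hp := pairOf_self (M := M) hc0 hpg hPC rfl
  have hc0B : IsInducedBlock M C c0 B := induced_of_pairOf hM hc0 hB hp le_rfl hzB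
  have hin : IsInducedBlockIn M N C c0 c :=
    inducedIn_of_pairOf hM hCN hc0 hc.1 hp inf_le_right hz
  let eqv := centralizerEquiv P
  have hc0' : IsPBlock M (pullB eqv c0) := isPBlock_pullB eqv hc0
  have hind' : IsInducedBlock M C' (pullB eqv c0) c := by
    refine ⟨hc0', hc.1, fun ξ hξ χ hχ t => ?_⟩
    have h := hin.2.2 _ hξ χ hχ t
    convert h using 2
    rw [inducedCentralChar, inducedCentralCharIn]
    refine finsum_mem_eq_of_bijOn eqv ⟨fun k hk => ?_, eqv.injective.injOn, fun k hk => ?_⟩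
      fun k _ => ?_
    · obtain ⟨w, hw⟩ := isConj_iff.1 (IsConj.symm (show IsConj t (k : N) from hk))
      exact ⟨w, congrArg Subtype.val hw⟩
    · obtain ⟨w, hw⟩ := hk
      refine ⟨eqv.symm k, IsConj.symm (isConj_iff.2 ⟨w, Subtype.ext ?_⟩), eqv.apply_symm_apply k⟩
      exact hw
    · rw [pullIrr_apply, pullIrr_apply, map_one, eqv.symm_apply_apply]
  have hV' : IsKleinFour P' := by
    let e := Subgroup.subgroupOfEquivOfLe (Subgroup.le_normalizer : P ≤ N)
    constructor
    · rw [Nat.card_congr e.toEquiv]; exact hV.card_four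
    · rw [Monoid.exponent_eq_of_mulEquiv e]; exact hV.exponent_two
  -- the stabilisers
  have hmap : ∀ g : N, (g ∈ stabP (P', zB M C' (pullB eqv c0)) ↔
      (g : G) ∈ stabP (P, zB M C c0)) := by
    intro g
    have hgP : g ∈ Subgroup.normalizer (P' : Set N) := by
      refine Subgroup.mem_normalizer_iff.2 fun v => ?_
      simpa [P', Subgroup.mem_subgroupOf] using Subgroup.mem_normalizer_iff.1 g.2 (v : G)
    have hgC : (g : G) ∈ Subgroup.normalizer (C : Set G) :=
      normalizer_le_normalizer_centralizer P g.2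
    have hgC' : g ∈ Subgroup.normalizer (C' : Set N) :=
      normalizer_le_normalizer_centralizer P' hgP
    refine Iff.trans (stab_iff (Q := P') hc0' g).symm
      (Iff.trans ?_ (stab_iff (Q := P) hc0 (g : G)))
    refine ⟨fun h => ⟨g.2, hgC, fun χ hχ => ?_⟩, fun h => ⟨hgP, hgC', fun χ hχ => ?_⟩⟩
    · obtain ⟨χ', hχ', hconj⟩ := h.2.2 (pullIrr eqv χ) (by
        show pullIrr eqv.symm (pullIrr eqv χ) ∈ c0
        rwa [pullIrr_symm_pullIrr])
      refine ⟨pullIrr eqv.symm χ', hχ', fun k k' hk => ?_⟩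
      have h1 := hconj (eqv.symm k) (eqv.symm k') (Subtype.ext hk)
      rw [pullIrr_apply, eqv.apply_symm_apply] at h1
      rw [pullIrr_apply]
      exact h1
    · obtain ⟨χ', hχ', hconj⟩ := h.2.2 (pullIrr eqv.symm χ) hχ
      refine ⟨pullIrr eqv χ', by
        show pullIrr eqv.symm (pullIrr eqv χ') ∈ c0
        rwa [pullIrr_symm_pullIrr], fun k k' hk => ?_⟩
      have h1 := hconj (eqv k) (eqv k') (congrArg Subtype.val hk)
      rw [pullIrr_apply, eqv.symm_apply_apply] at h1
      rw [pullIrr_apply]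
      exact h1
  have hrel : C'.relIndex (stabP (P', zB M C' (pullB eqv c0))) =
      C.relIndex (stabP (P, zB M C c0)) := by
    have e1 : stabP (P', zB M C' (pullB eqv c0)) = (stabP (P, zB M C c0)).subgroupOf N :=
      Subgroup.ext fun g => (hmap g).trans Subgroup.mem_subgroupOf.symm
    have e2 : C' = C.subgroupOf N := Subgroup.ext fun k => by
      rw [Subgroup.mem_subgroupOf]
      exact ⟨fun h => (eqv ⟨k, h⟩).2, fun h => (eqv.symm ⟨k, h⟩).2⟩
    rw [e1, e2]
    exact Subgroup.relIndex_subgroupOf (stabP_le_normalizer _)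
  obtain ⟨he, hk, -⟩ := klein_block hM hB hPD hV hc0B
  obtain ⟨-, hk', -⟩ := klein_block hM hc.1 hcD hV' hind'
  obtain ⟨n, g, hn, hg⟩ := exists_signBasis hM hB hPD hV hc0B
  obtain ⟨n', f, hn', hf⟩ := exists_signBasis hM hc.1 hcD hV' hind'
  rw [hrel] at hn'
  obtain rfl : n' = n := by simp only [C, N] at hn hn'; omega
  refine ⟨n', f, g, ?_, hk, hk', hf, hg⟩
  omega

end Correspondent

end Cfsg.Agent.KleinSigns
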