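/-
Heights read on a subsection of any defect, and on the whole group.
-/
import Cfsg.Agent.Lib.BrauerPairs.DihedralLocal

set_option linter.unusedSectionVars false
set_option linter.style.haveILetI false

namespace Cfsg.Agent.SectionHeight

open Cfsg MonoidAlgebra Cfsg.Agent.Char Cfsg.Agent.Blocks
open scoped ComplexConjugate

universe u

variable {G : Type u} [Group G] [Fintype G] {p : ℕ} {M : Ideal AlgInt} [M.IsPrime]

/-- The pairing with a class function on the whole group reads the height. -/
theorem regPair_global (hM : IsPModular p M) {B : Set (IrrCharacter G)} (hB : IsPBlock M B)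
    {χ χ₀ : IrrCharacter G} (hχ : χ ∈ B) (hχ₀ : χ₀ ∈ B)
    (h0 : blockHeight p B (χ₀ : G → ℂ) = 0) {v : G → ℂ} (hv : IsClassFunction G v)
    (hvR : ∀ g, MemLocalRing M (conj (v g))) :
    MemLocalRing M (regPair p (blockScale p B) (χ : G → ℂ) v /
        (p : ℂ) ^ blockHeight p B (χ : G → ℂ)) ∧
      (MemLocalIdeal M (regPair p (blockScale p B) (χ : G → ℂ) v /
          (p : ℂ) ^ blockHeight p B (χ : G → ℂ)) ↔
        MemLocalIdeal M (regPair p (blockScale p B) (χ₀ : G → ℂ) v)) := by
  classical
  haveI : Finite (ConjClasses G) := Finite.of_surjective _ ConjClasses.mk_surjective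
  haveI : Fintype (ConjClasses G) := Fintype.ofFinite _
  set d := blockDefect p B with hdd
  let S : IrrCharacter G → ℂ := fun φ => ∑ K : ConjClasses G,
    if p ∣ orderOf K.out then 0 else conj (v K.out) * centralChar (φ : G → ℂ) K.out
  have hSR : ∀ φ, MemLocalRing M (S φ) := fun φ => memLocalRing_sum _ _ fun K _ => by
    split_ifs
    · exact (locRing M).zero_mem
    · exact (locRing M).mul_mem (mem_locRing.2 (hvR _)) (mem_locRing.2 (centralChar_memLocalRing _ _))
  have hScong : MemLocalIdeal M (S χ - S χ₀) := by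
    simp only [S, ← Finset.sum_sub_distrib]
    refine memLocalIdeal_sum _ _ fun K _ => ?_
    split_ifs
    · simpa using memLocalIdeal_zero (M := M)
    · rw [← mul_sub]
      exact MemLocalIdeal.mul_left (hvR _) (isPBlock_sameBlock hB hχ hχ₀ _)
  have key : ∀ φ : IrrCharacter G, regPair p (blockScale p B) (φ : G → ℂ) v =
      ((p ^ d * charDegree (φ : G → ℂ) : ℕ) : ℂ) / (Nat.card G : ℂ) * S φ := by
    intro φ
    let F : G → ℂ := fun w => if p ∣ orderOf w then 0 else conj (v w) * centralChar (φ : G → ℂ) w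
    have hFc : IsClassFunction G F := by
      intro g h
      simp only [F]
      have ho : orderOf (h * g * h⁻¹) = orderOf g := by rw [← MulAut.conj_apply, MulEquiv.orderOf_eq]
      rw [ho, hv g h, centralChar_isConj φ (g := g) (h := h * g * h⁻¹) (isConj_iff.2 ⟨h, rfl⟩)]
    have hS : S φ = ∑ w : G, F w / ((Subgroup.centralizer ({w} : Set G)).index : ℂ) := by
      rw [DihedralLocal.sum_div_index F hFc]
    rw [hS, regPair_eq_sum, Finset.sum_filter, Finset.mul_sum, Finset.mul_sum]
    refine Finset.sum_congr rfl fun w _ => ?_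
    by_cases hw : p ∣ orderOf w
    · simp [F, hw]
    · simp only [F, if_neg hw, if_pos hw, blockScale, centralChar, irr_one_eq_charDegree φ]
      have hdφ : (charDegree (φ : G → ℂ) : ℂ) ≠ 0 := Nat.cast_ne_zero.2 (charDegree_pos φ).ne'
      have hiw : ((Subgroup.centralizer ({w} : Set G)).index : ℂ) ≠ 0 :=
        Nat.cast_ne_zero.2 Subgroup.index_ne_zero_of_finite
      have hGn : (Nat.card G : ℂ) ≠ 0 := Nat.cast_ne_zero.2 Nat.card_pos.ne'
      push_cast
      field_simp
      ring
  set h := blockHeight p B (χ : G → ℂ) with hh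
  have hfac : ∀ φ ∈ B, MemLocalRing M (((p ^ d * charDegree (φ : G → ℂ) : ℕ) : ℂ) /
        ((Nat.card G * p ^ blockHeight p B (φ : G → ℂ) : ℕ) : ℂ)) ∧
      ¬ MemLocalIdeal M (((p ^ d * charDegree (φ : G → ℂ) : ℕ) : ℂ) /
        ((Nat.card G * p ^ blockHeight p B (φ : G → ℂ) : ℕ) : ℂ)) := by
    intro φ hφ
    have hda : d ≤ (Nat.card G).factorization p := blockDefect_le B
    have e : (p ^ d * charDegree (φ : G → ℂ)).factorization p =
        (Nat.card G * p ^ blockHeight p B (φ : G → ℂ)).factorization p := by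
      rw [Nat.factorization_mul (pow_ne_zero _ hM.1.ne_zero) (charDegree_pos φ).ne',
        Nat.factorization_mul Nat.card_pos.ne' (pow_ne_zero _ hM.1.ne_zero), Finsupp.add_apply,
        Finsupp.add_apply, hM.1.factorization_pow, hM.1.factorization_pow, Finsupp.single_eq_same,
        Finsupp.single_eq_same, degExp_eq_add_height hM hB hφ]
      omega
    exact ⟨memLocalRing_natDiv hM e.ge, not_memLocalIdeal_natDiv hM
      (mul_ne_zero Nat.card_pos.ne' (pow_ne_zero _ hM.1.ne_zero))
      (mul_ne_zero (pow_ne_zero _ hM.1.ne_zero) (charDegree_pos φ).ne') e.le⟩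
  have hL : ∀ φ : IrrCharacter G, regPair p (blockScale p B) (φ : G → ℂ) v /
      (p : ℂ) ^ blockHeight p B (φ : G → ℂ) = ((p ^ d * charDegree (φ : G → ℂ) : ℕ) : ℂ) /
        ((Nat.card G * p ^ blockHeight p B (φ : G → ℂ) : ℕ) : ℂ) * S φ := fun φ => by
    rw [key φ]
    push_cast
    ring
  refine ⟨?_, ?_⟩
  · rw [hL χ]
    exact (locRing M).mul_mem (mem_locRing.2 (hfac χ hχ).1) (mem_locRing.2 (hSR χ))
  · have h00 := hL χ₀
    rw [h0, pow_zero, div_one] at h00
    have h' := hfac χ₀ hχ₀
    rw [h0] at h'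
    rw [h00, hL χ]
    constructor
    · intro hm
      refine MemLocalIdeal.mul_left h'.1 ?_
      have := MemLocalIdeal.sub
        ((memLocalIdeal_mul_cases (hfac χ hχ).1 (hSR _) hm).resolve_left (hfac χ hχ).2) hScong
      simpa using this
    · intro hm
      refine MemLocalIdeal.mul_left (hfac χ hχ).1 ?_
      have := MemLocalIdeal.add hScong
        ((memLocalIdeal_mul_cases h'.1 (hSR _) hm).resolve_left h'.2)
      simpa using this

variable {x : G} {C : Subgroup G} [Fintype C] {b : Set (IrrCharacter C)} {B : Set (IrrCharacter G)}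

/-- A subsection reads the height up to the difference of the defects. -/
theorem regPair_height (hM : IsPModular p M) (hx : ∃ k, orderOf x = p ^ k)
    (hC : C = Subgroup.centralizer ({x} : Set G)) (hind : IsInducedBlock M C b B)
    (hd : blockDefect p b ≤ blockDefect p B) {χ χ₀ : IrrCharacter G} (hχ : χ ∈ B) (hχ₀ : χ₀ ∈ B)
    (h0 : blockHeight p B (χ₀ : G → ℂ) = 0) {v : C → ℂ} (hv : IsClassFunction C v)
    (hvR : ∀ u, MemLocalRing M (conj (v u))) :
    MemLocalRing M ((p : ℂ) ^ (blockDefect p B - blockDefect p b) *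
        regPair p (blockScale p b) (secFun x C (χ : G → ℂ)) v /
        (p : ℂ) ^ blockHeight p B (χ : G → ℂ)) ∧
      (MemLocalIdeal M ((p : ℂ) ^ (blockDefect p B - blockDefect p b) *
          regPair p (blockScale p b) (secFun x C (χ : G → ℂ)) v /
          (p : ℂ) ^ blockHeight p B (χ : G → ℂ)) ↔
        MemLocalIdeal M ((p : ℂ) ^ (blockDefect p B - blockDefect p b) *
          regPair p (blockScale p b) (secFun x C (χ₀ : G → ℂ)) v)) := by
  classical
  haveI : Finite (ConjClasses C) := Finite.of_surjective _ ConjClasses.mk_surjective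
  haveI : Fintype (ConjClasses C) := Fintype.ofFinite _
  set d := blockDefect p B with hdd
  set a := (Nat.card G).factorization p with ha
  let S : IrrCharacter G → ℂ := fun φ => ∑ K : ConjClasses C,
    if p ∣ orderOf K.out then 0
    else conj (v K.out) * centralChar (φ : G → ℂ) (x * ((K.out : C) : G))
  have hSR : ∀ φ, MemLocalRing M (S φ) := fun φ => memLocalRing_sum _ _ fun K _ => by
    split_ifs
    · exact (locRing M).zero_mem
    · exact (locRing M).mul_mem (mem_locRing.2 (hvR _)) (mem_locRing.2 (centralChar_memLocalRing _ _))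
  have hScong : ∀ φ ∈ B, MemLocalIdeal M (S φ - S χ₀) := fun φ hφ => by
    simp only [S, ← Finset.sum_sub_distrib]
    refine memLocalIdeal_sum _ _ fun K _ => ?_
    split_ifs
    · simpa using memLocalIdeal_zero (M := M)
    · rw [← mul_sub]
      exact MemLocalIdeal.mul_left (hvR _) (isPBlock_sameBlock hind.2.1 hφ hχ₀ _)
  have key : ∀ φ : IrrCharacter G, (p : ℂ) ^ (blockDefect p B - blockDefect p b) *
      regPair p (blockScale p b) (secFun x C (φ : G → ℂ)) v =
      ((p ^ d * charDegree (φ : G → ℂ) : ℕ) : ℂ) / (Nat.card G : ℂ) * S φ := by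
    intro φ
    let F : C → ℂ := fun w => if p ∣ orderOf w then 0
      else conj (v w) * centralChar (φ : G → ℂ) (x * (w : G))
    have hFc : IsClassFunction C F := by
      intro g h
      simp only [F]
      have ho : orderOf (h * g * h⁻¹) = orderOf g := by rw [← MulAut.conj_apply, MulEquiv.orderOf_eq]
      rw [ho, hv g h, centralChar_isConj φ (g := x * (g : G)) (h := x * ((h * g * h⁻¹ : C) : G)) ?_]
      refine isConj_iff.2 ⟨(h : G), ?_⟩
      have hxh : Commute x (h : G) := Subgroup.mem_centralizer_iff.1 (hC.le h.2) x rfl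
      simp only [Subgroup.coe_mul, Subgroup.coe_inv, ← mul_assoc, hxh.eq]
    have hS : S φ = ∑ w : C, F w / ((Subgroup.centralizer ({w} : Set C)).index : ℂ) := by
      rw [sum_regular_div_index F hFc]
    have hCn : (Nat.card C : ℂ) ≠ 0 := Nat.cast_ne_zero.2 Nat.card_pos.ne'
    have hGn : (Nat.card G : ℂ) ≠ 0 := Nat.cast_ne_zero.2 Nat.card_pos.ne'
    have hpp : (p : ℂ) ^ (blockDefect p B - blockDefect p b) * (p : ℂ) ^ blockDefect p b =
        (p : ℂ) ^ d := by rw [← pow_add, Nat.sub_add_cancel hd]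
    rw [hS, regPair_eq_sum, Finset.sum_filter, Finset.mul_sum, Finset.mul_sum, Finset.mul_sum]
    refine Finset.sum_congr rfl fun w _ => ?_
    by_cases hw : p ∣ orderOf w
    · simp [F, hw]
    · simp only [F, if_neg hw, if_pos hw, secFun, blockScale, hd, centralChar,
        irr_one_eq_charDegree φ]
      have hi := congrArg (Nat.cast (R := ℂ))
        ((Subgroup.centralizer ({x * (w : G)} : Set G)).card_mul_index)
      rw [card_centralizer_section hM.1 hx hC hw] at hi
      have hj := congrArg (Nat.cast (R := ℂ)) (Subgroup.centralizer ({w} : Set C)).card_mul_index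
      push_cast at hi hj ⊢
      rw [← hpp]
      have hdφ : (charDegree (φ : G → ℂ) : ℂ) ≠ 0 := Nat.cast_ne_zero.2 (charDegree_pos φ).ne'
      have hiw : ((Subgroup.centralizer ({w} : Set C)).index : ℂ) ≠ 0 :=
        Nat.cast_ne_zero.2 Subgroup.index_ne_zero_of_finite
      rw [← hi, ← hj]
      have hcw : (Nat.card (Subgroup.centralizer ({w} : Set C)) : ℂ) ≠ 0 :=
        Nat.cast_ne_zero.2 Nat.card_pos.ne'
      have hix : ((Subgroup.centralizer ({x * (w : G)} : Set G)).index : ℂ) ≠ 0 :=
        Nat.cast_ne_zero.2 Subgroup.index_ne_zero_of_finite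
      field_simp
  set h := blockHeight p B (χ : G → ℂ) with hh
  have hG0 : (Nat.card G) ≠ 0 := Nat.card_pos.ne'
  have hfac : ∀ φ ∈ B, MemLocalRing M (((p ^ d * charDegree (φ : G → ℂ) : ℕ) : ℂ) /
        ((Nat.card G * p ^ blockHeight p B (φ : G → ℂ) : ℕ) : ℂ)) ∧
      ¬ MemLocalIdeal M (((p ^ d * charDegree (φ : G → ℂ) : ℕ) : ℂ) /
        ((Nat.card G * p ^ blockHeight p B (φ : G → ℂ) : ℕ) : ℂ)) := by
    intro φ hφ
    have hda : d ≤ a := blockDefect_le B
    have e : (p ^ d * charDegree (φ : G → ℂ)).factorization p =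
        (Nat.card G * p ^ blockHeight p B (φ : G → ℂ)).factorization p := by
      rw [Nat.factorization_mul (pow_ne_zero _ hM.1.ne_zero) (charDegree_pos φ).ne',
        Nat.factorization_mul hG0 (pow_ne_zero _ hM.1.ne_zero), Finsupp.add_apply,
        Finsupp.add_apply, hM.1.factorization_pow, hM.1.factorization_pow, Finsupp.single_eq_same,
        Finsupp.single_eq_same, degExp_eq_add_height hM hind.2.1 hφ]
      omega
    exact ⟨memLocalRing_natDiv hM e.ge, not_memLocalIdeal_natDiv hM
      (mul_ne_zero hG0 (pow_ne_zero _ hM.1.ne_zero))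
      (mul_ne_zero (pow_ne_zero _ hM.1.ne_zero) (charDegree_pos φ).ne') e.le⟩
  have hL : ∀ φ : IrrCharacter G, (p : ℂ) ^ (blockDefect p B - blockDefect p b) *
      regPair p (blockScale p b) (secFun x C (φ : G → ℂ)) v /
      (p : ℂ) ^ blockHeight p B (φ : G → ℂ) = ((p ^ d * charDegree (φ : G → ℂ) : ℕ) : ℂ) /
        ((Nat.card G * p ^ blockHeight p B (φ : G → ℂ) : ℕ) : ℂ) * S φ := fun φ => by
    rw [key φ]
    push_cast
    ring
  refine ⟨?_, ?_⟩
  · rw [hL χ]
    exact (locRing M).mul_mem (mem_locRing.2 (hfac χ hχ).1) (mem_locRing.2 (hSR χ))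
  · have h00 := hL χ₀
    rw [h0, pow_zero, div_one] at h00
    have hf0 : MemLocalIdeal M ((p : ℂ) ^ (blockDefect p B - blockDefect p b) *
        regPair p (blockScale p b) (secFun x C (χ₀ : G → ℂ)) v) ↔
        MemLocalIdeal M (S χ₀) := by
      have h' := hfac χ₀ hχ₀
      rw [h0] at h'
      rw [h00]
      exact ⟨fun hm => (memLocalIdeal_mul_cases h'.1 (hSR _) hm).resolve_left h'.2,
        fun hm => MemLocalIdeal.mul_left h'.1 hm⟩
    rw [hf0, hL χ]
    refine ⟨fun hm => ?_, fun hm => MemLocalIdeal.mul_left (hfac χ hχ).1 ?_⟩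
    · have := MemLocalIdeal.sub
        ((memLocalIdeal_mul_cases (hfac χ hχ).1 (hSR _) hm).resolve_left (hfac χ hχ).2) (hScong χ hχ)
      simpa using this
    · have := MemLocalIdeal.add (hScong χ hχ) hm
      simpa using this

end Cfsg.Agent.SectionHeight
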