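/-
The pairing of two characters at a major subsection of an involution, and at a subsection whose
height zero characters exhaust the bound.
-/
import Cfsg.Agent.Lib.BrauerPairs.SectionHeight
import Cfsg.Agent.Lib.BrauerPairs.DihedralBlock

set_option linter.unusedSectionVars false
set_option linter.style.haveILetI false

namespace Cfsg.Agent.MajorSection

open Cfsg MonoidAlgebra Cfsg.Agent.Blocks Cfsg.Agent.BrauerPairs Cfsg.Agent.Char Cfsg.Agent.Star
  Cfsg.Agent.DihedralLocal
open scoped ComplexConjugate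

universe u

variable {G : Type u} [Group G] [Fintype G] {p : ℕ} {M : Ideal AlgInt} [M.IsPrime]

/-- The pairing of two characters at a subsection. -/
noncomputable def mp (p : ℕ) {x : G} (b : Set (IrrCharacter (secC x))) (χ ψ : IrrCharacter G) : ℂ :=
  regPair p (blockScale p b) (blockPart b (secFun x (secC x) (χ : G → ℂ)))
    (blockPart b (secFun x (secC x) (ψ : G → ℂ)))

variable {x : G} {b : Set (IrrCharacter (secC x))} {B : Set (IrrCharacter G)}

theorem mp_eq_contrib (χ ψ : IrrCharacter G) : mp p b χ ψ = contrib p x b χ ψ := by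
  classical
  rw [mp, contrib, regPair_eq_sum, blockScale]
  push_cast
  rfl

theorem regPair_self_eq (lam : ℝ) (f : G → ℂ) :
    regPair p lam f f = ((lam * ∑ u, Complex.normSq (pRegularPart p f u) : ℝ) : ℂ) := by
  simp only [regPair, Complex.mul_conj]
  push_cast
  rfl

theorem regPair_self_re_nonneg {lam : ℝ} (hlam : 0 ≤ lam) (f : G → ℂ) :
    0 ≤ (regPair p lam f f).re := by
  rw [regPair_self_eq, Complex.ofReal_re]
  exact mul_nonneg hlam (Finset.sum_nonneg fun u _ => Complex.normSq_nonneg _)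

theorem eq_zero_of_regPair_self {lam : ℝ} (hlam : lam ≠ 0) {f : G → ℂ}
    (h : regPair p lam f f = 0) : pRegularPart p f = 0 := by
  rw [regPair_self_eq, Complex.ofReal_eq_zero, mul_eq_zero, or_iff_right hlam,
    Finset.sum_eq_zero_iff_of_nonneg fun u _ => Complex.normSq_nonneg _] at h
  funext u
  exact Complex.normSq_eq_zero.1 (h u (Finset.mem_univ u))

theorem blockScale_ne_zero (hp : p.Prime) (c : Set (IrrCharacter G)) : blockScale p c ≠ 0 :=
  div_ne_zero (pow_ne_zero _ (Nat.cast_ne_zero.2 hp.ne_zero)) (Nat.cast_ne_zero.2 Nat.card_pos.ne')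

theorem blockPart_secFun_memLocalRing (x : G) (b : Set (IrrCharacter (secC x)))
    (χ : IrrCharacter G) (s : secC x) :
    MemLocalRing M (conj (blockPart b (secFun x (secC x) (χ : G → ℂ)) s)) :=
  mem_locRing_of_isIntegral
    (map_isIntegral_int (starRingEnd ℂ) (blockPart_secFun_isIntegral x b χ s))

theorem blockPart_self' {H : Type u} [Group H] [Fintype H] (c : Set (IrrCharacter H)) (f : H → ℂ) :
    blockPart c (blockPart c f) = blockPart c f :=
  NilpotentStructure.blockPart_self c f

/-- The pairing at a major subsection reads the height. -/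
theorem mp_height (hM : IsPModular p M) (hx : ∃ k, orderOf x = p ^ k)
    (hind : IsInducedBlock M (secC x) b B) (hd : blockDefect p b = blockDefect p B)
    {χ χ₀ : IrrCharacter G} (hχ : χ ∈ B) (hχ₀ : χ₀ ∈ B)
    (h0 : blockHeight p B (χ₀ : G → ℂ) = 0) (ψ : IrrCharacter G) :
    MemLocalRing M (mp p b χ ψ / (p : ℂ) ^ blockHeight p B (χ : G → ℂ)) ∧
      (MemLocalIdeal M (mp p b χ ψ / (p : ℂ) ^ blockHeight p B (χ : G → ℂ)) ↔
        MemLocalIdeal M (mp p b χ₀ ψ)) := by
  classical
  set v := blockPart b (secFun x (secC x) (ψ : G → ℂ)) with hv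
  have e : ∀ φ : IrrCharacter G,
      regPair p (blockScale p b) (secFun x (secC x) (φ : G → ℂ)) v = mp p b φ ψ := fun φ =>
    regPair_blockPart hM hind.1 _ _ (blockPart_self' _ _)
  have h := regPair_major hM hx (secC_eq x) hind hd hχ hχ₀ h0
    (isClassFunction_blockPart b _) (fun s => blockPart_secFun_memLocalRing x b ψ s) (v := v)
  rw [e, e] at h
  exact h

/-- At a subsection of an involution the pairing is an integer. -/
theorem exists_int_mp (hM : IsPModular p M) (hb : IsPBlock M b) (hx2 : x * x = 1) :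
    ∃ m : IrrCharacter G → IrrCharacter G → ℤ,
      (∀ χ ψ, mp p b χ ψ = (m χ ψ : ℂ)) ∧ ∀ χ ψ, m χ ψ = m ψ χ := by
  classical
  obtain ⟨r, hr, hsymm, -⟩ := exists_rMat hM hb
  have hx : (⟨x, mem_secC.2 rfl⟩ : secC x) ∈ Subgroup.center (secC x) :=
    Subgroup.mem_center_iff.2 fun g => Subtype.ext (mem_secC.1 g.2)
  choose c _ hc _ using fun φ : IrrCharacter (secC x) => IsIrrCharacter.exists_central_scalar φ.2 hx
  have hcz : ∀ φ, ∃ e : ℤ, c φ = (e : ℂ) := fun φ => by
    have h1 := hc φ ⟨x, mem_secC.2 rfl⟩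
    have h2 := hc φ 1
    rw [mul_one] at h2
    rw [show (⟨x, mem_secC.2 rfl⟩ : secC x) * ⟨x, mem_secC.2 rfl⟩ = 1 from Subtype.ext hx2, h2,
      ← mul_assoc] at h1
    have h3 : c φ * c φ = 1 := (mul_eq_right₀ (irr_one_ne_zero φ)).1 h1.symm
    rcases mul_self_eq_one_iff.1 h3 with h | h
    · exact ⟨1, by rw [h]; simp⟩
    · exact ⟨-1, by rw [h]; simp⟩
  choose e he using hcz
  choose N hN using fun (χ : IrrCharacter G) (φ : IrrCharacter (secC x)) =>
    IsCharacter.exists_classInner_nat (IsCharacter.restrict (irr_isCharacter χ) (secC x))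
      (irr_isCharacter φ)
  have hcoef : ∀ (χ : IrrCharacter G) (φ : IrrCharacter (secC x)),
      classInner (secFun x (secC x) (χ : G → ℂ)) (φ : secC x → ℂ) = ((e φ * N χ φ : ℤ) : ℂ) := by
    intro χ φ
    have hres : IsClassFunction (secC x) fun w : secC x => (χ : G → ℂ) w :=
      IsCharacter.isClassFunction (IsCharacter.restrict (irr_isCharacter χ) _)
    have hf : secFun x (secC x) (χ : G → ℂ) = ∑ ψ : IrrCharacter (secC x),
        (classInner (fun w : secC x => (χ : G → ℂ) w) (ψ : secC x → ℂ) * c ψ) •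
          (ψ : secC x → ℂ) := by
      funext w
      have h := congrFun (classFunction_eq_sum hres) ((⟨x, mem_secC.2 rfl⟩ : secC x) * w)
      simp only [Finset.sum_apply, Pi.smul_apply, smul_eq_mul] at h ⊢
      refine h.trans (Finset.sum_congr rfl fun ψ _ => ?_)
      rw [hc]; ring
    rw [hf, classInner_combination, hN, he]
    push_cast
    ring
  have hpart : ∀ χ : IrrCharacter G, blockPart b (secFun x (secC x) (χ : G → ℂ)) =
      bcomb b fun φ => ((e φ * N χ φ : ℤ) : ℂ) := fun χ => by
    funext s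
    rw [blockPart_eq_sum]
    exact Finset.sum_congr rfl fun φ _ => by rw [hcoef]
  set T := Finset.univ.filter (· ∈ b) with hT
  refine ⟨fun χ ψ => ∑ φ ∈ T, e φ * N χ φ * ∑ η ∈ T, e η * N ψ η * r φ η, fun χ ψ => ?_,
    fun χ ψ => ?_⟩
  · rw [mp, hpart, hpart, regPair_bcomb_left]
    push_cast
    refine Finset.sum_congr rfl fun φ hφ => ?_
    congr 1
    rw [← regPair_conj, regPair_bcomb_left, map_sum]
    refine Finset.sum_congr rfl fun η hη => ?_
    rw [map_mul, regPair_conj, hr φ (Finset.mem_filter.1 hφ).2 η (Finset.mem_filter.1 hη).2]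
    simp
  · simp only [Finset.mul_sum]
    rw [Finset.sum_comm]
    exact Finset.sum_congr rfl fun φ _ => Finset.sum_congr rfl fun η _ => by rw [hsymm η φ]; ring

/-- When the height zero characters exhaust the bound, all other contributions vanish. -/
theorem mp_eq_zero_of_full (hM : IsPModular p M) (hx : ∃ k, orderOf x = p ^ k)
    (hind : IsInducedBlock M (secC x) b B) [DecidablePred (· ∈ B)]
    [DecidablePred (fun χ => χ ∈ B ∧ blockHeight p B (χ : G → ℂ) = 0)]
    (hfull : (Finset.univ.filter fun χ : IrrCharacter G =>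
      χ ∈ B ∧ blockHeight p B (χ : G → ℂ) = 0).card ^ 2 = p ^ (2 * blockDefect p b) * blockRank p b)
    {χ ψ : IrrCharacter G} (hχ : χ ∈ B) (hψ : ψ ∈ B) (h : blockHeight p B (χ : G → ℂ) ≠ 0) :
    mp p b χ ψ = 0 := by
  classical
  rw [mp_eq_contrib]
  by_contra hne
  set T := Finset.univ.filter (· ∈ B) with hT
  set Z := Finset.univ.filter fun χ : IrrCharacter G => χ ∈ B ∧ blockHeight p B (χ : G → ℂ) = 0
    with hZ
  obtain ⟨hg1, hg2⟩ := contrib_galois hM hx (secC_eq x) hind.1
  let f : IrrCharacter G × IrrCharacter G → ℂ := fun q => contrib p x b q.1 q.2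
  have key : ∀ σ : ℂ ≃+* ℂ, ∑ q ∈ T ×ˢ T, ‖σ (f q)‖ ^ 2 =
      ((p ^ (2 * blockDefect p b) * blockRank p b : ℕ) : ℝ) := by
    intro σ
    have h := congrArg σ (sum_contrib_normSq hM hx (secC_eq x) hind)
    simp_rw [map_sum, map_mul, hg2, map_pow, map_natCast, Complex.mul_conj',
      ← Complex.ofReal_pow, ← Complex.ofReal_sum] at h
    rw [Finset.sum_product, ← Complex.ofReal_inj, Complex.ofReal_natCast]
    push_cast
    rw [← h, Complex.ofReal_sum]
    simp [f, T]
  have hsub : Z ⊆ T := fun q hq =>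
    Finset.mem_filter.2 ⟨Finset.mem_univ _, (Finset.mem_filter.1 hq).2.1⟩
  have hnot : (χ, ψ) ∉ Z ×ˢ Z := fun hq =>
    h (Finset.mem_filter.1 (Finset.mem_product.1 hq).1).2.2
  have hle := card_le_of_conj_sum (insert (χ, ψ) (Z ×ˢ Z)) f (Nat.card_pos (α := G)).ne'
    (fun q _ => contrib_isIntegral hM hx (secC_eq x) hind.1 _ _) (fun q hq h0 => ?_)
    (fun σ τ h q _ => hg1 σ τ h _ _) (S := ((p ^ (2 * blockDefect p b) * blockRank p b : ℕ) : ℝ))
    (fun σ => le_trans (Finset.sum_le_sum_of_subset_of_nonneg (Finset.insert_subset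
      (Finset.mk_mem_product (Finset.mem_filter.2 ⟨Finset.mem_univ _, hχ⟩)
        (Finset.mem_filter.2 ⟨Finset.mem_univ _, hψ⟩))
      (Finset.product_subset_product hsub hsub)) fun _ _ _ => sq_nonneg _) (key σ).le)
  · rw [Finset.card_insert_of_notMem hnot, Finset.card_product, ← sq, Nat.cast_le, ← hfull] at hle
    omega
  · rcases Finset.mem_insert.1 hq with rfl | hq
    · exact hne h0
    · obtain ⟨h1, h2⟩ := Finset.mem_product.1 hq
      obtain ⟨-, hB1, h01⟩ := Finset.mem_filter.1 h1
      obtain ⟨-, hB2, h02⟩ := Finset.mem_filter.1 h2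
      refine contrib_not_mem hM hx (secC_eq x) hind hB1 hB2 h01 h02 ?_
      rw [show contrib p x b q.1 q.2 = 0 from h0]
      exact memLocalIdeal_zero

end Cfsg.Agent.MajorSection
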