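/-
Local blocks below a maximal pair, and the singular columns through a nilpotent local block.
-/
import Cfsg.Agent.Lib.BrauerPairs.DihedralLocal

set_option linter.unusedSectionVars false
set_option linter.style.haveILetI false

namespace Cfsg.Agent.NilpotentColumns

open Cfsg MonoidAlgebra Cfsg.Agent.Blocks Cfsg.Agent.BrauerPairs Cfsg.Agent.Char Cfsg.Agent.Star
  Cfsg.Agent.InertiaHeight Cfsg.Agent.NilpotentKeys Cfsg.Agent.NilpotentStructure
  Cfsg.Agent.NilpotentMain Cfsg.Agent.LiftPairs Cfsg.Agent.DihedralLocal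
open scoped ComplexConjugate

universe u

variable {G : Type u} [Group G] [Fintype G] {M : Ideal AlgInt} [M.IsPrime]
  {B : Set (IrrCharacter G)}

/-- The local block below a maximal pair, with a maximal pair of its own. -/
structure LocalMax (M : Ideal AlgInt) [M.IsPrime] (B : Set (IrrCharacter G))
    (a : Pr (resField M) G) (u : G) (b : Set (IrrCharacter (secC u)))
    (aC : Pr (resField M) (secC u)) : Prop where
  blk : IsPBlock M b
  below : SubLE 2 ⊤ ((Subgroup.zpowers u, zB M (secC u) b) : Pr (resField M) G) a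
  ind : IsInducedBlock M (secC u) b B
  max : IsMax 2 (Ek M b) aC
  mem : u ∈ aC.1.map (secC u).subtype
  centLe : Subgroup.centralizer ((aC.1.map (secC u).subtype : Subgroup G) : Set G) ≤ secC u
  sub : SubLE 2 ⊤ ((Subgroup.zpowers u, zB M (secC u) b) : Pr (resField M) G) (liftP (secC u) aC)
  pairOf : IsPairOf 2 ⊤ (Ek M B) (liftP (secC u) aC)
  ge : Nat.card (a.1 ⊓ secC u : Subgroup G) ≤ Nat.card aC.1
  cjg : ∃ g : G, cjS g (aC.1.map (secC u).subtype) ≤ a.1 ⊓ secC (g * u * g⁻¹) ∧
    SubLE 2 ⊤ (cjP g ((Subgroup.zpowers u, zB M (secC u) b) : Pr (resField M) G)) a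

theorem exists_localMax (hM : IsPModular 2 M) (hB : IsPBlock M B) {a : Pr (resField M) G}
    [CharP (resField M) 2] (hmax : IsMax 2 (Ek M B) a) {u : G} (hu : u ∈ a.1) :
    ∃ b aC, LocalMax M B a u b aC := by
  classical
  haveI : Fact (Nat.Prime 2) := ⟨Nat.prime_two⟩
  set C := secC u with hC
  have hsub := belowAt_spec (p := 2) hmax.pair (x := u) hu
  obtain ⟨b, hb, hbe⟩ := exists_eq_zB (H := C) (hsub.left hmax.pair).blk
  simp only at hbe
  rw [← hbe] at hsub
  have hpu : IsPairOf 2 ⊤ (Ek M B) ((Subgroup.zpowers u, zB M C b) : Pr (resField M) G) :=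
    hsub.pairOf_iff.2 hmax.pairOf
  obtain ⟨i, hi⟩ := pPow_of_mem (p := 2) hmax.pair hu
  have hind : IsInducedBlock M C b B := (induced_iff_pairOf hM hB ⟨i, hi⟩ (secC_eq u) hb).2 hpu
  obtain ⟨R, hR⟩ := exists_isDefectGroup (p := 2) hb
  have hRg := (isDefectGroup_iff hb R).1 hR
  obtain ⟨eC, heC⟩ := exists_pairOf_defGrp (isBlk_Ek hb) hRg
  set aC : Pr (resField M) C := (R, eC) with haC
  set u' : C := ⟨u, mem_secC.2 rfl⟩ with hu'
  have hcen : u' ∈ Subgroup.center C := Subgroup.mem_center_iff.2 fun g =>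
    Subtype.ext (mem_secC.1 g.2)
  haveI : (Subgroup.zpowers u').Normal := ⟨fun v hv g => by
    have hvc : v ∈ Subgroup.center C := Subgroup.zpowers_le.2 hcen hv
    rw [Subgroup.mem_center_iff.1 hvc g, mul_inv_cancel_right]; exact hv⟩
  have huR : u' ∈ R := le_defectGroup_of_normal hM hb hR _ (IsPGroup.of_card (n := i) (by
    rw [Nat.card_zpowers, hu', Subgroup.orderOf_mk, hi])) (Subgroup.mem_zpowers u')
  have humap : u ∈ R.map C.subtype := ⟨u', huR, rfl⟩
  have hcentU : C = Subgroup.centralizer ((Subgroup.zpowers u : Subgroup G) : Set G) := by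
    rw [centralizer_zpowers_eq, hC, secC_eq]
  have hCa : Subgroup.centralizer ((R.map C.subtype : Subgroup G) : Set G) ≤ C := by
    conv_rhs => rw [hcentU]
    exact Subgroup.centralizer_le (Subgroup.zpowers_le.2 humap)
  have hNz : C ≤ Subgroup.normalizer ((Subgroup.zpowers u : Subgroup G) : Set G) :=
    hcentU.le.trans (Subgroup.centralizer_le_normalizer _)
  have hmapC : R.map C.subtype ≤ C := Subgroup.map_subtype_le _
  have hns : NSub 2 ⊤ ((Subgroup.zpowers u, zB M C b) : Pr (resField M) G) (liftP C aC) := by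
    refine ⟨hsub.left hmax.pair, isPair_liftP heC.pair hCa, Subgroup.zpowers_le.2 humap,
      hmapC.trans hNz, fun v hv => (isBlk_zB C hb).inZ.inv v (hmapC hv), ?_⟩
    show brTrunc (R.map C.subtype) (emb C (Ek M b)) * emb C eC = emb C eC
    rw [brTrunc_emb, ← map_mul, heC.occ]
  have hlift : IsPairOf 2 ⊤ (Ek M B) (liftP C aC) := hns.pairOf_right hpu
  have hsublift : SubLE 2 ⊤ ((Subgroup.zpowers u, zB M C b) : Pr (resField M) G) (liftP C aC) :=
    Relation.ReflTransGen.single hns
  refine ⟨b, aC, hb, hsub, hind, ⟨heC, hRg⟩, humap, hCa, hsublift, hlift, ?_, ?_⟩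
  · -- the centraliser in the defect group
    set K : Subgroup G := a.1 ⊓ C with hK
    have huK : u ∈ K := ⟨hu, mem_secC.2 rfl⟩
    obtain ⟨e, he, -⟩ := existsUnique_below hmax.pair (Q := K) inf_le_left
    have hKp : IsPair 2 ⊤ ((K, e) : Pr (resField M) G) := he.left hmax.pair
    obtain ⟨f, hf, -⟩ := existsUnique_below hKp (Q := Subgroup.zpowers u)
      (Subgroup.zpowers_le.2 huK)
    have hfe : f = zB M C b := (existsUnique_below hmax.pair (Subgroup.zpowers_le.2 hu)).unique
      (Relation.ReflTransGen.trans hf he) hsub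
    rw [hfe] at hf
    have hCK : Subgroup.centralizer (K : Set G) ≤ C := by
      conv_rhs => rw [hcentU]
      exact Subgroup.centralizer_le (Subgroup.zpowers_le.2 huK)
    have hKpair : IsPairOf 2 C (zB M C b) ((K, e) : Pr (resField M) G) :=
      ⟨(isPair_sub_iff hCK).2 ⟨hKp, inf_le_right⟩, isBlk_zB C hb,
        (hf.nsub hKp (inf_le_right.trans hNz)).occ⟩
    have hDg : IsDefGrp 2 C (zB M C b) (R.map C.subtype) := (isDefectGroup_sub_iff hb R).1 hR
    have h1 := hKpair.card_le hDg
    exact h1.trans (le_of_eq (Nat.card_congr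
      (Subgroup.equivMapOfInjective R C.subtype C.subtype_injective).toEquiv.symm))
  · obtain ⟨g, -, hg⟩ := exists_conj_subLE hmax.pairOf hlift hmax.isDef
    refine ⟨g, le_inf hg.le ?_, Relation.ReflTransGen.trans (hsublift.cjT g) hg⟩
    rw [← cjS_secC]
    exact cjS_mono g hmapC

theorem LocalMax.card_map {a : Pr (resField M) G} {u : G} {b : Set (IrrCharacter (secC u))}
    {aC : Pr (resField M) (secC u)} (_h : LocalMax M B a u b aC) :
    Nat.card (aC.1.map (secC u).subtype : Subgroup G) = Nat.card aC.1 :=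
  (Nat.card_congr
    (Subgroup.equivMapOfInjective aC.1 (secC u).subtype (secC u).subtype_injective).toEquiv).symm

/-- Nilpotence from the action of the regular elements on the subgroups of the defect group. -/
theorem isNilB_of_fix {C : Subgroup G} {b : Set (IrrCharacter C)} {aC : Pr (resField M) C}
    [CharP (resField M) 2] (hmaxC : IsMax 2 (Ek M b) aC)
    (hfix : ∀ Q : Subgroup G, Q ≤ aC.1.map C.subtype →
      ∀ g ∈ Subgroup.normalizer (Q : Set G), g ∈ C → ¬ 2 ∣ orderOf g →
        g ∈ Subgroup.centralizer (Q : Set G)) :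
    IsNilB 2 ⊤ (Ek M b) := by
  haveI : Fact (Nat.Prime 2) := ⟨Nat.prime_two⟩
  refine isNilB_of_below hmaxC fun c hc g hg hreg => ?_
  have hgN : (g : G) ∈ Subgroup.normalizer ((c.1.map C.subtype : Subgroup G) : Set G) := by
    refine mem_normalizer_of_cjS_eq ?_
    show (c.1.map C.subtype).map (MulAut.conj (g : G)).toMonoidHom = c.1.map C.subtype
    conv_rhs => rw [← cjS_eq_of_mem_normalizer hg.1]
    rw [cjS, Subgroup.map_map, Subgroup.map_map]
    rfl
  have h1 := hfix _ (Subgroup.map_mono hc.le) (g : G) hgN g.2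
    (by simpa only [IsPRegular, Subgroup.orderOf_coe] using hreg)
  exact Subgroup.mem_centralizer_iff.2 fun q hq =>
    Subtype.ext (Subgroup.mem_centralizer_iff.1 h1 _ ⟨q, hq, rfl⟩)

/-- A function on a subgroup, extended by zero. -/
noncomputable def extFn (C : Subgroup G) (f : C → ℂ) (g : G) : ℂ := by
  classical
  exact if h : g ∈ C then f ⟨g, h⟩ else 0

theorem extFn_coe (C : Subgroup G) (f : C → ℂ) (c : C) : extFn C f (c : G) = f c := by
  classical
  rw [extFn, dif_pos c.2]

set_option maxHeartbeats 1600000 in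
/-- The columns through a nilpotent local block. -/
theorem exists_columns (hM : IsPModular 2 M) (hB : IsPBlock M B) [CharP (resField M) 2]
    {C : Subgroup G} {bC : Set (IrrCharacter C)} (hbC : IsPBlock M bC)
    {aC : Pr (resField M) C} (hmaxC : IsMax 2 (Ek M bC) aC) (hnil : IsNilB 2 ⊤ (Ek M bC))
    (hCa : Subgroup.centralizer ((aC.1.map C.subtype : Subgroup G) : Set G) ≤ C)
    (hpB : IsPairOf 2 ⊤ (Ek M B) (liftP C aC))
    {χ₀ : IrrCharacter C} (hχ₀ : χ₀ ∈ bC) (h0 : blockHeight 2 bC (χ₀ : C → ℂ) = 0) :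
    ∃ ν : IrrCharacter G → G → ℂ,
      (∀ χ : IrrCharacter G, ∀ s : C, ¬ 2 ∣ orderOf s →
        blockPart bC (fun c : C => (χ : G → ℂ) c) s = ν χ 1 * (χ₀ : C → ℂ) s) ∧
      regPair 2 (blockScale 2 bC) (χ₀ : C → ℂ) (χ₀ : C → ℂ) = 1 ∧
      (∀ χ, ∀ g ∈ aC.1.map C.subtype, ∀ (m : ℕ), 0 < m → g ^ m = 1 → ∀ ζ : ℂ,
        IsPrimitiveRoot ζ m → ∃ A : ℕ → ℕ, ∀ i : ℕ,
          ν χ (g ^ i) = ∑ j ∈ Finset.range m, (A j : ℂ) * ζ ^ (i * j)) ∧
      ∀ u ∈ aC.1.map C.subtype, secC u ≤ C → ∃ b P, LocalData M B (liftP C aC) ν u b P ∧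
        P = blockPart b (secFun u (secC u) (extFn C (χ₀ : C → ℂ))) := by
  classical
  haveI : Fact (Nat.Prime 2) := ⟨Nat.prime_two⟩
  have hI : IsInner 2 aC := isInner_of_isNilB hmaxC hnil
  obtain ⟨Φ, hΦb, hΦ, hinj⟩ := exists_phi hM hbC hmaxC hI hχ₀ h0
  obtain ⟨Φ', hΦ'b, hinj', -, hsurj'⟩ := exists_structure hM hbC hmaxC hI
    (fun x _ _ b hb hp =>
      blockRank_eq_one_of_nilpotent hM (isNilpotentBlock_local hM hnil hb hp)) hχ₀ h0
  have hsurj : ∀ ψ ∈ bC, ∃ θ, Φ θ = ψ := by
    intro ψ hψ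
    have himg : Finset.univ.image Φ = Finset.univ.filter (· ∈ bC) := by
      refine Finset.eq_of_subset_of_card_le (fun φ hφ => ?_) ?_
      · obtain ⟨θ, -, rfl⟩ := Finset.mem_image.1 hφ
        exact Finset.mem_filter.2 ⟨Finset.mem_univ _, hΦb θ⟩
      · rw [Finset.card_image_of_injective _ hinj, ← Finset.card_image_of_injective _ hinj']
        refine Finset.card_le_card fun φ hφ => ?_
        obtain ⟨θ, hθ⟩ := hsurj' φ (Finset.mem_filter.1 hφ).2
        exact Finset.mem_image.2 ⟨θ, Finset.mem_univ _, hθ⟩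
    obtain ⟨θ, -, hθ⟩ := Finset.mem_image.1 (himg.ge (Finset.mem_filter.2 ⟨Finset.mem_univ _, hψ⟩))
    exact ⟨θ, hθ⟩
  have hres : ∀ χ : IrrCharacter G, IsCharacter C fun c : C => (χ : G → ℂ) c := fun χ =>
    IsCharacter.restrict (irr_isCharacter χ) C
  choose N hN using fun (χ : IrrCharacter G) (φ : IrrCharacter C) =>
    IsCharacter.exists_classInner_nat (hres χ) (irr_isCharacter φ)
  let ν : IrrCharacter G → G → ℂ := fun χ g => if hg : g ∈ C then
    ∑ θ : IrrCharacter aC.1, (N χ (Φ θ) : ℂ) * cfn aC θ ⟨g, hg⟩ else 0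
  have hnorm1 : regPair 2 (blockScale 2 bC) (χ₀ : C → ℂ) (χ₀ : C → ℂ) = 1 := by
    have hl := blockRank_eq_one_of_nilpotent hM ((isNilpotentBlock_iff hM).2 ⟨hbC, hnil⟩)
    have hd := card_defectGroup hM hbC ((isDefectGroup_iff hbC _).2 hmaxC.isDef)
    have hl' := blockRank_eq hM hbC
    rw [hl, Nat.cast_one] at hl'
    have himg : Finset.univ.filter (· ∈ bC) = Finset.univ.image Φ := by
      ext w
      simp only [Finset.mem_filter, Finset.mem_univ, true_and, Finset.mem_image]
      exact ⟨hsurj w, fun ⟨θ, h⟩ => h ▸ hΦb θ⟩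
    have hpair : ∀ w ∈ Finset.univ.filter (fun w : C => ¬ 2 ∣ orderOf w), blockPair bC w w =
        (Nat.card aC.1 : ℂ) * ((χ₀ : C → ℂ) w * conj ((χ₀ : C → ℂ) w)) := by
      intro w hw
      have hw' := (Finset.mem_filter.1 hw).2
      unfold blockPair
      rw [Finset.sum_congr (s₂ := Finset.univ.image Φ) (by rw [← himg]) fun _ _ => rfl,
        Finset.sum_image fun _ _ _ _ h => hinj h, ← Char.sum_sq_degree (G := aC.1),
        Finset.sum_mul]
      refine Finset.sum_congr rfl fun θ _ => ?_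
      rw [hΦ θ, star_regular hM hbC hmaxC (isStarFn_cfn hI θ) hχ₀ hw', cfn_mem θ aC.1.one_mem,
        show (⟨1, aC.1.one_mem⟩ : aC.1) = 1 from rfl, irr_one_eq_charDegree θ, map_mul, map_natCast]
      ring
    rw [Finset.sum_congr rfl hpair, ← Finset.mul_sum] at hl'
    rw [regPair_eq_sum, blockScale, hl', hd]
    push_cast
    ring
  refine ⟨ν, fun χ s hs => ?_, hnorm1, fun χ g hg m hm0 hgm ζ hζ => ?_, fun u hu hv => ?_⟩
  · have hexp : (fun c : C => (χ : G → ℂ) c) =
        fun c : C => ∑ φ : IrrCharacter C, (N χ φ : ℂ) * (φ : C → ℂ) c := by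
      funext c
      have h := congrFun (classFunction_eq_sum (IsCharacter.isClassFunction (hres χ))) c
      simp only [Finset.sum_apply, Pi.smul_apply, smul_eq_mul, hN χ] at h
      exact h
    rw [hexp, blockPart_sum (Finset.univ : Finset (IrrCharacter C)) bC (fun φ => (N χ φ : ℂ))
      (fun φ => (φ : C → ℂ)) s]
    simp only [ν]
    rw [dif_pos (one_mem C), Finset.sum_mul, ← Finset.sum_subset
      (Finset.subset_univ (Finset.univ.image Φ)) fun φ _ hφ => ?_,
      Finset.sum_image fun _ _ _ _ h => hinj h]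
    · refine Finset.sum_congr rfl fun θ _ => ?_
      rw [← bcomb_single bC (hΦb θ), blockPart_bcomb, bcomb_single bC (hΦb θ), hΦ θ,
        star_regular hM hbC hmaxC (isStarFn_cfn hI θ) hχ₀ hs]
      rw [show (⟨1, one_mem C⟩ : C) = 1 from rfl]
      ring
    · refine mul_eq_zero_of_right _ ?_
      rw [blockPart_eq_sum]
      refine Finset.sum_eq_zero fun w hw => ?_
      rw [classInner_irr_of_ne φ.2 w.2, zero_mul]
      rintro e
      refine hφ ?_
      obtain ⟨θ, hθ⟩ := hsurj w (Finset.mem_filter.1 hw).2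
      exact Finset.mem_image.2 ⟨θ, Finset.mem_univ _, hθ.trans (Subtype.ext e.symm)⟩
  · obtain ⟨g', hg', hgeq⟩ := hg
    change (g' : G) = g at hgeq
    subst hgeq
    let g'' : aC.1 := ⟨g', hg'⟩
    have hg1 : g'' ^ m = 1 := Subtype.ext (Subtype.ext (by
      show ((g'' ^ m : aC.1) : C).1 = 1
      push_cast
      exact hgm))
    choose A hA using fun θ : IrrCharacter aC.1 =>
      exists_cyclo (irr_isCharacter θ) hm0 hg1 hζ
    refine ⟨fun j => ∑ θ : IrrCharacter aC.1, N χ (Φ θ) * A θ j, fun i => ?_⟩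
    simp only [ν]
    rw [dif_pos (pow_mem g'.2 i)]
    simp only [Nat.cast_sum, Nat.cast_mul, Finset.sum_mul]
    rw [Finset.sum_comm]
    refine Finset.sum_congr rfl fun θ _ => ?_
    rw [show (⟨(g' : G) ^ i, pow_mem g'.2 i⟩ : C) = g' ^ i from Subtype.ext (by push_cast; rfl),
      cfn_mem θ (pow_mem hg' i),
      show (⟨g' ^ i, pow_mem hg' i⟩ : aC.1) = g'' ^ i from Subtype.ext (by push_cast; rfl),
      hA θ i, Finset.mul_sum]
    exact Finset.sum_congr rfl fun j _ => by ring
  · obtain ⟨u', huaC, hueq⟩ := hu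
    change (u' : G) = u at hueq
    subst hueq
    have hsub : SubLE 2 ⊤ ((Subgroup.zpowers u', belowAt 2 aC u') : Pr (resField M) C) aC :=
      belowAt_spec hmaxC.pair huaC
    obtain ⟨b', hb', hbe'⟩ := exists_eq_zB (H := secC u') (by
      have h := (hsub.left hmaxC.pair).blk
      exact h : IsBlk _ (belowAt 2 aC u'))
    rw [← hbe'] at hsub
    have hp' : IsPairOf 2 ⊤ (Ek M bC)
        ((Subgroup.zpowers u', zB M (secC u') b') : Pr (resField M) C) :=
      hsub.pairOf_iff.2 hmaxC.pairOf
    have hupow : ∃ i, orderOf u' = 2 ^ i := pPow_of_mem hmaxC.pair huaC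
    have hupowG : ∃ i, orderOf (u' : G) = 2 ^ i := by
      obtain ⟨i, hi⟩ := hupow
      exact ⟨i, by rwa [← Subgroup.orderOf_coe] at hi⟩
    obtain ⟨heq, -⟩ := equality hM hbC hmaxC hI hχ₀ h0 (g := 1) huaC
    have hkey : key 2 aC (1, u') = (u', zB M (secC u') b') := by
      rw [key, cjP_one, one_mul, inv_one, mul_one, hbe']
    rw [hkey] at heq
    obtain ⟨hnorm, hdef⟩ := heq b' hb' rfl
    set e := secEquiv u' hv with he
    set b := pullB e.symm b' with hbdef
    have hb : IsPBlock M b := isPBlock_pullB e.symm hb'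
    have hzB : zB M (secC (u' : G)) b = emb C (zB M (secC u') b') := zB_lift u' hv hb'
    have hmapu : (Subgroup.zpowers u').map C.subtype = Subgroup.zpowers (u' : G) :=
      MonoidHom.map_zpowers _ _
    have hsubG : SubLE 2 ⊤
        ((Subgroup.zpowers (u' : G), zB M (secC (u' : G)) b) : Pr (resField M) G)
        (liftP C aC) := by
      have h := subLE_liftP hsub (C := C) (by
        rw [hmapu, centralizer_zpowers_eq, ← secC_eq]; exact hv)
      rw [liftP] at h
      simp only [hmapu, ← hzB] at h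
      exact h
    have hpu : IsPairOf 2 ⊤ (Ek M B)
        ((Subgroup.zpowers (u' : G), zB M (secC (u' : G)) b) : Pr (resField M) G) :=
      hsubG.pairOf_iff.2 hpB
    set P : secC (u' : G) → ℂ := fun t =>
      blockPart b' (secFun u' (secC u') (χ₀ : C → ℂ)) (e.symm t) with hP
    have hPself : blockPart b P = P := by
      funext t
      have h1 := blockPart_pullB e.symm b' (blockPart b' (secFun u' (secC u') (χ₀ : C → ℂ))) t
      rw [blockPart_self] at h1
      exact h1
    refine ⟨b, P, ⟨(induced_iff_pairOf hM hB hupowG (secC_eq _) hb).2 hpu, ?_, ?_, hsubG, ?_, ?_,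
      ?_, hPself, ?_, fun χ t ht => ?_⟩, funext fun t => ?_⟩
    · rw [hbdef, AbelianSections.blockRank_pullB]
      exact blockRank_eq_one_of_nilpotent hM (isNilpotentBlock_local hM hnil hb' hp')
    · rw [hbdef, blockDefect_pullB, hdef, cu]
      refine Nat.card_congr
        { toFun := fun g => ⟨((g : C) : G), ⟨(g : C), g.2.1, rfl⟩,
            mem_secC.2 (congrArg Subtype.val (Subgroup.mem_centralizer_singleton_iff.1 g.2.2))⟩
          invFun := fun g => ⟨⟨(g : G), Subgroup.map_subtype_le _ g.2.1⟩,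
            (Subgroup.mem_map_iff_mem C.subtype_injective).1
              (show C.subtype ⟨(g : G), Subgroup.map_subtype_le _ g.2.1⟩ ∈ _ from g.2.1),
            Subgroup.mem_centralizer_singleton_iff.2 (Subtype.ext (mem_secC.1 g.2.2))⟩
          left_inv := fun g => rfl
          right_inv := fun g => rfl }
    · intro g h'
      simp only [hP]
      rw [map_mul, map_mul, map_inv]
      exact isClassFunction_blockPart b' _ (e.symm g) (e.symm h')
    · exact fun t => blockPart_secFun_isIntegral u' b' χ₀ _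
    · obtain ⟨t, ht, htM⟩ := exists_unit_value hM hb'
        (fun θ => secFun_coef_isIntegral u' χ₀ θ) hnorm
      exact ⟨e t, by rwa [MulEquiv.orderOf_eq],
        by simpa only [hP, MulEquiv.symm_apply_apply] using htM⟩
    · rw [hbdef, blockScale_pullB]
      exact (regPair_comp e.symm _ _ _).trans hnorm
    · have hts : ¬ 2 ∣ orderOf (e.symm t) := by rwa [MulEquiv.orderOf_eq]
      conv_lhs => rw [← e.apply_symm_apply t]
      rw [hbdef, he]
      refine (blockPart_secFun_lift u' hv b' (χ : G → ℂ) _).trans ?_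
      simp only [ν]
      rw [dif_pos u'.2, Finset.sum_mul]
      have hexp : (fun c : C => (χ : G → ℂ) c) =
          fun c : C => ∑ φ : IrrCharacter C, (N χ φ : ℂ) * (φ : C → ℂ) c := by
        funext c
        have h := congrFun (classFunction_eq_sum (IsCharacter.isClassFunction (hres χ))) c
        simp only [Finset.sum_apply, Pi.smul_apply, smul_eq_mul, hN χ] at h
        exact h
      rw [hexp]
      have hlin := blockPart_sum (Finset.univ : Finset (IrrCharacter C)) b'
        (fun φ => (N χ φ : ℂ)) (fun φ => secFun u' (secC u') (φ : C → ℂ)) (e.symm t)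
      refine hlin.trans ?_
      rw [← Finset.sum_subset (Finset.subset_univ (Finset.univ.image Φ)) fun φ _ hφ => ?_,
        Finset.sum_image fun _ _ _ _ h => hinj h]
      · refine Finset.sum_congr rfl fun θ _ => ?_
        rw [hΦ θ, blockPart_secFun_star hM hupow χ₀ hb' hts,
          val_eq (isStarFn_cfn hI θ) (g := 1) (by rw [cjP_one]; exact hsub)]
        simp only [one_mul, inv_one, mul_one, hP, Subtype.coe_eta, he]
        ring
      · refine mul_eq_zero_of_right _ ?_
        have hφb : φ ∉ bC := fun hc => hφ (by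
          obtain ⟨θ, hθ⟩ := hsurj φ hc
          exact Finset.mem_image.2 ⟨θ, Finset.mem_univ _, hθ⟩)
        refine blockPart_eq_zero_of_not_pair hM (isPBlock_blockOf φ) hupow (self_mem_blockOf φ) hb'
          (fun hc => hφb ?_) hts
        rw [isPairOf_ek_unique hbC (isPBlock_blockOf φ) hp' hc]
        exact self_mem_blockOf φ
    · simp only [hP]
      conv_rhs => rw [← e.apply_symm_apply t]
      rw [hbdef, he, blockPart_secFun_lift]
      simp only [extFn_coe]

end Cfsg.Agent.NilpotentColumns
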