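/-
Groups without elements of order 2p and without characters of p-defect zero.
-/
import Cfsg.Agent.Lib.BrauerPairs.SeparatedClasses
import Cfsg.Agent.Lib.Solvable.Coprime
import Cfsg.Agent.Lib.Char.GlaubermanMod
import Mathlib.GroupTheory.FixedPointFree

set_option linter.unusedSectionVars false
set_option linter.style.haveILetI false

namespace Cfsg.Agent.BrauerPairs

open Cfsg Cfsg.Agent.Blocks Cfsg.Agent.Char MonoidAlgebra
open scoped ComplexConjugate

universe u

variable {G : Type u} [Group G] [Fintype G] {p : ℕ} [hp' : Fact p.Prime]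

/-- Without elements of order `2p`, no involution commutes with a non-trivial `p`-element. -/
theorem eq_one_of_commute_involution (hp2 : p ≠ 2) (h2p : ∀ g : G, orderOf g ≠ 2 * p) {s y : G}
    (hs : orderOf s = 2) (hy : ∃ k, orderOf y = p ^ k) (hc : Commute s y) : y = 1 := by
  obtain ⟨k, hk⟩ := hy
  rcases Nat.eq_zero_or_pos k with rfl | hk0
  · exact orderOf_eq_one_iff.1 (by simpa using hk)
  exfalso
  have ho : orderOf (y ^ p ^ (k - 1)) = p := by
    rw [orderOf_pow' y (pow_ne_zero _ hp'.out.ne_zero), hk,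
      Nat.gcd_eq_right (pow_dvd_pow p (Nat.sub_le k 1)), Nat.pow_div (Nat.sub_le k 1) hp'.out.pos,
      Nat.sub_sub_self hk0, pow_one]
  refine h2p (s * y ^ p ^ (k - 1)) ?_
  rw [(hc.pow_right _).orderOf_mul_eq_mul_orderOf_of_coprime (by
    rw [hs, ho]
    exact (Nat.coprime_primes Nat.prime_two hp'.out).2 (Ne.symm hp2)), hs, ho]

/-- Two involutions whose product has odd order are conjugate. -/
theorem isConj_of_odd_mul {s t : G} (hs : s * s = 1) (ht : t * t = 1)
    (hodd : Odd (orderOf (s * t))) : ∃ c ∈ Subgroup.zpowers (s * t), c * s * c⁻¹ = t := by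
  obtain ⟨k, hk⟩ := hodd
  have hsi : s⁻¹ = s := inv_eq_of_mul_eq_one_right hs
  have hti : t⁻¹ = t := inv_eq_of_mul_eq_one_right ht
  have h1 : (s * t) ^ k * (s * t) ^ k * (s * t) = 1 := by
    rw [← pow_add, ← pow_succ, show k + k + 1 = 2 * k + 1 by ring, ← hk, pow_orderOf_eq_one]
  have hconj : s * (s * t) * s⁻¹ = (s * t)⁻¹ := by
    rw [mul_inv_rev, hsi, hti, ← mul_assoc, hs, one_mul]
  have h2 : s * ((s * t) ^ k)⁻¹ = (s * t) ^ k * s := by
    have := congrArg (· ^ k) hconj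
    simp only [conj_pow, inv_pow] at this
    rw [← this, hsi, ← mul_assoc, ← mul_assoc, hs, one_mul]
  refine ⟨(s * t) ^ k, Subgroup.npow_mem_zpowers _ _, ?_⟩
  rw [mul_assoc, h2, ← mul_assoc, eq_inv_of_mul_eq_one_left h1, mul_inv_rev, hsi, hti, mul_assoc,
    hs, mul_one]

/-- An involution inverts every invariant `p`-subgroup. -/
theorem inverts_of_mem_normalizer (hp2 : p ≠ 2) (h2p : ∀ g : G, orderOf g ≠ 2 * p) {s : G}
    (hs : orderOf s = 2) {A : Subgroup G} (hA : IsPGroup p A)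
    (hsA : s ∈ Subgroup.normalizer (A : Set G)) :
    (∀ a ∈ A, s * a * s⁻¹ = a⁻¹) ∧ ∀ a ∈ A, ∀ b ∈ A, a * b = b * a := by
  let φ : A →* A :=
    { toFun := fun a => ⟨s * a * s⁻¹, (Subgroup.mem_normalizer_iff.1 hsA a).1 a.2⟩
      map_one' := Subtype.ext (by simp)
      map_mul' := fun a b => Subtype.ext (by simp [mul_assoc]) }
  have hfp : MonoidHom.FixedPointFree φ := fun a ha => by
    have h1 : Commute s (a : G) := mul_inv_eq_iff_eq_mul.1 (congrArg Subtype.val ha)
    obtain ⟨k, hk⟩ := IsPGroup.iff_orderOf.1 hA a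
    exact Subtype.ext (eq_one_of_commute_involution hp2 h2p hs
      ⟨k, by rw [Subgroup.orderOf_coe, hk]⟩ h1)
  have h2 : Function.Involutive φ := fun a => Subtype.ext (by
    have hss : s * s = 1 := by rw [← sq, ← hs, pow_orderOf_eq_one]
    show s * (s * a * s⁻¹) * s⁻¹ = (a : G)
    calc s * (s * a * s⁻¹) * s⁻¹ = (s * s) * a * (s * s)⁻¹ := by group
      _ = a := by rw [hss, inv_one, one_mul, mul_one])
  refine ⟨fun a ha => ?_, fun a ha b hb => ?_⟩
  · exact congrArg Subtype.val (congrFun (hfp.coe_eq_inv_of_involutive h2) ⟨a, ha⟩)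
  · exact congrArg Subtype.val (hfp.commute_all_of_involutive h2 ⟨a, ha⟩ ⟨b, hb⟩).eq

/-- The centraliser of a non-trivial `p`-subgroup has odd order. -/
theorem odd_card_centralizer (hp2 : p ≠ 2) (h2p : ∀ g : G, orderOf g ≠ 2 * p) {A : Subgroup G}
    (hA : IsPGroup p A) (hne : A ≠ ⊥) : Odd (Nat.card (Subgroup.centralizer (A : Set G))) := by
  haveI : Fact (Nat.Prime 2) := ⟨Nat.prime_two⟩
  rw [← Nat.not_even_iff_odd, even_iff_two_dvd]
  intro hd
  obtain ⟨u, hu⟩ := exists_prime_orderOf_dvd_card' 2 hd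
  refine hne ((Subgroup.eq_bot_iff_forall _).2 fun a ha => ?_)
  obtain ⟨k, hk⟩ := IsPGroup.iff_orderOf.1 hA ⟨a, ha⟩
  exact eq_one_of_commute_involution hp2 h2p (s := (u : G)) (by rw [Subgroup.orderOf_coe, hu])
    ⟨k, by rw [← Subgroup.orderOf_coe] at hk; exact hk⟩
    (Subgroup.mem_centralizer_iff.1 u.2 a ha).symm

/-- An involution inverting a non-trivial `p`-element normalises a Sylow subgroup. -/
theorem exists_sylow_normalized (hp2 : p ≠ 2) (h2p : ∀ g : G, orderOf g ≠ 2 * p) {s : G}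
    (hs : orderOf s = 2) {A₀ : Subgroup G} (hA₀ : IsPGroup p A₀)
    (hsA₀ : s ∈ Subgroup.normalizer (A₀ : Set G)) (hne : A₀ ≠ ⊥) :
    ∃ P : Sylow p G, s ∈ Subgroup.normalizer ((P : Subgroup G) : Set G) := by
  obtain ⟨A, hle, ⟨hA, hsA⟩, hmax⟩ := Finite.exists_le_maximal
    (p := fun S : Subgroup G => IsPGroup p S ∧ s ∈ Subgroup.normalizer (S : Set G)) ⟨hA₀, hsA₀⟩
  have hAne : A ≠ ⊥ := fun h => hne (le_bot_iff.1 (h ▸ hle))
  obtain ⟨hinv, hcomm⟩ := inverts_of_mem_normalizer hp2 h2p hs hA hsA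
  set K := Subgroup.centralizer (A : Set G) with hK
  have hodd : Odd (Nat.card K) := odd_card_centralizer hp2 h2p hA hAne
  have hAK : A ≤ K := fun a ha => Subgroup.mem_centralizer_iff.2 fun b hb => (hcomm b hb a ha)
  have hss : s * s = 1 := by rw [← sq, ← hs, pow_orderOf_eq_one]
  have hsi : s⁻¹ = s := inv_eq_of_mul_eq_one_right hss
  have hfix : ∀ g : G, g ∈ Subgroup.normalizer (A : Set G) →
      ∀ a ∈ A, g * a * g⁻¹ ∈ A := fun g hg a ha => (Subgroup.mem_normalizer_iff.1 hg a).1 ha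
  have hsK : Subgroup.zpowers s ≤ Subgroup.normalizer (K : Set G) := by
    rw [Subgroup.zpowers_le]
    refine Subgroup.mem_normalizer_iff.2 fun n => ?_
    have h1 : ∀ n ∈ K, s * n * s⁻¹ ∈ K := fun n hn => Subgroup.mem_centralizer_iff.2 fun a ha => by
      have h2 := Subgroup.mem_centralizer_iff.1 hn _ (hfix s hsA a ha)
      calc a * (s * n * s⁻¹) = s * ((s⁻¹ * a * s) * n) * s⁻¹ := by group
        _ = s * (n * (s⁻¹ * a * s)) * s⁻¹ := by
          rw [hsi] at h2 ⊢
          rw [h2]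
        _ = s * n * s⁻¹ * a := by group
    refine ⟨h1 n, fun hn => ?_⟩
    have := h1 _ hn
    rwa [show s * (s * n * s⁻¹) * s⁻¹ = (s * s) * n * (s * s)⁻¹ by group, hss, inv_one, one_mul,
      mul_one] at this
  obtain ⟨Q, hAQ, hsQ⟩ := CoprimeAct.exists_invariant_sylow_ge hsK
    (by rw [Nat.card_zpowers, hs]; exact Nat.coprime_two_left.2 hodd)
    (Or.inl inferInstance) hAK hA
    ((Subgroup.zpowers_le).2 hsA)
  have hQA : (Q : Subgroup K).map K.subtype = A := le_antisymm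
    (hmax ⟨Q.isPGroup'.map _, hsQ (Subgroup.mem_zpowers s)⟩ hAQ) hAQ
  obtain ⟨P, hP⟩ := hA.exists_le_sylow
  rcases hP.eq_or_lt with hPA | hlt
  · exact ⟨P, hPA ▸ hsA⟩
  exfalso
  set W := A.subgroupOf (P : Subgroup G) with hW
  have hWlt : W < ⊤ := lt_top_iff_ne_top.2 fun h => hlt.not_ge (Subgroup.subgroupOf_eq_top.1 h)
  have := P.isPGroup'.isNilpotent
  obtain ⟨x, hx, hxW⟩ := SetLike.exists_of_lt (Group.normalizerCondition_of_isNilpotent W hWlt)
  have hxn : (x : G) ∈ Subgroup.normalizer (A : Set G) := by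
    refine Subgroup.mem_normalizer_iff.2 fun a => ?_
    constructor
    · intro ha
      exact (Subgroup.mem_normalizer_iff.1 hx ⟨a, hP ha⟩).1 ha
    · intro ha
      have h1 : (x : G)⁻¹ * ((x : G) * a * (x : G)⁻¹) * x ∈ (P : Subgroup G) :=
        mul_mem (mul_mem (inv_mem x.2) (hP ha)) x.2
      rw [show (x : G)⁻¹ * ((x : G) * a * (x : G)⁻¹) * x = a by group] at h1
      exact (Subgroup.mem_normalizer_iff.1 hx ⟨a, h1⟩).2 ha
  have hcK : ((x : G) * s * (x : G)⁻¹) * s⁻¹ ∈ K := Subgroup.mem_centralizer_iff.2 fun a ha => by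
    set b := (x : G)⁻¹ * a * x with hb
    have hbA : b ∈ A := by
      have := hfix _ (inv_mem hxn) a ha
      rwa [inv_inv] at this
    have h2 : (x : G) * b * (x : G)⁻¹ = a := by rw [hb]; group
    have h3 := hinv b hbA
    have h4 := hinv a ha
    calc a * ((x : G) * s * (x : G)⁻¹ * s⁻¹)
        = (x : G) * (b * s) * (x : G)⁻¹ * s⁻¹ := by rw [← h2]; group
      _ = (x : G) * (s * (s⁻¹ * b * s)) * (x : G)⁻¹ * s⁻¹ := by group
      _ = (x : G) * (s * b⁻¹) * (x : G)⁻¹ * s⁻¹ := by rw [hsi, show s * b * s = b⁻¹ by rwa [hsi] at h3]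
      _ = (x : G) * s * (x : G)⁻¹ * ((x : G) * b * (x : G)⁻¹)⁻¹ * s⁻¹ := by group
      _ = (x : G) * s * (x : G)⁻¹ * (a⁻¹ * s⁻¹) := by rw [h2]; group
      _ = (x : G) * s * (x : G)⁻¹ * (s⁻¹ * a) := by
          congr 1
          rw [← h4, hsi, mul_assoc (s * a), hss, mul_one]
      _ = (x : G) * s * (x : G)⁻¹ * s⁻¹ * a := by group
  have hoddx : Odd (orderOf ((x : G) * s * (x : G)⁻¹ * s⁻¹)) := by
    refine hodd.of_dvd_nat ?_
    exact Subgroup.orderOf_dvd_natCard _ hcK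
  obtain ⟨c, hc, hcs⟩ : ∃ c ∈ Subgroup.zpowers ((x : G) * s * (x : G)⁻¹ * s),
      c * ((x : G) * s * (x : G)⁻¹) * c⁻¹ = s := by
    refine isConj_of_odd_mul ?_ hss (by rwa [hsi] at hoddx)
    rw [show (x : G) * s * (x : G)⁻¹ * ((x : G) * s * (x : G)⁻¹) = (x : G) * (s * s) * (x : G)⁻¹ by
      group, hss, mul_one, mul_inv_cancel]
  have hcK' : c ∈ K := (Subgroup.zpowers_le.2 (by rwa [hsi] at hcK)) hc
  set e := c * (x : G) with he
  have hse : Commute s e := by
    show s * e = e * s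
    conv_lhs => rw [← hcs]
    rw [he]; group
  have hp : ¬ p ∣ orderOf e := by
    intro hd
    obtain ⟨z, hz⟩ : ∃ z, z = e ^ (orderOf e / p) := ⟨_, rfl⟩
    have hzo : orderOf z = p := hz ▸ orderOf_pow_orderOf_div (orderOf_pos e).ne' hd
    have := eq_one_of_commute_involution hp2 h2p hs (y := z) ⟨1, by rw [hzo, pow_one]⟩
      (hz ▸ hse.pow_right _)
    rw [this, orderOf_one] at hzo
    exact hp'.out.one_lt.ne hzo
  have hKx : ∀ (m : ℕ) (n : G), n ∈ K → (x : G) ^ m * n * ((x : G) ^ m)⁻¹ ∈ K := by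
    intro m n hn
    refine Subgroup.mem_centralizer_iff.2 fun a ha => ?_
    have hm : (x : G) ^ m ∈ Subgroup.normalizer (A : Set G) := pow_mem hxn m
    have h2 := Subgroup.mem_centralizer_iff.1 hn _ (hfix _ (inv_mem hm) a ha)
    rw [inv_inv] at h2
    calc a * ((x : G) ^ m * n * ((x : G) ^ m)⁻¹)
        = (x : G) ^ m * (((x : G) ^ m)⁻¹ * a * (x : G) ^ m * n) * ((x : G) ^ m)⁻¹ := by group
      _ = (x : G) ^ m * (n * (((x : G) ^ m)⁻¹ * a * (x : G) ^ m)) * ((x : G) ^ m)⁻¹ := by rw [h2]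
      _ = (x : G) ^ m * n * ((x : G) ^ m)⁻¹ * a := by group
  have hpow : ∀ m : ℕ, e ^ m * ((x : G) ^ m)⁻¹ ∈ K := by
    intro m
    induction m with
    | zero => simp
    | succ m ih =>
      have h2 := mul_mem ih (hKx m c hcK')
      convert h2 using 1
      rw [pow_succ, pow_succ, he]
      group
  have hxm : (x : G) ^ orderOf e ∈ K := by
    have := hpow (orderOf e)
    rw [pow_orderOf_eq_one, one_mul] at this
    exact inv_inv ((x : G) ^ orderOf e) ▸ inv_mem this
  have hxK : (x : G) ∈ K := by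
    obtain ⟨k, hk⟩ := IsPGroup.iff_orderOf.1 P.isPGroup' x
    rw [← Subgroup.orderOf_coe] at hk
    obtain ⟨i, hi⟩ := exists_pow_eq_self_of_coprime (x := (x : G)) (n := orderOf e)
      (by rw [hk]; exact (hp'.out.coprime_iff_not_dvd.2 hp).symm.pow_right _)
    rw [← hi]
    exact pow_mem hxm i
  set R : Subgroup G := (P : Subgroup G) ⊓ K
  have hRA : (Q : Subgroup K) ≤ R.subgroupOf K := by
    intro q hq
    exact ⟨hP (hQA ▸ ⟨q, hq, rfl⟩), q.2⟩
  have hRQ := Q.3 (P.isPGroup'.to_le (inf_le_left : R ≤ _) |>.comap_subtype) hRA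
  have : (⟨(x : G), hxK⟩ : K) ∈ R.subgroupOf K := ⟨x.2, hxK⟩
  replace this : (⟨(x : G), hxK⟩ : K) ∈ (Q : Subgroup K) := hRQ.le this
  exact hxW (show (x : G) ∈ A from hQA ▸ ⟨_, this, rfl⟩)

/-- No characters of defect zero: every involution inverts some non-trivial `p`-element. -/
theorem exists_inverted (hp2 : p ≠ 2) (h2p : ∀ g : G, orderOf g ≠ 2 * p)
    (hno : ∀ χ : IrrCharacter G,
      (charDegree (χ : G → ℂ)).factorization p ≠ (Nat.card G).factorization p) {s : G}
    (hs : orderOf s = 2) :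
    ∃ y : G, y ≠ 1 ∧ (∃ k, orderOf y = p ^ k) ∧ s * y * s⁻¹ = y⁻¹ := by
  classical
  obtain ⟨M, hM⟩ := GlaubermanMod.exists_isPModular p
  haveI := IsPModular.isPrime hM
  obtain ⟨c, hc, hexp⟩ := exists_indicator_expansion (G := G) hM
  by_contra hne
  push Not at hne
  have hss : s * s = 1 := by rw [← sq, ← hs, pow_orderOf_eq_one]
  have hsi : s⁻¹ = s := inv_eq_of_mul_eq_one_right hss
  set T := classFinset s with hT
  have hTinv : ∀ u t : G, t ∈ T → u * t * u⁻¹ ∈ T := fun u t ht =>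
    mem_classFinset.2 ((mem_classFinset.1 ht).trans (isConj_iff.2 ⟨u, rfl⟩))
  have hval : ∀ t ∈ T, ∑ χ : IrrCharacter G, c χ * (χ : G → ℂ) (s * t) =
      if t = s then 1 else 0 := by
    intro t ht
    by_cases h : ∃ k, orderOf (s * t) = p ^ k
    · rw [(hexp _).1 h, if_pos]
      obtain ⟨d, hd⟩ := isConj_iff.1 (mem_classFinset.1 ht)
      have htt : t * t = 1 := by
        rw [← hd, show d * s * d⁻¹ * (d * s * d⁻¹) = d * (s * s) * d⁻¹ by group, hss, mul_one,
          mul_inv_cancel]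
      by_contra hts
      refine hne (s * t) (fun h1 => hts ?_) h ?_
      · rw [← inv_eq_of_mul_eq_one_right h1, hsi]
      · rw [mul_inv_rev, hsi, inv_eq_of_mul_eq_one_right htt, ← mul_assoc, hss, one_mul]
    · rw [(hexp _).2 h, if_neg]
      rintro rfl
      exact h ⟨0, by rw [hss, orderOf_one, pow_zero]⟩
  have h1 : ∑ χ : IrrCharacter G, c χ * ((χ : G → ℂ) s *
      ((∑ t ∈ T, (χ : G → ℂ) t) / (χ : G → ℂ) 1)) = 1 := by
    calc ∑ χ : IrrCharacter G, c χ * ((χ : G → ℂ) s *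
          ((∑ t ∈ T, (χ : G → ℂ) t) / (χ : G → ℂ) 1))
        = ∑ t ∈ T, ∑ χ : IrrCharacter G, c χ * (χ : G → ℂ) (s * t) := by
          rw [Finset.sum_comm]
          exact Finset.sum_congr rfl fun χ _ => by
            rw [← sum_mul_invariant χ T hTinv s, Finset.mul_sum]
      _ = 1 := by
          rw [Finset.sum_congr rfl hval, Finset.sum_ite_eq', if_pos]
          exact mem_classFinset.2 (IsConj.refl s)
  refine not_memLocalIdeal_one (M := M) (h1 ▸ memLocalIdeal_sum _ _ fun χ _ => ?_)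
  refine MemLocalIdeal.mul_left (hc χ) (MemLocalIdeal.mul_left (irr_memLocalRing χ s) ?_)
  rw [Finset.sum_congr rfl fun t ht => (show (χ : G → ℂ) t = (χ : G → ℂ) s by
    obtain ⟨d, rfl⟩ := isConj_iff.1 (mem_classFinset.1 ht)
    exact irr_conj_invariant χ _ d), Finset.sum_const, nsmul_eq_mul, hT, card_classFinset]
  by_contra hu
  have hB := isPBlock_blockOf (M := M) χ
  obtain ⟨g, hg⟩ := exists_defectClass hB
  have hle := classExp_le hM hB (self_mem_blockOf χ) (g := s) hu hg.2.1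
  have h0 : classExp p s = 0 := by
    refine Nat.factorization_eq_zero_of_not_dvd fun hd => ?_
    obtain ⟨u, hu⟩ := exists_prime_orderOf_dvd_card' p hd
    have huo : orderOf (u : G) = p := by rw [Subgroup.orderOf_coe, hu]
    refine h2p (s * u) ?_
    have hc : Commute s (u : G) := Subgroup.mem_centralizer_iff.1 u.2 s rfl
    rw [hc.orderOf_mul_eq_mul_orderOf_of_coprime ?_,
      hs, huo]
    rw [hs, huo, Nat.coprime_primes Nat.prime_two hp'.out]
    exact hp2.symm
  refine hno χ (le_antisymm ?_ ?_)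
  · exact (Nat.factorization_le_iff_dvd (charDegree_pos χ).ne' Nat.card_pos.ne').2
      (charDegree_dvd_card χ) p
  · have h2 := degExp_ge hM hB (self_mem_blockOf χ)
    rw [blockDefect_eq_classExp hM hB hg] at h2
    omega

/-- The alternative. -/
theorem abelian_and_conj_of_no_defectZero (hp2 : p ≠ 2) (h2p : ∀ g : G, orderOf g ≠ 2 * p)
    (hG : Even (Nat.card G))
    (hno : ∀ χ : IrrCharacter G,
      (charDegree (χ : G → ℂ)).factorization p ≠ (Nat.card G).factorization p) :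
    (∀ P : Sylow p G, IsMulCommutative ↥(P : Subgroup G)) ∧
      ∀ s t : G, orderOf s = 2 → orderOf t = 2 → IsConj s t := by
  have key : ∀ s : G, orderOf s = 2 →
      ∃ P : Sylow p G, s ∈ Subgroup.normalizer ((P : Subgroup G) : Set G) ∧
        (P : Subgroup G) ≠ ⊥ := by
    intro s hs
    obtain ⟨y, hy1, ⟨k, hk⟩, hinv⟩ := exists_inverted hp2 h2p hno hs
    have hA : IsPGroup p (Subgroup.zpowers y) :=
      IsPGroup.of_card (n := k) (by rw [Nat.card_zpowers, hk])
    have hsA : s ∈ Subgroup.normalizer ((Subgroup.zpowers y : Subgroup G) : Set G) := by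
      have h1 : ∀ a ∈ Subgroup.zpowers y, s * a * s⁻¹ = a⁻¹ := fun a ha => by
        obtain ⟨i, rfl⟩ := Subgroup.mem_zpowers_iff.1 ha
        rw [← conj_zpow, hinv, inv_zpow]
      refine Subgroup.mem_normalizer_iff.2 fun a => ⟨fun ha => h1 a ha ▸ inv_mem ha, fun ha => ?_⟩
      have h2 := h1 _ ha
      have hss : s * s = 1 := by rw [← sq, ← hs, pow_orderOf_eq_one]
      rw [show s * (s * a * s⁻¹) * s⁻¹ = (s * s) * a * (s * s)⁻¹ by group, hss, inv_one, one_mul,
        mul_one] at h2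
      rw [h2]
      exact inv_mem ha
    have hne : Subgroup.zpowers y ≠ ⊥ := by rwa [ne_eq, Subgroup.zpowers_eq_bot]
    obtain ⟨P, hP⟩ := exists_sylow_normalized hp2 h2p hs hA hsA hne
    refine ⟨P, hP, P.ne_bot_of_dvd_card ?_⟩
    refine dvd_trans ?_ (orderOf_dvd_natCard y)
    rcases Nat.eq_zero_or_pos k with rfl | hk0
    · exact absurd (orderOf_eq_one_iff.1 (by simpa using hk)) hy1
    · exact hk ▸ dvd_pow_self p hk0.ne'
  obtain ⟨s₀, hs₀⟩ : ∃ s : G, orderOf s = 2 := by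
    haveI : Fact (Nat.Prime 2) := ⟨Nat.prime_two⟩
    exact exists_prime_orderOf_dvd_card' 2 (even_iff_two_dvd.1 hG)
  obtain ⟨P₀, hP₀, hne₀⟩ := key s₀ hs₀
  have hab : ∀ a ∈ (P₀ : Subgroup G), ∀ b ∈ (P₀ : Subgroup G), a * b = b * a :=
    (inverts_of_mem_normalizer hp2 h2p hs₀ P₀.isPGroup' hP₀).2
  refine ⟨fun P => ?_, fun s t hs ht => ?_⟩
  · obtain ⟨g, rfl⟩ := MulAction.exists_smul_eq G P₀ P
    refine ⟨⟨fun a b => Subtype.ext ?_⟩⟩
    obtain ⟨a₀, ha₀, ha⟩ := a.2
    obtain ⟨b₀, hb₀, hb⟩ := b.2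
    show (a : G) * (b : G) = (b : G) * (a : G)
    rw [← ha, ← hb]
    show MulAut.conj g a₀ * MulAut.conj g b₀ = MulAut.conj g b₀ * MulAut.conj g a₀
    rw [← map_mul, ← map_mul, hab a₀ ha₀ b₀ hb₀]
  · have conjTo : ∀ u : G, orderOf u = 2 → IsConj u s₀ := by
      intro u hu
      obtain ⟨P, hP, -⟩ := key u hu
      obtain ⟨g, hg⟩ := MulAction.exists_smul_eq G P P₀
      set v := g * u * g⁻¹ with hv
      have hvo : orderOf v = 2 := by rw [hv, ← MulAut.conj_apply, MulEquiv.orderOf_eq, hu]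
      have hvN : v ∈ Subgroup.normalizer ((P₀ : Subgroup G) : Set G) := by
        have h : v • P₀ = P₀ := by
          rw [← hg, hv, mul_smul, mul_smul, inv_smul_smul,
            Sylow.smul_eq_iff_mem_normalizer.2 hP]
        exact Sylow.smul_eq_iff_mem_normalizer.1 h
      have hvi := (inverts_of_mem_normalizer hp2 h2p hvo P₀.isPGroup' hvN).1
      have hsi := (inverts_of_mem_normalizer hp2 h2p hs₀ P₀.isPGroup' hP₀).1
      have hvv : v * v = 1 := by rw [← sq, ← hvo, pow_orderOf_eq_one]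
      have hss : s₀ * s₀ = 1 := by rw [← sq, ← hs₀, pow_orderOf_eq_one]
      have hmem : v * s₀ ∈ Subgroup.centralizer ((P₀ : Subgroup G) : Set G) :=
        Subgroup.mem_centralizer_iff.2 fun a ha => by
          have h1 := hvi _ (inv_mem ha)
          have h2 := hsi a ha
          rw [inv_inv] at h1
          calc a * (v * s₀) = v * a⁻¹ * v⁻¹ * (v * s₀) := by rw [h1]
            _ = v * a⁻¹ * s₀ := by group
            _ = v * (s₀ * a * s₀⁻¹) * s₀ := by rw [h2]
            _ = v * s₀ * a := by group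
      have hodd : Odd (orderOf (v * s₀)) := by
        refine (odd_card_centralizer hp2 h2p P₀.isPGroup' hne₀).of_dvd_nat ?_
        exact Subgroup.orderOf_dvd_natCard _ hmem
      obtain ⟨d, -, hd⟩ := isConj_of_odd_mul hvv hss hodd
      exact (isConj_iff.2 ⟨g, hv.symm⟩ : IsConj u v).trans (isConj_iff.2 ⟨d, hd⟩)
    exact (conjTo s hs).trans (conjTo t ht).symm

end Cfsg.Agent.BrauerPairs
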