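/-
Blocks with normal defect group whose height-zero characters have the same degree.
-/
import Cfsg.Agent.Lib.BrauerPairs.EqualDegreesInertia
import Cfsg.Agent.Lib.Blocks.Quotient
import Cfsg.Agent.Lib.BrauerPairs.RankQuotient
import Cfsg.Agent.Lib.BrauerPairs.BlockFusion
import Cfsg.Agent.Lib.Char.ItoPSolvable
import Cfsg.Agent.Lib.Solvable.Coprime
import Cfsg.Agent.Lib.Fusion.InnerCriterion

set_option linter.unusedSectionVars false
set_option linter.style.haveILetI false

namespace Cfsg.Agent.NormalDefect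

open Cfsg MonoidAlgebra Cfsg.Agent.Blocks Cfsg.Agent.BrauerPairs
open scoped commutatorElement

section Abstract

variable {G : Type*} [Group G] [Fintype G] {k : Type*} [Field k] [SplitCenter k G]
variable {p : ℕ} [Fact p.Prime] [CharP k p] {B : MonoidAlgebra k G} {a : Pr k G}

/-- With a normal defect group the action of a stabiliser on a subgroup is the action of an
element of the stabiliser of the maximal pair. -/
theorem exists_lift_stab (h : IsMax p B a) (hn : a.1.Normal) :
    ∀ (m : ℕ) (b : Pr k G), SubLE p ⊤ b a → Nat.card a.1 - Nat.card b.1 ≤ m →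
      ∀ x ∈ stabP b, ∃ y ∈ stabP a, ∀ q ∈ b.1, y * q * y⁻¹ = x * q * x⁻¹ := by
  haveI := hn
  have hDn : ∀ g : G, cjS g a.1 = a.1 := fun g => by
    refine cjS_eq_of_mem_normalizer ?_
    rw [Subgroup.normalizer_eq_top]
    exact Subgroup.mem_top g
  have hpD : IsPGroup p a.1 := h.pair.pgroup
  intro m
  induction m with
  | zero =>
    intro b hb hm x hx
    have heq : b.1 = a.1 :=
      Subgroup.eq_of_le_of_card_ge hb.le (by omega)
    have hba : b = a := by
      refine Prod.ext heq ?_
      exact (existsUnique_below h.pair (le_refl a.1)).unique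
        (y₁ := b.2) (y₂ := a.2) (by rw [← heq]; exact hb) Relation.ReflTransGen.refl
    exact ⟨x, hba ▸ hx, fun q _ => rfl⟩
  | succ m ih =>
    intro b hb hm x hx
    by_cases hQ : b.1 = a.1
    · have hba : b = a := by
        refine Prod.ext hQ ?_
        exact (existsUnique_below h.pair (le_refl a.1)).unique
          (y₁ := b.2) (y₂ := a.2) (by rw [← hQ]; exact hb) Relation.ReflTransGen.refl
      exact ⟨x, hba ▸ hx, fun q _ => rfl⟩
    set Q := b.1 with hQdef
    set S := a.1 ⊓ Subgroup.normalizer (Q : Set G) with hS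
    have hQS : Q ≤ S := le_inf hb.le Subgroup.le_normalizer
    have hlt : Nat.card Q < Nat.card S := by
      by_contra hle
      have heq : Q = S := Subgroup.eq_of_le_of_card_ge hQS (not_lt.1 hle)
      haveI := hpD.isNilpotent
      have := normalizerCondition_of_isNilpotent (G := a.1) (Q.subgroupOf a.1)
        (lt_of_le_of_ne le_top fun h' => hQ (le_antisymm hb.le (Subgroup.subgroupOf_eq_top.1 h')))
      refine this.ne ?_
      rw [← Subgroup.subgroupOf_normalizer_eq hb.le]
      conv_lhs => rw [heq, hS, Subgroup.inf_subgroupOf_left]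
    obtain ⟨g, hg, -⟩ := existsUnique_below h.pair (inf_le_left : S ≤ a.1)
    have hgS : IsPair p ⊤ (S, g) := hg.left h.pair
    have hn1 : NSub p ⊤ b (S, g) :=
      (SubLE.of_le h.pair hg hb hQS).nsub hgS inf_le_right
    set C := Subgroup.centralizer (Q : Set G) with hC
    have hbp : IsPair p ⊤ b := hb.left h.pair
    have hST : S ≤ stabP b := fun u hu => ⟨hu.2, isInvElt_iff_cj.1 hn1.inv u hu⟩
    have hCT : C ≤ stabP b := centralizer_le_stabP hbp.blkC
    set K := S ⊔ C with hK
    have hKT : K ≤ stabP b := sup_le hST hCT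
    have hKN : K ≤ Subgroup.normalizer (Q : Set G) := hKT.trans (stabP_le_normalizer b)
    have hbK : IsBlk K b.2 := isBlk_of_le hbp.pgroup (hQS.trans le_sup_left) hKN le_sup_right
      hbp.blkC fun u hu => isInvElt_stabP b u (hKT hu)
    -- the defect group
    have hdef : IsDefGrp p K b.2 S := by
      obtain ⟨D', hD', hle⟩ := h.exists_defect_ge hb hKT hbK
      obtain ⟨z, -, hzD⟩ := h.exists_conj_le (hb.pairOf_iff.2 h.pairOf) hD'.pgroup
        (hD'.le.trans hKT) hD'.brTrunc_ne_zero
      have hD'a : D' ≤ a.1 := by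
        have h2 := cjS_mono z⁻¹ hzD
        rwa [cjS_inv_cjS, hDn] at h2
      have e : D' = S := le_antisymm
        (le_inf hD'a (hD'.le.trans hKN)) ((le_inf inf_le_left le_sup_left).trans hle)
      exact e ▸ hD'
    -- two pairs at the defect group
    have hxQ : cjS x Q = Q := cjS_eq_of_mem_normalizer hx.1
    have hxS : cjS x S = S := by
      rw [hS, cjS_inf, hDn, cjS_normalizer, hxQ]
    have hCS : Subgroup.centralizer (S : Set G) ≤ K :=
      (Subgroup.centralizer_le hQS).trans le_sup_right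
    have hKC : K ⊓ Subgroup.centralizer (S : Set G) = Subgroup.centralizer (S : Set G) :=
      inf_eq_right.2 hCS
    have hp1 : IsPairOf p K b.2 (S, g) :=
      ⟨⟨hgS.pgroup, le_sup_left, by rw [hKC]; exact hgS.blkC⟩, hbK, hn1.occ⟩
    have hp2 : IsPairOf p K b.2 (S, cj x g) := by
      refine ⟨⟨hgS.pgroup, le_sup_left, ?_⟩, hbK, ?_⟩
      · rw [hKC]
        have h2 := hgS.blkC.cj x
        rwa [cjS_centralizer, hxS] at h2
      · have h2 := congrArg (cj x) hn1.occ
        rw [map_mul, cj_brTrunc, hxS, hx.2] at h2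
        exact h2
    obtain ⟨n, hnK, hne⟩ := exists_conj_defect_pair hp1 hp2 hdef hdef
    have hSC : S ≤ Subgroup.normalizer (C : Set G) :=
      inf_le_right.trans (normalizer_le_normalizer_centralizer Q)
    obtain ⟨s, hs, c, hc, rfl⟩ := mem_sup_of_normal hSC hnK
    have hgfix : cj s g = g := (self_le_stabP hgS.blkC hs).2
    have hcx : c * x ∈ stabP ((S, g) : Pr k G) := by
      have hsx : cj (s * c * x) g = g := by
        rw [← cj_cj]; exact congrArg Prod.snd hne
      have h1 : cjS (s * c * x) S = S := by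
        rw [← cjS_cjS, hxS]; exact congrArg Prod.fst hne
      have h2 : s * c * x ∈ stabP ((S, g) : Pr k G) := ⟨mem_normalizer_of_cjS_eq h1, hsx⟩
      have h3 : s ∈ stabP ((S, g) : Pr k G) := self_le_stabP hgS.blkC hs
      have := mul_mem (inv_mem h3) h2
      rwa [← mul_assoc, ← mul_assoc, inv_mul_cancel, one_mul] at this
    obtain ⟨y, hy, hyq⟩ := ih (S, g) hg (by show Nat.card a.1 - Nat.card S ≤ m; omega) _ hcx
    refine ⟨y, hy, fun q hq => ?_⟩
    rw [hyq q (hQS hq)]
    have h4 : x * q * x⁻¹ ∈ Q := (Subgroup.mem_normalizer_iff.1 hx.1 q).1 hq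
    calc c * x * q * (c * x)⁻¹ = c * (x * q * x⁻¹) * c⁻¹ := by group
      _ = x * q * x⁻¹ := by
        rw [← Subgroup.mem_centralizer_iff.1 hc _ h4, mul_inv_cancel_right]

/-- A block with normal defect group is nilpotent when its inertial group acts by a p-group. -/
theorem isNilB_of_normal (h : IsMax p B a) (hn : a.1.Normal)
    (hT : ∀ y ∈ stabP a, IsPRegular p y → y ∈ Subgroup.centralizer (a.1 : Set G)) :
    IsNilB p ⊤ B := by
  refine isNilB_of_below h fun b hb x hx hreg => ?_
  obtain ⟨y, hy, hyq⟩ := exists_lift_stab h hn _ b hb le_rfl x hx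
  set n := (orderOf y).factorization p
  have hp : p.Prime := Fact.out
  obtain ⟨j, hj⟩ := exists_pow_eq_self_of_coprime (x := x) (n := p ^ n)
    (Nat.Coprime.pow_left n (hp.coprime_iff_not_dvd.2 hreg))
  have hyreg : IsPRegular p ((y ^ p ^ n) ^ j) := by
    intro hd
    have h1 : orderOf ((y ^ p ^ n) ^ j) ∣ orderOf (y ^ p ^ n) := orderOf_pow_dvd j
    have hd2 : p ^ n ∣ orderOf y := Nat.ordProj_dvd _ p
    have h2 := hd.trans h1
    rw [orderOf_pow' y (pow_ne_zero _ hp.ne_zero), Nat.gcd_eq_right hd2] at h2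
    exact Nat.not_dvd_ordCompl hp (orderOf_pos y).ne' h2
  have hC := hT _ (pow_mem (pow_mem hy _) _) hyreg
  have hpow : ∀ m : ℕ, ∀ q ∈ b.1, y ^ m * q * (y ^ m)⁻¹ = x ^ m * q * (x ^ m)⁻¹ := by
    intro m
    induction m with
    | zero => intro q _; simp
    | succ m ih =>
      intro q hq
      have hq' : x * q * x⁻¹ ∈ b.1 := (Subgroup.mem_normalizer_iff.1 hx.1 q).1 hq
      calc y ^ (m + 1) * q * (y ^ (m + 1))⁻¹ = y ^ m * (y * q * y⁻¹) * (y ^ m)⁻¹ := by
            rw [pow_succ]; group
        _ = x ^ m * (x * q * x⁻¹) * (x ^ m)⁻¹ := by rw [hyq q hq, ih _ hq']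
        _ = x ^ (m + 1) * q * (x ^ (m + 1))⁻¹ := by rw [pow_succ]; group
  refine Subgroup.mem_centralizer_iff.2 fun q hq => ?_
  have h3 := hpow (p ^ n * j) q hq
  rw [pow_mul, pow_mul, hj, ← Subgroup.mem_centralizer_iff.1 hC q (hb.le hq),
    mul_inv_cancel_right] at h3
  exact (mul_inv_eq_iff_eq_mul.1 h3.symm).symm

end Abstract

universe u

variable {G : Type u} [Group G] [Fintype G] {p : ℕ} {M : Ideal AlgInt} [M.IsPrime]
variable (N : Subgroup G) [N.Normal]

theorem quotA_cj (g : G) (y : MonoidAlgebra (resField M) G) :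
    quotA N (cj g y) = cj (g : G ⧸ N) (quotA N y) := by
  classical
  refine gaExt fun q => ?_
  rw [coeff_cj, coeff_quotA, coeff_quotA]
  refine Finset.sum_equiv (MulAut.conj g⁻¹).toEquiv (fun a => ?_) fun a _ => ?_
  · simp only [Finset.mem_filter, Finset.mem_univ, true_and, MulEquiv.toEquiv_eq_coe,
      MulEquiv.coe_toEquiv, MulAut.conj_apply, QuotientGroup.mk_mul, QuotientGroup.mk_inv, inv_inv]
    constructor
    · intro h; rw [h]
    · intro h
      calc (a : G ⧸ N) = (g : G ⧸ N) * ((g : G ⧸ N)⁻¹ * a * g) * (g : G ⧸ N)⁻¹ := by group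
        _ = _ := by rw [h]; group
  · rw [coeff_cj]
    simp [mul_assoc]

/-- A block idempotent of a centraliser vanishes on the singular elements. -/
theorem coeff_blk_singular {H : Type u} [Group H] [Fintype H] (hM : IsPModular p M)
    {K : Subgroup H} {z : MonoidAlgebra (resField M) H} (hz : IsBlk K z) {g : H}
    (hg : p ∣ orderOf g) : z.coeff g = 0 := by
  classical
  by_cases hgK : g ∈ K
  · obtain ⟨e, he, rfl⟩ := exists_eq_zB (H := K) (z := z) hz
    have hcoe : (zB M K e).coeff ((⟨g, hgK⟩ : K) : H) = (Ek M e).coeff ⟨g, hgK⟩ :=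
      coeff_emb_coe K _ _
    rw [show (zB M K e).coeff g = (zB M K e).coeff ((⟨g, hgK⟩ : K) : H) from rfl, hcoe,
      coeff_Ek he, res_eq_zero_iff]
    show MemLocalIdeal M (blockCoeff e ⟨g, hgK⟩)
    rw [blockCoeff_eq_zero_of_singular hM he (by rwa [← Subgroup.orderOf_coe])]
    exact memLocalIdeal_zero
  · exact hz.inZ.supp g hgK

/-- A regular element centralising a p-group modulo its derived group centralises it. -/
theorem centralizes_of_mod_derived [Fact p.Prime] {D : Subgroup G} [D.Normal] (hD : IsPGroup p D)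
    {y : G} (hy : ¬ p ∣ orderOf y) (h : ∀ d ∈ D, y * d * y⁻¹ * d⁻¹ ∈ ⁅D, D⁆) :
    y ∈ Subgroup.centralizer (D : Set G) := by
  let Fx : Subgroup G :=
    { carrier := {g | ∀ d ∈ D, g * d * g⁻¹ * d⁻¹ ∈ ⁅D, D⁆}
      one_mem' := fun d _ => by simp
      mul_mem' := fun {a b} ha hb d hd => by
        have e : a * b * d * (a * b)⁻¹ * d⁻¹ =
            (a * (b * d * b⁻¹) * a⁻¹ * (b * d * b⁻¹)⁻¹) * (b * d * b⁻¹ * d⁻¹) := by group
        rw [e]
        exact mul_mem (ha _ (Subgroup.Normal.conj_mem inferInstance d hd b)) (hb d hd)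
      inv_mem' := fun {a} ha d hd => by
        have hd' : a⁻¹ * d * a ∈ D := by
          simpa using (Subgroup.Normal.conj_mem (inferInstance : D.Normal) d hd a⁻¹)
        have h2 := inv_mem (ha _ hd')
        have e : (a * (a⁻¹ * d * a) * a⁻¹ * (a⁻¹ * d * a)⁻¹)⁻¹ = a⁻¹ * d * a⁻¹⁻¹ * d⁻¹ := by group
        rwa [e] at h2 }
  have hle : Subgroup.zpowers y ≤ Fx := Subgroup.zpowers_le.2 h
  refine Cfsg.Agent.CoprimeAct.le_centralizer_of_frattini (A := Subgroup.zpowers y) (K := D)
    ?_ ?_ ?_ (Subgroup.mem_zpowers y)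
  · rw [Subgroup.normalizer_eq_top]; exact le_top
  · rw [Nat.card_zpowers]
    obtain ⟨i, hi⟩ := IsPGroup.iff_card.1 (hD.to_subgroup (frattini D))
    rw [hi]
    exact ((Fact.out : p.Prime).coprime_iff_not_dvd.2 hy).symm.pow_right i
  · exact fun a ha k hk => Cfsg.Agent.FusionSys.commutator_le_frattini_map hD (hle ha k hk)

/-- The inertial quotient of a block with normal defect group and constant height-zero degree is
a p-group. -/
theorem regular_stab_centralizes (hM : IsPModular p M) {B : Set (IrrCharacter G)}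
    (hB : IsPBlock M B) {D : Subgroup G} [D.Normal] (hD : IsDefectGroup p M B D) {f : ℕ}
    (hf : ∀ χ ∈ B, blockHeight p B (χ : G → ℂ) = 0 → charDegree (χ : G → ℂ) = f)
    {e : MonoidAlgebra (resField M) G} (he : IsPairOf p ⊤ (Ek M B) (D, e)) {y : G}
    (hy : y ∈ stabP ((D, e) : Pr (resField M) G)) (hyr : IsPRegular p y) :
    y ∈ Subgroup.centralizer (D : Set G) := by
  classical
  haveI := Fact.mk hM.1
  haveI : CharP (resField M) p := resField_charP hM
  set N : Subgroup G := ⁅D, D⁆ with hNdef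
  haveI : N.Normal := Subgroup.commutator_normal D D
  haveI : Fintype (G ⧸ N) := Fintype.ofFinite _
  have hDp : IsPGroup p D := he.pair.pgroup
  have hND : N ≤ D := Subgroup.commutator_le_left D D
  have hNp : IsPGroup p N := hDp.to_le hND
  obtain ⟨Bb, hBb, hinfl, hdefb⟩ := exists_quotient_block N hM hNp hB
  set π := QuotientGroup.mk' N with hπ
  set Db := D.map π with hDb
  haveI : Db.Normal := Subgroup.Normal.map inferInstance π (QuotientGroup.mk'_surjective N)
  have hDbD : IsDefectGroup p M Bb Db := (hdefb _).2 ⟨D, hD, rfl⟩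
  have habc : ∀ u ∈ Db, ∀ v ∈ Db, u * v = v * u := by
    rintro _ ⟨u, hu, rfl⟩ _ ⟨v, hv, rfl⟩
    rw [← map_mul, ← map_mul]
    refine QuotientGroup.eq.2 ?_
    have h1 := Subgroup.commutator_mem_commutator (D.inv_mem hv) (D.inv_mem hu)
    have e : (u * v)⁻¹ * (v * u) = ⁅v⁻¹, u⁻¹⁆ := by rw [commutatorElement_def]; group
    rw [e]; exact h1
  have habD : Db ≤ Subgroup.centralizer (Db : Set (G ⧸ N)) := fun u hu =>
    Subgroup.mem_centralizer_iff.2 fun v hv => habc v hv u hu
  -- all degrees of the quotient block are equal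
  have hdeg : ∀ χ ∈ Bb, charDegree (χ : G ⧸ N → ℂ) = f := by
    intro χ hχ
    have hinfdeg : charDegree (Cfsg.Agent.CharX.infl N χ : G → ℂ) = charDegree (χ : G ⧸ N → ℂ) := by
      simp [charDegree]
    rw [← hinfdeg]
    refine hf _ (hinfl χ hχ) ?_
    have hdvd : charDegree (χ : G ⧸ N → ℂ) ∣ Db.index :=
      Cfsg.Agent.Char.Ito.degree_dvd_index Db ⟨⟨fun a b => Subtype.ext (habc a a.2 b b.2)⟩⟩ χ
    have hidx : Db.index = D.index := by
      rw [hDb, Subgroup.index_map_eq D (QuotientGroup.mk'_surjective N)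
        (by rw [QuotientGroup.ker_mk']; exact hND)]
    rw [hidx, ← hinfdeg] at hdvd
    have h2 := Cfsg.Agent.BrauerPairs.degExp_eq_add_height hM hB (hinfl χ hχ)
    have h3 : (charDegree (Cfsg.Agent.CharX.infl N χ : G → ℂ)).factorization p ≤
        D.index.factorization p :=
      (Nat.factorization_le_iff_dvd (charDegree_pos _).ne' Subgroup.index_ne_zero_of_finite).2 hdvd p
    have h4 : (Nat.card G).factorization p = blockDefect p B + D.index.factorization p := by
      rw [← D.card_mul_index, Nat.factorization_mul Nat.card_pos.ne'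
        Subgroup.index_ne_zero_of_finite, Finsupp.add_apply, card_defectGroup hM hB hD,
        hM.1.factorization_pow, Finsupp.single_eq_same]
    omega
  -- a pair of the quotient block below the image
  set C := Subgroup.centralizer (D : Set G) with hC
  set Cb := Subgroup.centralizer (Db : Set (G ⧸ N)) with hCb
  have hEinv : IsInvElt D (Ek M B) := IsClassElt.isInvElt (isClassElt_Ek B) D
  have hq : quotA N (Ek M B) * Ek M Bb = Ek M Bb := by
    have h := quotA_mul_eq N hB hBb hinfl
    rwa [resG_quotA] at h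
  have hbrq : quotA N (brTrunc D (Ek M B)) * brTrunc Db (Ek M Bb) = brTrunc Db (Ek M Bb) := by
    have h := congrArg (brTrunc Db) hq
    rwa [brTrunc_mul (hDp.map π) ((IsClassElt.quotA N (isClassElt_Ek B)).isInvElt _)
      ((isClassElt_Ek Bb).isInvElt _), brTrunc_quotA N hDp hEinv] at h
  have hdefDb := (isDefectGroup_iff hBb Db).1 hDbD
  obtain ⟨eb₀, heb₀⟩ := exists_pairOf_defGrp (isBlk_Ek hBb) hdefDb
  have hdefD := (isDefectGroup_iff hB D).1 hD
  have hDn : ∀ g : G, cjS g D = D := fun g => by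
    refine cjS_eq_of_mem_normalizer ?_
    rw [Subgroup.normalizer_eq_top]; exact Subgroup.mem_top g
  have hDbn : ∀ g : G ⧸ N, cjS g Db = Db := fun g => by
    refine cjS_eq_of_mem_normalizer ?_
    rw [Subgroup.normalizer_eq_top]; exact Subgroup.mem_top g
  obtain ⟨eb, hebp, hne⟩ : ∃ eb, IsPairOf p ⊤ (Ek M Bb) (Db, eb) ∧ quotA N e * eb ≠ 0 := by
    have h1 : quotA N (brTrunc D (Ek M B)) * eb₀ ≠ 0 := by
      have h2 : quotA N (brTrunc D (Ek M B)) * eb₀ = eb₀ := by
        have h3 : brTrunc Db (Ek M Bb) * eb₀ = eb₀ := heb₀.occ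
        conv_lhs => rw [← h3, ← mul_assoc, hbrq]
        exact h3
      rw [h2]; exact heb₀.pair.blk.ne_zero
    rw [← mul_one (brTrunc D (Ek M B)), ← sum_blks (⊤ ⊓ C), Finset.mul_sum, map_sum,
      Finset.sum_mul] at h1
    obtain ⟨w, hw, hwne⟩ := Finset.exists_ne_zero_of_sum_ne_zero h1
    have hwb := isBlk_of_mem hw
    rcases hwb.prim (brTrunc D (Ek M B)) ((isBlk_Ek hB).inZ.brTrunc D)
      (by rw [← brTrunc_mul hDp hEinv hEinv, Ek_idem hB]) with h | h
    · rw [h, map_zero, zero_mul] at hwne; exact absurd rfl hwne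
    rw [h] at hwne
    have hp : IsPairOf p ⊤ (Ek M B) (D, w) := ⟨⟨hDp, le_top, hwb⟩, isBlk_Ek hB, h⟩
    obtain ⟨n, -, hn⟩ := exists_conj_defect_pair he hp hdefD hdefD
    have hnw : cj n w = e := congrArg Prod.snd hn
    refine ⟨cj (n : G ⧸ N) eb₀, ?_, ?_⟩
    · have h3 := heb₀.cjT (n : G ⧸ N)
      rw [show cjP (n : G ⧸ N) ((Db, eb₀) : Pr (resField M) (G ⧸ N)) =
        (Db, cj (n : G ⧸ N) eb₀) from Prod.ext (hDbn _) rfl] at h3
      exact h3
    · rw [← hnw, quotA_cj, ← map_mul]
      exact fun h0 => hwne ((cj (k := resField M) (n : G ⧸ N)).injective (by rw [h0, map_zero]))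
  have hebb : IsBlk Cb eb := hebp.pair.blkC
  have hab : ∀ z : G, ¬ p ∣ orderOf z → ((z : G ⧸ N) ∈ Cb ↔ z ∈ C) := by
    intro z hz
    constructor
    · intro hzc
      refine centralizes_of_mod_derived hDp hz fun d hd => ?_
      have h3 := Subgroup.mem_centralizer_iff.1 hzc (d : G ⧸ N) ⟨d, hd, rfl⟩
      rw [← QuotientGroup.eq_one_iff]
      simp only [QuotientGroup.mk_mul, QuotientGroup.mk_inv]
      rw [← h3, mul_inv_cancel_right, mul_inv_cancel]
    · intro hzc
      refine Subgroup.mem_centralizer_iff.2 ?_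
      rintro _ ⟨d, hd, rfl⟩
      show (d : G ⧸ N) * (z : G ⧸ N) = z * d
      rw [← QuotientGroup.mk_mul, Subgroup.mem_centralizer_iff.1 hzc d hd, QuotientGroup.mk_mul]
  have huniq : ∀ v v' : G, v ∈ C → ¬ p ∣ orderOf v → ¬ p ∣ orderOf v' →
      (v : G ⧸ N) = (v' : G ⧸ N) → v = v' := by
    intro v v' hv hvr hv'r hvv
    have hn : v⁻¹ * v' ∈ N := QuotientGroup.eq.1 hvv
    have hcomm : Commute v (v⁻¹ * v') :=
      (Subgroup.mem_centralizer_iff.1 hv _ (hND hn)).symm
    obtain ⟨i, hi⟩ := IsPGroup.iff_orderOf.1 hNp ⟨_, hn⟩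
    rw [Subgroup.orderOf_mk] at hi
    rcases Nat.eq_zero_or_pos i with rfl | hipos
    · rw [pow_zero, orderOf_eq_one_iff] at hi
      exact inv_mul_eq_one.1 hi
    · refine absurd ?_ hv'r
      have h4 := hcomm.orderOf_mul_eq_mul_orderOf_of_coprime (by
        rw [hi]; exact ((hM.1.coprime_iff_not_dvd.2 hvr).symm).pow_right i)
      rw [mul_inv_cancel_left, hi] at h4
      rw [h4]
      exact dvd_mul_of_dvd_right (dvd_pow_self p hipos.ne') _
  -- the quotient of a local block is primitive against the blocks above it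
  let l : MonoidAlgebra (resField M) G :=
    gaOfFun fun v => if v ∈ C ∧ ¬ p ∣ orderOf v then eb.coeff (v : G ⧸ N) else 0
  have hl : InZ C l := by
    refine ⟨fun g hg => by simp [l, hg], fun u hu g => ?_⟩
    have hmem : u * g * u⁻¹ ∈ C ↔ g ∈ C := by
      constructor
      · intro h
        have h2 := C.mul_mem (C.mul_mem (C.inv_mem hu) h) hu
        simpa [mul_assoc] using h2
      · exact fun h => C.mul_mem (C.mul_mem hu h) (C.inv_mem hu)
    have hord : orderOf (u * g * u⁻¹) = orderOf g :=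
      orderOf_injective (MulAut.conj u).toMonoidHom (MulAut.conj u).injective g
    simp only [l, coeff_gaOfFun, hmem, hord]
    split_ifs with h
    · have huC : (u : G ⧸ N) ∈ Cb := by
        refine Subgroup.mem_centralizer_iff.2 ?_
        rintro _ ⟨d, hd, rfl⟩
        show (d : G ⧸ N) * (u : G ⧸ N) = u * d
        rw [← QuotientGroup.mk_mul, Subgroup.mem_centralizer_iff.1 hu d hd, QuotientGroup.mk_mul]
      rw [QuotientGroup.mk_mul, QuotientGroup.mk_mul, QuotientGroup.mk_inv]
      exact hebb.inZ.inv _ huC _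
    · rfl
  have hlq : quotA N l = eb := by
    refine gaExt fun q => ?_
    rw [coeff_quotA]
    by_cases hex : ∃ v : G, (v : G ⧸ N) = q ∧ v ∈ C ∧ ¬ p ∣ orderOf v
    · obtain ⟨v, rfl, hvC, hvr⟩ := hex
      rw [Finset.sum_eq_single v]
      · simp [l, hvC, hvr]
      · intro v' hv' hne'
        simp only [l, coeff_gaOfFun]
        rw [if_neg fun h => hne' (huniq v v' hvC hvr h.2 (Finset.mem_filter.1 hv').2.symm).symm]
      · simp
    · rw [Finset.sum_eq_zero fun v hv => by
        simp only [l, coeff_gaOfFun]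
        rw [if_neg fun h => hex ⟨v, (Finset.mem_filter.1 hv).2, h⟩]]
      by_cases hqr : p ∣ orderOf q
      · exact (coeff_blk_singular hM hebb hqr).symm
      · obtain ⟨v, hvr, rfl⟩ := BrauerPairs.exists_regular_lift N hM.1 hqr
        exact (hebb.inZ.supp _ fun h => hex ⟨v, rfl, (hab v hvr).1 h, hvr⟩).symm
  have heC : IsBlk C e := he.pair.blkC
  have hqeb : quotA N e * eb = quotA N e := by
    obtain ⟨c, n, hcn⟩ := exists_lam heC hl
    set q := quotA N e with hqdef
    have hsm : quotA N (c • (1 : MonoidAlgebra (resField M) G)) = c • 1 := by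
      simp [quotA, MonoidAlgebra.one_def, MonoidAlgebra.smul_single]
    have h5 : ((eb - c • 1) * q) ^ n = 0 := by
      have h := congrArg (quotA N) hcn
      rwa [map_pow, map_mul, map_sub, hlq, hsm, map_zero] at h
    have hqq : q * q = q := by rw [hqdef, ← map_mul, heC.idem]
    have hqsupp : ∀ z, z ∉ Cb → q.coeff z = 0 := by
      intro z hz
      rw [hqdef, coeff_quotA]
      refine Finset.sum_eq_zero fun v hv => heC.inZ.supp v fun hvC => hz ?_
      rw [← (Finset.mem_filter.1 hv).2]
      refine Subgroup.mem_centralizer_iff.2 ?_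
      rintro _ ⟨d, hd, rfl⟩
      show (d : G ⧸ N) * (v : G ⧸ N) = v * d
      rw [← QuotientGroup.mk_mul, Subgroup.mem_centralizer_iff.1 hvC d hd, QuotientGroup.mk_mul]
    have hcomm : eb * q = q * eb := hebb.inZ.comm hqsupp
    set u := q * eb with hu
    have huu : u * u = u := by
      rw [hu, mul_assoc, ← mul_assoc eb, hcomm, mul_assoc, hebb.idem, ← mul_assoc, hqq]
    have hkey : u * ((eb - c • 1) * q) = (1 - c) • u := by
      rw [sub_mul, smul_mul_assoc, one_mul, mul_sub, mul_smul_comm, hcomm, huu, sub_smul,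
        one_smul]
      congr 2
      rw [hu, mul_assoc, hcomm, ← mul_assoc, hqq]
    have hpw : ∀ m : ℕ, u * ((eb - c • 1) * q) ^ m = (1 - c) ^ m • u := by
      intro m
      induction m with
      | zero => simp
      | succ m ih => rw [pow_succ, ← mul_assoc, ih, smul_mul_assoc, hkey, smul_smul, ← pow_succ]
    have hc1 : c = 1 := by
      have h := hpw n
      rw [h5, mul_zero, eq_comm, smul_eq_zero] at h
      rcases h with h | h
      · exact (sub_eq_zero.1 (eq_zero_of_pow_eq_zero h)).symm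
      · exact absurd h (by rw [hu]; exact hne)
    rw [hc1, one_smul, sub_mul, one_mul, hcomm] at h5
    have hid : (q - u) * (q - u) = q - u := by
      have e1 : q * u = u := by rw [hu, ← mul_assoc, hqq]
      have e2 : u * q = u := by rw [hu, mul_assoc, hcomm, ← mul_assoc, hqq]
      rw [sub_mul, mul_sub, mul_sub, hqq, e1, e2, huu]
      abel
    have hneg : (u - q) ^ (n + 1) = 0 := by rw [pow_succ, h5, zero_mul]
    have hqu : (q - u) ^ (n + 1) = q - u := by
      have : ∀ m : ℕ, (q - u) ^ (m + 1) = q - u := fun m => by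
        induction m with
        | zero => rw [pow_one]
        | succ m ih => rw [pow_succ, ih, hid]
      exact this n
    have h6 : (q - u) ^ (n + 1) = 0 := by
      rw [← neg_sub u q, neg_pow, hneg, mul_zero]
    rw [hqu, sub_eq_zero] at h6
    exact h6.symm
  have hstab : (y : G ⧸ N) ∈ stabP ((Db, eb) : Pr (resField M) (G ⧸ N)) := by
    refine ⟨by rw [Subgroup.normalizer_eq_top]; exact Subgroup.mem_top _, ?_⟩
    have h1 : quotA N e * cj (y : G ⧸ N) eb = quotA N e := by
      have h2 := congrArg (cj (k := resField M) (y : G ⧸ N)) hqeb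
      rwa [map_mul, ← quotA_cj, hy.2] at h2
    have hb2 : IsBlk Cb (cj (y : G ⧸ N) eb) := by
      have h3 := hebb.cj (y : G ⧸ N)
      rwa [cjS_centralizer, hDbn] at h3
    by_contra hne2
    have h4 := hebb.mul_eq_zero hb2 (fun h => hne2 h.symm)
    refine hne ?_
    calc quotA N e * eb = quotA N e * eb * cj (y : G ⧸ N) eb := by
          rw [hqeb, h1]
      _ = 0 := by rw [mul_assoc, h4, mul_zero]
  obtain ⟨ebS, hebS, rfl⟩ := exists_eq_zB (H := Cb) (z := eb) hebb
  have hle := Cfsg.Agent.EqualDeg.stabP_le hM hBb hdeg hebS ⟨hebp, hdefDb⟩ habD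
  exact (hab y hyr).1 (hle hstab)

end Cfsg.Agent.NormalDefect
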