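import Cfsg.Agent.Lib.Blocks.CoverAll
import Cfsg.Agent.Lib.Blocks.KernelBlock
import Cfsg.Agent.Lib.Blocks.AlgGalois
import Cfsg.Agent.Lib.Blocks.SubsectionRow
import Cfsg.Agent.Lib.Char.Complete

/-!
Norm sums over principal blocks, quotients by p'-subgroups and normal subgroups.
-/

set_option linter.unusedSectionVars false
set_option linter.style.haveILetI false

namespace Cfsg.Agent.BrauerPairs

open Cfsg Cfsg.Agent.Blocks Cfsg.Agent.Char Cfsg.Agent.CharGalois
open scoped ComplexConjugate

universe u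

variable {G : Type u} [Group G] [Fintype G] {p : ℕ} {M : Ideal AlgInt} [M.IsPrime]

theorem sameBlock_principal_twist (hM : IsPModular p M) {χ : IrrCharacter G}
    (hχ : SameBlock M (fun _ : G => (1 : ℂ)) (χ : G → ℂ)) (σ : ℂ ≃+* ℂ) :
    SameBlock M (fun _ : G => (1 : ℂ)) (fun g => σ ((χ : G → ℂ) g)) := by
  obtain ⟨k, hk, hσ⟩ := exists_exponent σ.toRingHom (Nat.card_pos (α := G)).ne'
  intro g
  have h := hχ (g ^ k)
  have h1 := map_char (irr_isCharacter χ) σ.toRingHom hσ
  simp only [RingEquiv.toRingHom_eq_coe, RingEquiv.coe_toRingHom] at h1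
  simp only [centralChar, centralizer_pow_coprime hk] at h ⊢
  rw [h1, h1, one_pow]
  exact h

theorem exists_nat_sum_normSq (hM : IsPModular p M) (x : G) :
    ∃ n : ℕ, 0 < n ∧
      ∑ᶠ χ ∈ principalBlock M G, Complex.normSq ((χ : G → ℂ) x) = n := by
  classical
  set s := (Set.toFinite (principalBlock M G)).toFinset with hs
  have hmem : ∀ χ, χ ∈ s ↔ χ ∈ principalBlock M G := fun χ => Set.Finite.mem_toFinset _
  rw [finsum_mem_eq_finite_toFinset_sum _ (Set.toFinite _), ← hs]
  set S : ℝ := ∑ χ ∈ s, Complex.normSq ((χ : G → ℂ) x) with hS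
  set P : ℂ := ∑ χ ∈ s, (χ : G → ℂ) x * (χ : G → ℂ) x⁻¹ with hP
  have hPS : P = (S : ℂ) := by
    rw [hP, hS, Complex.ofReal_sum]
    exact Finset.sum_congr rfl fun χ _ => by rw [irr_inv, Complex.mul_conj]
  have hint : IsIntegral ℤ P := IsIntegral.sum _ fun χ _ =>
    (IsCharacter.isIntegral (irr_isCharacter χ) _).mul
      (IsCharacter.isIntegral (irr_isCharacter χ) _)
  obtain ⟨m, hm⟩ := exists_int_of_fixed hint fun σ => by
    let T : IrrCharacter G → IrrCharacter G := fun χ =>
      ⟨fun g => σ ((χ : G → ℂ) g), IsIrrCharacter.twist χ.2 σ⟩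
    have hT : Function.Injective T := fun a b h =>
      Subtype.ext (funext fun g => σ.injective (congrFun (congrArg Subtype.val h) g))
    have himg : s.image T = s := by
      refine Finset.eq_of_subset_of_card_le (Finset.image_subset_iff.2 fun χ hχ => ?_)
        (by rw [Finset.card_image_of_injective _ hT])
      rw [hmem] at hχ ⊢
      exact sameBlock_principal_twist hM hχ σ
    conv_rhs => rw [hP, ← himg, Finset.sum_image fun a _ b _ e => hT e]
    simp only [hP, map_sum, map_mul, T]
  have h1 : (1 : ℝ) ≤ S := by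
    refine le_trans ?_ (Finset.single_le_sum (fun χ _ => Complex.normSq_nonneg _)
      ((hmem (principal G)).2 principal_mem_principalBlock))
    simp [principal]
  have hSm : S = (m : ℝ) := by
    rw [hPS] at hm
    exact_mod_cast hm
  rw [hSm] at h1 ⊢
  have h2 : 1 ≤ m := by exact_mod_cast h1
  refine ⟨m.toNat, by omega, ?_⟩
  exact_mod_cast (Int.toNat_of_nonneg (by omega : 0 ≤ m)).symm

theorem sameBlock_inflate (N : Subgroup G) [N.Normal] [Fintype (G ⧸ N)]
    (χ' ψ' : IrrCharacter (G ⧸ N))
    (h : SameBlock M (χ' : G ⧸ N → ℂ) (ψ' : G ⧸ N → ℂ)) :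
    SameBlock M (Cfsg.Agent.CharX.infl N χ' : G → ℂ) (Cfsg.Agent.CharX.infl N ψ' : G → ℂ) := by
  intro g
  have hdvd : (Subgroup.centralizer ({(g : G ⧸ N)} : Set (G ⧸ N))).index ∣
      (Subgroup.centralizer ({g} : Set G)).index := by
    refine dvd_trans (Subgroup.index_dvd_of_le ?_)
      (Subgroup.index_map_dvd _ (QuotientGroup.mk'_surjective N))
    rintro _ ⟨y, hy, rfl⟩
    rw [SetLike.mem_coe, Subgroup.mem_centralizer_singleton_iff] at hy
    refine Subgroup.mem_centralizer_singleton_iff.2 ?_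
    rw [QuotientGroup.mk'_apply, ← QuotientGroup.mk_mul, hy, QuotientGroup.mk_mul]
  obtain ⟨k, hk⟩ := hdvd
  have h1 := MemLocalIdeal.mul_left (natCast_mem (locRing M) k) (h (g : G ⧸ N))
  convert h1 using 1
  simp only [centralChar, Cfsg.Agent.CharX.infl_apply, hk, QuotientGroup.mk_one]
  push_cast
  ring

theorem sum_principal_quotient (hM : IsPModular p M) (N : Subgroup G) [N.Normal]
    (hN : ¬ p ∣ Nat.card N) [Fintype (G ⧸ N)] {β : Type*} [AddCommMonoid β]
    (F : (G → ℂ) → β) :
    ∑ᶠ χ ∈ principalBlock M G, F (χ : G → ℂ) =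
      ∑ᶠ ψ ∈ principalBlock M (G ⧸ N), F (Cfsg.Agent.CharX.infl N ψ : G → ℂ) := by
  classical
  have hprin : Cfsg.Agent.CharX.infl N (principal (G ⧸ N)) = principal G := rfl
  have himg : principalBlock M G = Cfsg.Agent.CharX.infl N '' principalBlock M (G ⧸ N) := by
    ext χ
    constructor
    · intro hχ
      have htriv := trivialOn_of_sameBlock hM N hN (χ := principal G) (ψ := χ) hχ fun _ _ => rfl
      obtain ⟨χ', hχ'⟩ := (Cfsg.Agent.CharX.quotEquiv N).surjective ⟨χ, htriv⟩
      have e : Cfsg.Agent.CharX.infl N χ' = χ := congrArg Subtype.val hχ'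
      refine ⟨χ', ?_, e⟩
      exact sameBlock_deflate hM N hN (principal (G ⧸ N)) χ' (by rw [hprin, e]; exact hχ)
    · rintro ⟨χ', hχ', rfl⟩
      exact sameBlock_inflate N (principal (G ⧸ N)) χ' hχ'
  rw [himg, finsum_mem_image]
  intro a _ b _ e
  exact (Cfsg.Agent.CharX.quotEquiv N).injective (Subtype.ext e)

theorem sum_normSq_le_centralizer (x : G) :
    ∑ᶠ χ ∈ principalBlock M G, Complex.normSq ((χ : G → ℂ) x) ≤
      (Nat.card (Subgroup.centralizer ({x} : Set G)) : ℝ) := by
  classical
  have h := column_orth_of_isConj (IsConj.refl x)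
  simp only [Complex.mul_conj, ← Complex.ofReal_sum] at h
  rw [finsum_mem_eq_finite_toFinset_sum _ (Set.toFinite _),
    ← (by exact_mod_cast h : ∑ χ : IrrCharacter G, Complex.normSq ((χ : G → ℂ) x) =
      (Nat.card (Subgroup.centralizer ({x} : Set G)) : ℝ))]
  exact Finset.sum_le_univ_sum_of_nonneg fun χ => Complex.normSq_nonneg _

theorem sum_degSq_principal_eq_iff :
    ∑ᶠ χ ∈ principalBlock M G, charDegree (χ : G → ℂ) ^ 2 = Nat.card G ↔
      ∀ B : Set (IrrCharacter G), IsPBlock M B → B = principalBlock M G := by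
  classical
  rw [finsum_mem_eq_finite_toFinset_sum _ (Set.toFinite _), ← Cfsg.Agent.CharX.sum_deg_sq (G := G)]
  constructor
  · intro h B hB
    have hall : ∀ χ : IrrCharacter G, χ ∈ principalBlock M G := fun χ => by
      by_contra hχ
      refine h.not_lt (Finset.sum_lt_sum_of_subset (Finset.subset_univ _) (Finset.mem_univ χ)
        (fun hh => hχ ((Set.Finite.mem_toFinset _).1 hh)) (pow_pos (charDegree_pos χ) 2)
        fun _ _ _ => Nat.zero_le _)
    obtain ⟨χ, hχ⟩ := isPBlock_nonempty hB
    exact isPBlock_eq_of_mem hB (isPBlock_principalBlock M G) hχ (hall χ)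
  · intro h
    congr 1
    refine Finset.eq_univ_iff_forall.2 fun χ => (Set.Finite.mem_toFinset _).2 ?_
    rw [← h _ (isPBlock_blockOf χ)]
    exact self_mem_blockOf χ

theorem constituent_mem_principal (H : Subgroup G) [H.Normal] [Fintype H] {χ : IrrCharacter G}
    (hχ : χ ∈ principalBlock M G) {θ : IrrCharacter H}
    (hθ : classInner (fun n : H => (χ : G → ℂ) n) (θ : H → ℂ) ≠ 0) :
    θ ∈ principalBlock M H := by
  have h0 : classInner (fun n : H => (principal G : G → ℂ) n) (principal H : H → ℂ) ≠ 0 := by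
    rw [show (fun n : H => (principal G : G → ℂ) n) = (principal H : H → ℂ) from rfl,
      classInner_self_irr (principal H).2]
    exact one_ne_zero
  obtain ⟨g, θ', hθ', e⟩ := constituents_conjugate_blocks H (isPBlock_principalBlock M G)
    (isPBlock_principalBlock M H) principal_mem_principalBlock principal_mem_principalBlock h0
    hχ hθ
  have h1 := sameBlock_cjIrr H (θ := principal H) (φ := θ') hθ' g
  have e2 : cjIrr H g (principal H) = principal H := Subtype.ext rfl
  rw [e2, cjIrr_apply, ← e] at h1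
  exact h1

theorem sum_degSq_normal (hM : IsPModular p M) (H : Subgroup G) [H.Normal] :
    (∑ᶠ θ ∈ principalBlock M H, charDegree (θ : H → ℂ) ^ 2) ≤
        (∑ᶠ χ ∈ principalBlock M G, charDegree (χ : G → ℂ) ^ 2) ∧
      (∑ᶠ χ ∈ principalBlock M G, charDegree (χ : G → ℂ) ^ 2) ≤
        H.index * ∑ᶠ θ ∈ principalBlock M H, charDegree (θ : H → ℂ) ^ 2 := by
  classical
  haveI : Fintype H := Fintype.ofFinite H
  choose m hm hm' using fun χ : IrrCharacter G => exists_mults H χ
  set s := (Set.toFinite (principalBlock M G)).toFinset with hs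
  set t := (Set.toFinite (principalBlock M H)).toFinset with ht
  rw [finsum_mem_eq_finite_toFinset_sum _ (Set.toFinite _),
    finsum_mem_eq_finite_toFinset_sum _ (Set.toFinite _), ← hs, ← ht]
  have hdeg : ∀ χ ∈ s, charDegree (χ : G → ℂ) = ∑ θ ∈ t, m χ θ * charDegree (θ : H → ℂ) := by
    intro χ hχ
    rw [Finset.sum_subset (Finset.subset_univ t) fun θ _ hθ => ?_]
    · have h := hm χ 1
      simp only [Subgroup.coe_one, irr_one_eq_charDegree] at h
      exact_mod_cast h
    · by_contra hne
      refine hθ ((Set.Finite.mem_toFinset _).2 (constituent_mem_principal H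
        ((Set.Finite.mem_toFinset _).1 hχ) (θ := θ) ?_))
      rw [hm' χ θ]
      exact Nat.cast_ne_zero.2 (left_ne_zero_of_mul hne)
  have hsum : ∑ χ ∈ s, charDegree (χ : G → ℂ) ^ 2 =
      ∑ θ ∈ t, charDegree (θ : H → ℂ) * ∑ χ ∈ s, m χ θ * charDegree (χ : G → ℂ) := by
    simp only [Finset.mul_sum]
    rw [Finset.sum_comm]
    refine Finset.sum_congr rfl fun χ hχ => ?_
    rw [sq]
    nth_rw 1 [hdeg χ hχ]
    rw [Finset.sum_mul]
    exact Finset.sum_congr rfl fun θ _ => by ring
  refine ⟨?_, ?_⟩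
  · rw [hsum]
    refine Finset.sum_le_sum fun θ hθ => ?_
    rw [sq]
    refine Nat.mul_le_mul_left _ ?_
    have h0 : classInner (fun n : H => (principal G : G → ℂ) n) (principal H : H → ℂ) ≠ 0 := by
      rw [show (fun n : H => (principal G : G → ℂ) n) = (principal H : H → ℂ) from rfl,
        classInner_self_irr (principal H).2]
      exact one_ne_zero
    obtain ⟨χ, hχ, hne⟩ := exists_over_of_covers H (isPBlock_principalBlock M G)
      (isPBlock_principalBlock M H) principal_mem_principalBlock principal_mem_principalBlock h0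
      ((Set.Finite.mem_toFinset _).1 hθ)
    rw [hm' χ θ, Nat.cast_ne_zero] at hne
    have hχs : χ ∈ s := (Set.Finite.mem_toFinset _).2 hχ
    refine le_trans ?_ (Finset.single_le_sum (fun _ _ => Nat.zero_le _) hχs)
    refine le_trans ?_ (Nat.le_mul_of_pos_left _ (Nat.pos_of_ne_zero hne))
    rw [hdeg χ hχs]
    exact le_trans (Nat.le_mul_of_pos_left _ (Nat.pos_of_ne_zero hne))
      (Finset.single_le_sum (f := fun θ => m χ θ * charDegree (θ : H → ℂ))
        (fun _ _ => Nat.zero_le _) hθ)
  · rw [hsum, Finset.mul_sum]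
    refine Finset.sum_le_sum fun θ _ => ?_
    rw [sq, mul_left_comm]
    refine Nat.mul_le_mul_left _ ((Finset.sum_le_univ_sum_of_nonneg fun _ => Nat.zero_le _).trans
      (le_of_eq ?_))
    have h := congrFun (classFunction_eq_sum
      (IsCharacter.isClassFunction (isCharacter_indFun H (irr_isCharacter θ)))) 1
    rw [indFun_one_apply, Finset.sum_apply, irr_one_eq_charDegree] at h
    simp only [Pi.smul_apply, smul_eq_mul] at h
    have h2 : ∀ χ : IrrCharacter G, classInner (indFun H (θ : H → ℂ)) (χ : G → ℂ) = (m χ θ : ℂ) := by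
      intro χ
      rw [← classInner_conj_symm, classInner_indFun_right H (θ : H → ℂ)
        (IsCharacter.isClassFunction (irr_isCharacter χ)), hm' χ θ, map_natCast]
    simp only [h2, irr_one_eq_charDegree] at h
    exact_mod_cast h.symm

end Cfsg.Agent.BrauerPairs
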