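/-
Characters of degree prime to `p` in the principal block, bounded through a centraliser with a
small Sylow subgroup.
-/
import Cfsg.Agent.Lib.BrauerPairs.AbelianRowVectors
import Cfsg.Agent.Lib.BrauerPairs.PrincipalNormSum
import Cfsg.Agent.Lib.BrauerPairs.PrincipalOver
import Cfsg.Agent.Lib.BrauerPairs.BrauerFeit
import Cfsg.Agent.Lib.Blocks.Congr
import Cfsg.Agent.Lib.BrauerPairs.Principal

set_option linter.unusedSectionVars false
set_option linter.style.haveILetI false

namespace Cfsg.Agent.ProjVec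

open Cfsg Cfsg.Agent.Blocks Cfsg.Agent.Char Cfsg.Agent.BrauerPairs Cfsg.Agent.CharX
open scoped ComplexConjugate

universe u

variable {G : Type u} [Group G] [Fintype G] {p : ℕ} [Fact p.Prime] {M : Ideal AlgInt} [M.IsPrime]

/-- The values at a p-element see a character of degree prime to `p` in the principal block of
the centraliser. -/
theorem fn_one_ne_zero (hM : IsPModular p M) {x : G} (hx : ∃ k, orderOf x = p ^ k)
    {C : Subgroup G} [Fintype C] (hC : C = Subgroup.centralizer ({x} : Set G))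
    (D : SubData p M x C (principalBlock M C) (principalBlock M G))
    [DecidablePred (· ∈ principalBlock M C)]
    {χ : IrrCharacter G} (hχ : χ ∈ principalBlock M G) (hdeg : ¬ p ∣ charDegree (χ : G → ℂ)) :
    D.fn (D.coef χ 1) 1 ≠ 0 := by
  classical
  intro hzero
  obtain ⟨k, hk⟩ := hx
  have h1 : (χ : G → ℂ) x = D.fn (D.coef χ 1) 1 := by
    rw [← D.blockPart_secFun χ 1, pow_one]
    have hcl : IsClassFunction C (secFun x C (χ : G → ℂ)) := by
      intro u v
      simp only [secFun, Subgroup.coe_mul, Subgroup.coe_inv]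
      have hvx : Commute (v : G) x :=
        Subgroup.mem_centralizer_singleton_iff.1 ((SetLike.ext_iff.1 hC (v : G)).1 v.2)
      rw [show x * ((v : G) * u * (v : G)⁻¹) = v * (x * u) * (v : G)⁻¹ by
        simp only [← mul_assoc, hvx.symm.eq], irr_conj_invariant]
    calc (χ : G → ℂ) x = secFun x C (χ : G → ℂ) 1 := by simp [secFun]
      _ = ∑ b ∈ blocks M C, blockPart b (secFun x C (χ : G → ℂ)) 1 :=
        (sum_blockPart hcl 1).symm
      _ = _ := by
        refine Finset.sum_eq_single _ (fun b hb hne => ?_)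
          fun h => absurd (mem_blocks.2 (isPBlock_principalBlock M C)) h
        refine blockPart_secFun_eq_zero hM ⟨k, hk⟩ hC (isPBlock_principalBlock M G) hχ
          (mem_blocks.1 hb) (fun hind => hne ?_) (by simpa using hM.1.ne_one)
        have h := (mem_unitBlocks_iff_induced' hM ⟨k, hk⟩ hC (isPBlock_principalBlock M G)).2 hind
        rwa [unitBlocks_principal hM ⟨k, hk⟩ hC, Finset.mem_singleton] at h
  have h2 := char_congr_regular hM (irr_isCharacter χ) (Commute.one_right x) hk
    (y := 1) (by simpa using hM.1.ne_one)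
  rw [mul_one, h1, hzero, zero_sub, irr_one_eq_charDegree] at h2
  refine hdeg ((natCast_memLocalIdeal_iff hM _).1 ?_)
  simpa using MemLocalIdeal.neg h2

/-- The characters of degree prime to `p` in the principal block are at most the weighted length
of vectors on the principal block of a centraliser of a p-element. -/
theorem card_pprime_le_of_weighted (hM : IsPModular p M) {x : G} (hx : ∃ k, orderOf x = p ^ k)
    {C : Subgroup G} [Fintype C] (hC : C = Subgroup.centralizer ({x} : Set G)) {N : ℕ}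
    (h : HasWeighted p (principalBlock M C) N) :
    Nat.card {χ : IrrCharacter G //
      χ ∈ principalBlock M G ∧ ¬ p ∣ charDegree (χ : G → ℂ)} ≤ N := by
  classical
  have hind : IsInducedBlock M C (principalBlock M C) (principalBlock M G) := by
    refine (mem_unitBlocks_iff_induced' hM hx hC (isPBlock_principalBlock M G)).1 ?_
    rw [unitBlocks_principal hM hx hC]
    exact Finset.mem_singleton_self _
  obtain ⟨r, z, M0, hM0, hsing, hinj, hthr, hN⟩ := h
  set b := principalBlock M C with hb
  set B := principalBlock M G with hB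
  obtain ⟨D⟩ := nonempty_subData hM hx hC hind
  set T := primExps p (p ^ (D.j + 1)) with hT
  set s := Finset.univ.filter
    (fun χ : IrrCharacter G => χ ∈ B ∧ ¬ p ∣ charDegree (χ : G → ℂ)) with hs
  set sB := Finset.univ.filter (· ∈ B) with hsB
  let c : Fin r → {θ // θ ∈ b} → ℂ := fun k a => (z k a.1 : ℂ)
  let L : Fin r → IrrCharacter G → ℕ → ℂ := fun k χ t => ∑ a, D.coef χ t a * c k a
  have hsub : ∀ f : IrrCharacter C → ℂ, ∑ θ ∈ bs b, f θ = ∑ q : {θ // θ ∈ b}, f q.1 := fun f =>
    Finset.sum_subtype (p := fun θ => θ ∈ b) (bs b) (fun θ => mem_bs) f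
  have hfn : ∀ k, ∀ w : C, p ∣ orderOf w → D.fn (c k) w = 0 := by
    intro k w hw
    rw [← hsing k w hw, SubData.fn, hsub]
  have hpair : ∀ k (c' : {θ // θ ∈ b} → ℂ),
      regPair p (blockScale p b) (D.fn c') (D.fn (c k)) =
        ((p ^ blockDefect p b : ℕ) : ℂ) * ∑ a, c' a * c k a := by
    intro k c'
    show regPair p _ (fun u => ∑ a : {θ // θ ∈ b}, c' a * ((a : IrrCharacter C) : C → ℂ) u) _ = _
    rw [regPair_sum_left, Finset.mul_sum]
    refine Finset.sum_congr rfl fun a _ => ?_
    have e : D.fn (c k) = ∑ a' : {θ // θ ∈ b}, c k a' • ((a' : IrrCharacter C) : C → ℂ) := by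
      funext u; simp [SubData.fn]
    rw [regPair_irr_vanish b a.1 (hfn k), e, classInner_sum_right, Finset.sum_eq_single a]
    · rw [classInner_smul_right, classInner_self_irr a.1.2, mul_one]
      simp only [c, map_intCast]
      ring
    · intro a' _ ha'
      rw [classInner_smul_right, classInner_irr_of_ne a.1.2 a'.1.2
        (fun e => ha' (Subtype.ext (Subtype.ext e.symm))), mul_zero]
    · exact fun h => absurd (Finset.mem_univ _) h
  set φ : ℝ := ((p ^ D.j * (p - 1) : ℕ) : ℝ) with hφ
  have hφ0 : 0 < φ := by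
    have := hM.1.two_le
    exact Nat.cast_pos.2 (Nat.mul_pos (pow_pos hM.1.pos _) (by omega))
  have hbessel : ∀ t ∈ T, ∀ k, ∑ χ ∈ sB, Complex.normSq (L k χ t) =
      ((∑ θ ∈ bs b, z k θ ^ 2 : ℤ) : ℝ) := by
    intro t ht k
    have h1 := D.bessel ht (c k)
    simp only [hpair] at h1
    have hP : ((p ^ blockDefect p b : ℕ) : ℝ) * ((p ^ blockDefect p b : ℕ) : ℝ) ≠ 0 :=
      mul_ne_zero (Nat.cast_ne_zero.2 (pow_ne_zero _ hM.1.ne_zero))
        (Nat.cast_ne_zero.2 (pow_ne_zero _ hM.1.ne_zero))
    refine mul_left_cancel₀ hP (Complex.ofReal_injective ?_)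
    rw [Complex.ofReal_mul, Complex.ofReal_sum]
    simp only [map_mul, Complex.normSq_natCast, Complex.ofReal_mul, Complex.ofReal_natCast,
      ← Finset.mul_sum] at h1
    simp only [Complex.ofReal_mul, Complex.ofReal_natCast]
    rw [h1, show ∑ θ ∈ bs b, z k θ ^ 2 = ∑ a : {θ // θ ∈ b}, z k a.1 ^ 2 from
      Finset.sum_subtype (p := fun θ => θ ∈ b) (bs b) (fun θ => mem_bs) fun θ => z k θ ^ 2]
    simp only [c, Int.cast_sum, Complex.ofReal_sum, sq, Int.cast_mul, Complex.ofReal_mul,
      Complex.ofReal_intCast, mul_assoc]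
  have hlow : ∀ χ ∈ s, φ * (M0 : ℝ) ≤ ∑ t ∈ T, qn 1 (fun k => L k χ t) := by
    intro χ hχ
    obtain ⟨hχB, hdeg⟩ := (Finset.mem_filter.1 hχ).2
    obtain ⟨k, hk⟩ : ∃ k, L k χ 1 ≠ 0 := by
      by_contra hcon
      push Not at hcon
      let a : IrrCharacter C → ℂ := fun θ => if hθ : θ ∈ b then D.coef χ 1 ⟨θ, hθ⟩ else 0
      have ha : ∀ f : IrrCharacter C → ℂ, ∑ θ ∈ bs b, a θ * f θ =
          ∑ q : {θ // θ ∈ b}, D.coef χ 1 q * f q.1 := fun f => by
        rw [hsub]
        exact Finset.sum_congr rfl fun q _ => by simp only [a, dif_pos q.2]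
      refine fn_one_ne_zero hM hx hC D hχB hdeg ?_
      exact (ha fun θ => (θ : C → ℂ) 1).symm.trans
        (hinj a (fun k => (ha fun θ => (z k θ : ℂ)).trans (hcon k)) 1
          (by simpa using hM.1.ne_one))
    let w : {θ // θ ∈ b} → Fin r → ℂ := fun a k => ((D.nv χ a * z k a.1 : ℤ) : ℂ)
    have htw : ∀ t, twist D.ζ (fun a : {θ // θ ∈ b} => D.e a) w t = fun k => L k χ t := by
      intro t
      funext k
      simp only [twist, w, L, c, SubData.coef, SubData.nv, Int.cast_mul, Int.cast_natCast]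
      exact Finset.sum_congr rfl fun a _ => by ring
    have h1 := le_sum_primExps hM.1.one_lt D.hζ (fun a : {θ // θ ∈ b} => D.e a) (lam := 1)
      (μ := (M0 : ℝ)) zero_le_one (Nat.cast_nonneg _) w (fun m hm => ?_)
      (fun e => hk (by rw [htw] at e; exact congrFun e k))
    · simpa only [htw] using h1
    · let y : Fin r → ℤ := fun k => ∑ q : {θ // θ ∈ b}, m q * D.nv χ q * z k q.1
      have hcomb : comb w m = fun k => (y k : ℂ) := by
        funext k
        simp only [comb, w, y, Int.cast_sum, Int.cast_mul]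
        exact Finset.sum_congr rfl fun q _ => by ring
      let a : IrrCharacter C → ℂ := fun θ =>
        if hθ : θ ∈ b then ((m ⟨θ, hθ⟩ * D.nv χ ⟨θ, hθ⟩ : ℤ) : ℂ) else 0
      have hy : ∀ k, (y k : ℂ) = ∑ θ ∈ bs b, a θ * (z k θ : ℂ) := by
        intro k
        rw [hsub]
        simp only [y, Int.cast_sum, Int.cast_mul]
        exact Finset.sum_congr rfl fun q _ => by simp only [a, dif_pos q.2, Int.cast_mul]
      have hy0 : y ≠ 0 := fun e => hm (by rw [hcomb, e]; funext k; simp)
      have h2 : (M0 : ℝ) ≤ ((∑ k, y k ^ 2 : ℤ) : ℝ) := by exact_mod_cast hthr a y hy hy0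
      rw [hcomb]
      simp only [qn, one_mul, Complex.normSq_intCast, sq, Int.cast_sum, Int.cast_mul] at h2 ⊢
      exact h2
  have hk : Nat.card {χ : IrrCharacter G // χ ∈ B ∧ ¬ p ∣ charDegree (χ : G → ℂ)} = s.card := by
    rw [Nat.card_eq_fintype_card, Fintype.card_subtype]
  have hss : s ⊆ sB := fun χ hχ =>
    Finset.mem_filter.2 ⟨Finset.mem_univ _, (Finset.mem_filter.1 hχ).2.1⟩
  have hfin : φ * (M0 : ℝ) * (s.card : ℝ) ≤ φ * (M0 : ℝ) * (N : ℝ) := by
    calc φ * (M0 : ℝ) * (s.card : ℝ) = ∑ _χ ∈ s, φ * (M0 : ℝ) := by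
          rw [Finset.sum_const, nsmul_eq_mul]; ring
      _ ≤ ∑ χ ∈ s, ∑ t ∈ T, qn 1 (fun k => L k χ t) := Finset.sum_le_sum hlow
      _ ≤ ∑ χ ∈ sB, ∑ t ∈ T, qn 1 (fun k => L k χ t) :=
        Finset.sum_le_sum_of_subset_of_nonneg hss fun χ _ _ =>
          Finset.sum_nonneg fun t _ => qn_nonneg zero_le_one _
      _ = ∑ t ∈ T, ((∑ k, ∑ θ ∈ bs b, z k θ ^ 2 : ℤ) : ℝ) := by
        rw [Finset.sum_comm]
        refine Finset.sum_congr rfl fun t ht => ?_
        simp only [qn, one_mul]
        rw [Finset.sum_comm, Int.cast_sum]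
        exact Finset.sum_congr rfl fun k _ => hbessel t ht k
      _ = φ * ((∑ k, ∑ θ ∈ bs b, z k θ ^ 2 : ℤ) : ℝ) := by
        simp only [Finset.sum_const, nsmul_eq_mul, hT, D.card_primExps_real]
        rw [hφ]
      _ ≤ _ := by
        rw [mul_assoc]
        refine mul_le_mul_of_nonneg_left ?_ hφ0.le
        rw [mul_comm (M0 : ℝ)]
        exact_mod_cast hN
  rw [hk, ← Nat.cast_le (α := ℝ)]
  exact le_of_mul_le_mul_left hfin (mul_pos hφ0 (Nat.cast_pos.2 hM0))

/-- The pairings with the pair vectors of a row without zeros. -/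
theorem pairs_threshold {β : Type*} [Fintype β] [DecidableEq β] (x : β → ℤ) (hx : ∀ b, x b ≠ 0)
    (a : β → ℂ) (y : β × β → ℤ)
    (hy : ∀ q, (y q : ℂ) = a q.1 * (x q.2 : ℂ) - a q.2 * (x q.1 : ℂ)) (hne : y ≠ 0) :
    (2 * ((Fintype.card β : ℤ) - 1)) ≤ ∑ q, y q ^ 2 := by
  classical
  obtain ⟨⟨i, j⟩, hij⟩ := Function.ne_iff.1 hne
  rw [Pi.zero_apply] at hij
  have hanti : ∀ u v, y (v, u) = - y (u, v) := fun u v => by
    apply Int.cast_injective (α := ℂ)
    push_cast
    rw [hy, hy]
    ring
  have hij' : i ≠ j := by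
    rintro rfl
    exact hij (by have := hanti i i; omega)
  let f : β → β × β := fun l => if l = j ∨ y (i, l) ≠ 0 then (i, l) else (j, l)
  have hf : ∀ l, l ≠ i → y (f l) ≠ 0 := by
    intro l hl
    simp only [f]
    split_ifs with h
    · rcases h with rfl | h
      · exact hij
      · exact h
    · push Not at h
      intro h2
      refine hij ?_
      have e : (x l : ℂ) * (y (i, j) : ℂ) = (x j : ℂ) * (y (i, l) : ℂ) -
          (x i : ℂ) * (y (j, l) : ℂ) := by
        rw [hy, hy, hy]; ring
      rw [h.2, h2] at e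
      simpa [hx l] using e
  have hfst : ∀ l, ((f l).1 = i ∨ (f l).1 = j) ∧ (f l).2 = l ∧ (l = j → (f l).1 = i) := by
    intro l
    simp only [f]
    split_ifs with h
    · exact ⟨Or.inl rfl, rfl, fun _ => rfl⟩
    · exact ⟨Or.inr rfl, rfl, fun e => absurd (Or.inl e) h⟩
  set S := (Finset.univ.erase i).image f
  set S' := (Finset.univ.erase i).image fun l => Prod.swap (f l)
  have hinj : Function.Injective f := fun u v e => by
    have := congrArg Prod.snd e; rwa [(hfst u).2.1, (hfst v).2.1] at this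
  have hdis : Disjoint S S' := by
    rw [Finset.disjoint_left]
    intro q hq hq'
    obtain ⟨l, hl, rfl⟩ := Finset.mem_image.1 hq
    obtain ⟨l', hl', e⟩ := Finset.mem_image.1 hq'
    have h1 : l' = (f l).1 := by
      rw [← e, Prod.fst_swap, (hfst l').2.1]
    have h2 : l = (f l').1 := by
      rw [← (hfst l).2.1, ← e, Prod.snd_swap]
    have hl'i := Finset.ne_of_mem_erase hl'
    rcases (hfst l).1 with h | h
    · exact hl'i (h1.trans h)
    · exact Finset.ne_of_mem_erase hl (h2.trans ((hfst l').2.2 (h1.trans h)))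
  have hone : ∀ q ∈ S ∪ S', (1 : ℤ) ≤ y q ^ 2 := by
    intro q hq
    have h0 : y q ≠ 0 := by
      rcases Finset.mem_union.1 hq with h | h
      · obtain ⟨l, hl, rfl⟩ := Finset.mem_image.1 h
        exact hf l (Finset.ne_of_mem_erase hl)
      · obtain ⟨l, hl, rfl⟩ := Finset.mem_image.1 h
        rw [show Prod.swap (f l) = ((f l).2, (f l).1) from rfl, hanti]
        exact neg_ne_zero.2 (hf l (Finset.ne_of_mem_erase hl))
    nlinarith [mul_self_pos.2 h0]
  have hcard : ((S ∪ S').card : ℤ) = 2 * ((Fintype.card β : ℤ) - 1) := by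
    have hinj' : Function.Injective fun l => Prod.swap (f l) := Prod.swap_injective.comp hinj
    rw [Finset.card_union_of_disjoint hdis, Finset.card_image_of_injective _ hinj,
      Finset.card_image_of_injective _ hinj',
      Finset.card_erase_of_mem (Finset.mem_univ i), Finset.card_univ,
      Nat.cast_add, Nat.cast_sub (Fintype.card_pos_iff.2 ⟨i⟩), Nat.cast_one]
    ring
  calc 2 * ((Fintype.card β : ℤ) - 1) = ((S ∪ S').card : ℤ) := hcard.symm
    _ = ∑ _q ∈ S ∪ S', (1 : ℤ) := by simp
    _ ≤ ∑ q ∈ S ∪ S', y q ^ 2 := Finset.sum_le_sum hone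
    _ ≤ ∑ q, y q ^ 2 := Finset.sum_le_univ_sum_of_nonneg fun q => sq_nonneg _

/-- The principal block of a group with a Sylow subgroup of order `p` has weighted vectors of
length `p`. -/
theorem hasWeighted_of_order_prime (hM : IsPModular p M) (P : Sylow p G)
    (hP : Nat.card (P : Subgroup G) = p) : HasWeighted p (principalBlock M G) p := by
  classical
  have hp : p.Prime := Fact.out
  set B := principalBlock M G with hBdef
  set Q : Subgroup G := (P : Subgroup G) with hQ
  have hB : IsPBlock M B := isPBlock_principalBlock M G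
  have hPD : IsDefectGroup p M B Q := (isDefectGroup_principal_iff hM _).2 ⟨P, rfl⟩
  have hcyc : IsCyclic Q := isCyclic_of_prime_card hP
  have hPC := cyclic_le_centralizer hcyc
  have hex := exists_inducing_block hM hB hPD
  rw [sup_eq_right.2 hPC] at hex
  obtain ⟨c, -, hc⟩ := hex
  have hP1 : Q ≠ ⊥ := by
    rw [← Subgroup.one_lt_card_iff_ne_bot, hP]; exact hp.one_lt
  have hfree : FreeInertia Q (zB M (Subgroup.centralizer (Q : Set G)) c) :=
    fun g hg v hv hv1 hfix => cyclic_free hM hPD hcyc hc hg hv hv1 hfix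
  by_cases hlt : (Subgroup.centralizer (Q : Set G)).relIndex
      (stabP (Q, zB M (Subgroup.centralizer (Q : Set G)) c)) + 1 < Nat.card Q
  · have := (hasVectors_of_free hM hPD hP1 hPC hc hfree hlt).weighted
    rwa [hP] at this
  set e := (Subgroup.centralizer (Q : Set G)).relIndex
    (stabP (Q, zB M (Subgroup.centralizer (Q : Set G)) c)) with he
  obtain ⟨m, x, hm, hgram, hnz, hkill⟩ := Abelian.exists_inertial_rows hM hPD hP1 hPC hc hfree
  rw [← he] at hm hgram
  obtain ⟨m', hm', he1, hk, -, -⟩ := Abelian.abelian_free_counts hM hPD hP1 hPC hc hfree he.symm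
  rw [show m' = m from Nat.eq_of_mul_eq_mul_right (by omega : 0 < e) (by omega)] at hk
  rw [hP] at hm hlt
  obtain rfl : m = 1 := by
    rcases m with _ | _ | m
    · have := hp.two_le; omega
    · rfl
    · have : (m + 1 + 1) * e ≥ 2 * e := Nat.mul_le_mul_right e (by omega)
      omega
  have hl1 := one_le_blockRank hM hB
  let β := {χ // χ ∈ B}
  have hcard : Fintype.card β = Nat.card B := Nat.card_eq_fintype_card.symm
  let X : β → ℤ := fun b => x b 0
  have hX0 : ∀ b, X b ≠ 0 := fun b => by
    obtain ⟨i, hi⟩ := hnz b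
    rwa [Subsingleton.elim i 0] at hi
  have hXsq : ∑ b, X b ^ 2 = (p : ℤ) := by
    have h := hgram 0 0
    simp only [sq, X]
    rw [h]
    push_cast [← hm]
    ring
  -- the singular columns are multiples of the row
  let L : (β → ℂ) →ₗ[ℂ] (G → ℂ) :=
    Fintype.linearCombination ℂ fun b => pRegularPart p (b.1 : G → ℂ)
  have hrange : LinearMap.range L = Submodule.span ℂ
      ((fun χ : IrrCharacter G => pRegularPart p (χ : G → ℂ)) '' B) := by
    rw [Fintype.range_linearCombination, Set.image_eq_range]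
  have hLker : ∀ v : β → ℂ,
      v ∈ LinearMap.ker L ↔ ∀ s : G, ¬ p ∣ orderOf s → ∑ b, v b * (b.1 : G → ℂ) s = 0 := by
    intro v
    rw [LinearMap.mem_ker, funext_iff]
    simp only [L, Fintype.linearCombination_apply, Finset.sum_apply, Pi.smul_apply, smul_eq_mul,
      pRegularPart_apply, Pi.zero_apply]
    refine ⟨fun h s hs => by simpa [hs] using h s, fun h s => ?_⟩
    by_cases hs : p ∣ orderOf s
    · simp [hs]
    · simpa [hs] using h s hs
  let Xk : LinearMap.ker L := ⟨fun b => (X b : ℂ), (hLker _).2 (hkill 0)⟩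
  have hfin : Module.finrank ℂ (LinearMap.ker L) = 1 := by
    have h2 := L.finrank_range_add_finrank_ker
    rw [hrange, Module.finrank_pi, hcard, hk] at h2
    change blockRank p B + _ = _ at h2
    omega
  obtain ⟨b0⟩ : Nonempty β := by
    rw [← Fintype.card_pos_iff, hcard, hk]; omega
  have hXk0 : Xk ≠ 0 := fun h => hX0 b0 (by
    have h1 := congrFun (congrArg Subtype.val h) b0
    simpa [Xk] using h1)
  have hsub : ∀ f : IrrCharacter G → ℂ, ∑ θ ∈ bs B, f θ = ∑ b : β, f b.1 := fun f =>
    Finset.sum_subtype (p := fun θ => θ ∈ B) (bs B) (fun θ => mem_bs) f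
  have hcol : ∀ w : G, p ∣ orderOf w → ∃ t : ℂ, ∀ b : β, (b.1 : G → ℂ) w = t * (X b : ℂ) := by
    intro w hw
    have hmem : (fun b : β => conj ((b.1 : G → ℂ) w)) ∈ LinearMap.ker L := by
      refine (hLker _).2 fun s hs => ?_
      rw [← hsub fun θ => conj ((θ : G → ℂ) w) * (θ : G → ℂ) s,
        ← blockPair_regular_singular hM hB hs hw]
      unfold blockPair
      exact Finset.sum_congr (by ext; simp) fun θ _ => mul_comm _ _
    obtain ⟨t, ht⟩ := exists_smul_eq_of_finrank_eq_one hfin hXk0 ⟨_, hmem⟩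
    refine ⟨conj t, fun b => ?_⟩
    have h := congrArg (fun q : LinearMap.ker L => conj ((q : β → ℂ) b)) ht
    simpa [Xk] using h.symm
  -- the pair vectors
  let eqv := Fintype.equivFin (β × β)
  let zz : β × β → IrrCharacter G → ℤ := fun q θ =>
    (if q.1.1 = θ then X q.2 else 0) - (if q.2.1 = θ then X q.1 else 0)
  have hzsum : ∀ (q : β × β) (f : IrrCharacter G → ℂ), ∑ θ ∈ bs B, f θ * (zz q θ : ℂ) =
      f q.1.1 * (X q.2 : ℂ) - f q.2.1 * (X q.1 : ℂ) := by
    intro q f
    simp only [zz, Int.cast_sub, Int.cast_ite, Int.cast_zero, mul_sub, mul_ite, mul_zero,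
      Finset.sum_sub_distrib, Finset.sum_ite_eq, mem_bs, q.1.2, q.2.2, if_true]
  refine ⟨_, fun k => zz (eqv.symm k), 2 * (Fintype.card β - 1), ?_, fun k w hw => ?_,
    fun a ha w hw => ?_, fun a y hy hne => ?_, ?_⟩
  · omega
  · obtain ⟨t, ht⟩ := hcol w hw
    have h := hzsum (eqv.symm k) fun θ => (θ : G → ℂ) w
    rw [ht, ht] at h
    rw [show ∑ θ ∈ bs B, (zz (eqv.symm k) θ : ℂ) * (θ : G → ℂ) w =
      ∑ θ ∈ bs B, (θ : G → ℂ) w * (zz (eqv.symm k) θ : ℂ) from
      Finset.sum_congr rfl fun θ _ => mul_comm _ _, h]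
    ring
  · have hrel : ∀ b : β, a b.1 * (X b0 : ℂ) = a b0.1 * (X b : ℂ) := fun b => by
      have h := ha (eqv (b, b0))
      rw [hzsum, Equiv.symm_apply_apply] at h
      exact sub_eq_zero.1 h
    have h0 : (X b0 : ℂ) ≠ 0 := Int.cast_ne_zero.2 (hX0 b0)
    refine (mul_eq_zero.1 ?_).resolve_left h0
    rw [hsub, Finset.mul_sum]
    calc _ = a b0.1 * ∑ b : β, (X b : ℂ) * (b.1 : G → ℂ) w := by
          rw [Finset.mul_sum]
          exact Finset.sum_congr rfl fun b _ => by
            rw [← mul_assoc, mul_comm (X b0 : ℂ), hrel b]; ring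
      _ = 0 := by rw [(hLker _).1 Xk.2 w hw, mul_zero]
  · have hne' : (fun q => y (eqv q)) ≠ 0 := fun e => hne (funext fun k => by
      simpa using congrFun e (eqv.symm k))
    have h := pairs_threshold X hX0 (fun b => a b.1) (fun q => y (eqv q))
      (fun q => by rw [hy, hzsum, Equiv.symm_apply_apply]) hne'
    rw [Equiv.sum_comp eqv (fun k => y k ^ 2)] at h
    rw [Nat.cast_mul, Nat.cast_sub (by omega)]
    push_cast
    exact h
  · rw [Fintype.sum_equiv eqv.symm (fun k => ∑ θ ∈ bs B, zz (eqv.symm k) θ ^ 2)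
      (fun q => ∑ θ ∈ bs B, zz q θ ^ 2) fun k => rfl]
    have hq : ∀ q : β × β, ∑ θ ∈ bs B, zz q θ ^ 2 =
        X q.2 ^ 2 + X q.1 ^ 2 - if q.1 = q.2 then 2 * (X q.1 * X q.2) else 0 := by
      intro q
      have e : ∀ θ, zz q θ ^ 2 = (if q.1.1 = θ then X q.2 ^ 2 else 0) +
          (if q.2.1 = θ then X q.1 ^ 2 else 0) -
          (if q.1.1 = θ then (if q.1 = q.2 then 2 * (X q.1 * X q.2) else 0) else 0) := by
        intro θ
        simp only [zz]
        by_cases h1 : q.1.1 = θ <;> by_cases h2 : q.2.1 = θ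
        · rw [if_pos h1, if_pos h2, if_pos h1, if_pos h2, if_pos h1,
            if_pos (Subtype.ext (h1.trans h2.symm))]
          ring
        · rw [if_pos h1, if_neg h2, if_pos h1, if_neg h2, if_pos h1,
            if_neg fun h => h2 (by rw [← h]; exact h1)]
          ring
        · simp [h1, h2]
        · simp [h1, h2]
      simp only [e, Finset.sum_sub_distrib, Finset.sum_add_distrib, Finset.sum_ite_eq, mem_bs,
        q.1.2, q.2.2, if_true]
    simp only [hq, Finset.sum_sub_distrib, Finset.sum_add_distrib, Fintype.sum_prod_type,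
      Finset.sum_const, Finset.card_univ,
      ← Finset.mul_sum, nsmul_eq_mul, hXsq]
    have hd : ∑ u : β, ∑ v : β, (if u = v then 2 * (X u * X v) else 0) = 2 * (p : ℤ) := by
      rw [← hXsq, Finset.mul_sum]
      refine Finset.sum_congr rfl fun u _ => ?_
      rw [Finset.sum_eq_single u (fun v _ hv => if_neg (Ne.symm hv))
        (fun h => absurd (Finset.mem_univ _) h), if_pos rfl, sq]
    rw [hd, Nat.cast_mul, Nat.cast_sub (by omega)]
    push_cast
    linarith

/-- If some p-element has a centraliser whose Sylow p-subgroups have order at most `p ^ 2`, the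
principal block has at most `p ^ 2` characters of degree prime to `p`. -/
theorem card_pprime_le_sq (hM : IsPModular p M) {x : G} (hx : ∃ k, orderOf x = p ^ k)
    (hv : (Nat.card (Subgroup.centralizer ({x} : Set G))).factorization p ≤ 2) :
    Nat.card {χ : IrrCharacter G //
      χ ∈ principalBlock M G ∧ ¬ p ∣ charDegree (χ : G → ℂ)} ≤ p ^ 2 := by
  classical
  have hp : p.Prime := Fact.out
  by_cases hx1 : x = 1
  · subst hx1
    have hd : (Nat.card G).factorization p ≤ 2 := by
      refine le_of_eq_of_le ?_ hv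
      rw [show Subgroup.centralizer ({(1 : G)} : Set G) = ⊤ from top_le_iff.1 fun g _ =>
        Subgroup.mem_centralizer_singleton_iff.2 (by simp), Subgroup.card_top]
    have h := (BrauerFeit.card_le_aux hM _ G _ (isPBlock_principalBlock M G)
      (blockDefect_principal_eq hM)).1 hd
    refine le_trans (Nat.card_le_card_of_injective
      (fun q : {χ : IrrCharacter G //
        χ ∈ principalBlock M G ∧ ¬ p ∣ charDegree (χ : G → ℂ)} =>
        (⟨q.1, q.2.1⟩ : (principalBlock M G))) fun u v e => Subtype.ext (congrArg (fun w : (principalBlock M G) => w.1) e)) ?_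
    exact h.trans (Nat.pow_le_pow_right hp.pos hd)
  obtain ⟨k, hk⟩ := hx
  set C := Subgroup.centralizer ({x} : Set G) with hC
  haveI : Fintype C := Fintype.ofFinite _
  set xC : C := ⟨x, Subgroup.mem_centralizer_singleton_iff.2 rfl⟩
  have hxo : orderOf xC = p ^ k := by rw [← Subgroup.orderOf_coe]; exact hk
  set N : Subgroup C := Subgroup.zpowers xC with hN
  have hNc : N ≤ Subgroup.center C := Subgroup.zpowers_le.2 (Subgroup.mem_center_iff.2 fun g =>
    Subtype.ext (Subgroup.mem_centralizer_singleton_iff.1 g.2))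
  haveI : N.Normal := ⟨fun u hu g => by
    rwa [Subgroup.mem_center_iff.1 (hNc hu) g, mul_inv_cancel_right]⟩
  haveI : Fintype (C ⧸ N) := Fintype.ofFinite _
  have hNcard : Nat.card N = p ^ k := by rw [hN, Nat.card_zpowers, hxo]
  have hNp : IsPGroup p N := IsPGroup.of_card (n := k) hNcard
  have hk1 : 1 ≤ k := by
    rcases k with _ | k
    · exact absurd (orderOf_eq_one_iff.1 (by simpa using hk)) hx1
    · omega
  have hfac : (Nat.card C).factorization p = (Nat.card (C ⧸ N)).factorization p + k := by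
    rw [Subgroup.card_eq_card_quotient_mul_card_subgroup N,
      Nat.factorization_mul Nat.card_pos.ne' Nat.card_pos.ne', Finsupp.add_apply, hNcard,
      Nat.factorization_pow_self hp]
  set v := (Nat.card (C ⧸ N)).factorization p with hvdef
  have hw : HasWeighted p (principalBlock M (C ⧸ N)) (p ^ v) := by
    obtain h0 | h1 : v = 0 ∨ v = 1 := by omega
    · rw [h0]
      have hone : Nat.card (principalBlock M (C ⧸ N)) ≤ 1 := by
        have := (BrauerFeit.card_le_aux hM _ (C ⧸ N) _ (isPBlock_principalBlock M _)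
          ((blockDefect_principal_eq hM).trans h0)).1 (Nat.zero_le _)
        simpa using this
      set S := bs (principalBlock M (C ⧸ N)) with hS
      refine HasVectors.weighted ⟨S.card, fun i θ => if (S.equivFin.symm i).1 = θ then 1 else 0,
        fun i w hw => ?_, fun a ha w hw => ?_, ?_⟩
      · exfalso
        have h2 := hw.trans (orderOf_dvd_natCard w)
        have h3 := (hp.dvd_iff_one_le_factorization Nat.card_pos.ne').1 h2
        omega
      · refine Finset.sum_eq_zero fun θ hθ => ?_
        have h2 := ha (S.equivFin ⟨θ, hθ⟩)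
        simp only [Equiv.symm_apply_apply, Int.cast_ite, Int.cast_one, Int.cast_zero, mul_ite,
          mul_one, mul_zero, ← hS, Finset.sum_ite_eq] at h2
        rw [if_pos (show θ ∈ S from hθ)] at h2
        rw [h2, zero_mul]
      · rw [show (∑ i : Fin S.card, ∑ θ ∈ S,
          (if (S.equivFin.symm i).1 = θ then (1 : ℤ) else 0) ^ 2) = ∑ _i : Fin S.card, (1 : ℤ) from
          Finset.sum_congr rfl fun i _ => by
            simp [ite_pow, (S.equivFin.symm i).2]]
        have h4 : S.card ≤ 1 := by rw [hS, card_bs]; exact hone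
        simpa using h4
    · obtain ⟨P⟩ : Nonempty (Sylow p (C ⧸ N)) := inferInstance
      have hP : Nat.card (P : Subgroup (C ⧸ N)) = p := by
        rw [P.card_eq_multiplicity, ← hvdef, h1, pow_one]
      rw [h1, pow_one]
      exact hasWeighted_of_order_prime hM P hP
  have hinfl : ∀ η ∈ principalBlock M (C ⧸ N), infl N η ∈ principalBlock M C := fun η hη =>
    sameBlock_inflate N (principal (C ⧸ N)) η hη
  have hlift := hasWeighted_lift hM hNp hNc (isPBlock_principalBlock M C)
    (isPBlock_principalBlock M (C ⧸ N)) hinfl hw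
  refine (card_pprime_le_of_weighted hM ⟨k, hk⟩ hC hlift).trans ?_
  rw [hNcard, ← pow_add]
  exact Nat.pow_le_pow_right hp.pos (by omega)

end Cfsg.Agent.ProjVec
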