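/-
Odd degree characters fixed by complex conjugation modulo a 2-modular ideal lie in the
principal 2-block; twisting an extendible real character.
-/
import Cfsg.Agent.Lib.Blocks.Block
import Cfsg.Agent.Lib.Char.Integral
import Cfsg.Agent.Lib.BrauerPairs.ClassCount

set_option linter.unusedSectionVars false
set_option linter.style.haveILetI false

namespace Cfsg.Agent.BrauerPairs

open Cfsg Cfsg.Agent.Blocks MonoidAlgebra
open scoped ComplexConjugate

universe u

variable {G : Type u} [Group G] [Fintype G] {M : Ideal AlgInt}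

/-- At an element of `p`-power order a character is congruent to its degree. -/
theorem memLocalIdeal_char_sub_one {p : ℕ} (hM : IsPModular p M) {χ : G → ℂ}
    (hχ : IsCharacter G χ) {g : G} {k : ℕ} (hg : g ^ p ^ k = 1) :
    MemLocalIdeal M (χ g - χ 1) := by
  haveI := IsPModular.isPrime hM
  obtain ⟨n, ρ, rfl⟩ := hχ
  obtain ⟨L, h1, h2, h3, -⟩ := Char.exists_eigenvalues ρ g
  have h4 := h3 1
  simp only [pow_one, Multiset.map_id'] at h4
  rw [h4, Representation.char_one, ← h1]
  have key : ∀ L : Multiset ℂ, (∀ z ∈ L, z ^ orderOf g = 1) →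
      MemLocalIdeal M (L.sum - (Multiset.card L : ℂ)) := by
    intro L
    induction L using Multiset.induction with
    | empty => intro _; simpa using memLocalIdeal_zero (M := M)
    | cons a L ih =>
      intro h
      have ha : a ^ p ^ k = 1 := by
        obtain ⟨c, hc⟩ := orderOf_dvd_of_pow_eq_one hg
        rw [hc, pow_mul, h a (Multiset.mem_cons_self _ _), one_pow]
      have := MemLocalIdeal.add (memLocalIdeal_sub_one_of_pow_eq_one hM ha)
        (ih fun z hz => h z (Multiset.mem_cons_of_mem hz))
      convert this using 1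
      simp only [Multiset.sum_cons, Multiset.card_cons, Nat.cast_add, Nat.cast_one]
      ring
  exact key L h2

theorem isConj_inv_inv {a b : G} (h : IsConj a b) : IsConj a⁻¹ b⁻¹ := by
  obtain ⟨c, rfl⟩ := isConj_iff.1 h
  exact isConj_iff.2 ⟨c, by group⟩

theorem centralChar_inv (χ : G → ℂ) (g : G) :
    centralChar χ g⁻¹ = ((Subgroup.centralizer ({g} : Set G)).index : ℂ) * χ g⁻¹ / χ 1 := by
  rw [centralChar, centralizer_singleton_inv]

/-- A real class of odd size consists of elements of order at most two. -/
theorem sq_eq_one_of_isConj_inv {g : G} (hconj : IsConj g g⁻¹)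
    (hodd : ¬ 2 ∣ (Subgroup.centralizer ({g} : Set G)).index) : g * g = 1 := by
  classical
  by_contra hne
  apply hodd
  rw [← Char.card_classFinset, ← CharP.cast_eq_zero_iff (ZMod 2) 2]
  rw [Finset.cast_card]
  refine Finset.sum_involution (fun a _ => a⁻¹) (fun a _ => by decide) (fun a ha _ h => ?_)
    (fun a ha => Char.mem_classFinset.2 (hconj.trans (isConj_inv_inv (Char.mem_classFinset.1 ha))))
    (fun a _ => inv_inv a)
  obtain ⟨c, rfl⟩ := isConj_iff.1 (Char.mem_classFinset.1 ha)
  apply hne
  have h1 : c * (g * g) * c⁻¹ = 1 := by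
    calc c * (g * g) * c⁻¹ = (c * g * c⁻¹) * (c * g * c⁻¹) := by group
      _ = 1 := by nth_rw 1 [← h]; exact inv_mul_cancel _
  exact conj_eq_one_iff.1 h1

/-- The element `(K - n) (K⁻¹ - n)`, `K` a class sum, `n` its size. -/
noncomputable def classPairElt (M : Ideal AlgInt) [M.IsPrime] (g : G) :
    MonoidAlgebra (locRing M) G :=
  (classSum (locRing M) g - ((Subgroup.centralizer ({g} : Set G)).index : locRing M) • 1) *
    (classSum (locRing M) g⁻¹ - ((Subgroup.centralizer ({g} : Set G)).index : locRing M) • 1)

theorem coeff_classSum_sub_inv [M.IsPrime] (g b : G) (c : locRing M) :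
    (classSum (locRing M) g⁻¹ - c • (1 : MonoidAlgebra (locRing M) G)).coeff b =
      (classSum (locRing M) g - c • (1 : MonoidAlgebra (locRing M) G)).coeff b⁻¹ := by
  classical
  simp only [MonoidAlgebra.coeff_sub, Finsupp.sub_apply, MonoidAlgebra.coeff_smul,
    Finsupp.smul_apply, coeff_classSum, MonoidAlgebra.one_def, MonoidAlgebra.coeff_single,
    Finsupp.single_apply]
  congr 1
  · exact if_congr ⟨fun h => by simpa using isConj_inv_inv h,
      fun h => by simpa using isConj_inv_inv h⟩ rfl rfl
  · congr 1
    exact if_congr (by rw [eq_comm, eq_comm (a := (1 : G)), inv_eq_one]) rfl rfl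

theorem coeff_classPairElt_inv [M.IsPrime] (g x : G) :
    (classPairElt M g).coeff x⁻¹ = (classPairElt M g).coeff x := by
  rw [classPairElt, coeff_mul_univ, coeff_mul_univ]
  simp only [coeff_classSum_sub_inv, mul_inv_rev, inv_inv]
  exact Fintype.sum_equiv (Equiv.mulLeft x) _ _ fun a => by
    simp [mul_comm, mul_assoc]

/-- An irreducible character of odd degree that is congruent to its conjugate lies in the
principal 2-block. -/
theorem mem_principalBlock_two (hM : IsPModular 2 M) (χ : IrrCharacter G)
    (hodd : Odd (charDegree (χ : G → ℂ)))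
    (hinv : ∀ g : G, MemLocalIdeal M (centralChar (χ : G → ℂ) g⁻¹ - centralChar (χ : G → ℂ) g)) :
    χ ∈ principalBlock M G := by
  classical
  haveI := IsPModular.isPrime hM
  haveI : Finite (ConjClasses G) := Finite.of_surjective _ ConjClasses.mk_surjective
  haveI : Fintype (ConjClasses G) := Fintype.ofFinite _
  set one : IrrCharacter G := Char.principal G with hone
  have hone_val : ∀ g : G, centralChar (one : G → ℂ) g =
      ((Subgroup.centralizer ({g} : Set G)).index : ℂ) := fun g => by
    simp [hone, centralChar, Char.principal]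
  have hdeg : MemLocalRing M ((χ : G → ℂ) 1)⁻¹ := by
    rw [irr_one_eq_charDegree]
    exact inv_natCast_memLocalRing hM (fun h => (Nat.not_even_iff_odd.2 hodd) (even_iff_two_dvd.2 h))
  -- real classes
  have hreal : ∀ g : G, IsConj g g⁻¹ →
      MemLocalIdeal M (centralChar (χ : G → ℂ) g - centralChar (one : G → ℂ) g) := fun g hg => by
    rw [hone_val, centralChar]
    by_cases hd : 2 ∣ (Subgroup.centralizer ({g} : Set G)).index
    · have h1 := (natCast_memLocalIdeal_iff hM _).2 hd
      refine MemLocalIdeal.sub ?_ h1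
      rw [mul_div_assoc, div_eq_mul_inv]
      exact MemLocalIdeal.mul_right h1 ((locRing M).mul_mem
        (mem_locRing_of_isIntegral (irr_isIntegral χ g)) hdeg)
    · have h2 : g ^ 2 ^ 1 = 1 := by rw [pow_one, pow_two]; exact sq_eq_one_of_isConj_inv hg hd
      have h1 := memLocalIdeal_char_sub_one hM (irr_isCharacter χ) h2
      have := MemLocalIdeal.mul_left ((locRing M).mul_mem
        (natCast_mem (locRing M) (Subgroup.centralizer ({g} : Set G)).index) hdeg) h1
      convert this using 1
      have := irr_one_ne_zero χ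
      field_simp
  show SameBlock M (fun _ : G => (1 : ℂ)) (χ : G → ℂ)
  intro g
  by_contra hgne
  set c : ℂ := centralChar (χ : G → ℂ) g - centralChar (one : G → ℂ) g with hc
  have hc' : ¬ MemLocalIdeal M c := fun h => hgne (by
    have := MemLocalIdeal.neg h
    rwa [hc, neg_sub] at this)
  have hcl := isClassElt_classSum (R := locRing M) g
  have hcl' := isClassElt_classSum (R := locRing M) g⁻¹
  set n : locRing M := ((Subgroup.centralizer ({g} : Set G)).index : locRing M) with hn
  have hy := IsClassElt.sub hcl (IsClassElt.smul IsClassElt.one n)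
  have hy' := IsClassElt.sub hcl' (IsClassElt.smul IsClassElt.one n)
  have hz : IsClassElt (classPairElt M g) := IsClassElt.mul hy hy'
  have hω : ∀ ψ : IrrCharacter G, omegaR ψ (classPairElt M g) =
      (centralChar (ψ : G → ℂ) g - centralChar (one : G → ℂ) g) *
        (centralChar (ψ : G → ℂ) g⁻¹ - centralChar (one : G → ℂ) g⁻¹) := fun ψ => by
    rw [classPairElt, ← hn, omegaR_mul ψ hy hy']
    simp [omegaR_sub, omegaR_smul, omegaR_one, omegaR_classSum, hone_val,
      centralizer_singleton_inv, hn]
  have h1 : MemLocalIdeal M (omegaR χ (classPairElt M g)) := by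
    have h0 : omegaR one (classPairElt M g) = 0 := by rw [hω, sub_self, zero_mul]
    rw [← sub_zero (omegaR χ (classPairElt M g)), ← h0, omegaR_eq_sum χ hz, omegaR_eq_sum one hz,
      ← Finset.sum_sub_distrib]
    haveI : CharP (resField M) 2 := resField_charP hM
    let D : ConjClasses G → locRing M := fun C => ((classPairElt M g).coeff C.out) *
      ⟨centralChar (χ : G → ℂ) C.out - centralChar (one : G → ℂ) C.out,
        (locRing M).sub_mem (centralChar_memLocalRing χ _) (centralChar_memLocalRing one _)⟩
    have hD : ∑ C : ConjClasses G, res M (D C) = 0 := by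
      let ι : ConjClasses G → ConjClasses G := fun C => ConjClasses.mk C.out⁻¹
      have hout : ∀ C : ConjClasses G, IsConj (ι C).out C.out⁻¹ := fun C =>
        ConjClasses.mk_eq_mk_iff_isConj.1 (Quotient.out_eq _)
      refine Finset.sum_involution (fun C _ => ι C) (fun C _ => ?_) (fun C _ hne hfix => hne ?_)
        (fun _ _ => Finset.mem_univ _) (fun C _ => ?_)
      · have : res M (D (ι C)) = res M (D C) := by
          rw [res_eq_res_iff]
          have e1 : (classPairElt M g).coeff (ι C).out = (classPairElt M g).coeff C.out := by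
            obtain ⟨d, hd⟩ := isConj_iff.1 (hout C).symm
            rw [← hd, hz, coeff_classPairElt_inv]
          simp only [D, Subring.coe_mul, e1, ← mul_sub]
          refine MemLocalIdeal.mul_left ((classPairElt M g).coeff C.out).2 ?_
          have e2 : ∀ ψ : IrrCharacter G,
              centralChar (ψ : G → ℂ) (ι C).out = centralChar (ψ : G → ℂ) C.out⁻¹ := fun ψ => by
            obtain ⟨d, hd⟩ := isConj_iff.1 (hout C)
            rw [← omega_classSum, ← omega_classSum]
            congr 1
            refine gaExt fun x => ?_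
            simp only [coeff_classSum]
            exact if_congr ⟨fun h => (hout C).symm.trans h, fun h => (hout C).trans h⟩ rfl rfl
          rw [e2, e2, hone_val, hone_val, centralizer_singleton_inv]
          convert hinv C.out using 1
          ring
        rw [this, CharTwo.add_self_eq_zero]
      · rw [res_eq_zero_iff]
        simp only [D, Subring.coe_mul]
        refine MemLocalIdeal.mul_left ((classPairElt M g).coeff C.out).2 (hreal _ ?_)
        have := hout C
        rwa [hfix] at this
      · show ConjClasses.mk (ι C).out⁻¹ = C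
        conv_rhs => rw [← Quotient.out_eq C]
        exact ConjClasses.mk_eq_mk_iff_isConj.2 (by simpa using isConj_inv_inv (hout C))
    rw [← map_sum, res_eq_zero_iff] at hD
    convert hD using 1
    push_cast [D]
    exact Finset.sum_congr rfl fun C _ => (mul_sub _ _ _).symm
  rw [hω] at h1
  apply hc'
  have h2 : MemLocalIdeal M (c * c) := by
    have := MemLocalIdeal.sub h1 (MemLocalIdeal.mul_left
      ((locRing M).sub_mem (centralChar_memLocalRing χ g) (centralChar_memLocalRing one g))
      (hinv g))
    convert this using 1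
    rw [hc, hone_val, hone_val, centralizer_singleton_inv]
    ring
  by_contra hu
  exact hu (by
    have h0 : c ≠ 0 := fun h => hu (h ▸ memLocalIdeal_zero)
    have := MemLocalIdeal.mul_left (memLocalRing_inv
      ((locRing M).sub_mem (centralChar_memLocalRing χ g) (centralChar_memLocalRing one g)) hu) h2
    rwa [inv_mul_cancel_left₀ h0] at this)

/-! ## Twisting extensions -/

theorem conj_linear (f : G →* ℂˣ) (g : G) : conj ((f g : ℂ)) = ((f g : ℂ))⁻¹ := by
  refine (Complex.inv_eq_conj (Complex.norm_eq_one_of_pow_eq_one (n := Nat.card G) ?_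
    Nat.card_pos.ne')).symm
  rw [← Units.val_pow_eq_pow_val, ← map_pow, pow_card_eq_one', map_one, Units.val_one]

theorem isIrr_mul_linear {χ : G → ℂ} (hχ : IsIrrCharacter G χ) (f : G →* ℂˣ) :
    IsIrrCharacter G (fun g => χ g * (f g : ℂ)) := by
  refine Char.IsCharacter.isIrr_of_norm_one (Char.IsCharacter.mul
    (Char.IsIrrCharacter.isCharacter hχ)
    (Char.IsIrrCharacter.isCharacter (Char.isIrrCharacter_linear f))) ?_
  have h := Char.classInner_self_irr hχ
  unfold Cfsg.classInner at h ⊢
  rw [← h]
  congr 1
  refine Finset.sum_congr rfl fun g _ => ?_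
  simp only [Pi.mul_apply, map_mul, conj_linear]
  have := (f g).ne_zero
  field_simp

theorem sum_subgroup_eq_zero_or (N : Subgroup G) [N.Normal] [Fintype N] (χ : IrrCharacter G) :
    ∑ n : N, (χ : G → ℂ) n = 0 ∨ ∑ n : N, (χ : G → ℂ) n = (Nat.card N : ℂ) * (χ : G → ℂ) 1 := by
  classical
  let e : MonoidAlgebra ℂ G := gaOfFun fun g => if g ∈ N then 1 else 0
  have he : IsClassElt e := isClassElt_gaOfFun fun g h => if_congr
    ⟨fun hh => by simpa [mul_assoc] using (inferInstance : N.Normal).conj_mem _ hh h⁻¹,
      fun hh => (inferInstance : N.Normal).conj_mem _ hh h⟩ rfl rfl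
  have hee : e * e = (Nat.card N : ℂ) • e := by
    refine gaExt fun g => ?_
    rw [coeff_mul_univ, MonoidAlgebra.coeff_smul, Finsupp.smul_apply, smul_eq_mul]
    simp only [e, coeff_gaOfFun, ite_mul, one_mul, zero_mul]
    rw [← Finset.sum_filter]
    by_cases hg : g ∈ N
    · rw [if_pos hg, mul_one, Finset.sum_congr rfl fun a ha => if_pos
        (mul_mem (inv_mem (Finset.mem_filter.1 ha).2) hg), Finset.sum_const, nsmul_one,
        Nat.card_eq_fintype_card, Fintype.card_subtype]
    · rw [if_neg hg, mul_zero, Finset.sum_eq_zero]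
      intro a ha
      refine if_neg fun h => hg ?_
      simpa using mul_mem (Finset.mem_filter.1 ha).2 h
  have hω : omega χ e = (∑ n : N, (χ : G → ℂ) n) / (χ : G → ℂ) 1 := by
    simp only [omega, e, coeff_gaOfFun, ite_mul, one_mul, zero_mul]
    rw [← Finset.sum_filter, Finset.sum_subtype (p := (· ∈ N)) _ (by simp)]
  have h := omega_mul χ he he
  rw [hee, omega_smul] at h
  rcases eq_or_ne (omega χ e) 0 with h0 | h0
  · left
    rw [hω, div_eq_zero_iff] at h0
    exact h0.resolve_right (irr_one_ne_zero χ)
  · right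
    have := mul_right_cancel₀ h0 h
    rw [hω, eq_div_iff (irr_one_ne_zero χ)] at this
    exact this.symm

/-- An irreducible character with real irreducible restriction differs from its conjugate by a
linear character trivial on the normal subgroup. -/
theorem exists_linear_conj (N : Subgroup G) [N.Normal] [Fintype N] (θ : IrrCharacter N)
    (hreal : ∀ n : N, ((θ : N → ℂ) n).im = 0) (η : IrrCharacter G)
    (hη : ∀ n : N, (η : G → ℂ) n = (θ : N → ℂ) n) :
    ∃ f : G →* ℂˣ, (∀ n ∈ N, f n = 1) ∧
      ∀ g, (η : G → ℂ) g = conj ((η : G → ℂ) g) * (f g : ℂ) := by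
  classical
  obtain ⟨m, hm⟩ := Char.IsCharacter.exists_decomp
    (Char.IsCharacter.mul (irr_isCharacter η) (irr_isCharacter η))
  choose k hk using fun χ : IrrCharacter G => exists_sum_subgroup_nat χ N
  have hsum : (∑ χ : IrrCharacter G, m χ * k χ) = 1 := by
    have h1 : ∑ n : N, ((η : G → ℂ) * (η : G → ℂ)) n = (Nat.card N : ℂ) := by
      have := Char.classInner_self_irr θ.2
      rw [Cfsg.classInner, inv_mul_eq_iff_eq_mul₀ (Nat.cast_ne_zero.2 Nat.card_pos.ne'),
        mul_one] at this
      rw [← this]
      refine Finset.sum_congr rfl fun n _ => ?_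
      rw [Pi.mul_apply, hη, Complex.conj_eq_iff_im.2 (hreal n)]
    rw [hm] at h1
    simp only [Finset.sum_apply, Pi.smul_apply, smul_eq_mul] at h1
    rw [Finset.sum_comm] at h1
    simp only [← Finset.mul_sum, hk] at h1
    have h2 : (Nat.card N : ℂ) * ((∑ χ : IrrCharacter G, m χ * k χ : ℕ) : ℂ) =
        (Nat.card N : ℂ) * 1 := by
      rw [mul_one, Nat.cast_sum, Finset.mul_sum]
      conv_rhs => rw [← h1]
      exact Finset.sum_congr rfl fun χ _ => by push_cast; ring
    exact_mod_cast mul_left_cancel₀ (Nat.cast_ne_zero.2 Nat.card_pos.ne') h2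
  obtain ⟨χ, -, hχ⟩ := Finset.exists_ne_zero_of_sum_ne_zero (by rw [hsum]; exact one_ne_zero)
  have hle : m χ * k χ ≤ 1 := hsum ▸ Finset.single_le_sum (fun x _ => Nat.zero_le _)
    (Finset.mem_univ χ) (f := fun χ => m χ * k χ)
  have hmk : m χ = 1 ∧ k χ = 1 := Nat.eq_one_of_mul_eq_one_right
    (show m χ * k χ = 1 by omega) |> fun h => ⟨h, by
      rw [h, one_mul] at hle hχ; omega⟩
  have hχ1 : (χ : G → ℂ) 1 = 1 := by
    have hN : (Nat.card N : ℂ) ≠ 0 := Nat.cast_ne_zero.2 Nat.card_pos.ne'
    rcases sum_subgroup_eq_zero_or N χ with h | h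
    · rw [hk, hmk.2, Nat.cast_one, mul_one] at h
      exact absurd h hN
    · rw [hk, hmk.2] at h
      simpa using (mul_left_cancel₀ hN h).symm
  obtain ⟨f, hf⟩ := Char.exists_hom_of_degree_one (irr_isCharacter χ) hχ1
  refine ⟨f, fun n0 hn0 => ?_, ?_⟩
  · have h1 := hk χ
    rw [hmk.2, Nat.cast_one, mul_one, hf] at h1
    have h2 : (f n0 : ℂ) * (Nat.card N : ℂ) = 1 * (Nat.card N : ℂ) := by
      rw [one_mul]
      conv_lhs => rw [← h1, Finset.mul_sum]
      conv_rhs => rw [← h1]
      exact Fintype.sum_equiv (Equiv.mulLeft (⟨n0, hn0⟩ : N)) _ _ fun n => by simp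
    exact Units.ext (mul_right_cancel₀ (Nat.cast_ne_zero.2 Nat.card_pos.ne') h2)
  · have hin : Cfsg.classInner (η : G → ℂ) (fun g => conj ((η : G → ℂ) g) * (f g : ℂ)) = 1 := by
      have h1 := congrArg (fun F => Cfsg.classInner F (χ : G → ℂ)) hm
      rw [Char.classInner_combination, hmk.1, Nat.cast_one, hf] at h1
      rw [← h1]
      simp only [Cfsg.classInner, Pi.mul_apply, map_mul, Complex.conj_conj, mul_assoc]
    have hirr : IsIrrCharacter G (fun g => conj ((η : G → ℂ) g) * (f g : ℂ)) :=
      isIrr_mul_linear (Char.IsIrrCharacter.conj η.2) f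
    by_contra hne
    rw [Char.classInner_irr_of_ne η.2 hirr (fun h => hne (congrFun h))] at hin
    exact zero_ne_one hin

end Cfsg.Agent.BrauerPairs
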