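import Cfsg.Agent.Lib.Blocks.SubsectionRow
import Cfsg.Agent.Lib.Blocks.CentralDefect
import Cfsg.Agent.Lib.Char.GlaubermanMod
import Cfsg.Agent.Lib.Char.DegreeCenter
import Mathlib.Algebra.CharP.Quotient

/-!
Regular classes are separated by the characters modulo `p`.
-/

set_option linter.unusedSectionVars false
set_option linter.style.haveILetI false

namespace Cfsg.Agent.BrauerPairs

open Cfsg Cfsg.Agent.Blocks Cfsg.Agent.Char
open scoped ComplexConjugate

universe u

variable {G : Type u} [Group G] [Fintype G] {p : ℕ}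

/-- The `p`-th powers: a sum of algebraic integers raised to a power of `p`. -/
theorem exists_multiset_sum_pow (hp : p.Prime) (a : ℕ) (L : Multiset ℂ)
    (hL : ∀ z ∈ L, IsIntegral ℤ z) :
    ∃ γ : AlgInt, L.sum ^ (p ^ a) - (L.map fun z => z ^ (p ^ a)).sum = (p : ℂ) * (γ : ℂ) := by
  induction L using Multiset.induction with
  | empty => exact ⟨0, by simp [zero_pow (pow_ne_zero a hp.ne_zero)]⟩
  | cons z L ih =>
    obtain ⟨γ, hγ⟩ := ih fun w hw => hL w (Multiset.mem_cons_of_mem hw)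
    let z' : AlgInt := ⟨z, hL z (Multiset.mem_cons_self _ _)⟩
    let s' : AlgInt := ⟨L.sum, isIntegral_multiset_sum L fun w hw => hL w (Multiset.mem_cons_of_mem hw)⟩
    obtain ⟨r, hr⟩ := exists_add_pow_prime_pow_eq hp z' s' a
    refine ⟨z' * s' * r + γ, ?_⟩
    have e := congrArg (fun w : AlgInt => (w : ℂ)) hr
    push_cast at e
    simp only [Multiset.sum_cons, Multiset.map_cons, z', s'] at e ⊢
    push_cast
    rw [e]
    linear_combination hγ

theorem exists_char_pow_congr (hp : p.Prime) (a : ℕ) {χ : G → ℂ} (hχ : IsCharacter G χ) (x : G) :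
    ∃ γ : AlgInt, χ x ^ (p ^ a) - χ (x ^ (p ^ a)) = (p : ℂ) * (γ : ℂ) := by
  obtain ⟨n, ρ, rfl⟩ := hχ
  obtain ⟨L, -, hL, hs, -⟩ := exists_eigenvalues ρ x
  have h1 := hs 1
  simp only [pow_one, Multiset.map_id'] at h1
  rw [h1, hs]
  exact exists_multiset_sum_pow hp a L fun z hz =>
    isIntegral_of_pow_eq_one (orderOf_pos x) (hL z hz)

variable {M : Ideal AlgInt} [M.IsPrime]

theorem avg_isIntegral (χ : IrrCharacter G) {g : G} (P : Subgroup G) [Fintype P]
    (hcomm : ∀ u ∈ P, u * g = g * u) :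
    IsIntegral ℤ ((Nat.card P : ℂ)⁻¹ * ∑ u : P, (χ : G → ℂ) (g * u)) := by
  classical
  obtain ⟨H, hH⟩ : ∃ H, H = Subgroup.zpowers g ⊔ P := ⟨_, rfl⟩
  haveI : Fintype H := Fintype.ofFinite H
  have hgH : g ∈ H := hH ▸ Subgroup.mem_sup_left (Subgroup.mem_zpowers g)
  have hPH : P ≤ H := hH ▸ le_sup_right
  have hz : (⟨g, hgH⟩ : H) ∈ Subgroup.center H := Subgroup.mem_center_iff.2 fun h => Subtype.ext (by
    have hle : H ≤ Subgroup.centralizer ({g} : Set G) := by
      rw [hH]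
      exact sup_le (Subgroup.zpowers_le.2 (Subgroup.mem_centralizer_singleton_iff.2 rfl))
        fun u hu => Subgroup.mem_centralizer_singleton_iff.2 (hcomm u hu)
    exact Subgroup.mem_centralizer_singleton_iff.1 (hle h.2))
  obtain ⟨n, hn, -⟩ := exists_mults H χ
  have hmem : ∀ u : P, g * (u : G) = ((⟨g, hgH⟩ * Subgroup.inclusion hPH u : H) : G) := fun u => rfl
  simp only [hmem, hn]
  rw [Finset.sum_comm, Finset.mul_sum]
  refine IsIntegral.sum _ fun θ _ => ?_
  obtain ⟨c, -, hc, -⟩ := IsIrrCharacter.exists_central_scalar θ.2 hz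
  obtain ⟨m, hm⟩ := exists_sum_subgroup_eq (P.subgroupOf H) θ
  have hsum : ∑ u : P, (θ : H → ℂ) (Subgroup.inclusion hPH u) = (Nat.card P : ℂ) * m := by
    rw [← Nat.card_congr (Subgroup.subgroupOfEquivOfLe hPH).toEquiv, ← hm]
    exact (Fintype.sum_equiv (Subgroup.subgroupOfEquivOfLe hPH).toEquiv _ _ fun v => rfl).symm
  have hcint : IsIntegral ℤ c := by
    have h1 : ∀ k : ℕ, (θ : H → ℂ) ((⟨g, hgH⟩ : H) ^ k) = c ^ k * (θ : H → ℂ) 1 := by
      intro k
      induction k with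
      | zero => simp
      | succ k ih => rw [pow_succ', hc, ih, pow_succ]; ring
    have h2 := h1 (orderOf (⟨g, hgH⟩ : H))
    rw [pow_orderOf_eq_one] at h2
    exact isIntegral_of_pow_eq_one (orderOf_pos _)
      (mul_right_cancel₀ (irr_one_ne_zero θ) (by rw [one_mul]; exact h2.symm))
  rw [← Finset.mul_sum]
  simp only [hc]
  rw [← Finset.mul_sum, hsum]
  have hP0 : (Nat.card P : ℂ) ≠ 0 := Nat.cast_ne_zero.2 Nat.card_pos.ne'
  rw [show (Nat.card P : ℂ)⁻¹ * ((n θ : ℂ) * (c * ((Nat.card P : ℂ) * m))) =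
    (n θ : ℂ) * c * (m : ℂ) by field_simp]
  exact ((isIntegral_natCast _).mul hcint).mul (isIntegral_natCast _)

theorem isConj_of_congr (hM : IsPModular p M) {g h : G} (hg : ¬ p ∣ orderOf g) (hh : ¬ p ∣ orderOf h)
    (hcong : ∀ χ : IrrCharacter G, MemLocalIdeal M ((χ : G → ℂ) g - (χ : G → ℂ) h)) :
    IsConj g h := by
  classical
  haveI := Fact.mk hM.1
  by_contra hne
  obtain ⟨P0⟩ : Nonempty (Sylow p (Subgroup.centralizer ({g} : Set G))) := inferInstance
  obtain ⟨P, hP⟩ : ∃ P, P = (P0 : Subgroup (Subgroup.centralizer ({g} : Set G))).map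
    (Subgroup.centralizer ({g} : Set G)).subtype := ⟨_, rfl⟩
  have hcomm : ∀ u ∈ P, u * g = g * u := fun u hu => by
    obtain ⟨v, -, rfl⟩ := hP.le hu
    exact Subgroup.mem_centralizer_singleton_iff.1 v.2
  have hPp : IsPGroup p P := hP ▸ P0.isPGroup'.map _
  let c : IrrCharacter G → ℂ := fun χ =>
    conj ((Nat.card P : ℂ)⁻¹ * ∑ u : P, (χ : G → ℂ) (g * u))
  have hc : ∀ χ, MemLocalRing M (c χ) := fun χ =>
    mem_locRing.1 (mem_locRing_of_isIntegral
      (map_isIntegral_int (starRingEnd ℂ) (avg_isIntegral χ P hcomm)))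
  have hval : ∀ y : G, ¬ p ∣ orderOf y → ∑ χ, c χ * (χ : G → ℂ) y =
      (Nat.card P : ℂ)⁻¹ * (if IsConj g y then (Nat.card (Subgroup.centralizer ({g} : Set G)) : ℂ)
        else 0) := by
    intro y hy
    simp only [c, map_mul, map_inv₀, map_natCast, map_sum, mul_assoc, ← Finset.mul_sum,
      Finset.sum_mul]
    congr 1
    rw [Finset.sum_comm, Finset.sum_eq_single (1 : P)]
    · simp only [Subgroup.coe_one, mul_one]
      rw [Finset.sum_congr rfl fun χ _ => mul_comm _ _]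
      by_cases hgy : IsConj g y
      · rw [if_pos hgy, column_orth_of_isConj hgy.symm]
        obtain ⟨k, hk⟩ := isConj_iff.1 hgy
        rw [← hk, ← Nat.card_congr]
        exact ((Equiv.mulLeft k).trans (Equiv.mulRight k⁻¹)).subtypeEquiv fun x => by
          simp only [Subgroup.mem_centralizer_singleton_iff, Equiv.trans_apply, Equiv.coe_mulLeft,
            Equiv.coe_mulRight]
          constructor
          · intro e
            calc k * x * k⁻¹ * (k * g * k⁻¹) = k * (x * g) * k⁻¹ := by group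
              _ = k * (g * x) * k⁻¹ := by rw [e]
              _ = k * g * k⁻¹ * (k * x * k⁻¹) := by group
          · intro e
            calc x * g = k⁻¹ * (k * x * k⁻¹ * (k * g * k⁻¹)) * k := by group
              _ = k⁻¹ * (k * g * k⁻¹ * (k * x * k⁻¹)) * k := by rw [e]
              _ = g * x := by group
      · rw [if_neg hgy, column_orth_of_not_isConj fun e => hgy e.symm]
    · intro u _ hu
      rw [Finset.sum_congr rfl fun χ _ => mul_comm _ _, column_orth_of_not_isConj]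
      intro e
      obtain ⟨k, hk⟩ := isConj_iff.1 e
      have hyo : orderOf (g * (u : G)) = orderOf y := by
        rw [← hk, ← MulAut.conj_apply, MulEquiv.orderOf_eq]
      obtain ⟨i, hi⟩ := IsPGroup.iff_orderOf.1 hPp u
      rw [(show Commute g (u : G) from (hcomm u u.2).symm).orderOf_mul_eq_mul_orderOf_of_coprime,
        Subgroup.orderOf_coe, hi] at hyo
      · rcases i with _ | i
        · exact hu (orderOf_eq_one_iff.1 (by rw [hi, pow_zero]))
        · exact hy (hyo ▸ dvd_mul_of_dvd_right (dvd_pow_self p (Nat.succ_ne_zero i)) _)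
      · rw [Subgroup.orderOf_coe, hi]
        exact ((hM.1.coprime_iff_not_dvd.2 hg).pow_left i).symm
    · exact fun h => absurd (Finset.mem_univ _) h
  have hmem : MemLocalIdeal M (∑ χ, c χ * (χ : G → ℂ) g - ∑ χ, c χ * (χ : G → ℂ) h) := by
    rw [← Finset.sum_sub_distrib]
    exact memLocalIdeal_sum _ _ fun χ _ => by
      rw [← mul_sub]; exact MemLocalIdeal.mul_left (hc χ) (hcong χ)
  rw [hval g hg, hval h hh, if_pos (IsConj.refl g), if_neg hne, mul_zero, sub_zero,
    inv_mul_eq_div] at hmem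
  refine not_memLocalIdeal_natDiv hM Nat.card_pos.ne' Nat.card_pos.ne' ?_ hmem
  rw [hP, Subgroup.card_map_of_injective Subtype.val_injective, P0.card_eq_multiplicity,
    hM.1.factorization_pow, Finsupp.single_eq_same]

theorem regular_pow_injective (hp : p.Prime) {x y : G} (hx : ¬ p ∣ orderOf x) (hy : ¬ p ∣ orderOf y)
    (a : ℕ) (h : x ^ (p ^ a) = y ^ (p ^ a)) : x = y := by
  have cx : (p ^ a).Coprime (orderOf x) := (hp.coprime_iff_not_dvd.2 hx).pow_left a
  have cy : (p ^ a).Coprime (orderOf y) := (hp.coprime_iff_not_dvd.2 hy).pow_left a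
  obtain ⟨i, hi⟩ := exists_pow_eq_self_of_coprime (x := x) cx
  obtain ⟨j, hj⟩ := exists_pow_eq_self_of_coprime (x := y) cy
  have hcomm : Commute x y := by
    rw [← hi, ← hj, h]
    exact ((Commute.refl _).pow_right j).pow_left i
  refine mul_inv_eq_one.1 (orderOf_eq_one_iff.1 (Nat.eq_one_of_dvd_coprimes (Nat.Coprime.mul_right cx cy) ?_ ?_))
  · exact orderOf_dvd_of_pow_eq_one (by rw [hcomm.inv_right.mul_pow, h, inv_pow, mul_inv_cancel])
  · exact orderOf_dvd_of_pow_eq_one (by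
      rw [hcomm.inv_right.mul_pow, pow_mul, pow_orderOf_eq_one, one_pow, one_mul, inv_pow,
        mul_comm, pow_mul, pow_orderOf_eq_one, one_pow, inv_one])

theorem regularParts_conj_iff [Fact p.Prime] (x y x' y' : G)
    (hx : (∃ k : ℕ, orderOf (x * x'⁻¹) = p ^ k) ∧ Commute (x * x'⁻¹) x' ∧ ¬ p ∣ orderOf x')
    (hy : (∃ k : ℕ, orderOf (y * y'⁻¹) = p ^ k) ∧ Commute (y * y'⁻¹) y' ∧ ¬ p ∣ orderOf y') :
    IsConj x' y' ↔ ∀ χ : IrrCharacter G, ∃ γ : AlgInt,
      (χ : G → ℂ) x ^ (p ^ (Nat.card G).factorization p) -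
        (χ : G → ℂ) y ^ (p ^ (Nat.card G).factorization p) = (p : ℂ) * (γ : ℂ) := by
  classical
  have hp : p.Prime := Fact.out
  obtain ⟨a, ha⟩ : ∃ a, a = (Nat.card G).factorization p := ⟨_, rfl⟩
  rw [← ha]
  have key : ∀ z z' : G, (∃ k : ℕ, orderOf (z * z'⁻¹) = p ^ k) → Commute (z * z'⁻¹) z' →
      z ^ (p ^ a) = z' ^ (p ^ a) := by
    rintro z z' ⟨k, hk⟩ hc
    have h1 : (z * z'⁻¹) ^ (p ^ a) = 1 := by
      refine orderOf_dvd_iff_pow_eq_one.1 ?_
      rw [hk, ha]
      exact pow_dvd_pow p ((hp.pow_dvd_iff_le_factorization Nat.card_pos.ne').1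
        (hk ▸ orderOf_dvd_natCard _))
    conv_lhs => rw [show z = z * z'⁻¹ * z' by group]
    rw [hc.mul_pow, h1, one_mul]
  have hdiff : ∀ χ : IrrCharacter G, ∃ γ : AlgInt, (χ : G → ℂ) x ^ (p ^ a) -
      (χ : G → ℂ) y ^ (p ^ a) - ((χ : G → ℂ) (x' ^ (p ^ a)) - (χ : G → ℂ) (y' ^ (p ^ a))) =
        (p : ℂ) * (γ : ℂ) := by
    intro χ
    obtain ⟨γ1, h1⟩ := exists_char_pow_congr hp a (irr_isCharacter χ) x
    obtain ⟨γ2, h2⟩ := exists_char_pow_congr hp a (irr_isCharacter χ) y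
    rw [key x x' hx.1 hx.2.1] at h1
    rw [key y y' hy.1 hy.2.1] at h2
    exact ⟨γ1 - γ2, by push_cast; linear_combination h1 - h2⟩
  constructor
  · intro hc χ
    obtain ⟨γ, hγ⟩ := hdiff χ
    obtain ⟨k, hk⟩ := isConj_iff.1 hc
    refine ⟨γ, ?_⟩
    rw [← hγ, ← hk, conj_pow, IsCharacter.isClassFunction (irr_isCharacter χ) (x' ^ (p ^ a)) k,
      sub_self, sub_zero]
  · intro h
    obtain ⟨M, hM⟩ := Cfsg.Agent.GlaubermanMod.exists_isPModular p
    haveI := IsPModular.isPrime hM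
    have hreg : ∀ z : G, ¬ p ∣ orderOf z → ¬ p ∣ orderOf (z ^ (p ^ a)) := fun z hz hd =>
      hz (hd.trans (orderOf_pow_dvd _))
    have hc : IsConj (x' ^ (p ^ a)) (y' ^ (p ^ a)) := by
      refine isConj_of_congr hM (hreg _ hx.2.2) (hreg _ hy.2.2) fun χ => ?_
      obtain ⟨γ, hγ⟩ := h χ
      obtain ⟨δ, hδ⟩ := hdiff χ
      have e : (χ : G → ℂ) (x' ^ (p ^ a)) - (χ : G → ℂ) (y' ^ (p ^ a)) =
          (p : ℂ) * ((γ - δ : AlgInt) : ℂ) := by push_cast; linear_combination hγ - hδ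
      rw [e]
      exact MemLocalIdeal.mul_right ((natCast_memLocalIdeal_iff hM p).2 dvd_rfl)
        (mem_locRing.1 (mem_locRing_of_isIntegral (γ - δ : AlgInt).2))
    obtain ⟨k, hk⟩ := isConj_iff.1 hc
    refine isConj_iff.2 ⟨k, regular_pow_injective hp ?_ hy.2.2 a (by rw [conj_pow, hk])⟩
    rw [← MulAut.conj_apply, MulEquiv.orderOf_eq]
    exact hx.2.2

end Cfsg.Agent.BrauerPairs
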