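import Cfsg.Agent.Lib.BrauerPairs.Contribution

/-!
`p ^ d` times the regular part of a block character is in the integral span of the block.
-/

set_option linter.unusedSectionVars false
set_option linter.style.haveILetI false

namespace Cfsg.Agent.BrauerPairs

open Cfsg Cfsg.Agent.Blocks Cfsg.Agent.Char

universe u

variable {G : Type u} [Group G] [Fintype G] {p : ℕ} {M : Ideal AlgInt} [M.IsPrime]

theorem exists_regular_span (hM : IsPModular p M) {B : Set (IrrCharacter G)} (hB : IsPBlock M B) :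
    ∃ r : IrrCharacter G → IrrCharacter G → ℤ, ∀ φ ∈ B, ∀ g : G,
      (p ^ blockDefect p B : ℂ) * pRegularPart p (φ : G → ℂ) g =
        ∑ᶠ η ∈ B, (r φ η : ℂ) * (η : G → ℂ) g := by
  classical
  obtain ⟨r, hr, -, -⟩ := exists_gram hM hB
  refine ⟨r, fun φ hφ g => ?_⟩
  set a := (Nat.card G).factorization p with ha
  set d := blockDefect p B with hd
  have hcl : IsClassFunction G (regTr p (φ : G → ℂ)) :=
    IsGeneralizedCharacter.isClassFunction (isGeneralizedCharacter_regTr hM.1 (irr_isCharacter φ))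
  have h := congrFun (classFunction_eq_sum hcl) g
  rw [Finset.sum_apply] at h
  have hsum : ∑ η : IrrCharacter G, (classInner (regTr p (φ : G → ℂ)) (η : G → ℂ) • (η : G → ℂ)) g
      = (p ^ (a - d) : ℂ) * ∑ᶠ η ∈ B, (r φ η : ℂ) * (η : G → ℂ) g := by
    rw [finsum_mem_eq_finite_toFinset_sum _ (Set.toFinite B), Finset.mul_sum,
      ← Finset.sum_subset (Finset.subset_univ (Set.toFinite B).toFinset) (fun η _ hη => ?_)]
    · refine Finset.sum_congr rfl fun η hη => ?_
      rw [Pi.smul_apply, smul_eq_mul, hr φ η ((Set.Finite.mem_toFinset _).1 hη)]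
      push_cast; ring
    · rw [Pi.smul_apply, regTr_orth hM fun hs => hη ((Set.Finite.mem_toFinset _).2
        (isPBlock_mem_of_sameBlock hB hφ hs)), zero_smul]
  rw [hsum] at h
  have hp0 : (p ^ (a - d) : ℂ) ≠ 0 := pow_ne_zero _ (Nat.cast_ne_zero.2 hM.1.ne_zero)
  refine mul_left_cancel₀ hp0 ?_
  rw [← h, ← mul_assoc, ← pow_add, Nat.sub_add_cancel (blockDefect_le B)]
  simp only [regTr, pRegularPart, IsPRegular]
  by_cases hg : p ∣ orderOf g <;> simp [hg, ha]

theorem exists_regular_span_comb (hM : IsPModular p M) {B : Set (IrrCharacter G)}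
    (hB : IsPBlock M B) {χ : G → ℂ}
    (hχ : ∃ n : IrrCharacter G → ℤ, ∀ g : G, χ g = ∑ᶠ ψ ∈ B, (n ψ : ℂ) * (ψ : G → ℂ) g) :
    ∃ n : IrrCharacter G → ℤ, ∀ g : G, (p ^ blockDefect p B : ℂ) * pRegularPart p χ g =
      ∑ᶠ ψ ∈ B, (n ψ : ℂ) * (ψ : G → ℂ) g := by
  classical
  obtain ⟨r, hr⟩ := exists_regular_span hM hB
  obtain ⟨n, hn⟩ := hχ
  refine ⟨fun η => ∑ φ ∈ (Set.toFinite B).toFinset, n φ * r φ η, fun g => ?_⟩
  simp only [finsum_mem_eq_finite_toFinset_sum _ (Set.toFinite B)] at hn hr ⊢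
  have h : pRegularPart p χ g =
      ∑ φ ∈ (Set.toFinite B).toFinset, (n φ : ℂ) * pRegularPart p (φ : G → ℂ) g := by
    simp only [pRegularPart]
    by_cases hg : IsPRegular p g <;> simp [hg, hn]
  rw [h, Finset.mul_sum, Finset.sum_congr rfl fun φ hφ => by
    rw [mul_left_comm, hr φ ((Set.Finite.mem_toFinset _).1 hφ) g, Finset.mul_sum], Finset.sum_comm]
  push_cast
  simp_rw [Finset.sum_mul, mul_assoc]

end Cfsg.Agent.BrauerPairs
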