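/-
Integer vectors from the columns of the cyclic part of a semidihedral or quaternion defect group,
away from the centre.
-/
import Mathlib.RingTheory.RootsOfUnity.PrimitiveRoots
import Mathlib.Analysis.Complex.Basic
import Mathlib.Data.ZMod.Basic
import Mathlib.Tactic

set_option linter.style.haveILetI false

namespace Cfsg.Agent.SDQFourier

open scoped ComplexConjugate

/-- The indices away from the centre. -/
def mid (h : ℕ) : Finset ℕ := (Finset.range (2 * h)).filter fun i => ¬ h ∣ i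

theorem mem_mid {h i : ℕ} : i ∈ mid h ↔ i < 2 * h ∧ i ≠ 0 ∧ i ≠ h := by
  rw [mid, Finset.mem_filter, Finset.mem_range]
  constructor
  · rintro ⟨h1, h2⟩
    exact ⟨h1, fun e => h2 (e ▸ dvd_zero h), fun e => h2 (e ▸ dvd_rfl)⟩
  · rintro ⟨h1, h2, h3⟩
    refine ⟨h1, ?_⟩
    rintro ⟨c, rfl⟩
    rcases c with _ | _ | c
    · simp at h2
    · simp at h3
    · nlinarith

theorem mid_int {h : ℕ} {i : ℕ} (hi : i ∈ mid h) : ¬ (h : ℤ) ∣ (i : ℤ) := by
  exact_mod_cast (Finset.mem_filter.1 hi).2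

variable {ζ : ℂ} {h : ℕ}

theorem zeta_ne_zero (hh : 0 < h) (hζ : IsPrimitiveRoot ζ (2 * h)) : ζ ≠ 0 :=
  hζ.ne_zero (by omega)

theorem zpow_eq_one_iff (hζ : IsPrimitiveRoot ζ (2 * h)) (c : ℤ) :
    ζ ^ c = 1 ↔ 2 * (h : ℤ) ∣ c := by
  rw [hζ.zpow_eq_one_iff_dvd]; push_cast; rfl

theorem zpow_congr (hh : 0 < h) (hζ : IsPrimitiveRoot ζ (2 * h)) {a b : ℤ}
    (hab : 2 * (h : ℤ) ∣ a - b) : ζ ^ a = ζ ^ b := by
  rw [show a = (a - b) + b by ring, zpow_add₀ (zeta_ne_zero hh hζ),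
    (zpow_eq_one_iff hζ _).2 hab, one_mul]

theorem zeta_pow_h (hh : 0 < h) (hζ : IsPrimitiveRoot ζ (2 * h)) : ζ ^ (h : ℤ) = -1 := by
  have h2 : ζ ^ (h : ℤ) * ζ ^ (h : ℤ) = 1 := by
    rw [← zpow_add₀ (zeta_ne_zero hh hζ), zpow_eq_one_iff hζ]; exact ⟨1, by ring⟩
  rcases mul_self_eq_one_iff.1 h2 with e | e
  · rw [zpow_eq_one_iff hζ] at e
    have := Int.le_of_dvd (by omega) e
    omega
  · exact e

theorem conj_zeta (hh : 0 < h) (hζ : IsPrimitiveRoot ζ (2 * h)) (c : ℤ) :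
    conj (ζ ^ c) = ζ ^ (-c) := by
  rw [map_zpow₀, ← Complex.inv_eq_conj (Complex.norm_eq_one_of_pow_eq_one hζ.pow_eq_one (by omega)),
    inv_zpow, zpow_neg]

theorem geom (hh : 0 < h) (hζ : IsPrimitiveRoot ζ (2 * h)) (c : ℤ) :
    ∑ i ∈ Finset.range (2 * h), ζ ^ ((i : ℤ) * c) =
      if 2 * (h : ℤ) ∣ c then ((2 * h : ℕ) : ℂ) else 0 := by
  simp only [fun i : ℕ => show ζ ^ ((i : ℤ) * c) = (ζ ^ c) ^ i by
    rw [← zpow_natCast (ζ ^ c), ← zpow_mul, mul_comm]]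
  split_ifs with hc
  · rw [(zpow_eq_one_iff hζ c).2 hc]
    simp
  · rw [geom_sum_eq (fun e => hc ((zpow_eq_one_iff hζ c).1 e)), ← zpow_natCast (ζ ^ c), ← zpow_mul,
      (zpow_eq_one_iff hζ _).2 ⟨c, by push_cast; ring⟩, sub_self, zero_div]

variable {ι : Type*}

/-- The integer vectors. -/
def w (h : ℕ) (A : ι → ℕ → ℕ) (χ : ι) (j : ℤ) : ℤ :=
  (A χ (j % (2 * (h : ℤ))).toNat : ℤ) - A χ (j % 2).toNat

theorem w_congr {A : ι → ℕ → ℕ} (χ : ι) {a b : ℤ} (hab : 2 * (h : ℤ) ∣ a - b) :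
    w h A χ a = w h A χ b := by
  unfold w
  rw [show a % (2 * (h : ℤ)) = b % (2 * (h : ℤ)) from Int.emod_eq_emod_iff_emod_sub_eq_zero.2
      (Int.emod_eq_zero_of_dvd hab),
    show a % 2 = b % 2 from Int.emod_eq_emod_iff_emod_sub_eq_zero.2
      (Int.emod_eq_zero_of_dvd ((dvd_mul_right 2 _).trans hab))]

theorem w_zero (A : ι → ℕ → ℕ) (χ : ι) : w h A χ 0 = 0 := by simp [w]

theorem w_one (hh : 0 < h) (A : ι → ℕ → ℕ) (χ : ι) : w h A χ 1 = 0 := by
  unfold w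
  rw [Int.emod_eq_of_lt (by norm_num) (by omega)]
  simp

/-- The twist is odd and an involution modulo the order. -/
structure Twist (h q : ℕ) (τ : ℤ) : Prop where
  hq : h = 2 * q
  qpow : ∃ s, q = 2 ^ s
  cases : τ = -1 ∨ (τ = (h : ℤ) - 1 ∧ 2 ∣ q)

variable {q : ℕ} {τ : ℤ}

theorem Twist.q_pos (ht : Twist h q τ) : 0 < q := by
  obtain ⟨s, hs⟩ := ht.qpow; rw [hs]; positivity

theorem Twist.h_pos (ht : Twist h q τ) : 0 < h := by
  have := ht.q_pos; have := ht.hq; omega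

theorem Twist.odd (ht : Twist h q τ) : (2 : ℤ) ∣ τ - 1 := by
  rcases ht.cases with h' | ⟨h', -⟩ <;> rw [h']
  · exact ⟨-1, by ring⟩
  · exact ⟨(q : ℤ) - 1, by rw [ht.hq]; push_cast; ring⟩

theorem Twist.sq (ht : Twist h q τ) : 2 * (h : ℤ) ∣ τ * τ - 1 := by
  rcases ht.cases with h' | ⟨h', -⟩ <;> rw [h']
  · exact ⟨0, by ring⟩
  · exact ⟨(q : ℤ) - 1, by rw [ht.hq]; push_cast; ring⟩

theorem Twist.mid_mul (ht : Twist h q τ) {i : ℤ} (hi : ¬ (h : ℤ) ∣ i) : ¬ (h : ℤ) ∣ τ * i := by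
  intro hd
  refine hi ?_
  have h1 : (h : ℤ) ∣ τ * τ * i := by rw [mul_assoc]; exact dvd_mul_of_dvd_right hd _
  have h2 : (h : ℤ) ∣ (τ * τ - 1) * i := dvd_mul_of_dvd_left ((dvd_mul_left _ _).trans ht.sq) _
  have h3 := dvd_sub h1 h2
  rwa [show τ * τ * i - (τ * τ - 1) * i = i by ring] at h3

variable {Ψ : ι → ℤ → ℂ} {A : ι → ℕ → ℕ}

/-- The data of the expansion. -/
structure Exp (h : ℕ) (ζ : ℂ) (τ : ℤ) (Ψ : ι → ℤ → ℂ) (A : ι → ℕ → ℕ) : Prop where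
  root : IsPrimitiveRoot ζ (2 * h)
  expand : ∀ χ (i : ℤ), ¬ (h : ℤ) ∣ i →
    Ψ χ i = ∑ j ∈ Finset.range (2 * h), (A χ j : ℂ) * ζ ^ (i * (j : ℤ))
  sym : ∀ χ (i : ℤ), ¬ (h : ℤ) ∣ i → Ψ χ (τ * i) = Ψ χ i
  periodic : ∀ χ (i j : ℤ), 2 * (h : ℤ) ∣ i - j → Ψ χ i = Ψ χ j

theorem parity_emod (j : ℤ) : 0 ≤ j % 2 ∧ j % 2 < 2 := ⟨Int.emod_nonneg _ (by norm_num), Int.emod_lt_of_pos _ (by norm_num)⟩

theorem m_mul_w (hh : 0 < h) (he : Exp h ζ τ Ψ A) (χ : ι) (j : ℤ) :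
    ((2 * h : ℕ) : ℂ) * (w h A χ j : ℂ) = ∑ i ∈ mid h,
      Ψ χ (i : ℤ) * (ζ ^ (-((i : ℤ) * j)) - ζ ^ (-((i : ℤ) * (j % 2)))) := by
  classical
  have hζ := he.root
  set F : ℕ → ℂ := fun i => (∑ l ∈ Finset.range (2 * h), (A χ l : ℂ) * ζ ^ ((i : ℤ) * (l : ℤ))) *
    (ζ ^ (-((i : ℤ) * j)) - ζ ^ (-((i : ℤ) * (j % 2)))) with hF
  have e1 : ∑ i ∈ mid h, Ψ χ (i : ℤ) * (ζ ^ (-((i : ℤ) * j)) - ζ ^ (-((i : ℤ) * (j % 2)))) =
      ∑ i ∈ Finset.range (2 * h), F i := by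
    refine (Finset.sum_congr rfl fun i hi => ?_).trans
      (Finset.sum_subset (Finset.filter_subset (fun i => ¬ h ∣ i) _) fun i hi hne => ?_)
    · rw [hF, he.expand χ _ (mid_int hi)]
    · have hd : h ∣ i := by
        by_contra hd
        exact hne (Finset.mem_filter.2 ⟨hi, hd⟩)
      obtain ⟨c, rfl⟩ := hd
      refine mul_eq_zero_of_right _ ?_
      rw [sub_eq_zero]
      refine zpow_congr hh hζ ⟨-(c : ℤ) * (j / 2), ?_⟩
      have := Int.emod_add_mul_ediv j 2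
      push_cast
      linear_combination ((h : ℤ) * c) * this
  have key : ∀ a : ℤ, ∑ i ∈ Finset.range (2 * h),
      (∑ l ∈ Finset.range (2 * h), (A χ l : ℂ) * ζ ^ ((i : ℤ) * (l : ℤ))) * ζ ^ (-((i : ℤ) * a)) =
        ((2 * h : ℕ) : ℂ) * (A χ (a % (2 * (h : ℤ))).toNat : ℂ) := by
    intro a
    simp only [Finset.sum_mul, mul_assoc, ← zpow_add₀ (zeta_ne_zero hh hζ)]
    rw [Finset.sum_comm]
    simp only [← Finset.mul_sum, fun i l : ℤ => show i * l + -(i * a) = i * (l - a) by ring,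
      geom hh hζ]
    set r := (a % (2 * (h : ℤ))).toNat with hr
    have hr0 : 0 ≤ a % (2 * (h : ℤ)) := Int.emod_nonneg _ (by omega)
    have hr1 : a % (2 * (h : ℤ)) < 2 * (h : ℤ) := Int.emod_lt_of_pos _ (by omega)
    have hrmem : r ∈ Finset.range (2 * h) := Finset.mem_range.2 (by omega)
    have hrd : 2 * (h : ℤ) ∣ (r : ℤ) - a := by
      rw [hr, Int.toNat_of_nonneg hr0]
      exact ⟨-(a / (2 * (h : ℤ))), by
        linear_combination Int.emod_add_mul_ediv a (2 * (h : ℤ))⟩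
    rw [Finset.sum_eq_single_of_mem r hrmem fun l hl hne => ?_, if_pos hrd, mul_comm]
    rw [if_neg, mul_zero]
    intro hd
    refine hne ?_
    have h3 := Int.eq_zero_of_abs_lt_dvd (dvd_sub hd hrd) (by
      have := Finset.mem_range.1 hl
      have := Finset.mem_range.1 hrmem
      rw [abs_lt]; constructor <;> omega)
    omega
  rw [e1]
  simp only [hF, mul_sub, Finset.sum_sub_distrib, key, w]
  have h2 := parity_emod j
  rw [Int.emod_eq_of_lt (a := j % 2) h2.1 (by omega)]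
  push_cast
  ring

theorem w_tau (ht : Twist h q τ) (he : Exp h ζ τ Ψ A) (χ : ι) (j : ℤ) :
    w h A χ (τ * j) = w h A χ j := by
  classical
  have hh := ht.h_pos
  have hζ := he.root
  have hmod : (τ * j) % 2 = j % 2 := by
    obtain ⟨c, hc⟩ := ht.odd
    rw [show τ * j = j + 2 * (c * j) by linear_combination j * hc, Int.add_mul_emod_self_left]
  let g : ℕ → ℕ := fun i => ((τ * (i : ℤ)) % (2 * (h : ℤ))).toNat
  have hg : ∀ i : ℕ, 2 * (h : ℤ) ∣ (g i : ℤ) - τ * i := by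
    intro i
    simp only [g]
    rw [Int.toNat_of_nonneg (Int.emod_nonneg _ (by omega))]
    exact ⟨-((τ * i) / (2 * (h : ℤ))), by
      linear_combination Int.emod_add_mul_ediv (τ * (i : ℤ)) (2 * (h : ℤ))⟩
  have hgmem : ∀ i ∈ mid h, g i ∈ mid h := by
    intro i hi
    refine Finset.mem_filter.2 ⟨Finset.mem_range.2 ?_, fun hd => ?_⟩
    · have := Int.emod_lt_of_pos (τ * (i : ℤ)) (show (0 : ℤ) < 2 * (h : ℤ) by omega)
      simp only [g]; omega
    · refine ht.mid_mul (mid_int hi) ?_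
      have h1 := dvd_sub (Int.natCast_dvd_natCast.2 hd) ((dvd_mul_left (h : ℤ) 2).trans (hg i))
      simpa using h1
  have hgg : ∀ i ∈ mid h, g (g i) = i := by
    intro i hi
    have h1 : 2 * (h : ℤ) ∣ (g (g i) : ℤ) - i := by
      have := dvd_add (dvd_add (hg (g i)) (dvd_mul_of_dvd_right (hg i) τ))
        (dvd_mul_of_dvd_left ht.sq (i : ℤ))
      convert this using 1 <;> first | rfl | ring
    have h2 := Finset.mem_range.1 (Finset.mem_filter.1 (hgmem _ (hgmem i hi))).1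
    have h3 := Finset.mem_range.1 (Finset.mem_filter.1 hi).1
    have h4 := Int.eq_zero_of_abs_lt_dvd h1 (by rw [abs_lt]; constructor <;> omega)
    omega
  have hS : ∑ i ∈ mid h, Ψ χ (i : ℤ) * ζ ^ (-((i : ℤ) * (τ * j))) =
      ∑ i ∈ mid h, Ψ χ (i : ℤ) * ζ ^ (-((i : ℤ) * j)) := by
    refine Finset.sum_nbij' g g hgmem hgmem hgg hgg fun i hi => ?_
    rw [he.periodic χ _ _ (hg i), he.sym χ _ (mid_int hi)]
    congr 1
    refine zpow_congr hh hζ ?_
    have := dvd_mul_of_dvd_left (hg i) j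
    convert this using 1 <;> first | rfl | ring
  have hc : ((2 * h : ℕ) : ℂ) * (w h A χ (τ * j) : ℂ) = ((2 * h : ℕ) : ℂ) * (w h A χ j : ℂ) := by
    rw [m_mul_w hh he, m_mul_w hh he, hmod]
    simp only [mul_sub, Finset.sum_sub_distrib, hS]
  exact_mod_cast mul_left_cancel₀ (Nat.cast_ne_zero.2 (by omega)) hc

theorem expansion (hh : 0 < h) (he : Exp h ζ τ Ψ A) (χ : ι) {i : ℤ} (hi : ¬ (h : ℤ) ∣ i) :
    Ψ χ i = ∑ j ∈ Finset.range (2 * h), (w h A χ j : ℂ) * ζ ^ (i * (j : ℤ)) := by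
  classical
  have hζ := he.root
  set c : ℕ → ℂ := fun j => (A χ (j % 2) : ℂ) * ζ ^ (i * (j : ℤ)) with hc
  suffices e : ∑ j ∈ Finset.range (2 * h), c j = 0 by
    rw [he.expand χ i hi, ← sub_eq_zero, ← Finset.sum_sub_distrib, ← e]
    refine Finset.sum_congr rfl fun j hj => ?_
    have hj' := Finset.mem_range.1 hj
    simp only [hc, w]
    rw [Int.emod_eq_of_lt (Int.natCast_nonneg j) (by omega), Int.toNat_natCast,
      show ((j : ℤ) % 2).toNat = j % 2 by omega]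
    push_cast; ring
  have hne : ζ ^ (2 * i) ≠ 1 := fun e => hi (by
    rw [zpow_eq_one_iff hζ, mul_dvd_mul_iff_left two_ne_zero] at e; exact e)
  have split : ∀ (n : ℕ) (f : ℕ → ℂ), ∑ j ∈ Finset.range (2 * n), f j =
      ∑ t ∈ Finset.range n, (f (2 * t) + f (2 * t + 1)) := by
    intro n f
    induction n with
    | zero => simp
    | succ n ih =>
      rw [show 2 * (n + 1) = 2 * n + 1 + 1 by ring, Finset.sum_range_succ, Finset.sum_range_succ,
        Finset.sum_range_succ, ih]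
      ring
  have hpt : ∀ t : ℕ, c (2 * t) + c (2 * t + 1) =
      ((A χ 0 : ℂ) + (A χ 1 : ℂ) * ζ ^ i) * (ζ ^ (2 * i)) ^ t := by
    intro t
    simp only [hc, show (2 * t) % 2 = 0 by omega, show (2 * t + 1) % 2 = 1 by omega]
    rw [← zpow_natCast (ζ ^ (2 * i)) t, ← zpow_mul, add_mul]
    push_cast
    rw [show i * (2 * (t : ℤ) + 1) = i + 2 * i * t by ring, show i * (2 * (t : ℤ)) = 2 * i * t by ring,
      zpow_add₀ (zeta_ne_zero hh hζ)]
    ring
  rw [split, Finset.sum_congr rfl fun t _ => hpt t, ← Finset.mul_sum, geom_sum_eq hne,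
    ← zpow_natCast (ζ ^ (2 * i)), ← zpow_mul,
    (zpow_eq_one_iff hζ (2 * i * (h : ℤ))).2 ⟨i, by ring⟩, sub_self, zero_div, mul_zero]

theorem sum_w (hh : 0 < h) (A : ι → ℕ → ℕ) (χ : ι) :
    ∑ j ∈ Finset.range (2 * h), (A χ j : ℤ) =
      (∑ j ∈ Finset.range (2 * h), w h A χ j) + (h : ℤ) * ((A χ 0 : ℤ) + A χ 1) := by
  have hw : ∀ j ∈ Finset.range (2 * h), (A χ j : ℤ) = w h A χ j + (A χ (j % 2) : ℤ) := by
    intro j hj
    have hj' := Finset.mem_range.1 hj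
    simp only [w]
    rw [Int.emod_eq_of_lt (Int.natCast_nonneg j) (by omega), Int.toNat_natCast,
      show ((j : ℤ) % 2).toNat = j % 2 by omega]
    ring
  rw [Finset.sum_congr rfl hw, Finset.sum_add_distrib]
  congr 1
  have split : ∀ n : ℕ, ∑ j ∈ Finset.range (2 * n), (A χ (j % 2) : ℤ) =
      (n : ℤ) * ((A χ 0 : ℤ) + A χ 1) := by
    intro n
    induction n with
    | zero => simp
    | succ n ih =>
      rw [show 2 * (n + 1) = 2 * n + 1 + 1 by ring, Finset.sum_range_succ, Finset.sum_range_succ, ih,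
        show (2 * n) % 2 = 0 by omega, show (2 * n + 1) % 2 = 1 by omega]
      push_cast; ring
  exact split h

theorem sum_w_parity (ht : Twist h q τ) (he : Exp h ζ τ Ψ A) (χ : ι) :
    (2 : ℤ) ∣ (∑ j ∈ Finset.range (2 * h), w h A χ j) - w h A χ (h : ℤ) := by
  classical
  have hh := ht.h_pos
  show ((2 : ℕ) : ℤ) ∣ _
  rw [← ZMod.intCast_zmod_eq_zero_iff_dvd _ 2, Int.cast_sub, Int.cast_sum, sub_eq_zero]
  rw [← Finset.sum_filter_add_sum_filter_not (Finset.range (2 * h)) (fun j => h ∣ j)]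
  have h0 : ∑ j ∈ (Finset.range (2 * h)).filter (fun j => ¬ h ∣ j),
      ((w h A χ j : ℤ) : ZMod 2) = 0 := by
    refine Finset.sum_involution
      (fun j _ => ((τ * (j : ℤ)) % (2 * (h : ℤ))).toNat) ?_ ?_ ?_ ?_
    all_goals
      intro j hj
      have hjm : j ∈ mid h := hj
      set g := ((τ * (j : ℤ)) % (2 * (h : ℤ))).toNat with hg
      have h1 : 2 * (h : ℤ) ∣ (g : ℤ) - τ * j := by
        rw [hg, Int.toNat_of_nonneg (Int.emod_nonneg _ (by omega))]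
        exact ⟨-((τ * j) / (2 * (h : ℤ))), by
          linear_combination Int.emod_add_mul_ediv (τ * (j : ℤ)) (2 * (h : ℤ))⟩
      have h2 : g < 2 * h := by
        have := Int.emod_lt_of_pos (τ * (j : ℤ)) (show (0 : ℤ) < 2 * (h : ℤ) by omega)
        omega
    · rw [w_congr χ h1, w_tau ht he, ← two_mul, show (2 : ZMod 2) = 0 from rfl, zero_mul]
    · intro _ he'
      have hd : 2 * (h : ℤ) ∣ (τ - 1) * j := by
        rw [he'] at h1
        obtain ⟨c, hc⟩ := h1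
        exact ⟨-c, by linear_combination -hc⟩
      refine mid_int hjm ?_
      rcases ht.cases with e | ⟨e, hq2⟩ <;> rw [e] at hd
      · rw [show (-1 - 1) * (j : ℤ) = 2 * -(j : ℤ) by ring, mul_dvd_mul_iff_left two_ne_zero,
          dvd_neg] at hd
        exact hd
      · rw [show ((h : ℤ) - 1 - 1) * (j : ℤ) = 2 * (((q : ℤ) - 1) * j) by
          rw [ht.hq]; push_cast; ring, mul_dvd_mul_iff_left two_ne_zero] at hd
        refine IsCoprime.dvd_of_dvd_mul_left ?_ hd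
        obtain ⟨e', he''⟩ := ht.qpow
        rw [ht.hq, he'']; push_cast
        rw [← pow_succ']
        refine IsCoprime.pow_left ((Int.prime_two.coprime_iff_not_dvd).2 ?_)
        intro h2'
        obtain ⟨k, hk⟩ := hq2
        rw [hk] at he''
        have : ((2 * k : ℕ) : ℤ) = (2 : ℤ) ^ e' := by rw [he'']; push_cast; rfl
        omega
    · refine Finset.mem_filter.2 ⟨Finset.mem_range.2 h2, fun hd => ht.mid_mul (mid_int hjm) ?_⟩
      have h3 := dvd_sub (Int.natCast_dvd_natCast.2 hd) ((dvd_mul_left (h : ℤ) 2).trans h1)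
      simpa using h3
    · set g2 := ((τ * (g : ℤ)) % (2 * (h : ℤ))).toNat with hg2
      have h3 : 2 * (h : ℤ) ∣ (g2 : ℤ) - τ * g := by
        rw [hg2, Int.toNat_of_nonneg (Int.emod_nonneg _ (by omega))]
        exact ⟨-((τ * g) / (2 * (h : ℤ))), by
          linear_combination Int.emod_add_mul_ediv (τ * (g : ℤ)) (2 * (h : ℤ))⟩
      have h4 : 2 * (h : ℤ) ∣ (g2 : ℤ) - j := by
        have := dvd_add (dvd_add h3 (dvd_mul_of_dvd_right h1 τ))
          (dvd_mul_of_dvd_left ht.sq (j : ℤ))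
        convert this using 1 <;> first | rfl | ring
      have h5 := Finset.mem_range.1 (Finset.mem_filter.1 hj).1
      have h6 : g2 < 2 * h := by
        have := Int.emod_lt_of_pos (τ * (g : ℤ)) (show (0 : ℤ) < 2 * (h : ℤ) by omega)
        omega
      have h7 := Int.eq_zero_of_abs_lt_dvd h4 (by rw [abs_lt]; constructor <;> omega)
      show g2 = j
      omega
  rw [h0, add_zero, show (Finset.range (2 * h)).filter (fun j => h ∣ j) = {0, h} by
    ext j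
    simp only [Finset.mem_filter, Finset.mem_range, Finset.mem_insert, Finset.mem_singleton]
    constructor
    · rintro ⟨hj, c, rfl⟩
      rcases c with _ | _ | c
      · simp
      · simp
      · exfalso; nlinarith
    · rintro (rfl | rfl)
      · exact ⟨by omega, dvd_zero _⟩
      · exact ⟨by omega, dvd_rfl⟩, Finset.sum_pair (by omega), Nat.cast_zero, w_zero, Int.cast_zero,
    zero_add]

/-- The indicator of the orbit relation. -/
def ind (h : ℕ) (τ a b : ℤ) : ℤ :=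
  (if 2 * (h : ℤ) ∣ a - b then 1 else 0) + if 2 * (h : ℤ) ∣ a - τ * b then 1 else 0

theorem gram (ht : Twist h q τ) (he : Exp h ζ τ Ψ A) (T : Finset ι)
    (hg : ∀ i ∈ mid h, ∀ k ∈ mid h, ∑ χ ∈ T, Ψ χ (i : ℤ) * conj (Ψ χ (k : ℤ)) =
      ((2 * h : ℕ) : ℂ) * (ind h τ (k : ℤ) (i : ℤ) : ℂ))
    (j l : ℤ) :
    ∑ χ ∈ T, w h A χ j * w h A χ l =
      ind h τ j l - ind h τ (j % 2) l - ind h τ j (l % 2) + ind h τ (j % 2) (l % 2) := by
  classical
  have hh := ht.h_pos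
  have hζ := he.root
  have hm0 : ((2 * h : ℕ) : ℂ) ≠ 0 := Nat.cast_ne_zero.2 (by omega)
  set R : ℤ → ℕ → ℂ := fun a i => ζ ^ (-((i : ℤ) * a)) - ζ ^ (-((i : ℤ) * (a % 2))) with hR
  have hrest : ∀ (F : ℕ → ℂ), (∀ i ∈ Finset.range (2 * h), h ∣ i → F i = 0) →
      ∑ i ∈ Finset.range (2 * h), F i = ∑ i ∈ mid h, F i := fun F hF =>
    (Finset.sum_subset (Finset.filter_subset (fun i => ¬ h ∣ i) _) (fun i hi hne => hF i hi (by
      by_contra hd; exact hne (Finset.mem_filter.2 ⟨hi, hd⟩)))).symm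
  have hRzero : ∀ (a : ℤ) (i : ℕ), h ∣ i → R a i = 0 := by
    rintro a i ⟨c, rfl⟩
    simp only [hR, sub_eq_zero]
    refine zpow_congr hh hζ ⟨-(c : ℤ) * (a / 2), ?_⟩
    have := Int.emod_add_mul_ediv a 2
    push_cast
    linear_combination ((h : ℤ) * c) * this
  have hinner : ∀ i ∈ mid h, ∀ a : ℤ,
      ∑ k ∈ mid h, (ind h τ (k : ℤ) (i : ℤ) : ℂ) * conj (R a k) =
        conj (R a i) + conj (ζ ^ (-(τ * (i : ℤ) * a)) - ζ ^ (-(τ * (i : ℤ) * (a % 2)))) := by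
    intro i hi a
    set g := ((τ * (i : ℤ)) % (2 * (h : ℤ))).toNat with hgdef
    have h1 : 2 * (h : ℤ) ∣ (g : ℤ) - τ * i := by
      rw [hgdef, Int.toNat_of_nonneg (Int.emod_nonneg _ (by omega))]
      exact ⟨-((τ * i) / (2 * (h : ℤ))), by
        linear_combination Int.emod_add_mul_ediv (τ * (i : ℤ)) (2 * (h : ℤ))⟩
    have hgm : g ∈ mid h := by
      refine Finset.mem_filter.2 ⟨Finset.mem_range.2 ?_, fun hd => ht.mid_mul (mid_int hi) ?_⟩
      · have := Int.emod_lt_of_pos (τ * (i : ℤ)) (show (0 : ℤ) < 2 * (h : ℤ) by omega)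
        omega
      · have h3 := dvd_sub (Int.natCast_dvd_natCast.2 hd) ((dvd_mul_left (h : ℤ) 2).trans h1)
        simpa using h3
    have eind : ∀ k ∈ mid h, (ind h τ (k : ℤ) (i : ℤ) : ℂ) * conj (R a k) =
        (if k = i then conj (R a k) else 0) + if k = g then conj (R a k) else 0 := by
      intro k hk
      have hk' := (mem_mid.1 hk).1
      have hi' := (mem_mid.1 hi).1
      have hg' := (mem_mid.1 hgm).1
      have e1 : (2 * (h : ℤ) ∣ (k : ℤ) - i) ↔ k = i := by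
        refine ⟨fun hd => ?_, fun e => by rw [e, sub_self]; exact dvd_zero _⟩
        have := Int.eq_zero_of_abs_lt_dvd hd (by rw [abs_lt]; constructor <;> omega)
        omega
      have e2 : (2 * (h : ℤ) ∣ (k : ℤ) - τ * i) ↔ k = g := by
        refine ⟨fun hd => ?_, fun e => by rw [e]; exact h1⟩
        have h5 : 2 * (h : ℤ) ∣ (k : ℤ) - g := by
          have := dvd_sub hd h1; convert this using 1 <;> first | rfl | ring
        have := Int.eq_zero_of_abs_lt_dvd h5 (by rw [abs_lt]; constructor <;> omega)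
        omega
      simp only [ind, e1, e2]
      push_cast
      split_ifs <;> ring
    rw [Finset.sum_congr rfl eind, Finset.sum_add_distrib, Finset.sum_ite_eq', Finset.sum_ite_eq',
      if_pos hi, if_pos hgm]
    congr 2
    simp only [hR]
    congr 1 <;> refine zpow_congr hh hζ ?_
    · have := dvd_mul_of_dvd_left h1 a
      obtain ⟨c, hc⟩ := this
      exact ⟨-c, by linear_combination -hc⟩
    · have := dvd_mul_of_dvd_left h1 (a % 2)
      obtain ⟨c, hc⟩ := this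
      exact ⟨-c, by linear_combination -hc⟩
  have hbig : ((2 * h : ℕ) : ℂ) * ((2 * h : ℕ) : ℂ) * ((∑ χ ∈ T, w h A χ j * w h A χ l : ℤ) : ℂ) =
      ((2 * h : ℕ) : ℂ) * ∑ i ∈ mid h, R j i *
        (conj (R l i) + conj (ζ ^ (-(τ * (i : ℤ) * l)) - ζ ^ (-(τ * (i : ℤ) * (l % 2))))) := by
    have e : ∀ χ, ((2 * h : ℕ) : ℂ) * ((2 * h : ℕ) : ℂ) * ((w h A χ j : ℂ) * (w h A χ l : ℂ)) =
        (∑ i ∈ mid h, Ψ χ (i : ℤ) * R j i) * conj (∑ k ∈ mid h, Ψ χ (k : ℤ) * R l k) := by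
      intro χ
      simp only [hR, ← m_mul_w hh he, map_mul, map_natCast, map_intCast]
      ring
    push_cast [Finset.mul_sum]
    push_cast at e
    rw [Finset.sum_congr rfl fun χ _ => e χ]
    simp only [map_sum, map_mul, Finset.sum_mul_sum]
    rw [Finset.sum_comm]
    refine Finset.sum_congr rfl fun i hi => ?_
    rw [← hinner i hi l, Finset.sum_comm]
    simp only [Finset.mul_sum]
    refine Finset.sum_congr rfl fun k hk => ?_
    calc ∑ χ ∈ T, Ψ χ (i : ℤ) * R j i * (conj (Ψ χ (k : ℤ)) * conj (R l k))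
        = (∑ χ ∈ T, Ψ χ (i : ℤ) * conj (Ψ χ (k : ℤ))) * R j i * conj (R l k) := by
          rw [Finset.sum_mul, Finset.sum_mul]
          exact Finset.sum_congr rfl fun χ _ => by ring
      _ = _ := by rw [hg i hi k hk]; push_cast; ring
  have hterm : ∀ i : ℕ, R j i *
      (conj (R l i) + conj (ζ ^ (-(τ * (i : ℤ) * l)) - ζ ^ (-(τ * (i : ℤ) * (l % 2))))) =
      ((ζ ^ ((i : ℤ) * (l - j)) + ζ ^ ((i : ℤ) * (τ * l - j))) -
        (ζ ^ ((i : ℤ) * (l % 2 - j)) + ζ ^ ((i : ℤ) * (τ * (l % 2) - j))) -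
        (ζ ^ ((i : ℤ) * (l - j % 2)) + ζ ^ ((i : ℤ) * (τ * l - j % 2)))) +
        (ζ ^ ((i : ℤ) * (l % 2 - j % 2)) + ζ ^ ((i : ℤ) * (τ * (l % 2) - j % 2))) := by
    intro i
    simp only [hR, map_sub, conj_zeta hh hζ, neg_neg]
    rw [show ∀ a b : ℤ, ζ ^ ((i : ℤ) * (a - b)) = ζ ^ ((i : ℤ) * a) * ζ ^ (-((i : ℤ) * b)) from
      fun a b => by rw [← zpow_add₀ (zeta_ne_zero hh hζ)]; ring_nf]
    simp only [show ∀ a b : ℤ, ζ ^ ((i : ℤ) * (a - b)) = ζ ^ ((i : ℤ) * a) * ζ ^ (-((i : ℤ) * b)) from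
      fun a b => by rw [← zpow_add₀ (zeta_ne_zero hh hζ)]; ring_nf,
      show ∀ a : ℤ, τ * (i : ℤ) * a = (i : ℤ) * (τ * a) from fun a => by ring]
    ring
  rw [← hrest _ (fun i _ hd => by rw [hRzero j i hd, zero_mul]),
    Finset.sum_congr rfl fun i _ => hterm i] at hbig
  simp only [Finset.sum_add_distrib, Finset.sum_sub_distrib, geom hh hζ] at hbig
  have hflip : ∀ a b : ℤ, (if 2 * (h : ℤ) ∣ b - a then ((2 * h : ℕ) : ℂ) else 0) =
      ((2 * h : ℕ) : ℂ) * ((if 2 * (h : ℤ) ∣ a - b then (1 : ℤ) else 0 : ℤ) : ℂ) := by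
    intro a b
    simp only [dvd_sub_comm (a := 2 * (h : ℤ)) (b := b) (c := a)]
    split_ifs <;> simp
  simp only [hflip] at hbig
  have e2 : ((∑ χ ∈ T, w h A χ j * w h A χ l : ℤ) : ℂ) =
      ((ind h τ j l - ind h τ (j % 2) l - ind h τ j (l % 2) + ind h τ (j % 2) (l % 2) : ℤ) : ℂ) := by
    refine mul_left_cancel₀ (mul_ne_zero hm0 hm0) ?_
    rw [hbig]
    simp only [ind]
    push_cast
    ring
  exact_mod_cast e2

theorem orth (ht : Twist h q τ) (he : Exp h ζ τ Ψ A) (T : Finset ι) (f : ι → ℂ)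
    (hf : ∀ i ∈ mid h, ∑ χ ∈ T, Ψ χ (i : ℤ) * f χ = 0) (j : ℤ) :
    ∑ χ ∈ T, (w h A χ j : ℂ) * f χ = 0 := by
  classical
  refine mul_left_cancel₀ (a := ((2 * h : ℕ) : ℂ)) (Nat.cast_ne_zero.2 (by have := ht.h_pos; omega)) ?_
  rw [mul_zero, Finset.mul_sum]
  simp only [← mul_assoc, fun χ => m_mul_w ht.h_pos he χ j, Finset.sum_mul]
  rw [Finset.sum_comm]
  refine Finset.sum_eq_zero fun i hi => ?_
  calc ∑ χ ∈ T, Ψ χ (i : ℤ) * (ζ ^ (-((i : ℤ) * j)) - ζ ^ (-((i : ℤ) * (j % 2)))) * f χ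
      = (ζ ^ (-((i : ℤ) * j)) - ζ ^ (-((i : ℤ) * (j % 2)))) * ∑ χ ∈ T, Ψ χ (i : ℤ) * f χ := by
        rw [Finset.mul_sum]; exact Finset.sum_congr rfl fun χ _ => by ring
    _ = 0 := by rw [hf i hi, mul_zero]

/-- The even family. -/
def E (h : ℕ) (A : ι → ℕ → ℕ) (t : ℕ) (χ : ι) : ℤ := w h A χ (2 * (t : ℤ))

/-- The odd family. -/
def O (h : ℕ) (A : ι → ℕ → ℕ) (t : ℕ) (χ : ι) : ℤ := w h A χ (4 * (t : ℤ) + 1)

/-- Every index is in the orbit of one of the representatives. -/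
theorem orbit (ht : Twist h q τ) (j : ℤ) :
    (∃ t : ℕ, t ≤ q ∧ (2 * (h : ℤ) ∣ j - 2 * t ∨ 2 * (h : ℤ) ∣ j - τ * (2 * t))) ∨
      ∃ t : ℕ, t < q ∧ (2 * (h : ℤ) ∣ j - (4 * t + 1) ∨ 2 * (h : ℤ) ∣ j - τ * (4 * t + 1)) := by
  have hh := ht.h_pos
  have hq := ht.hq
  obtain ⟨r, hr, hjr⟩ : ∃ r : ℤ, (0 ≤ r ∧ r < 2 * (h : ℤ)) ∧ 2 * (h : ℤ) ∣ j - r :=
    ⟨j % (2 * (h : ℤ)), ⟨Int.emod_nonneg _ (by omega), Int.emod_lt_of_pos _ (by omega)⟩,
      j / (2 * (h : ℤ)), by linear_combination (-1 : ℤ) * Int.emod_add_mul_ediv j (2 * (h : ℤ))⟩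
  have htr : ∀ b : ℤ, 2 * (h : ℤ) ∣ r - b → 2 * (h : ℤ) ∣ j - b := fun b hb => by
    have := dvd_add hjr hb; convert this using 1 <;> first | rfl | ring
  rcases Int.even_or_odd' r with ⟨e, rfl | rfl⟩
  · left
    rcases le_or_gt e (q : ℤ) with hle | hgt
    · exact ⟨e.toNat, by omega, Or.inl (htr _ (by rw [Int.toNat_of_nonneg (by omega), sub_self]; exact dvd_zero _))⟩
    · refine ⟨((h : ℤ) - e).toNat, by omega, Or.inr (htr _ ?_)⟩
      rw [Int.toNat_of_nonneg (by omega)]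
      rcases ht.cases with h' | ⟨h', -⟩ <;> rw [h']
      · exact ⟨1, by ring⟩
      · exact ⟨1 + e - (h : ℤ), by ring⟩
  · right
    rcases Int.even_or_odd' e with ⟨f, rfl | rfl⟩
    · exact ⟨f.toNat, by omega, Or.inl (htr _ (by rw [Int.toNat_of_nonneg (by omega)]; exact ⟨0, by ring⟩))⟩
    · have hinv : ∀ b : ℤ, 2 * (h : ℤ) ∣ τ * (2 * (2 * f + 1) + 1) - b →
          2 * (h : ℤ) ∣ (2 * (2 * f + 1) + 1) - τ * b := fun b hb => by
        have := dvd_sub (dvd_mul_of_dvd_right hb τ)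
          (dvd_mul_of_dvd_left ht.sq (2 * (2 * f + 1) + 1))
        convert this using 1 <;> first | rfl | ring
      obtain ⟨c, hc⟩ : ∃ c : ℤ, τ * (2 * (2 * f + 1) + 1) = 4 * c + 1 := by
        rcases ht.cases with h' | ⟨h', g, hg⟩ <;> rw [h']
        · exact ⟨-f - 1, by ring⟩
        · refine ⟨(g : ℤ) * (4 * f + 3) - f - 1, ?_⟩
          rw [hq, hg]; push_cast; ring
      refine ⟨(c % (q : ℤ)).toNat, ?_, Or.inr (htr _ (hinv _ ?_))⟩
      · have := Int.emod_lt_of_pos c (show (0 : ℤ) < q by have := ht.q_pos; omega)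
        have := ht.q_pos
        omega
      · rw [Int.toNat_of_nonneg (Int.emod_nonneg _ (by have := ht.q_pos; omega)), hc]
        refine ⟨c / (q : ℤ), ?_⟩
        rw [hq]; push_cast
        linear_combination (-4 : ℤ) * Int.emod_add_mul_ediv c (q : ℤ)

/-- A character outside the supports has all vectors zero. -/
theorem w_eq_zero (ht : Twist h q τ) (he : Exp h ζ τ Ψ A) (χ : ι)
    (hE : ∀ t, 1 ≤ t → t ≤ q → E h A t χ = 0) (hO : ∀ t, 1 ≤ t → t < q → O h A t χ = 0) (j : ℤ) :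
    w h A χ j = 0 := by
  rcases orbit ht j with ⟨t, htq, hd⟩ | ⟨t, htq, hd⟩
  · have h0 : w h A χ (2 * (t : ℤ)) = 0 := by
      rcases Nat.eq_zero_or_pos t with rfl | hp
      · simpa using w_zero A χ
      · exact hE t hp htq
    rcases hd with hd | hd <;> rw [w_congr χ hd]
    · exact h0
    · rw [w_tau ht he]; exact h0
  · have h0 : w h A χ (4 * (t : ℤ) + 1) = 0 := by
      rcases Nat.eq_zero_or_pos t with rfl | hp
      · simpa using w_one ht.h_pos A χ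
      · exact hO t hp htq
    rcases hd with hd | hd <;> rw [w_congr χ hd]
    · exact h0
    · rw [w_tau ht he]; exact h0

theorem ind_even (ht : Twist h q τ) {a b : ℕ} (ha : a ≤ q) (hb : b ≤ q) :
    ind h τ (2 * (a : ℤ)) (2 * (b : ℤ)) =
      (if a = b then 1 else 0) + if (a = q ∧ b = q) ∨ (a = 0 ∧ b = 0) then 1 else 0 := by
  have hh := ht.h_pos
  have hq := ht.hq
  have hq0 := ht.q_pos
  have e1 : (2 * (h : ℤ) ∣ 2 * (a : ℤ) - 2 * b) ↔ a = b := by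
    refine ⟨fun hd => ?_, fun e => by rw [e, sub_self]; exact dvd_zero _⟩
    have := Int.eq_zero_of_abs_lt_dvd hd (by rw [abs_lt]; constructor <;> omega)
    omega
  have e2 : (2 * (h : ℤ) ∣ 2 * (a : ℤ) - τ * (2 * b)) ↔ ((a = q ∧ b = q) ∨ (a = 0 ∧ b = 0)) := by
    have key : (2 * (h : ℤ) ∣ 2 * (a : ℤ) - τ * (2 * b)) ↔ 2 * (h : ℤ) ∣ 2 * ((a : ℤ) + b) := by
      rcases ht.cases with h' | ⟨h', -⟩ <;> rw [h']
      · rw [show 2 * (a : ℤ) - -1 * (2 * b) = 2 * ((a : ℤ) + b) by ring]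
      · rw [show 2 * (a : ℤ) - ((h : ℤ) - 1) * (2 * b) = 2 * ((a : ℤ) + b) - 2 * (h : ℤ) * b by ring,
          dvd_sub_left (dvd_mul_right _ _)]
    rw [key]
    refine ⟨fun hd => ?_, fun e => ?_⟩
    · rw [mul_dvd_mul_iff_left two_ne_zero] at hd
      obtain ⟨c, hc⟩ := hd
      have hc0 : 0 ≤ c := by
        by_contra hneg
        have : (h : ℤ) * c < 0 := mul_neg_of_pos_of_neg (by omega) (by omega)
        omega
      have hc1 : c ≤ 1 := by
        by_contra hbig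
        have : (h : ℤ) * 2 ≤ (h : ℤ) * c := mul_le_mul_of_nonneg_left (by omega) (by omega)
        omega
      rcases (show c = 0 ∨ c = 1 by omega) with rfl | rfl <;> omega
    · rcases e with ⟨rfl, rfl⟩ | ⟨rfl, rfl⟩
      · exact ⟨1, by rw [hq]; push_cast; ring⟩
      · simp
  simp only [ind, e1, e2]

theorem ind_odd (ht : Twist h q τ) {a b : ℕ} (ha : a < q) (hb : b < q) :
    ind h τ (4 * (a : ℤ) + 1) (4 * (b : ℤ) + 1) = if a = b then 1 else 0 := by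
  have hh := ht.h_pos
  have hq := ht.hq
  have e1 : (2 * (h : ℤ) ∣ 4 * (a : ℤ) + 1 - (4 * b + 1)) ↔ a = b := by
    refine ⟨fun hd => ?_, fun e => by rw [e, sub_self]; exact dvd_zero _⟩
    have := Int.eq_zero_of_abs_lt_dvd hd (by rw [abs_lt]; constructor <;> omega)
    omega
  have e2 : ¬ 2 * (h : ℤ) ∣ 4 * (a : ℤ) + 1 - τ * (4 * b + 1) := by
    intro hd
    have h4 : (4 : ℤ) ∣ 4 * (a : ℤ) + 1 - τ * (4 * b + 1) :=
      (show (4 : ℤ) ∣ 2 * (h : ℤ) from ⟨q, by rw [hq]; push_cast; ring⟩).trans hd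
    rcases ht.cases with h' | ⟨h', g, hg⟩ <;> rw [h'] at h4
    · obtain ⟨c, hc⟩ := h4; omega
    · rw [hq, hg] at h4
      obtain ⟨c, hc⟩ := h4
      push_cast at hc
      have : ∃ k : ℤ, 4 * (a : ℤ) + 2 + 4 * k = 4 * c :=
        ⟨(b : ℤ) - (g : ℤ) * (4 * b + 1), by linear_combination hc⟩
      obtain ⟨k, hk⟩ := this
      omega
  simp only [ind, e1, e2, if_false, add_zero]

theorem ind_mixed (ht : Twist h q τ) {a b : ℤ} (hab : ¬ (2 : ℤ) ∣ a - b) : ind h τ a b = 0 := by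
  have e1 : ¬ 2 * (h : ℤ) ∣ a - b := fun hd => hab ((dvd_mul_right 2 _).trans hd)
  have e2 : ¬ 2 * (h : ℤ) ∣ a - τ * b := fun hd => hab (by
    have h1 := (dvd_mul_right (2 : ℤ) _).trans hd
    have := dvd_add h1 (dvd_mul_of_dvd_left ht.odd b)
    convert this using 1 <;> first | rfl | ring)
  simp only [ind, e1, e2, if_false, add_zero]

variable {T : Finset ι}

theorem gram_E (ht : Twist h q τ) (he : Exp h ζ τ Ψ A)
    (hg : ∀ i ∈ mid h, ∀ k ∈ mid h, ∑ χ ∈ T, Ψ χ (i : ℤ) * conj (Ψ χ (k : ℤ)) =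
      ((2 * h : ℕ) : ℂ) * (ind h τ (k : ℤ) (i : ℤ) : ℂ))
    {a b : ℕ} (ha0 : 1 ≤ a) (ha : a ≤ q) (hb0 : 1 ≤ b) (hb : b ≤ q) :
    ∑ χ ∈ T, E h A a χ * E h A b χ =
      2 + (if a = b then 1 else 0) + if a = q ∧ b = q then 1 else 0 := by
  simp only [E]
  rw [gram ht he T hg, show (2 * (a : ℤ)) % 2 = 2 * ((0 : ℕ) : ℤ) by omega,
    show (2 * (b : ℤ)) % 2 = 2 * ((0 : ℕ) : ℤ) by omega, ind_even ht ha hb,
    ind_even ht (Nat.zero_le _) hb, ind_even ht ha (Nat.zero_le _),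
    ind_even ht (Nat.zero_le _) (Nat.zero_le _)]
  have := ht.q_pos
  split_ifs <;> omega

theorem gram_O (ht : Twist h q τ) (he : Exp h ζ τ Ψ A)
    (hg : ∀ i ∈ mid h, ∀ k ∈ mid h, ∑ χ ∈ T, Ψ χ (i : ℤ) * conj (Ψ χ (k : ℤ)) =
      ((2 * h : ℕ) : ℂ) * (ind h τ (k : ℤ) (i : ℤ) : ℂ))
    {a b : ℕ} (ha0 : 1 ≤ a) (ha : a < q) (hb0 : 1 ≤ b) (hb : b < q) :
    ∑ χ ∈ T, O h A a χ * O h A b χ = 1 + if a = b then 1 else 0 := by
  simp only [O]
  rw [gram ht he T hg, show (4 * (a : ℤ) + 1) % 2 = 4 * ((0 : ℕ) : ℤ) + 1 by omega,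
    show (4 * (b : ℤ) + 1) % 2 = 4 * ((0 : ℕ) : ℤ) + 1 by omega, ind_odd ht ha hb,
    ind_odd ht ht.q_pos hb, ind_odd ht ha ht.q_pos, ind_odd ht ht.q_pos ht.q_pos]
  split_ifs <;> omega

theorem gram_EO (ht : Twist h q τ) (he : Exp h ζ τ Ψ A)
    (hg : ∀ i ∈ mid h, ∀ k ∈ mid h, ∑ χ ∈ T, Ψ χ (i : ℤ) * conj (Ψ χ (k : ℤ)) =
      ((2 * h : ℕ) : ℂ) * (ind h τ (k : ℤ) (i : ℤ) : ℂ))
    (a b : ℕ) : ∑ χ ∈ T, E h A a χ * O h A b χ = 0 := by
  simp only [E, O]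
  rw [gram ht he T hg, ind_mixed ht (by omega), ind_mixed ht (by omega), ind_mixed ht (by omega),
    ind_mixed ht (by omega)]
  ring

/-- Two times a pair is not divisible by two. -/
theorem exists_pair_unit (ht : Twist h q τ) (hζ : IsPrimitiveRoot ζ (2 * h)) {j : ℤ}
    (hj : (∃ t : ℕ, 1 ≤ t ∧ t < q ∧ j = 2 * t) ∨ (2 ≤ q ∧ ∃ t : ℤ, j = 4 * t + 1)) :
    ∃ i : ℤ, ¬ (h : ℤ) ∣ i ∧ ((ζ ^ (i * j) + ζ ^ (i * (τ * j))) ^ 2 = 4 ∨
      (ζ ^ (i * j) + ζ ^ (i * (τ * j))) ^ 2 = 2 ∨ (ζ ^ (i * j) + ζ ^ (i * (τ * j))) ^ 2 = -2) := by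
  have hh := ht.h_pos
  have hq := ht.hq
  have h0 := zeta_ne_zero hh hζ
  have hneg := zeta_pow_h hh hζ
  obtain ⟨s, hs⟩ := ht.qpow
  rcases hj with ⟨t, ht1, htq, rfl⟩ | ⟨hq2, t, rfl⟩
  · obtain ⟨a, o, ho, hto⟩ := Nat.exists_eq_two_pow_mul_odd (by omega : t ≠ 0)
    have ha : a < s := by
      by_contra hle
      have : 2 ^ s ≤ 2 ^ a * o := le_trans (Nat.pow_le_pow_right two_pos (by omega))
        (Nat.le_mul_of_pos_right _ ho.pos)
      omega
    refine ⟨((2 ^ (s - a) : ℕ) : ℤ), fun hd => ?_, Or.inl ?_⟩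
    · have hd' : h ∣ 2 ^ (s - a) := by exact_mod_cast hd
      have h1 := Nat.le_of_dvd (by positivity) hd'
      have : 2 ^ (s - a) ≤ 2 ^ s := Nat.pow_le_pow_right two_pos (by omega)
      omega
    · obtain ⟨k, rfl⟩ := ho
      have hit : ((2 ^ (s - a) : ℕ) : ℤ) * (2 * (t : ℤ)) = (h : ℤ) * (2 * (k : ℤ) + 1) := by
        have e : 2 ^ (s - a) * (2 * t) = h * (2 * k + 1) := by
          rw [hto, hq, hs]
          calc 2 ^ (s - a) * (2 * (2 ^ a * (2 * k + 1))) = 2 ^ (s - a) * 2 ^ a * 2 * (2 * k + 1) := by ring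
            _ = _ := by rw [← pow_add, Nat.sub_add_cancel ha.le]; ring
        exact_mod_cast e
      have h1 : ζ ^ (((2 ^ (s - a) : ℕ) : ℤ) * (2 * (t : ℤ))) = -1 := by
        rw [hit, zpow_congr hh hζ (b := (h : ℤ)) ⟨k, by ring⟩, hneg]
      have h2 : ζ ^ (((2 ^ (s - a) : ℕ) : ℤ) * (τ * (2 * (t : ℤ)))) = -1 := by
        rw [show ((2 ^ (s - a) : ℕ) : ℤ) * (τ * (2 * (t : ℤ))) =
          τ * (((2 ^ (s - a) : ℕ) : ℤ) * (2 * (t : ℤ))) by ring, hit]
        obtain ⟨c, hc⟩ := ht.odd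
        rw [zpow_congr hh hζ (b := (h : ℤ)) ⟨c * (2 * (k : ℤ) + 1) + k, by linear_combination (h : ℤ) * (2 * (k : ℤ) + 1) * hc⟩, hneg]
      rw [h1, h2]; norm_num
  · obtain ⟨s', rfl⟩ : ∃ s', s = s' + 1 := by
      rcases s with _ | s'
      · omega
      · exact ⟨s', rfl⟩
    rw [pow_succ] at hs
    refine ⟨((2 ^ s' : ℕ) : ℤ), fun hd => ?_, ?_⟩
    · have hd' : h ∣ 2 ^ s' := by exact_mod_cast hd
      have h1 := Nat.le_of_dvd (by positivity) hd'
      have : 0 < 2 ^ s' := by positivity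
      omega
    set i : ℤ := ((2 ^ s' : ℕ) : ℤ) with hi
    have h4i : (h : ℤ) = 4 * i := by rw [hi, hq, hs]; push_cast; ring
    set c := ζ ^ (i * (4 * t + 1)) with hc
    have hc4 : c ^ 4 = -1 := by
      rw [hc, ← zpow_natCast, ← zpow_mul, zpow_congr hh hζ (b := (h : ℤ))
        ⟨2 * t, by rw [h4i]; push_cast; ring⟩, hneg]
    have hc0 : c ≠ 0 := zpow_ne_zero _ h0
    rcases ht.cases with h' | ⟨h', -⟩
    · right; left
      rw [h', show i * (-1 * (4 * t + 1)) = -(i * (4 * t + 1)) by ring, zpow_neg, ← hc]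
      field_simp
      linear_combination hc4
    · have e : ζ ^ (i * (τ * (4 * t + 1))) = (ζ ^ (h : ℤ)) ^ (i * (4 * t + 1)) * c⁻¹ := by
        rw [hc, ← zpow_mul, ← zpow_neg, ← zpow_add₀ h0, h']
        congr 1; ring
      rw [e, hneg]
      rcases Int.even_or_odd (i * (4 * t + 1)) with hp | hp
      · right; left
        rw [hp.neg_one_zpow, one_mul]
        field_simp
        linear_combination hc4
      · right; right
        rw [hp.neg_one_zpow, neg_one_mul]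
        field_simp
        linear_combination hc4

end Cfsg.Agent.SDQFourier
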