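/-
Semidihedral and generalised quaternion subgroups, uniformly: a cyclic part and a twist.
-/
import Cfsg.Agent.Lib.BrauerPairs.DihedralFusion
import Cfsg.Agent.Lib.TwoGroups.QuasiDihedral

set_option linter.unusedSectionVars false
set_option linter.style.haveILetI false

namespace Cfsg.Agent.SDQ

open Cfsg Cfsg.Agent.Star Cfsg.Agent.BrauerPairs Cfsg.Agent.TwoFus

universe u

variable {G : Type u} [Group G] [Fintype G]

/-- A semidihedral or generalised quaternion subgroup. -/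
structure Data (D : Subgroup G) where
  h : ℕ
  q : ℕ
  τ : ℤ
  x : G
  y : G
  hq : h = 2 * q
  q_pow : ∃ s, q = 2 ^ s
  hxo : orderOf x = 2 * h
  hx : x ∈ D
  hy : y ∈ D
  conj : y * x * y⁻¹ = x ^ τ
  ynot : y ∉ Subgroup.zpowers x
  card : Nat.card D = 2 * (2 * h)
  cases : ∀ a ∈ D, (∃ i : ℤ, a = x ^ i) ∨ ∃ i : ℤ, a = x ^ i * y
  kind : (τ = -1 ∧ y * y = x ^ (h : ℤ)) ∨ (τ = (h : ℤ) - 1 ∧ y * y = 1 ∧ 2 ∣ q)

theorem exists_of_quaternion {D : Subgroup G} {k s : ℕ} (hk : k = 2 * 2 ^ s)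
    (e : D ≃* QuaternionGroup k) : ∃ d : Data D, d.h = k ∧ d.τ = -1 := by
  haveI : NeZero k := ⟨by rw [hk]; positivity⟩
  set f : QuaternionGroup k →* G := D.subtype.comp e.symm.toMonoidHom with hf
  have inj : Function.Injective f := Subtype.val_injective.comp e.symm.injective
  have hpow : ∀ i : ZMod (2 * k), f (.a i) = f (.a 1) ^ (i.val : ℤ) := fun i => by
    rw [zpow_natCast, ← map_pow, QuaternionGroup.a_one_pow, ZMod.natCast_zmod_val]
  refine ⟨⟨k, 2 ^ s, -1, f (.a 1), f (.xa 0), hk, ⟨s, rfl⟩, ?_, (e.symm _).2, (e.symm _).2, ?_, ?_,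
    ?_, ?_, Or.inl ⟨rfl, ?_⟩⟩, rfl, rfl⟩
  · rw [orderOf_injective f inj, QuaternionGroup.orderOf_a_one]
  · rw [zpow_neg_one, ← map_inv, ← map_inv, ← map_mul, ← map_mul]
    congr 1
    rw [mul_inv_eq_iff_eq_mul,
      show (QuaternionGroup.a 1 : QuaternionGroup k)⁻¹ = .a (-1) from
        inv_eq_of_mul_eq_one_right (by
        rw [QuaternionGroup.a_mul_a, add_neg_cancel, QuaternionGroup.one_def])]
    rw [QuaternionGroup.xa_mul_a, QuaternionGroup.a_mul_xa]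
    congr 1
    ring
  · intro hy
    obtain ⟨n, hn⟩ := mem_powers_iff_mem_zpowers.mpr hy
    have h2 := inj ((map_pow f _ n).trans hn)
    rw [QuaternionGroup.a_one_pow] at h2
    exact absurd h2 (by simp)
  · rw [Nat.card_congr e.toEquiv, Nat.card_eq_fintype_card, QuaternionGroup.card]
    ring
  · intro a ha
    have he : a = f (e ⟨a, ha⟩) := by simp [f]
    rcases hi : e ⟨a, ha⟩ with i | i
    · exact Or.inl ⟨i.val, by rw [he, hi, hpow]⟩
    · exact Or.inr ⟨(-i).val, by rw [he, hi, ← hpow, ← map_mul, QuaternionGroup.a_mul_xa]; simp⟩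
  · rw [← map_mul, QuaternionGroup.xa_mul_xa, zpow_natCast, ← map_pow, QuaternionGroup.a_one_pow]
    simp

theorem exists_of_quasiDihedral {D : Subgroup G} {n : ℕ} (hn : 4 ≤ n)
    (hcard : Nat.card D = 2 ^ n) (hsd : IsQuasiDihedral D) :
    ∃ d : Data D, d.h = 2 ^ (n - 2) ∧ d.τ = (d.h : ℤ) - 1 := by
  obtain ⟨P, hP⟩ := QD.exists_pres_card hsd (n := n - 1)
    (by rw [hcard]; congr 1; omega)
  have hh : 2 ^ (n - 2) = 2 * 2 ^ (P.p + 1) := by
    rw [← pow_succ']; congr 1; omega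
  refine ⟨⟨2 ^ (n - 2), 2 ^ (P.p + 1), ((2 ^ (n - 2) : ℕ) : ℤ) - 1, (P.x : G), (P.y : G), hh,
    ⟨_, rfl⟩, ?_, P.x.2, P.y.2, ?_, ?_, ?_, ?_, Or.inr ⟨rfl, ?_, dvd_pow_self 2 (by omega)⟩⟩,
    rfl, rfl⟩
  · rw [Subgroup.orderOf_coe, P.hx, hh, ← pow_succ', ← pow_succ']
  · have h1 := congrArg Subtype.val P.hconj
    push_cast at h1
    rw [h1, show ((2 ^ (n - 2) : ℕ) : ℤ) - 1 = ((2 ^ (P.p + 2) - 1 : ℕ) : ℤ) by
      rw [Nat.cast_sub Nat.one_le_two_pow, hh, ← pow_succ']; norm_num, zpow_natCast]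
  · intro hy
    obtain ⟨i, hi⟩ := Subgroup.mem_zpowers_iff.1 hy
    exact P.y_not_mem ⟨i, Subtype.ext (by push_cast; exact hi)⟩
  · rw [P.hcard, hh, ← pow_succ', ← pow_succ', ← pow_succ']
  · intro a ha
    rcases P.cases ⟨a, ha⟩ with ⟨i, hi⟩ | ⟨i, hi⟩
    · exact Or.inl ⟨i, by simpa using congrArg Subtype.val hi⟩
    · exact Or.inr ⟨i, by simpa using congrArg Subtype.val hi⟩
  · simpa using congrArg Subtype.val P.yy

namespace Data

variable {D : Subgroup G} (d : Data D)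

theorem q_pos : 0 < d.q := by
  obtain ⟨s, hs⟩ := d.q_pow
  rw [hs]; positivity

theorem h_pos : 0 < d.h := by have := d.q_pos; have := d.hq; omega

theorem h_pow : ∃ s, d.h = 2 ^ s := by
  obtain ⟨s, hs⟩ := d.q_pow
  exact ⟨s + 1, by rw [d.hq, hs, pow_succ']⟩

theorem zpow_eq_one (i : ℤ) : d.x ^ i = 1 ↔ 2 * (d.h : ℤ) ∣ i := by
  rw [← orderOf_dvd_iff_zpow_eq_one, d.hxo]
  push_cast; rfl

theorem zpow_eq (i j : ℤ) : d.x ^ i = d.x ^ j ↔ 2 * (d.h : ℤ) ∣ i - j := by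
  rw [← d.zpow_eq_one, zpow_sub, mul_inv_eq_one]

/-- The central involution. -/
def z : G := d.x ^ (d.h : ℤ)

theorem z_mem : d.z ∈ D := zpow_mem d.hx _

theorem z_ne : d.z ≠ 1 := fun h => by
  rw [z, d.zpow_eq_one] at h
  have := d.h_pos
  have := Int.le_of_dvd (by omega) h
  omega

theorem zz : d.z * d.z = 1 := by
  rw [z, ← zpow_add, d.zpow_eq_one]
  exact ⟨1, by ring⟩

theorem orderOf_z : orderOf d.z = 2 :=
  orderOf_eq_prime (by rw [pow_two, d.zz]) d.z_ne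

theorem τ_cases : d.τ = -1 ∨ (d.τ = (d.h : ℤ) - 1 ∧ 2 ∣ d.q) := by
  rcases d.kind with ⟨h, -⟩ | ⟨h, -, hq⟩
  · exact Or.inl h
  · exact Or.inr ⟨h, hq⟩

theorem τ_sq : 2 * (d.h : ℤ) ∣ d.τ * d.τ - 1 := by
  rcases d.τ_cases with h | ⟨h, -⟩ <;> rw [h]
  · simp
  · refine ⟨(d.q : ℤ) - 1, ?_⟩
    rw [d.hq]; push_cast; ring

theorem swap (i : ℤ) : d.y * d.x ^ i = d.x ^ (d.τ * i) * d.y := by
  rw [← mul_inv_eq_iff_eq_mul, ← conj_zpow, d.conj, ← zpow_mul]

theorem form_conj_pow (j i : ℤ) :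
    d.x ^ j * d.y * d.x ^ i * (d.x ^ j * d.y)⁻¹ = d.x ^ (d.τ * i) := by
  calc d.x ^ j * d.y * d.x ^ i * (d.x ^ j * d.y)⁻¹
      = d.x ^ j * (d.y * d.x ^ i * d.y⁻¹) * (d.x ^ j)⁻¹ := by group
    _ = d.x ^ (d.τ * i) := by
      rw [d.swap, mul_inv_cancel_right, ← zpow_neg, ← zpow_add, ← zpow_add]
      congr 1; ring

theorem τ_fix (i : ℤ) : d.x ^ (d.τ * i) = d.x ^ i ↔ (d.h : ℤ) ∣ i := by
  rw [d.zpow_eq]
  rcases d.τ_cases with h | ⟨h, hq⟩ <;> rw [h]
  · rw [show -1 * i - i = 2 * -i by ring, mul_dvd_mul_iff_left two_ne_zero, dvd_neg]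
  · rw [show ((d.h : ℤ) - 1) * i - i = 2 * (((d.q : ℤ) - 1) * i) by rw [d.hq]; push_cast; ring,
      mul_dvd_mul_iff_left two_ne_zero]
    refine ⟨fun hd => ?_, fun hd => dvd_mul_of_dvd_right hd _⟩
    refine IsCoprime.dvd_of_dvd_mul_left ?_ hd
    obtain ⟨s, hs⟩ := d.h_pow
    rw [hs]; push_cast
    refine IsCoprime.pow_left ((Int.prime_two.coprime_iff_not_dvd).2 ?_)
    intro h2
    obtain ⟨e, he⟩ := hq
    rw [he] at h2; push_cast at h2
    omega

theorem z_comm {a : G} (ha : a ∈ D) : a * d.z = d.z * a := by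
  rcases d.cases a ha with ⟨i, rfl⟩ | ⟨i, rfl⟩
  · exact (Commute.zpow_zpow_self d.x i _).eq
  · have e := (d.τ_fix (d.h : ℤ)).2 dvd_rfl
    have h2 := d.form_conj_pow i (d.h : ℤ)
    rw [e] at h2
    exact mul_inv_eq_iff_eq_mul.1 h2

theorem form_not_mem (i : ℤ) : d.x ^ i * d.y ∉ Subgroup.zpowers d.x := fun h =>
  d.ynot ((Subgroup.mul_mem_cancel_left _ (zpow_mem (Subgroup.mem_zpowers d.x) i)).mp h)

theorem cases' {a : G} (ha : a ∈ D) (hax : a ∉ Subgroup.zpowers d.x) :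
    ∃ i : ℤ, a = d.x ^ i * d.y := by
  rcases d.cases a ha with ⟨i, rfl⟩ | h
  · exact absurd (zpow_mem (Subgroup.mem_zpowers d.x) i) hax
  · exact h

theorem y_sq : d.y * d.y = 1 ∨ d.y * d.y = d.z := by
  rcases d.kind with ⟨-, h⟩ | ⟨-, h, -⟩
  · exact Or.inr h
  · exact Or.inl h

theorem form_sq (i : ℤ) :
    d.x ^ i * d.y * (d.x ^ i * d.y) = d.x ^ (i * (1 + d.τ)) * (d.y * d.y) := by
  calc d.x ^ i * d.y * (d.x ^ i * d.y) = d.x ^ i * (d.y * d.x ^ i) * d.y := by simp only [mul_assoc]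
    _ = _ := by
      rw [d.swap, ← mul_assoc, ← zpow_add, mul_assoc]
      congr 2; ring

theorem out_sq {a : G} (ha : a ∈ D) (hax : a ∉ Subgroup.zpowers d.x) :
    a * a = 1 ∨ a * a = d.z := by
  obtain ⟨i, rfl⟩ := d.cases' ha hax
  rw [d.form_sq]
  rcases d.kind with ⟨h, h'⟩ | ⟨h, h', -⟩ <;> rw [h, h']
  · right; rw [show i * (1 + -1) = (0 : ℤ) by ring, zpow_zero, one_mul]; rfl
  · rw [mul_one, show i * (1 + ((d.h : ℤ) - 1)) = i * d.h by ring]
    rcases Int.even_or_odd' i with ⟨e, rfl | rfl⟩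
    · left; rw [d.zpow_eq_one]; exact ⟨e, by ring⟩
    · right; rw [z, d.zpow_eq]; exact ⟨e, by ring⟩

theorem cent_cyclic {i : ℤ} (hi : ¬ (d.h : ℤ) ∣ i) : D ⊓ secC (d.x ^ i) = Subgroup.zpowers d.x := by
  refine le_antisymm (fun g hg => ?_) (le_inf (Subgroup.zpowers_le.2 d.hx)
    (Subgroup.zpowers_le.2 (mem_secC.2 (Commute.self_zpow d.x i).eq)))
  by_contra hgx
  obtain ⟨j, rfl⟩ := d.cases' hg.1 hgx
  refine hi ((d.τ_fix i).1 ?_)
  rw [← d.form_conj_pow j i, mul_inv_eq_iff_eq_mul]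
  exact mem_secC.1 hg.2

theorem card_cent_cyclic {i : ℤ} (hi : ¬ (d.h : ℤ) ∣ i) :
    Nat.card (D ⊓ secC (d.x ^ i) : Subgroup G) = 2 * d.h := by
  rw [d.cent_cyclic hi, Nat.card_zpowers, d.hxo]

theorem card_cent_out {u : G} (hu : u ∈ D) (hux : u ∉ Subgroup.zpowers d.x) :
    Nat.card (D ⊓ secC u : Subgroup G) = 4 := by
  classical
  have key : ∀ {v : G}, v ∈ Subgroup.zpowers d.x → v * u = u * v → v = 1 ∨ v = d.z := by
    intro v hv hvu
    obtain ⟨j, rfl⟩ := Subgroup.mem_zpowers_iff.1 hv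
    obtain ⟨i, rfl⟩ := d.cases' hu hux
    have h1 := d.form_conj_pow i j
    rw [← hvu, mul_inv_cancel_right] at h1
    obtain ⟨c, rfl⟩ := (d.τ_fix j).1 h1.symm
    rcases Int.even_or_odd' c with ⟨e, rfl | rfl⟩
    · left; rw [d.zpow_eq_one]; exact ⟨e, by ring⟩
    · right; rw [z, d.zpow_eq]; exact ⟨e, by ring⟩
  have hset : ∀ g : G, g ∈ D ⊓ secC u ↔ g ∈ ({1, d.z, u, d.z * u} : Finset G) := by
    intro g
    simp only [Finset.mem_insert, Finset.mem_singleton]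
    constructor
    · rintro ⟨hg, hgu⟩
      have hgu' : g * u = u * g := mem_secC.1 hgu
      by_cases hgx : g ∈ Subgroup.zpowers d.x
      · rcases key hgx hgu' with e | e
        · exact Or.inl e
        · exact Or.inr (Or.inl e)
      · obtain ⟨a, rfl⟩ := d.cases' hg hgx
        obtain ⟨b, rfl⟩ := d.cases' hu hux
        have hv : d.x ^ a * d.y * (d.x ^ b * d.y)⁻¹ = d.x ^ (a - b) := by
          rw [mul_inv_rev, ← mul_assoc, mul_inv_cancel_right, ← zpow_neg, ← zpow_add]; ring_nf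
        have hc : Commute (d.x ^ a * d.y * (d.x ^ b * d.y)⁻¹) (d.x ^ b * d.y) :=
          (show Commute _ _ from hgu').mul_left (Commute.refl _).inv_left
        rcases key (hv ▸ zpow_mem (Subgroup.mem_zpowers d.x) _) hc.eq with e | e
        · exact Or.inr (Or.inr (Or.inl (mul_inv_eq_one.1 e)))
        · exact Or.inr (Or.inr (Or.inr (mul_inv_eq_iff_eq_mul.1 e)))
    · have hzu : d.z * u = u * d.z := (d.z_comm hu).symm
      rintro (rfl | rfl | rfl | rfl)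
      · exact one_mem _
      · exact ⟨d.z_mem, mem_secC.2 hzu⟩
      · exact ⟨hu, mem_secC.2 rfl⟩
      · exact mul_mem (show d.z ∈ D ⊓ secC u from ⟨d.z_mem, mem_secC.2 hzu⟩) ⟨hu, mem_secC.2 rfl⟩
  rw [show Nat.card (D ⊓ secC u : Subgroup G) = ({1, d.z, u, d.z * u} : Finset G).card by
    rw [Nat.card_eq_fintype_card]; exact Fintype.card_of_subtype _ fun g => (hset g).symm]
  have h1 : u ≠ 1 := fun e => hux (e ▸ one_mem _)
  have h2 : u ≠ d.z := fun e => hux (e ▸ zpow_mem (Subgroup.mem_zpowers d.x) _)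
  rw [Finset.card_insert_of_notMem, Finset.card_insert_of_notMem, Finset.card_pair]
  · exact fun e => d.z_ne (mul_eq_right.1 e.symm)
  · simp only [Finset.mem_insert, Finset.mem_singleton, not_or]
    exact ⟨h2.symm, fun e => h1 (left_eq_mul.1 e)⟩
  · simp only [Finset.mem_insert, Finset.mem_singleton, not_or]
    refine ⟨d.z_ne.symm, h1.symm, fun e => h2 ?_⟩
    exact mul_left_cancel (a := d.z) (e.symm.trans d.zz.symm)

/-- The two classes outside the cyclic part. -/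
theorem out_classes {u : G} (hu : u ∈ D) (hux : u ∉ Subgroup.zpowers d.x) :
    ∃ k : ℤ, ∃ v ∈ ({d.y, d.x * d.y} : Set G), d.x ^ k * u * (d.x ^ k)⁻¹ = v := by
  obtain ⟨i, rfl⟩ := d.cases' hu hux
  have hconj : ∀ k : ℤ, d.x ^ k * (d.x ^ i * d.y) * (d.x ^ k)⁻¹ =
      d.x ^ (i + k * (1 - d.τ)) * d.y := by
    intro k
    rw [← zpow_neg, mul_assoc (d.x ^ k), mul_assoc (d.x ^ i), d.swap, ← mul_assoc, ← mul_assoc,
      ← zpow_add, ← zpow_add]
    ring_nf
  have hsolve : ∀ e : ℤ, ∃ k : ℤ, 2 * (d.h : ℤ) ∣ k * (1 - d.τ) - 2 * e := by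
    intro e
    rcases d.τ_cases with h | ⟨h, hq⟩ <;> rw [h]
    · exact ⟨e, by ring_nf; exact dvd_zero _⟩
    · obtain ⟨f, hf⟩ := hq
      refine ⟨e * (1 + (d.q : ℤ)), -(e * (f : ℤ)), ?_⟩
      rw [d.hq, hf]; push_cast; ring
  rcases Int.even_or_odd' i with ⟨e, rfl | rfl⟩
  · obtain ⟨k, hk⟩ := hsolve (-e)
    refine ⟨k, d.y, Or.inl rfl, ?_⟩
    rw [hconj, (d.zpow_eq_one _).2 (by convert hk using 1; ring), one_mul]
  · obtain ⟨k, hk⟩ := hsolve (-e)
    refine ⟨k, d.x * d.y, Or.inr rfl, ?_⟩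
    rw [hconj]
    congr 1
    conv_rhs => rw [← zpow_one d.x]
    rw [d.zpow_eq]
    convert hk using 1; ring

theorem y_out : d.y ∉ Subgroup.zpowers d.x := d.ynot

theorem xy_out : d.x * d.y ∉ Subgroup.zpowers d.x := by
  have := d.form_not_mem 1
  rwa [zpow_one] at this

end Data

/-- An odd element fixing a nontrivial element of a small group normalises only trivially. -/
theorem fix_small {R : Subgroup G} (hR : Nat.card R ≤ 4) {u : G} (huR : u ∈ R) (hu1 : u ≠ 1)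
    {s : ℕ} (hus : orderOf u = 2 ^ s) (hR2 : 2 ∣ Nat.card R) {Q : Subgroup G} (hQ : Q ≤ R) {g : G}
    (hg : g ∈ Subgroup.normalizer (Q : Set G)) (hodd : ¬ 2 ∣ orderOf g)
    (hfix : g * u * g⁻¹ = u) : g ∈ Subgroup.centralizer (Q : Set G) := by
  refine Subgroup.mem_centralizer_iff.2 fun r hr => ?_
  suffices e : g * r * g⁻¹ = r by exact (mul_inv_eq_iff_eq_mul.1 e).symm
  have hpowfix : ∀ v ∈ Subgroup.zpowers u, g * v * g⁻¹ = v := by
    intro v hv
    obtain ⟨j, rfl⟩ := Subgroup.mem_zpowers_iff.1 hv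
    rw [← conj_zpow, hfix]
  by_cases hru : r ∈ Subgroup.zpowers u
  · exact hpowfix r hru
  have hr' : g * r * g⁻¹ ∉ Subgroup.zpowers u := fun hm => hru (by
    have := hpowfix _ hm
    rwa [show r = g * r * g⁻¹ from mul_left_cancel (a := g) (mul_right_cancel (b := g⁻¹) this.symm)])
  have hgr : g * r * g⁻¹ ∈ R := hQ ((Subgroup.mem_normalizer_iff.1 hg r).1 hr)
  have hidx : ((Subgroup.zpowers u).subgroupOf R).index = 2 := by
    set K := (Subgroup.zpowers u).subgroupOf R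
    have hK : Nat.card K = orderOf u := by
      rw [Nat.card_congr (Subgroup.subgroupOfEquivOfLe (Subgroup.zpowers_le.2 huR)).toEquiv,
        Nat.card_zpowers]
    have hmul := K.card_mul_index
    have hK2 : 2 ≤ Nat.card K := by
      rw [hK]
      exact Nat.lt_iff_add_one_le.1 (lt_of_le_of_ne (orderOf_pos u)
        (fun e => hu1 (orderOf_eq_one_iff.1 e.symm)))
    have hne1 : K.index ≠ 1 := fun e => hru (Subgroup.mem_subgroupOf.1
      (show (⟨r, hQ hr⟩ : R) ∈ K from (Subgroup.index_eq_one.1 e).symm ▸ Subgroup.mem_top _))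
    have h0 : K.index ≠ 0 := Subgroup.index_ne_zero_of_finite
    have h3 : K.index ≤ 2 := by
      by_contra hc
      have : 2 * 3 ≤ Nat.card K * K.index := Nat.mul_le_mul hK2 (by omega)
      omega
    omega
  have hρ : r⁻¹ * (g * r * g⁻¹) ∈ Subgroup.zpowers u := by
    have := (Subgroup.mul_mem_iff_of_index_two hidx (a := (⟨r, hQ hr⟩ : R)⁻¹)
      (b := (⟨g * r * g⁻¹, hgr⟩ : R))).2 (iff_of_false
        (fun h => hru (Subgroup.mem_subgroupOf.1 ((inv_mem_iff).1 h)))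
        (fun h => hr' (Subgroup.mem_subgroupOf.1 h)))
    simpa [Subgroup.mem_subgroupOf] using this
  set ρ := r⁻¹ * (g * r * g⁻¹) with hρdef
  have hfρ := hpowfix ρ hρ
  have hiter : ∀ n : ℕ, g ^ n * r * (g ^ n)⁻¹ = r * ρ ^ n := by
    intro n
    induction n with
    | zero => simp
    | succ n ih =>
      rw [pow_succ' g, show g * g ^ n * r * (g * g ^ n)⁻¹ = g * (g ^ n * r * (g ^ n)⁻¹) * g⁻¹ by group,
        ih, show g * (r * ρ ^ n) * g⁻¹ = g * r * g⁻¹ * (g * ρ ^ n * g⁻¹) by group, ← conj_pow, hfρ,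
        show g * r * g⁻¹ = r * ρ by rw [hρdef]; group, pow_succ']
      group
  have hN := hiter (orderOf g)
  rw [pow_orderOf_eq_one, one_mul, inv_one, mul_one] at hN
  have h1 : orderOf ρ ∣ orderOf g := orderOf_dvd_of_pow_eq_one (left_eq_mul.1 hN)
  have h2 : orderOf ρ ∣ 2 ^ s := hus ▸ orderOf_dvd_of_mem_zpowers hρ
  have hρ1 : ρ = 1 := by
    rw [← orderOf_eq_one_iff]
    exact Nat.eq_one_of_dvd_coprimes
      ((Nat.prime_two.coprime_iff_not_dvd.2 hodd).pow_left s) h2 h1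
  rw [show g * r * g⁻¹ = r * ρ by rw [hρdef]; group, hρ1, mul_one]

/-- An odd element only centralises the cyclic groups it normalises. -/
theorem fix_cyclic {c : G} {s : ℕ} (hc : orderOf c = 2 ^ s) {Q : Subgroup G}
    (hQ : Q ≤ Subgroup.zpowers c) {g : G} (hg : g ∈ Subgroup.normalizer (Q : Set G))
    (hodd : ¬ 2 ∣ orderOf g) : g ∈ Subgroup.centralizer (Q : Set G) := by
  haveI : IsCyclic (Subgroup.zpowers c) := inferInstance
  obtain ⟨r, hr⟩ : ∃ r : G, Q = Subgroup.zpowers r := by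
    obtain ⟨⟨v, hv⟩, hgen⟩ := IsCyclic.exists_generator (α := Q.subgroupOf (Subgroup.zpowers c))
    refine ⟨(v : G), le_antisymm (fun a ha => ?_) (Subgroup.zpowers_le.2 (Subgroup.mem_subgroupOf.1 hv))⟩
    obtain ⟨i, hi⟩ := Subgroup.mem_zpowers_iff.1 (hgen ⟨⟨a, hQ ha⟩, Subgroup.mem_subgroupOf.2 ha⟩)
    exact Subgroup.mem_zpowers_iff.2 ⟨i, by simpa using congrArg (fun w => ((w.1 : Subgroup.zpowers c) : G)) hi⟩
  subst hr
  have hrc : r ∈ Subgroup.zpowers c := hQ (Subgroup.mem_zpowers r)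
  obtain ⟨t, -, ht⟩ := (Nat.dvd_prime_pow Nat.prime_two).1
    (show orderOf r ∣ 2 ^ s from hc ▸ orderOf_dvd_of_mem_zpowers hrc)
  have hfix := DihedralFusion.fixed_of_odd ht hodd
    ((Subgroup.mem_normalizer_iff.1 hg r).1 (Subgroup.mem_zpowers r))
  refine Subgroup.mem_centralizer_iff.2 fun a ha => ?_
  obtain ⟨i, rfl⟩ := Subgroup.mem_zpowers_iff.1 ha
  exact (((show Commute r g from (mul_inv_eq_iff_eq_mul.1 hfix).symm)).zpow_left i).eq

end Cfsg.Agent.SDQ
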