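/-
Orthogonality of two characters of a block, read on representatives of its subsections.
-/
import Cfsg.Agent.Lib.BrauerPairs.LiftPairs
import Cfsg.Agent.Lib.BrauerPairs.InertiaHeight

set_option linter.unusedSectionVars false
set_option linter.style.haveILetI false

namespace Cfsg.Agent.SubsectionSum

open Cfsg MonoidAlgebra Cfsg.Agent.Blocks Cfsg.Agent.BrauerPairs Cfsg.Agent.Char Cfsg.Agent.Star
  Cfsg.Agent.InertiaHeight Cfsg.Agent.KnoerrRobinson Cfsg.Agent.LiftPairs
open scoped ComplexConjugate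

universe u

variable {G : Type u} [Group G] [Fintype G] {p : ℕ} {M : Ideal AlgInt} [M.IsPrime]
  {B : Set (IrrCharacter G)} {a : Pr (resField M) G}

open scoped Classical in
/-- The sum of the block parts of two characters at one section, for one algebra block. -/
noncomputable def sec (p : ℕ) (M : Ideal AlgInt) [M.IsPrime] (x : G)
    (f : MonoidAlgebra (resField M) G) (χ ψ : IrrCharacter G) : ℂ :=
  ∑ b ∈ blocks M (secC x), if zB M (secC x) b = f then
    ∑ s ∈ (Finset.univ : Finset (secC x)).filter (fun s => ¬ p ∣ orderOf s),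
      blockPart b (secFun x (secC x) (χ : G → ℂ)) s *
        conj (blockPart b (secFun x (secC x) (ψ : G → ℂ)) s)
    else 0

/-- The share of a subsection in the inner product of two characters. -/
noncomputable def pc (p : ℕ) (a : Pr (resField M) G) (u : G) (χ ψ : IrrCharacter G) : ℂ :=
  (Nat.card (secC u) : ℂ)⁻¹ * sec p M u (belowAt p a u) χ ψ

theorem sec_eq {x : G} {b : Set (IrrCharacter (secC x))} (hb : IsPBlock M b)
    (χ ψ : IrrCharacter G) [DecidablePred fun s : secC x => ¬ p ∣ orderOf s] :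
    sec p M x (zB M (secC x) b) χ ψ =
      ∑ s ∈ (Finset.univ : Finset (secC x)).filter (fun s => ¬ p ∣ orderOf s),
        blockPart b (secFun x (secC x) (χ : G → ℂ)) s *
          conj (blockPart b (secFun x (secC x) (ψ : G → ℂ)) s) := by
  classical
  rw [sec, Finset.sum_eq_single_of_mem b (mem_blocks.2 hb) fun b' hb' hne =>
    if_neg fun e => hne (zB_injective _ (mem_blocks.1 hb') hb e), if_pos rfl]
  congr! 2

/-- The share is the contribution divided by the order of the local defect group. -/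
theorem pc_eq [Fact p.Prime] {u : G} {b : Set (IrrCharacter (secC u))} (hb : IsPBlock M b)
    (hf : zB M (secC u) b = belowAt p a u) (χ ψ : IrrCharacter G) :
    pc p a u χ ψ = regPair p (blockScale p b)
      (blockPart b (secFun u (secC u) (χ : G → ℂ)))
      (blockPart b (secFun u (secC u) (ψ : G → ℂ))) / (p : ℂ) ^ blockDefect p b := by
  classical
  rw [pc, ← hf, sec_eq hb, regPair_eq_sum, blockScale]
  have hp : (p : ℂ) ≠ 0 := Nat.cast_ne_zero.2 (Fact.out : p.Prime).ne_zero
  push_cast
  field_simp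

theorem sec_conj (g x : G) (f : MonoidAlgebra (resField M) G) (χ ψ : IrrCharacter G) :
    sec p M (g * x * g⁻¹) (cj g f) χ ψ = sec p M x f χ ψ := by
  classical
  have hC : cjS g (secC x) = secC (g * x * g⁻¹) := cjS_secC g x
  set e := cjEquiv g hC with he
  unfold sec
  refine Finset.sum_nbij' (fun b => pullB e b) (fun b => pullB e.symm b)
    (fun b hb => mem_blocks.2 (isPBlock_pullB e (mem_blocks.1 hb)))
    (fun b hb => mem_blocks.2 (isPBlock_pullB e.symm (mem_blocks.1 hb)))
    (fun b _ => pullB_symm_pullB e b) (fun b _ => pullB_pullB e b) fun b hb => ?_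
  have hz : zB M (secC (g * x * g⁻¹)) b = cj g (zB M (secC x) (pullB e b)) :=
    zB_pullB g hC (mem_blocks.1 hb)
  have hiff : zB M (secC (g * x * g⁻¹)) b = cj g f ↔ zB M (secC x) (pullB e b) = f := by
    rw [hz]; exact (cj g).injective.eq_iff
  rw [if_congr hiff rfl rfl]
  split_ifs with h
  · have hpt : ∀ (φ : IrrCharacter G) (t : secC x),
        blockPart (pullB e b) (secFun x (secC x) (φ : G → ℂ)) t =
          blockPart b (secFun (g * x * g⁻¹) (secC (g * x * g⁻¹)) (φ : G → ℂ)) (e t) := by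
      intro φ t
      rw [← blockPart_pullB e]
      congr 1
      funext w
      show (φ : G → ℂ) (x * (w : G)) = (φ : G → ℂ) (g * x * g⁻¹ * (e w : G))
      rw [he, coe_cjEquiv, show g * x * g⁻¹ * (g * (w : G) * g⁻¹) = g * (x * (w : G)) * g⁻¹ by group,
        IsCharacter.isClassFunction (irr_isCharacter φ) _ g]
    refine Finset.sum_nbij' e.symm e (fun s hs => ?_) (fun s hs => ?_)
      (fun s _ => e.apply_symm_apply s) (fun s _ => e.symm_apply_apply s) fun s _ => ?_
    · exact Finset.mem_filter.2 ⟨Finset.mem_univ _, by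
        rw [MulEquiv.orderOf_eq]; exact (Finset.mem_filter.1 hs).2⟩
    · exact Finset.mem_filter.2 ⟨Finset.mem_univ _, by
        rw [MulEquiv.orderOf_eq]; exact (Finset.mem_filter.1 hs).2⟩
    · rw [hpt, hpt, e.apply_symm_apply]
  · rfl

/-- The fusion of two elements below a pair. -/
def Fus (p : ℕ) (a : Pr (resField M) G) (u v : G) : Prop :=
  ∃ g, g * u * g⁻¹ = v ∧ cj g (belowAt p a u) = belowAt p a v

theorem Fus.refl (u : G) : Fus p a u u := ⟨1, by group, cj_one _⟩

theorem Fus.symm {u v : G} (h : Fus p a u v) : Fus p a v u := by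
  obtain ⟨g, rfl, hg⟩ := h
  refine ⟨g⁻¹, by group, ?_⟩
  rw [← hg, cj_inv_cj]

theorem Fus.trans {u v w : G} (h : Fus p a u v) (h' : Fus p a v w) : Fus p a u w := by
  obtain ⟨g, rfl, hg⟩ := h
  obtain ⟨k, rfl, hk⟩ := h'
  exact ⟨k * g, by group, by rw [← cj_cj, hg, hk]⟩

variable [Fact p.Prime] [CharP (resField M) p]

/-- A conjugation respecting the pairs below a maximal pair gives fusion. -/
theorem fus_of_subLE (hmax : IsMax p (Ek M B) a) {u : G} (hu : u ∈ a.1) {g : G}
    (hg : SubLE p ⊤ (cjP g ((Subgroup.zpowers u, belowAt p a u) : Pr (resField M) G)) a) :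
    g * u * g⁻¹ ∈ a.1 ∧ Fus p a u (g * u * g⁻¹) := by
  have hv : g * u * g⁻¹ ∈ a.1 := hg.le (mem_cjS_of_eq (Subgroup.mem_zpowers u))
  refine ⟨hv, g, rfl, ?_⟩
  have e : cjP g ((Subgroup.zpowers u, belowAt p a u) : Pr (resField M) G) =
      (Subgroup.zpowers (g * u * g⁻¹), cj g (belowAt p a u)) := Prod.ext (cjS_zpowers g u) rfl
  rw [e] at hg
  exact (existsUnique_below hmax.pair (Subgroup.zpowers_le.2 hv)).unique hg
    (belowAt_spec hmax.pair hv)

/-- An inner conjugation is a fusion. -/
theorem fus_inner (hmax : IsMax p (Ek M B) a) {u t : G} (hu : u ∈ a.1) (ht : t ∈ a.1) :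
    Fus p a u (t * u * t⁻¹) := by
  refine (fus_of_subLE hmax hu ?_).2
  have h := (belowAt_spec hmax.pair hu).cjT t
  have hs := self_le_stabP hmax.pair.blkC ht
  rwa [show cjP t a = a from Prod.ext (cjS_eq_of_mem_normalizer hs.1) hs.2] at h

/-- The orthogonality relation on representatives of the subsections. -/
theorem sum_subsections (hM : IsPModular p M) (hB : IsPBlock M B) (hmax : IsMax p (Ek M B) a)
    (R : Finset G) (hR : ∀ u ∈ R, u ∈ a.1) (hcov : ∀ v ∈ a.1, ∃ u ∈ R, Fus p a u v)
    (hsep : ∀ u ∈ R, ∀ u' ∈ R, Fus p a u u' → u = u')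
    {χ ψ : IrrCharacter G} (hχ : χ ∈ B) [Decidable (χ = ψ)] :
    (if χ = ψ then (1 : ℂ) else 0) = ∑ u ∈ R, pc p a u χ ψ := by
  classical
  have hinner : classInner (χ : G → ℂ) (ψ : G → ℂ) = if χ = ψ then (1 : ℂ) else 0 := by
    split_ifs with h
    · rw [h, classInner_self_irr ψ.2]
    · exact classInner_irr_of_ne χ.2 ψ.2 fun e => h (Subtype.ext e)
  rw [← hinner, classInner, sum_eq_sum_sections (p := p)]
  -- the sections
  let k : G × G → G × MonoidAlgebra (resField M) G := fun gu =>
    (gu.1 * gu.2 * gu.1⁻¹, cj gu.1 (belowAt p a gu.2))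
  set S := ((Finset.univ : Finset G) ×ˢ R).image k with hS
  have hkp : ∀ gu ∈ (Finset.univ : Finset G) ×ˢ R, IsPairOf p ⊤ (Ek M B)
      ((Subgroup.zpowers (k gu).1, (k gu).2) : Pr (resField M) G) := by
    rintro ⟨g, u⟩ hgu
    have h := ((belowAt_spec hmax.pair (hR u (Finset.mem_product.1 hgu).2)).pairOf_iff.2
      hmax.pairOf).cjT g
    rwa [show cjP g ((Subgroup.zpowers u, belowAt p a u) : Pr (resField M) G) =
      (Subgroup.zpowers (g * u * g⁻¹), cj g (belowAt p a u)) from
        Prod.ext (cjS_zpowers g u) rfl] at h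
  have hstep : ∀ x : G, (if (∃ i, orderOf x = p ^ i) then
      ∑ s ∈ (Finset.univ : Finset (secC x)).filter (fun s => ¬ p ∣ orderOf s),
        (χ : G → ℂ) (x * (s : G)) * conj ((ψ : G → ℂ) (x * (s : G))) else 0) =
      ∑ q ∈ S.filter (fun q => q.1 = x), sec p M q.1 q.2 χ ψ := by
    intro x
    split_ifs with hx
    · have hF : ∀ q ∈ S.filter (fun q => q.1 = x), sec p M q.1 q.2 χ ψ =
          ∑ b ∈ blocks M (secC x), if zB M (secC x) b = q.2 then
            ∑ s ∈ (Finset.univ : Finset (secC x)).filter (fun s => ¬ p ∣ orderOf s),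
              blockPart b (secFun x (secC x) (χ : G → ℂ)) s *
                conj (blockPart b (secFun x (secC x) (ψ : G → ℂ)) s) else 0 := by
        intro q hq
        obtain rfl := (Finset.mem_filter.1 hq).2
        unfold sec
        congr!
      have hcl : ∀ φ : IrrCharacter G, IsClassFunction (secC x) (secFun x (secC x) (φ : G → ℂ)) :=
        fun φ => isClassFunction_secFun (secC_eq x) (IsCharacter.isClassFunction (irr_isCharacter φ))
      rw [Finset.sum_congr rfl hF, Finset.sum_comm]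
      have hsplit : ∀ s : secC x,
          (χ : G → ℂ) (x * (s : G)) * conj ((ψ : G → ℂ) (x * (s : G))) =
          ∑ b ∈ blocks M (secC x), ∑ b' ∈ blocks M (secC x),
            blockPart b (secFun x (secC x) (χ : G → ℂ)) s *
              conj (blockPart b' (secFun x (secC x) (ψ : G → ℂ)) s) := fun s => by
        rw [← Finset.sum_mul_sum, ← map_sum, sum_blockPart (hcl χ), sum_blockPart (hcl ψ)]
        rfl
      rw [Finset.sum_congr rfl fun s _ => hsplit s, Finset.sum_comm]
      refine Finset.sum_congr rfl fun b hb => ?_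
      rw [Finset.sum_comm, Finset.sum_eq_single_of_mem b hb fun b' hb' hne =>
        blockPart_regular_orth hM (mem_blocks.1 hb) (mem_blocks.1 hb') (Ne.symm hne) _ _]
      by_cases hp : IsPairOf p ⊤ (Ek M B) (Subgroup.zpowers x, zB M (secC x) b)
      · obtain ⟨g, hg⟩ := exists_subLE_of_pairOf hmax hp
        have hva : g * x * g⁻¹ ∈ a.1 := hg.le (mem_cjS_of_eq (Subgroup.mem_zpowers x))
        have hfv : cj g (zB M (secC x) b) = belowAt p a (g * x * g⁻¹) := by
          rw [show cjP g ((Subgroup.zpowers x, zB M (secC x) b) : Pr (resField M) G) =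
            (Subgroup.zpowers (g * x * g⁻¹), cj g (zB M (secC x) b)) from
              Prod.ext (cjS_zpowers g x) rfl] at hg
          exact (existsUnique_below hmax.pair (Subgroup.zpowers_le.2 hva)).unique hg
            (belowAt_spec hmax.pair hva)
        obtain ⟨u, hu, c, hc, hcf⟩ := hcov _ hva
        have hmem : ((x, zB M (secC x) b) : G × MonoidAlgebra (resField M) G) ∈
            S.filter (fun q => q.1 = x) := by
          refine Finset.mem_filter.2 ⟨Finset.mem_image.2 ⟨(g⁻¹ * c, u),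
            Finset.mk_mem_product (Finset.mem_univ _) hu, Prod.ext ?_ ?_⟩, rfl⟩
          · show g⁻¹ * c * u * (g⁻¹ * c)⁻¹ = x
            rw [show g⁻¹ * c * u * (g⁻¹ * c)⁻¹ = g⁻¹ * (c * u * c⁻¹) * g by group, hc]
            group
          · show cj (g⁻¹ * c) (belowAt p a u) = zB M (secC x) b
            rw [← cj_cj, hcf, ← hfv, cj_inv_cj]
        rw [Finset.sum_eq_single_of_mem _ hmem, if_pos rfl]
        intro q hq hne
        rw [if_neg]
        intro e
        exact hne (Prod.ext (Finset.mem_filter.1 hq).2 e.symm)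
      · have hz : ∀ s ∈ (Finset.univ : Finset (secC x)).filter (fun s => ¬ p ∣ orderOf s),
            blockPart b (secFun x (secC x) (χ : G → ℂ)) s *
              conj (blockPart b (secFun x (secC x) (ψ : G → ℂ)) s) = 0 := fun s hs => by
          rw [blockPart_eq_zero_of_not_pair hM hB hx hχ (mem_blocks.1 hb) hp
            (Finset.mem_filter.1 hs).2, zero_mul]
        simp [Finset.sum_eq_zero hz]
    · refine (Finset.sum_eq_zero fun q hq => absurd ?_ hx).symm
      obtain ⟨hqS, rfl⟩ := Finset.mem_filter.1 hq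
      obtain ⟨gu, hgu, rfl⟩ := Finset.mem_image.1 hqS
      exact pPow_of_mem (hkp gu hgu).pair (Subgroup.mem_zpowers _)
  refine (congrArg ((Nat.card G : ℂ)⁻¹ * ·) (Finset.sum_congr rfl fun x _ =>
    (by convert hstep x))).trans ?_
  rw [Finset.sum_fiberwise S Prod.fst fun q => sec p M q.1 q.2 χ ψ]
  -- the fibres
  have hcu : ∀ u ∈ R, ∀ c ∈ secC u, cj c (belowAt p a u) = belowAt p a u := fun u hu c hc =>
    cj_eq_of_inZ ((belowAt_spec hmax.pair (hR u hu)).left hmax.pair).blkC.inZ (by
      rw [centralizer_zpowers_eq, ← secC_eq]; exact hc)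
  have hfib : ∀ u ∈ R, ∀ g : G,
      (((Finset.univ : Finset G) ×ˢ R).filter fun gu => k gu = k (g, u)).card =
        Nat.card (secC u) := by
    intro u hu g
    rw [Nat.card_eq_fintype_card, ← Finset.card_univ]
    symm
    refine Finset.card_bij (fun c _ => (g * (c : G), u)) (fun c _ => ?_) (fun c _ c' _ e => ?_)
      fun gu hgu => ?_
    · refine Finset.mem_filter.2 ⟨Finset.mk_mem_product (Finset.mem_univ _) hu, Prod.ext ?_ ?_⟩
      · show g * (c : G) * u * (g * (c : G))⁻¹ = g * u * g⁻¹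
        rw [mul_inv_rev, mul_assoc g, mem_secC.1 c.2]
        group
      · show cj (g * (c : G)) (belowAt p a u) = cj g (belowAt p a u)
        rw [← cj_cj, hcu u hu _ c.2]
    · exact Subtype.ext (mul_left_cancel (congrArg Prod.fst e))
    · obtain ⟨g', u'⟩ := gu
      obtain ⟨hmem, he⟩ := Finset.mem_filter.1 hgu
      have e1 : g' * u' * g'⁻¹ = g * u * g⁻¹ := congrArg Prod.fst he
      have e2 : cj g' (belowAt p a u') = cj g (belowAt p a u) := congrArg Prod.snd he
      have hf : Fus p a u u' := by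
        refine ⟨g'⁻¹ * g, ?_, ?_⟩
        · rw [show g'⁻¹ * g * u * (g'⁻¹ * g)⁻¹ = g'⁻¹ * (g * u * g⁻¹) * g' by group, ← e1]
          group
        · rw [← cj_cj, ← e2, cj_inv_cj]
      obtain rfl := hsep u hu u' (Finset.mem_product.1 hmem).2 hf
      refine ⟨⟨g⁻¹ * g', mem_secC.2 ?_⟩, Finset.mem_univ _, Prod.ext (mul_inv_cancel_left g g') rfl⟩
      calc g⁻¹ * g' * u = g⁻¹ * (g' * u * g'⁻¹) * g' := by group
        _ = g⁻¹ * (g * u * g⁻¹) * g' := by rw [e1]
        _ = u * (g⁻¹ * g') := by group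
  have hG : (Nat.card G : ℂ) ≠ 0 := Nat.cast_ne_zero.2 Nat.card_pos.ne'
  have hsum : ∑ q ∈ S, sec p M q.1 q.2 χ ψ = ∑ gu ∈ (Finset.univ : Finset G) ×ˢ R,
      (Nat.card (secC gu.2) : ℂ)⁻¹ * sec p M gu.2 (belowAt p a gu.2) χ ψ := by
    rw [← Finset.sum_fiberwise_of_maps_to (g := k) (t := S) fun gu hgu =>
      Finset.mem_image_of_mem k hgu]
    refine Finset.sum_congr rfl fun q hq => ?_
    obtain ⟨⟨g, u⟩, hgu, rfl⟩ := Finset.mem_image.1 hq
    have hu := (Finset.mem_product.1 hgu).2
    have hC : (Nat.card (secC u) : ℂ) ≠ 0 := Nat.cast_ne_zero.2 Nat.card_pos.ne'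
    have hconst : ∀ gu ∈ ((Finset.univ : Finset G) ×ˢ R).filter (fun gu => k gu = k (g, u)),
        (Nat.card (secC gu.2) : ℂ)⁻¹ * sec p M gu.2 (belowAt p a gu.2) χ ψ =
          (Nat.card (secC u) : ℂ)⁻¹ * sec p M (k (g, u)).1 (k (g, u)).2 χ ψ := by
      rintro ⟨g', u'⟩ h'
      obtain ⟨hmem, he⟩ := Finset.mem_filter.1 h'
      have hu' := (Finset.mem_product.1 hmem).2
      obtain rfl : u' = u := by
        refine hsep u' hu' u hu ⟨g⁻¹ * g', ?_, ?_⟩
        · rw [show g⁻¹ * g' * u' * (g⁻¹ * g')⁻¹ = g⁻¹ * (g' * u' * g'⁻¹) * g by group,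
            show g' * u' * g'⁻¹ = g * u * g⁻¹ from congrArg Prod.fst he]
          group
        · rw [← cj_cj, show cj g' (belowAt p a u') = cj g (belowAt p a u) from congrArg Prod.snd he,
            cj_inv_cj]
      rw [← he]
      simp only [k, sec_conj]
    rw [Finset.sum_congr rfl hconst, Finset.sum_const, nsmul_eq_mul, hfib u hu g,
      mul_inv_cancel_left₀ hC]
  rw [hsum, Finset.sum_product]
  dsimp only
  rw [Finset.sum_const, Finset.card_univ, ← Nat.card_eq_fintype_card,
    nsmul_eq_mul, inv_mul_cancel_left₀ hG]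
  rfl

end Cfsg.Agent.SubsectionSum
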