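/-
Fusion of the cyclic part of a semidihedral or quaternion defect group.
-/
import Cfsg.Agent.Lib.BrauerPairs.SDQGroup
import Cfsg.Agent.Lib.BrauerPairs.SubsectionSum

set_option linter.unusedSectionVars false
set_option linter.style.haveILetI false

namespace Cfsg.Agent.SDQFusion

open Cfsg MonoidAlgebra Cfsg.Agent.Blocks Cfsg.Agent.BrauerPairs Cfsg.Agent.TwoFus Cfsg.Agent.Star

universe u

variable {G : Type u} [Group G]

/-- Cyclic subgroups of the same order in a cyclic group are equal. -/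
theorem zpowers_eq_of_order [Finite G] {x v w : G} (hv : v ∈ Subgroup.zpowers x)
    (hw : w ∈ Subgroup.zpowers x) (ho : orderOf v = orderOf w) :
    Subgroup.zpowers v = Subgroup.zpowers w := by
  have hdvd : orderOf v ∣ orderOf x := orderOf_dvd_of_mem_zpowers hv
  obtain ⟨q, hq⟩ := hdvd
  have hm0 : orderOf x ≠ 0 := (orderOf_pos x).ne'
  have hN0 : orderOf v ≠ 0 := (orderOf_pos v).ne'
  have hq0 : q ≠ 0 := right_ne_zero_of_mul (hq ▸ hm0)
  have hsub : ∀ {a : G}, a ∈ Subgroup.zpowers x → orderOf a = orderOf v →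
      Subgroup.zpowers a = Subgroup.zpowers (x ^ q) := by
    intro a ha hao
    obtain ⟨n, rfl⟩ := mem_powers_iff_mem_zpowers.mpr ha
    simp only at hao ⊢
    have h1 : x ^ (n * orderOf v) = 1 := by rw [pow_mul, ← hao, pow_orderOf_eq_one]
    have h2 := orderOf_dvd_of_pow_eq_one h1
    rw [hq, mul_comm (orderOf v) q] at h2
    obtain ⟨c, rfl⟩ := Nat.dvd_of_mul_dvd_mul_right (Nat.pos_of_ne_zero hN0) h2
    refine Subgroup.eq_of_le_of_card_ge
      (Subgroup.zpowers_le.2 (by rw [pow_mul]; exact Subgroup.npow_mem_zpowers _ _)) ?_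
    rw [Nat.card_zpowers, Nat.card_zpowers, hao, orderOf_pow' _ hq0,
      hq, Nat.gcd_eq_right (dvd_mul_left _ _), Nat.mul_div_cancel _ (Nat.pos_of_ne_zero hq0)]
  rw [hsub hv rfl, hsub hw ho.symm]

/-- The subgroups of the cyclic part are normal in the defect group. -/
theorem le_normalizer_zpowers [Fintype G] {D : Subgroup G} (d : SDQ.Data D) (i : ℤ) :
    D ≤ Subgroup.normalizer ((Subgroup.zpowers (d.x ^ i) : Subgroup G) : Set G) := by
  intro t ht
  have hmem : ∃ e : ℤ, t * d.x ^ i * t⁻¹ = (d.x ^ i) ^ e := by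
    rcases d.cases t ht with ⟨j, rfl⟩ | ⟨j, rfl⟩
    · exact ⟨1, by rw [zpow_one, (Commute.zpow_zpow_self d.x j i).eq, mul_inv_cancel_right]⟩
    · exact ⟨d.τ, by rw [d.form_conj_pow, ← zpow_mul, mul_comm]⟩
  obtain ⟨e, he⟩ := hmem
  refine mem_normalizer_of_cjS_eq ?_
  rw [cjS_zpowers]
  refine zpowers_eq_of_order (x := d.x) ?_ (zpow_mem (Subgroup.mem_zpowers d.x) i)
    (by rw [← MulAut.conj_apply, MulEquiv.orderOf_eq])
  rw [he, ← zpow_mul]
  exact zpow_mem (Subgroup.mem_zpowers d.x) _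

variable [Fintype G] {k : Type*} [Field k] [SplitCenter k G] [CharP k 2]
  {B : MonoidAlgebra k G} {a : Pr k G}

/-- The cyclic part is only fused by the twist. -/
theorem fusion_tau (hmax : IsMax 2 B a) (d : SDQ.Data a.1) {i : ℤ} (hi : ¬ (d.h : ℤ) ∣ i) {g : G}
    {f : MonoidAlgebra k G} (hb : SubLE 2 ⊤ (Subgroup.zpowers (d.x ^ i), f) a)
    (hgb : SubLE 2 ⊤ (cjP g ((Subgroup.zpowers (d.x ^ i), f) : Pr k G)) a)
    (hgx : g * d.x ^ i * g⁻¹ ∈ Subgroup.zpowers d.x) :
    g * d.x ^ i * g⁻¹ = d.x ^ i ∨ g * d.x ^ i * g⁻¹ = d.x ^ (d.τ * i) := by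
  haveI : Fact (Nat.Prime 2) := ⟨Nat.prime_two⟩
  set u := d.x ^ i with hudef
  have hu : u ∈ Subgroup.zpowers d.x := zpow_mem (Subgroup.mem_zpowers d.x) i
  have hu2 : u * u ≠ 1 := fun e => hi (by
    rw [hudef, ← zpow_add, ← two_mul, d.zpow_eq_one] at e
    exact Int.dvd_of_mul_dvd_mul_left two_ne_zero e)
  set P := Subgroup.zpowers u with hP
  have hPa : P ≤ a.1 := hb.le
  have hnorm : a.1 ≤ Subgroup.normalizer (P : Set G) := le_normalizer_zpowers d i
  have hfn : (blockFusion hmax).IsFullyNormalized P := by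
    refine ⟨hPa, fun Q _ => Subgroup.card_le_of_le ?_⟩
    exact le_inf inf_le_left (inf_le_left.trans hnorm)
  obtain ⟨-, R, hR⟩ := fullyAutomized_of_fullyNormalized hmax hfn
  have hcj : cjS g P = P := by
    rw [hP, cjS_zpowers]
    exact zpowers_eq_of_order hgx hu (by rw [← MulAut.conj_apply, MulEquiv.orderOf_eq])
  have hg : g ∈ stabP ((P, f) : Pr k G) :=
    mem_stabP_of_subLE hmax.pair hb (mem_normalizer_of_cjS_eq hcj) hgb
  obtain ⟨t, ht⟩ := IsPGroup.iff_orderOf.1 hmax.pair.pgroup ⟨u, hPa (Subgroup.mem_zpowers u)⟩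
  rw [Subgroup.orderOf_mk] at ht
  have hAp : IsPGroup 2 ((blockFusion hmax).autGroup P) := by
    rintro ⟨α, hα⟩
    refine ⟨t, Subtype.ext ?_⟩
    show α ^ 2 ^ t = 1
    set u' : P := ⟨u, Subgroup.mem_zpowers u⟩ with hu'
    obtain ⟨j, hj⟩ := Subgroup.mem_zpowers_iff.1 (α u').2
    have hαj : α u' = u' ^ j := Subtype.ext (by rw [← hj]; rfl)
    have hodd : ¬ (2 : ℤ) ∣ j := by
      rintro ⟨c, rfl⟩
      have ho : orderOf (α u') = orderOf u' := MulEquiv.orderOf_eq α u'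
      rw [hαj, ← Subgroup.orderOf_coe u', ← Subgroup.orderOf_coe (u' ^ (2 * c))] at ho
      have ho' : orderOf (u ^ (2 * c)) = 2 ^ t := ho.trans ht
      have ht0 : t ≠ 0 := fun e => hu2 (by
        rw [orderOf_eq_one_iff.1 (show orderOf u = 1 by rw [ht, e, pow_zero]), one_mul])
      have h1 : (u ^ (2 * c)) ^ (2 ^ (t - 1)) = 1 := by
        rw [← zpow_natCast, ← zpow_mul]
        refine orderOf_dvd_iff_zpow_eq_one.1 ?_
        rw [ht]
        refine ⟨c, ?_⟩
        push_cast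
        rw [show (2 : ℤ) ^ t = 2 * 2 ^ (t - 1) by rw [← pow_succ']; congr 1; omega]
        ring
      have h2 := orderOf_dvd_of_pow_eq_one h1
      rw [ho'] at h2
      have := (Nat.pow_dvd_pow_iff_le_right (by norm_num : 1 < 2)).1 h2
      omega
    have hiter : ∀ n : ℕ, (α ^ n) u' = u' ^ (j ^ n) := by
      intro n
      induction n with
      | zero => simp
      | succ n ih =>
        rw [pow_succ α, MulAut.mul_apply, hαj, map_zpow, ih, ← zpow_mul, pow_succ]
    have hgen : (α ^ 2 ^ t) u' = u' := by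
      rw [hiter]
      conv_rhs => rw [← zpow_one u']
      refine zpow_eq_zpow_iff_modEq.2 (Int.modEq_iff_dvd.2 ?_).symm
      rw [← Subgroup.orderOf_coe, show ((u' : P) : G) = u from rfl, ht]
      push_cast
      exact (pow_dvd_pow (2 : ℤ) (Nat.le_succ t)).trans (DihedralFusion.pow_two_power_congr hodd t)
    refine MulEquiv.ext fun w => ?_
    obtain ⟨i, hi⟩ := Subgroup.mem_zpowers_iff.1 w.2
    rw [show w = u' ^ i from Subtype.ext (by rw [← hi]; rfl), map_zpow, hgen]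
    rfl
  obtain ⟨α, hα⟩ : ∃ α : MulAut P, ∀ v : P, ((α v : P) : G) = g * (v : G) * g⁻¹ :=
    ⟨P.normalizerMonoidHom ⟨g, hg.1⟩, fun v => rfl⟩
  have hαA : α ∈ (blockFusion hmax).autGroup P := by
    rw [blockFusion_autGroup hmax hb]
    exact (FusionSys.mem_autInducedBy_iff α).2 ⟨g, hg, hα⟩
  have htop : (⊤ : Subgroup ((blockFusion hmax).autGroup P)) = R :=
    R.is_maximal' (hAp.to_subgroup _) le_top
  have hαR : (⟨α, hαA⟩ : (blockFusion hmax).autGroup P) ∈
      (R : Subgroup ((blockFusion hmax).autGroup P)) := htop.le (Subgroup.mem_top _)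
  rw [hR] at hαR
  obtain ⟨w, hw, hwe⟩ := (FusionSys.mem_autInducedBy_iff _).1 (Subgroup.mem_subgroupOf.1 hαR)
  have e := (hα ⟨u, Subgroup.mem_zpowers u⟩).symm.trans (hwe ⟨u, Subgroup.mem_zpowers u⟩)
  simp only at e
  rw [e]
  rcases d.cases w hw with ⟨j, rfl⟩ | ⟨j, rfl⟩
  · left
    rw [hudef, (Commute.zpow_zpow_self d.x j i).eq, mul_inv_cancel_right]
  · right
    exact d.form_conj_pow j i

end Cfsg.Agent.SDQFusion
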