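/-
The subsections of a block with semidihedral or quaternion defect group.
-/
import Cfsg.Agent.Lib.BrauerPairs.SDQFusion
import Cfsg.Agent.Lib.BrauerPairs.SDQFourier
import Cfsg.Agent.Lib.BrauerPairs.NilpotentColumns

set_option linter.unusedSectionVars false
set_option linter.style.haveILetI false

namespace Cfsg.Agent.SDQClasses

open Cfsg MonoidAlgebra Cfsg.Agent.Blocks Cfsg.Agent.BrauerPairs Cfsg.Agent.Char Cfsg.Agent.Star
  Cfsg.Agent.InertiaHeight Cfsg.Agent.LiftPairs Cfsg.Agent.NilpotentColumns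
  Cfsg.Agent.SubsectionSum Cfsg.Agent.NilpotentMain

universe u

variable {G : Type u} [Group G] [Fintype G] {M : Ideal AlgInt} [M.IsPrime]
  [CharP (resField M) 2] {B : Set (IrrCharacter G)} {a : Pr (resField M) G}

theorem orderOf_eq_of_fus {p : ℕ} {u v : G} (h : Fus p a u v) : orderOf v = orderOf u := by
  obtain ⟨g, rfl, -⟩ := h
  rw [← MulAut.conj_apply, MulEquiv.orderOf_eq]

theorem sq_of_fus {p : ℕ} {u v : G} (h : Fus p a u v) : u * u = 1 ↔ v * v = 1 := by
  obtain ⟨g, rfl, -⟩ := h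
  rw [show g * u * g⁻¹ * (g * u * g⁻¹) = g * (u * u) * g⁻¹ by group, conj_eq_one_iff]

theorem pc_fus {p : ℕ} {u v : G} (h : Fus p a u v) (χ ψ : IrrCharacter G) :
    pc p a v χ ψ = pc p a u χ ψ := by
  obtain ⟨g, rfl, hg⟩ := h
  rw [pc, pc, ← hg, sec_conj]
  congr 2
  rw [← cjS_secC, card_cjS]

variable (hmax : IsMax 2 (Ek M B) a) (d : SDQ.Data a.1)

/-- An element that is fused to no power of the cyclic generator. -/
def Unf (v : G) : Prop := ¬ ∃ i : ℤ, Fus 2 a v (d.x ^ i)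

open scoped Classical in
/-- Representatives of the classes outside the cyclic part. -/
noncomputable def out : Finset G :=
  (if Unf d d.y then {d.y} else ∅) ∪
    if Unf d (d.x * d.y) ∧ ¬ Fus 2 a d.y (d.x * d.y) then {d.x * d.y} else ∅

theorem mem_out {v : G} (hv : v ∈ out d) :
    v ∈ a.1 ∧ v ∉ Subgroup.zpowers d.x ∧ Unf d v := by
  classical
  rw [out, Finset.mem_union] at hv
  rcases hv with hv | hv <;> split_ifs at hv with h <;>
    simp only [Finset.mem_singleton, Finset.notMem_empty] at hv <;> subst hv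
  · exact ⟨d.hy, d.y_out, h⟩
  · exact ⟨mul_mem d.hx d.hy, d.xy_out, h.1⟩

theorem card_out_le : (out d).card ≤ 2 := by
  classical
  refine (Finset.card_union_le _ _).trans ?_
  split_ifs <;> simp

/-- The twist on the indices. -/
def tw (i : ℕ) : ℕ := ((d.τ * (i : ℤ)) % (2 * (d.h : ℤ))).toNat

theorem tw_congr (i : ℕ) : 2 * (d.h : ℤ) ∣ (tw d i : ℤ) - d.τ * i := by
  have := d.h_pos
  rw [tw, Int.toNat_of_nonneg (Int.emod_nonneg _ (by omega))]
  exact ⟨-((d.τ * i) / (2 * (d.h : ℤ))), by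
    linear_combination Int.emod_add_mul_ediv (d.τ * (i : ℤ)) (2 * (d.h : ℤ))⟩

theorem twist : SDQFourier.Twist d.h d.q d.τ := ⟨d.hq, d.q_pow, d.τ_cases⟩

theorem tw_mem {i : ℕ} (hi : i ∈ SDQFourier.mid d.h) : tw d i ∈ SDQFourier.mid d.h := by
  have := d.h_pos
  refine Finset.mem_filter.2 ⟨Finset.mem_range.2 ?_, fun hd => ?_⟩
  · have := Int.emod_lt_of_pos (d.τ * (i : ℤ)) (show (0 : ℤ) < 2 * (d.h : ℤ) by omega)
    simp only [tw]; omega
  · refine (twist d).mid_mul (SDQFourier.mid_int hi) ?_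
    have h1 := dvd_sub (Int.natCast_dvd_natCast.2 hd) ((dvd_mul_left (d.h : ℤ) 2).trans (tw_congr d i))
    simpa using h1

theorem tw_tw {i : ℕ} (hi : i ∈ SDQFourier.mid d.h) : tw d (tw d i) = i := by
  have h1 : 2 * (d.h : ℤ) ∣ (tw d (tw d i) : ℤ) - i := by
    have := dvd_add (dvd_add (tw_congr d (tw d i)) (dvd_mul_of_dvd_right (tw_congr d i) d.τ))
      (dvd_mul_of_dvd_left d.τ_sq (i : ℤ))
    convert this using 1 <;> first | rfl | ring
  have h2 := Finset.mem_range.1 (Finset.mem_filter.1 (tw_mem d (tw_mem d hi))).1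
  have h3 := Finset.mem_range.1 (Finset.mem_filter.1 hi).1
  have h4 := Int.eq_zero_of_abs_lt_dvd h1 (by rw [abs_lt]; constructor <;> omega)
  omega

theorem tw_ne {i : ℕ} (hi : i ∈ SDQFourier.mid d.h) : tw d i ≠ i := by
  intro e
  refine SDQFourier.mid_int hi ((d.τ_fix i).1 ((d.zpow_eq _ _).2 ?_))
  have h := tw_congr d i
  rw [e] at h
  obtain ⟨c, hc⟩ := h
  exact ⟨-c, by linear_combination -hc⟩

/-- Representatives of the twist orbits. -/
def midRep : Finset ℕ := (SDQFourier.mid d.h).filter fun i => i < tw d i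

theorem sum_midRep {α : Type*} [AddCommMonoid α] (F : ℕ → α)
    (hF : ∀ i ∈ SDQFourier.mid d.h, F (tw d i) = F i) :
    ∑ i ∈ SDQFourier.mid d.h, F i = ∑ i ∈ midRep d, F i + ∑ i ∈ midRep d, F i := by
  rw [← Finset.sum_filter_add_sum_filter_not (SDQFourier.mid d.h) (fun i => i < tw d i), midRep]
  congr 1
  refine Finset.sum_nbij' (tw d) (tw d) ?_ ?_ ?_ ?_ ?_
  · intro i hi
    obtain ⟨hi, hlt⟩ := Finset.mem_filter.1 hi
    refine Finset.mem_filter.2 ⟨tw_mem d hi, ?_⟩
    rw [tw_tw d hi]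
    have := tw_ne d hi
    omega
  · intro i hi
    obtain ⟨hi, hlt⟩ := Finset.mem_filter.1 hi
    refine Finset.mem_filter.2 ⟨tw_mem d hi, ?_⟩
    rw [tw_tw d hi]
    omega
  · exact fun i hi => tw_tw d (Finset.mem_filter.1 hi).1
  · exact fun i hi => tw_tw d (Finset.mem_filter.1 hi).1
  · exact fun i hi => (hF i (Finset.mem_filter.1 hi).1).symm

theorem zpow_mid_inj {i k : ℕ} (hi : i ∈ SDQFourier.mid d.h) (hk : k ∈ SDQFourier.mid d.h)
    (h : d.x ^ (i : ℤ) = d.x ^ (k : ℤ)) : i = k := by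
  rw [d.zpow_eq] at h
  have h2 := Finset.mem_range.1 (Finset.mem_filter.1 hi).1
  have h3 := Finset.mem_range.1 (Finset.mem_filter.1 hk).1
  have := Int.eq_zero_of_abs_lt_dvd h (by rw [abs_lt]; constructor <;> omega)
  omega

include hmax

/-- Fusion inside the cyclic part, away from the centre, is given by the twist. -/
theorem fus_cyclic {i k : ℤ} (hi : ¬ (d.h : ℤ) ∣ i) (h : Fus 2 a (d.x ^ i) (d.x ^ k)) :
    d.x ^ k = d.x ^ i ∨ d.x ^ k = d.x ^ (d.τ * i) := by
  haveI : Fact (Nat.Prime 2) := ⟨Nat.prime_two⟩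
  obtain ⟨g, hg, hgf⟩ := h
  rw [← hg]
  refine SDQFusion.fusion_tau hmax d hi (belowAt_spec hmax.pair (zpow_mem d.hx i)) ?_ ?_
  · have e : cjP g ((Subgroup.zpowers (d.x ^ i), belowAt 2 a (d.x ^ i)) : Pr (resField M) G) =
        (Subgroup.zpowers (d.x ^ k), belowAt 2 a (d.x ^ k)) :=
      Prod.ext ((cjS_zpowers g _).trans (congrArg Subgroup.zpowers hg)) hgf
    rw [e]
    exact belowAt_spec hmax.pair (zpow_mem d.hx k)
  · rw [hg]
    exact zpow_mem (Subgroup.mem_zpowers _) k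

theorem fus_tw (i : ℕ) : Fus 2 a (d.x ^ (i : ℤ)) (d.x ^ ((tw d i : ℕ) : ℤ)) := by
  haveI : Fact (Nat.Prime 2) := ⟨Nat.prime_two⟩
  have h := fus_inner hmax (zpow_mem d.hx (i : ℤ)) d.hy
  rwa [← conj_zpow, d.conj, ← zpow_mul, ← (d.zpow_eq _ _).2 (tw_congr d i)] at h

/-- Every element is fused to a representative, and two representatives are not fused. -/
theorem sum_reps (hM : IsPModular 2 M) (hB : IsPBlock M B) {χ ψ : IrrCharacter G} (hχ : χ ∈ B)
    [Decidable (χ = ψ)] :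
    (if χ = ψ then (1 : ℂ) else 0) = pc 2 a 1 χ ψ + pc 2 a d.z χ ψ +
      ∑ i ∈ midRep d, pc 2 a (d.x ^ (i : ℤ)) χ ψ + ∑ v ∈ out d, pc 2 a v χ ψ := by
  classical
  haveI : Fact (Nat.Prime 2) := ⟨Nat.prime_two⟩
  set R₁ := (midRep d).image fun i : ℕ => d.x ^ (i : ℤ) with hR₁
  set R : Finset G := insert (1 : G) (insert d.z (R₁ ∪ out d)) with hR
  have hmid_sq : ∀ i ∈ SDQFourier.mid d.h, d.x ^ (i : ℤ) * d.x ^ (i : ℤ) ≠ 1 := fun i hi e => by
    rw [← zpow_add, ← two_mul, d.zpow_eq_one] at e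
    exact SDQFourier.mid_int hi (Int.dvd_of_mul_dvd_mul_left two_ne_zero e)
  have hR₁mem : ∀ u ∈ R₁, ∃ i ∈ midRep d, d.x ^ (i : ℤ) = u := fun u hu => Finset.mem_image.1 hu
  have hunit : ∀ u : G, Fus 2 a u 1 → u = 1 := by
    rintro u ⟨g, hg, -⟩
    exact conj_eq_one_iff.1 hg
  have hz : d.z = d.x ^ (d.h : ℤ) := rfl
  have hmem : ∀ u ∈ R, u ∈ a.1 := by
    intro u hu
    simp only [hR, Finset.mem_insert, Finset.mem_union] at hu
    rcases hu with rfl | rfl | hu | hu
    · exact one_mem _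
    · exact d.z_mem
    · obtain ⟨i, -, rfl⟩ := hR₁mem u hu
      exact zpow_mem d.hx _
    · exact (mem_out d hu).1
  have hcyc : ∀ i : ℤ, ∃ u ∈ R, Fus 2 a u (d.x ^ i) := by
    intro i
    by_cases hi : (d.h : ℤ) ∣ i
    · obtain ⟨c, rfl⟩ := hi
      rcases Int.even_or_odd' c with ⟨e, rfl | rfl⟩
      · refine ⟨1, Finset.mem_insert_self _ _, ?_⟩
        rw [(d.zpow_eq_one _).2 ⟨e, by ring⟩]
        exact Fus.refl 1
      · refine ⟨d.z, Finset.mem_insert_of_mem (Finset.mem_insert_self _ _), ?_⟩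
        rw [(d.zpow_eq ((d.h : ℤ) * (2 * e + 1)) (d.h : ℤ)).2 ⟨e, by ring⟩, ← hz]
        exact Fus.refl _
    · have hh := d.h_pos
      set n := (i % (2 * (d.h : ℤ))).toNat with hn
      have hn' : 2 * (d.h : ℤ) ∣ i - (n : ℤ) := by
        rw [hn, Int.toNat_of_nonneg (Int.emod_nonneg _ (by omega))]
        exact ⟨i / (2 * (d.h : ℤ)), by
          linear_combination (-1 : ℤ) * Int.emod_add_mul_ediv i (2 * (d.h : ℤ))⟩
      have hnm : n ∈ SDQFourier.mid d.h := by
        refine Finset.mem_filter.2 ⟨Finset.mem_range.2 ?_, fun hd => hi ?_⟩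
        · have := Int.emod_lt_of_pos i (show (0 : ℤ) < 2 * (d.h : ℤ) by omega)
          omega
        · have h1 := dvd_add ((dvd_mul_left (d.h : ℤ) 2).trans hn') (Int.natCast_dvd_natCast.2 hd)
          simpa using h1
      rw [(d.zpow_eq i (n : ℤ)).2 hn']
      have hrep : ∀ m ∈ midRep d, d.x ^ (m : ℤ) ∈ R := fun m hm =>
        Finset.mem_insert_of_mem (Finset.mem_insert_of_mem (Finset.mem_union_left _
          (Finset.mem_image.2 ⟨m, hm, rfl⟩)))
      by_cases hlt : n < tw d n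
      · exact ⟨_, hrep n (Finset.mem_filter.2 ⟨hnm, hlt⟩), Fus.refl _⟩
      · refine ⟨_, hrep (tw d n) (Finset.mem_filter.2 ⟨tw_mem d hnm, ?_⟩), (fus_tw hmax d n).symm⟩
        rw [tw_tw d hnm]
        have := tw_ne d hnm
        omega
  have hcov : ∀ v ∈ a.1, ∃ u ∈ R, Fus 2 a u v := by
    intro v hv
    by_cases hvx : v ∈ Subgroup.zpowers d.x
    · obtain ⟨i, rfl⟩ := Subgroup.mem_zpowers_iff.1 hvx
      exact hcyc i
    · obtain ⟨k, w, hw, hk⟩ := d.out_classes hv hvx
      have hf : Fus 2 a w v := by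
        have := fus_inner hmax hv (zpow_mem d.hx k)
        rw [hk] at this
        exact this.symm
      suffices h : ∃ u ∈ R, Fus 2 a u w by
        obtain ⟨u, hu, h⟩ := h
        exact ⟨u, hu, h.trans hf⟩
      by_cases hU : Unf d w
      · rcases hw with rfl | rfl
        · exact ⟨d.y, by simp [hR, out, hU], Fus.refl _⟩
        · by_cases hyxy : Fus 2 a d.y (d.x * d.y)
          · have hUy : Unf d d.y := fun ⟨i, hi⟩ => hU ⟨i, hyxy.symm.trans hi⟩
            exact ⟨d.y, by simp [hR, out, hUy], hyxy⟩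
          · exact ⟨d.x * d.y, by simp [hR, out, hU, hyxy], Fus.refl _⟩
      · simp only [Unf, not_not] at hU
        obtain ⟨i, hi⟩ := hU
        obtain ⟨u, hu, h⟩ := hcyc i
        exact ⟨u, hu, h.trans hi.symm⟩
  have hsep : ∀ u ∈ R, ∀ u' ∈ R, Fus 2 a u u' → u = u' := by
    have hzc : ∀ {w : G}, Fus 2 a d.z w → w ∈ R → w = d.z := by
      intro w hw hwR
      simp only [hR, Finset.mem_insert, Finset.mem_union] at hwR
      rcases hwR with rfl | rfl | hwR | hwR
      · exact absurd (hunit _ hw) d.z_ne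
      · rfl
      · obtain ⟨i, hi, rfl⟩ := hR₁mem w hwR
        exact absurd ((sq_of_fus hw).1 d.zz) (hmid_sq i (Finset.mem_filter.1 hi).1)
      · exact absurd ⟨(d.h : ℤ), hw.symm⟩ (mem_out d hwR).2.2
    have hout : ∀ {i : ℕ} {w : G}, w ∈ out d → Fus 2 a (d.x ^ (i : ℤ)) w → False :=
      fun {i w} hw h => (mem_out d hw).2.2 ⟨i, h.symm⟩
    intro u hu u' hu' h
    simp only [hR, Finset.mem_insert, Finset.mem_union] at hu
    rcases hu with rfl | rfl | hu | hu
    · exact (hunit u' h.symm).symm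
    · exact (hzc h hu').symm
    · obtain ⟨i, hi, rfl⟩ := hR₁mem u hu
      obtain ⟨hi, hlt⟩ := Finset.mem_filter.1 hi
      simp only [hR, Finset.mem_insert, Finset.mem_union] at hu'
      rcases hu' with rfl | rfl | hu' | hu'
      · exact absurd (hunit _ h) fun e => hmid_sq i hi (by rw [e, one_mul])
      · exact hzc h.symm (Finset.mem_insert_of_mem (Finset.mem_insert_of_mem
          (Finset.mem_union_left _ (Finset.mem_image.2 ⟨i, Finset.mem_filter.2 ⟨hi, hlt⟩, rfl⟩))))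
      · obtain ⟨k, hk, rfl⟩ := hR₁mem u' hu'
        obtain ⟨hk, hlt'⟩ := Finset.mem_filter.1 hk
        rcases fus_cyclic hmax d (SDQFourier.mid_int hi) h with e | e
        · exact e.symm
        · rw [← (d.zpow_eq _ _).2 (tw_congr d i)] at e
          obtain rfl := zpow_mid_inj d hk (tw_mem d hi) e
          rw [tw_tw d hi] at hlt'
          omega
      · exact (hout hu' h).elim
    · simp only [hR, Finset.mem_insert, Finset.mem_union] at hu'
      rcases hu' with rfl | rfl | hu' | hu'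
      · exact hunit _ h
      · exact absurd ⟨(d.h : ℤ), h⟩ (mem_out d hu).2.2
      · obtain ⟨k, hk, rfl⟩ := hR₁mem u' hu'
        exact absurd ⟨(k : ℤ), h⟩ (mem_out d hu).2.2
      · rw [out, Finset.mem_union] at hu hu'
        rcases hu with hu | hu <;> rcases hu' with hu' | hu' <;> split_ifs at hu hu' <;>
          simp_all [Finset.mem_singleton]
        rename_i h1 h2
        exact absurd h.symm h1.2
  rw [sum_subsections hM hB hmax R hmem hcov hsep hχ]
  have h1 : (1 : G) ∉ insert d.z (R₁ ∪ out d) := by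
    simp only [Finset.mem_insert, Finset.mem_union, not_or]
    refine ⟨d.z_ne.symm, fun hh => ?_, fun hh => (mem_out d hh).2.1 (one_mem _)⟩
    obtain ⟨i, hi, e⟩ := hR₁mem _ hh
    exact hmid_sq i (Finset.mem_filter.1 hi).1 (by rw [e, one_mul])
  have h2 : d.z ∉ R₁ ∪ out d := by
    simp only [Finset.mem_union, not_or]
    refine ⟨fun hh => ?_, fun hh => (mem_out d hh).2.1 (zpow_mem (Subgroup.mem_zpowers _) _)⟩
    obtain ⟨i, hi, e⟩ := hR₁mem _ hh
    exact hmid_sq i (Finset.mem_filter.1 hi).1 (by rw [e, d.zz])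
  have h3 : Disjoint R₁ (out d) := Finset.disjoint_left.2 fun u hu hu' => by
    obtain ⟨i, -, rfl⟩ := hR₁mem u hu
    exact (mem_out d hu').2.1 (zpow_mem (Subgroup.mem_zpowers _) _)
  rw [Finset.sum_insert h1, Finset.sum_insert h2, Finset.sum_union h3, hR₁,
    Finset.sum_image (s := midRep d) (g := fun i : ℕ => d.x ^ (i : ℤ))
      fun i hi k hk e => zpow_mid_inj d (Finset.mem_filter.1 hi).1 (Finset.mem_filter.1 hk).1 e]
  ring

/-- The blocks at a central element of the defect group are major. -/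
theorem exists_major (hM : IsPModular 2 M) (hB : IsPBlock M B) {u : G} (hu : u ∈ a.1)
    (huc : a.1 ≤ secC u) :
    ∃ b : Set (IrrCharacter (secC u)), IsInducedBlock M (secC u) b B ∧
      zB M (secC u) b = belowAt 2 a u ∧ blockDefect 2 b = blockDefect 2 B := by
  haveI : Fact (Nat.Prime 2) := ⟨Nat.prime_two⟩
  obtain ⟨b, aC, L⟩ := exists_localMax hM hB hmax hu
  refine ⟨b, L.ind, (existsUnique_below hmax.pair (Subgroup.zpowers_le.2 hu)).unique L.below
    (belowAt_spec hmax.pair hu), ?_⟩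
  have h1 := card_defectGroup hM L.blk ((isDefectGroup_iff L.blk _).2 L.max.isDef)
  have h2 := card_defectGroup hM hB ((isDefectGroup_iff hB a.1).2 hmax.isDef)
  have hge := L.ge
  rw [inf_eq_left.2 huc, h1, h2] at hge
  obtain ⟨g, hg, -⟩ := L.cjg
  have hle := Subgroup.card_le_of_le (hg.trans inf_le_left)
  rw [card_cjS, L.card_map, h1, h2] at hle
  exact le_antisymm ((Nat.pow_le_pow_iff_right one_lt_two).1 hle)
    ((Nat.pow_le_pow_iff_right one_lt_two).1 hge)

/-- The block at an unfused outer element has rank one and defect two. -/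
theorem exists_outer (hM : IsPModular 2 M) (hB : IsPBlock M B) {v : G} (hv : v ∈ a.1)
    (hvx : v ∉ Subgroup.zpowers d.x) (hU : Unf d v) :
    ∃ b : Set (IrrCharacter (secC v)), IsInducedBlock M (secC v) b B ∧
      zB M (secC v) b = belowAt 2 a v ∧ blockRank 2 b = 1 ∧ blockDefect 2 b = 2 := by
  haveI : Fact (Nat.Prime 2) := ⟨Nat.prime_two⟩
  obtain ⟨b, aC, L⟩ := exists_localMax hM hB hmax hv
  have hzB : zB M (secC v) b = belowAt 2 a v :=
    (existsUnique_below hmax.pair (Subgroup.zpowers_le.2 hv)).unique L.below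
      (belowAt_spec hmax.pair hv)
  have h4 : Nat.card aC.1 = 4 := by
    refine le_antisymm ?_ ((d.card_cent_out hv hvx) ▸ L.ge)
    obtain ⟨g, hg, hgs⟩ := L.cjg
    rw [hzB] at hgs
    obtain ⟨hwa, hfus⟩ := fus_of_subLE hmax hv hgs
    have hwx : g * v * g⁻¹ ∉ Subgroup.zpowers d.x := fun hc => by
      obtain ⟨i, hi⟩ := Subgroup.mem_zpowers_iff.1 hc
      exact hU ⟨i, hi ▸ hfus⟩
    rw [← L.card_map, ← card_cjS g, ← d.card_cent_out hwa hwx]
    exact Subgroup.card_le_of_le hg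
  have hnil : IsNilB 2 ⊤ (Ek M b) := by
    refine isNilB_of_fix L.max fun Q hQ g hg hgC hodd => ?_
    obtain ⟨s, hs⟩ := pPow_of_mem (p := 2) hmax.pair hv
    have h4' : Nat.card (aC.1.map (secC v).subtype : Subgroup G) = 4 := L.card_map.trans h4
    exact SDQ.fix_small h4'.le L.mem (fun e => hvx (e ▸ one_mem _)) hs (by rw [h4']; norm_num) hQ
      hg hodd (by rw [mem_secC.1 hgC, mul_inv_cancel_right])
  refine ⟨b, L.ind, hzB,
    blockRank_eq_one_of_nilpotent hM ((isNilpotentBlock_iff hM).2 ⟨L.blk, hnil⟩), ?_⟩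
  have h1 := card_defectGroup hM L.blk ((isDefectGroup_iff L.blk _).2 L.max.isDef)
  rw [h4] at h1
  exact (Nat.pow_right_injective le_rfl (show 2 ^ 2 = 2 ^ blockDefect 2 b from h1)).symm

end Cfsg.Agent.SDQClasses
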