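import Cfsg.Agent.Lib.Blocks.Covering
import Cfsg.Agent.Lib.Blocks.GreenDefect
import Cfsg.Agent.Lib.Blocks.SubsectionRow
import Cfsg.Agent.Lib.Blocks.Real

/-!
Weighted degree sums over blocks and their applications.
-/

set_option linter.unusedSectionVars false
set_option linter.style.haveILetI false

namespace Cfsg.Agent.BrauerPairs

open Cfsg Cfsg.Agent.Blocks Cfsg.Agent.Char
open scoped ComplexConjugate

universe u

variable {G : Type u} [Group G] [Fintype G] {p : ℕ} {M : Ideal AlgInt} [M.IsPrime]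

/-- The degree sum of a block weighted by multiplicities on a subgroup. -/
theorem weighted_sum (H : Subgroup G) [Fintype H] {B : Set (IrrCharacter G)} (hB : IsPBlock M B)
    [DecidablePred (· ∈ B)]
    (ψ : IrrCharacter H) (m : IrrCharacter G → ℕ)
    (hm : ∀ χ : IrrCharacter G, classInner (fun h : H => (χ : G → ℂ) h) (ψ : H → ℂ) = m χ) :
    ((∑ χ ∈ Finset.univ.filter (· ∈ B), m χ * charDegree (χ : G → ℂ) : ℕ) : ℂ) =
      (H.index : ℂ) * ((ψ : H → ℂ) 1 * omegaR ψ (restrictElt H (blockEltR M B))) := by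
  classical
  rw [← Complex.conj_natCast, omega_eq_sum_div, mul_div_cancel₀ _ (irr_one_ne_zero ψ)]
  push_cast
  simp only [← hm, ← irr_one_eq_charDegree, classInner, coeff_restrictElt, coeff_blockEltR hB]
  rw [map_sum]
  simp only [blockCoeff_eq_sum, ← H.card_mul_index, map_mul, map_inv₀, map_sum, map_natCast,
    Complex.conj_conj, conj_irr_one]
  rw [Finset.mul_sum]
  simp only [Finset.mul_sum, Finset.sum_mul]
  rw [Finset.sum_comm]
  refine Finset.sum_congr rfl fun j _ => Finset.sum_congr rfl fun χ _ => ?_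
  push_cast
  have : (H.index : ℂ) ≠ 0 := Nat.cast_ne_zero.2 Subgroup.index_ne_zero_of_finite
  field_simp

theorem exists_heightZero_induction (hM : IsPModular p M) (H : Subgroup G) [Fintype H]
    {b : Set (IrrCharacter H)} {B : Set (IrrCharacter G)} (hind : IsInducedBlock M H b B)
    (hdef : blockDefect p b = blockDefect p B) {ζ : IrrCharacter H} (hζ : ζ ∈ b)
    (hζ0 : blockHeight p b (ζ : H → ℂ) = 0) :
    ∃ χ ∈ B, blockHeight p B (χ : G → ℂ) = 0 ∧
      ∃ a : ℕ, classInner (indFun H (ζ : H → ℂ)) (χ : G → ℂ) = (a : ℂ) ∧ ¬ p ∣ a := by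
  classical
  haveI : Fact p.Prime := ⟨hM.1⟩
  obtain ⟨hb, hB, -⟩ := id hind
  choose m hm hm' using fun χ : IrrCharacter G => exists_mults H χ
  set s := Finset.univ.filter (· ∈ B) with hs
  set aG := (Nat.card G).factorization p with haG
  set aH := (Nat.card H).factorization p with haH
  set d := blockDefect p B with hd
  obtain ⟨χ₀, hχ₀⟩ := isPBlock_nonempty hB
  have hdG : d ≤ aG := blockDefect_le B
  have hdH : d ≤ aH := hdef ▸ blockDefect_le b
  have hζdeg : (charDegree (ζ : H → ℂ)).factorization p = aH - d := by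
    have h1 := degExp_ge hM hb hζ
    rw [blockHeight, sInf_degExp_eq' hM hb, hdef] at hζ0
    rw [hdef] at h1
    omega
  have hidx : H.index.factorization p + aH = aG := by
    rw [haG, ← H.card_mul_index,
      Nat.factorization_mul Nat.card_pos.ne' Subgroup.index_ne_zero_of_finite, Finsupp.add_apply,
      haH, add_comm]
  have hw := weighted_sum (M := M) H hB ζ (fun χ => m χ ζ) (fun χ => hm' χ ζ)
  have he : ¬ MemLocalIdeal M (omegaR ζ (restrictElt H (blockEltR M B))) := by
    intro h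
    have h1 := MemLocalIdeal.sub h (isInducedBlock_omegaR hind hζ hχ₀ (isClassElt_blockEltR B))
    rw [sub_sub_cancel, omegaR_blockEltR hB, if_pos hχ₀] at h1
    exact not_memLocalIdeal_one h1
  have hnd : ¬ p ^ (aG - d + 1) ∣ ∑ χ ∈ s, m χ ζ * charDegree (χ : G → ℂ) := by
    rintro ⟨c, hc⟩
    obtain ⟨u, hu⟩ : ∃ u, u = H.index * charDegree (ζ : H → ℂ) := ⟨_, rfl⟩
    have hu0 : u ≠ 0 := hu ▸ Nat.mul_ne_zero Subgroup.index_ne_zero_of_finite (charDegree_pos ζ).ne'
    have huv : u.factorization p = aG - d := by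
      rw [hu, Nat.factorization_mul Subgroup.index_ne_zero_of_finite (charDegree_pos ζ).ne',
        Finsupp.add_apply, hζdeg]
      omega
    obtain ⟨w, hw1, hw2⟩ : ∃ w, u = p ^ (aG - d) * w ∧ ¬ p ∣ w := by
      refine ⟨u / p ^ u.factorization p, ?_, Nat.not_dvd_ordCompl hM.1 hu0⟩
      rw [← huv, Nat.ordProj_mul_ordCompl_eq_self]
    refine he ?_
    rw [hc, irr_one_eq_charDegree, ← mul_assoc, ← Nat.cast_mul, ← hu, hw1] at hw
    have hp0 : ((p : ℂ) ^ (aG - d)) ≠ 0 := pow_ne_zero _ (Nat.cast_ne_zero.2 hM.1.ne_zero)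
    push_cast [pow_succ] at hw
    simp only [mul_assoc] at hw
    have h1 := mul_left_cancel₀ hp0 hw
    have h2 : MemLocalIdeal M ((w : ℂ)⁻¹ * ((p : ℂ) * (c : ℂ))) :=
      MemLocalIdeal.mul_left (inv_natCast_memLocalRing hM hw2)
        (MemLocalIdeal.mul_right ((natCast_memLocalIdeal_iff hM p).2 dvd_rfl)
          (mem_locRing.1 (natCast_mem (locRing M) c)))
    have hw0 : (w : ℂ) ≠ 0 := Nat.cast_ne_zero.2 fun h => hw2 (h ▸ dvd_zero p)
    rwa [h1, ← mul_assoc, inv_mul_cancel₀ hw0, one_mul] at h2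
  obtain ⟨χ, hχs, hχ⟩ : ∃ χ ∈ s, ¬ p ^ (aG - d + 1) ∣ m χ ζ * charDegree (χ : G → ℂ) := by
    by_contra hne
    push Not at hne
    exact hnd (Finset.dvd_sum hne)
  have hχB : χ ∈ B := (Finset.mem_filter.1 hχs).2
  have hge := degExp_ge hM hB hχB
  obtain ⟨e, he'⟩ : p ^ (aG - d) ∣ charDegree (χ : G → ℂ) :=
    (pow_dvd_pow p hge).trans (Nat.ordProj_dvd _ _)
  have hpa : ¬ p ∣ m χ ζ * e := fun h => hχ (by
    rw [he', mul_left_comm, pow_succ]; exact mul_dvd_mul_left _ h)
  refine ⟨χ, hχB, ?_, m χ ζ, ?_, fun h => hpa (dvd_mul_of_dvd_left h _)⟩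
  · rw [blockHeight, sInf_degExp_eq' hM hB]
    have he0 : e ≠ 0 := fun h => hpa (by rw [h, mul_zero]; exact dvd_zero p)
    have : (charDegree (χ : G → ℂ)).factorization p = aG - d := by
      rw [he', Nat.factorization_mul (pow_ne_zero _ hM.1.ne_zero) he0, Finsupp.add_apply,
        hM.1.factorization_pow, Finsupp.single_eq_same,
        Nat.factorization_eq_zero_of_not_dvd fun h => hpa (dvd_mul_of_dvd_right h _), add_zero]
    omega
  · rw [← classInner_conj_symm, classInner_indFun_right H (ζ : H → ℂ)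
      (IsCharacter.isClassFunction (irr_isCharacter χ)), hm' χ ζ, map_natCast]

theorem sum_regular_of_vanish (H : Subgroup G) [Fintype H] (hH : IsPGroup p H) (hp : p.Prime)
    {B : Set (IrrCharacter G)} (hM : IsPModular p M) (hB : IsPBlock M B) :
    ∑ x : H, blockCoeff B (x : G) = blockCoeff B 1 := by
  classical
  haveI := Fact.mk hp
  rw [Finset.sum_eq_single (1 : H), Subgroup.coe_one]
  · intro x _ hx
    obtain ⟨k, hk⟩ := IsPGroup.iff_orderOf.1 hH x
    refine blockCoeff_eq_zero_of_singular hM hB ?_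
    rw [Subgroup.orderOf_coe, hk]
    refine dvd_pow_self p fun h => hx ?_
    rw [h, pow_zero] at hk
    exact orderOf_eq_one_iff.1 hk
  · exact fun h => absurd (Finset.mem_univ _) h

theorem exists_heightZero_stable (hM : IsPModular p M) (H : Subgroup G) [hH : H.Normal] [Fintype H]
    {b : Set (IrrCharacter H)} (hb : IsPBlock M b) (T : Subgroup G)
    (hT : ∀ g ∈ T, ∀ θ ∈ b, cjIrr H g⁻¹ θ ∈ b) :
    ∃ θ ∈ b, blockHeight p b (θ : H → ℂ) = 0 ∧
      ¬ p ∣ (T ⊓ inertia H (θ : H → ℂ)).relIndex T := by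
  classical
  haveI : Fact p.Prime := ⟨hM.1⟩
  obtain ⟨Q⟩ : Nonempty (Sylow p H) := inferInstance
  haveI : Fintype (Q : Subgroup H) := Fintype.ofFinite _
  choose m hm hm' using fun θ : IrrCharacter H => exists_mults (Q : Subgroup H) θ
  set μ : IrrCharacter H → ℕ := fun θ => m θ (principal (Q : Subgroup H)) with hμ
  set a := (Nat.card H).factorization p with ha
  set d := blockDefect p b with hd
  -- the total weight
  have hw := weighted_sum (M := M) (Q : Subgroup H) hb (principal (Q : Subgroup H)) μ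
    (fun θ => hm' θ _)
  rw [omega_eq_sum_div] at hw
  simp only [coeff_restrictElt, coeff_blockEltR hb, principal, mul_one, div_one, one_mul] at hw
  rw [sum_regular_of_vanish (Q : Subgroup H) Q.isPGroup' hM.1 hM hb] at hw
  set W := ∑ θ ∈ Finset.univ.filter (· ∈ b), μ θ * charDegree (θ : H → ℂ) with hW
  have hWQ : W * Nat.card (Q : Subgroup H) =
      ∑ θ ∈ Finset.univ.filter (· ∈ b), charDegree (θ : H → ℂ) ^ 2 := by
    rw [← Nat.cast_inj (R := ℂ), Nat.cast_mul, hw, blockCoeff_eq_sum,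
      ← (Q : Subgroup H).card_mul_index]
    push_cast
    simp only [irr_one_eq_charDegree, map_natCast, pow_two]
    have : ((Q : Subgroup H).index : ℂ) ≠ 0 := Nat.cast_ne_zero.2 Subgroup.index_ne_zero_of_finite
    have : (Nat.card (Q : Subgroup H) : ℂ) ≠ 0 := Nat.cast_ne_zero.2 Nat.card_pos.ne'
    field_simp
  have hWv : W.factorization p = a - d := by
    have h1 := sum_sq_factorization hM hb
    rw [← hWQ] at h1
    have hW0 : W ≠ 0 := fun h => by
      rw [h, zero_mul, Nat.factorization_zero, Finsupp.coe_zero, Pi.zero_apply] at h1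
      obtain ⟨θ, hθ⟩ := isPBlock_nonempty hb
      have : 0 < ∑ θ ∈ Finset.univ.filter (· ∈ b), charDegree (θ : H → ℂ) ^ 2 :=
        Finset.sum_pos (fun ψ _ => pow_pos (charDegree_pos ψ) 2)
          ⟨θ, Finset.mem_filter.2 ⟨Finset.mem_univ _, hθ⟩⟩
      rw [← hWQ, h, zero_mul] at this
      exact this.false
    rw [Nat.factorization_mul hW0 Nat.card_pos.ne', Finsupp.add_apply, Q.card_eq_multiplicity,
      hM.1.factorization_pow, Finsupp.single_eq_same] at h1
    have := blockDefect_le (p := p) b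
    omega
  -- invariance of the weights
  have hcj : ∀ (g : G) (θ : IrrCharacter H), μ (cjIrr H g θ) = μ θ := by
    intro g θ
    have hinj : Function.Injective (Char.conjHom H g) := fun x y e => by
      have h : g * (x : G) * g⁻¹ = g * (y : G) * g⁻¹ := congrArg Subtype.val e
      exact Subtype.ext (mul_left_cancel (mul_right_cancel h))
    obtain ⟨R, hR⟩ : ∃ R : Sylow p H, (R : Subgroup H) = ((Q : Subgroup H)).map (Char.conjHom H g) := by
      have hp' : IsPGroup p ((Q : Subgroup H).map (Char.conjHom H g)) := Q.isPGroup'.map _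
      obtain ⟨R, hR⟩ := hp'.exists_le_sylow
      refine ⟨R, (Subgroup.eq_of_le_of_card_ge hR ?_).symm⟩
      rw [Subgroup.card_map_of_injective hinj, R.card_eq_multiplicity, Q.card_eq_multiplicity]
    obtain ⟨h, hh⟩ := MulAction.exists_smul_eq H Q R
    have hcard : (Nat.card (Q : Subgroup H) : ℂ) ≠ 0 := Nat.cast_ne_zero.2 Nat.card_pos.ne'
    have hval : ∀ φ : IrrCharacter H, (μ φ : ℂ) =
        (Nat.card (Q : Subgroup H) : ℂ)⁻¹ * ∑ x : (Q : Subgroup H), (φ : H → ℂ) x := fun φ => by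
      rw [← hm']; simp [classInner, principal]
    rw [← Nat.cast_inj (R := ℂ), hval, hval]
    congr 1
    let e1 : ↥(Q : Subgroup H) → ↥(Q : Subgroup H) := fun x =>
      ⟨h⁻¹ * Char.conjHom H g (x : H) * h, by
        have hx : Char.conjHom H g (x : H) ∈ (R : Subgroup H) := hR ▸ Subgroup.mem_map_of_mem _ x.2
        rw [← hh] at hx
        obtain ⟨z, hz, e⟩ := Subgroup.mem_map.1 hx
        rw [← e]
        show h⁻¹ * (h * z * h⁻¹) * h ∈ _
        simpa [mul_assoc] using hz⟩
    have he1 : Function.Bijective e1 := Finite.injective_iff_bijective.1 fun x y e =>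
      Subtype.ext (hinj (mul_left_cancel (mul_right_cancel
        (show h⁻¹ * Char.conjHom H g (x : H) * h = h⁻¹ * Char.conjHom H g (y : H) * h from
          congrArg Subtype.val e))))
    refine Fintype.sum_bijective e1 he1 _ _ fun x => ?_
    show (θ : H → ℂ) (Char.conjHom H g (x : H)) = (θ : H → ℂ) (h⁻¹ * Char.conjHom H g (x : H) * h)
    conv_rhs => rw [show h⁻¹ * Char.conjHom H g (x : H) * h = h⁻¹ * Char.conjHom H g (x : H) * h⁻¹⁻¹ by
      rw [inv_inv]]
    rw [IsCharacter.isClassFunction (irr_isCharacter θ) _ h⁻¹]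
  have hdeg : ∀ (g : G) (θ : IrrCharacter H),
      charDegree (cjIrr H g θ : H → ℂ) = charDegree (θ : H → ℂ) := fun g θ => by
    simp only [charDegree]
    congr 2
    exact congrArg (θ : H → ℂ) (Subtype.ext (by simp))
  -- the fixed points of a Sylow subgroup of `T`
  obtain ⟨S₀⟩ : Nonempty (Sylow p T) := inferInstance
  obtain ⟨S, hS⟩ : ∃ S, S = (S₀ : Subgroup T).map T.subtype := ⟨_, rfl⟩
  have hST : S ≤ T := hS ▸ Subgroup.map_subtype_le _
  have hSp : IsPGroup p S := hS ▸ S₀.isPGroup'.map _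
  haveI : Fintype b := Fintype.ofFinite _
  letI : MulAction S b :=
    { smul := fun v θ => ⟨cjIrr H (v : G)⁻¹ (θ : IrrCharacter H), hT _ (hST v.2) _ θ.2⟩
      one_smul := fun θ => Subtype.ext (show cjIrr H ((1 : S) : G)⁻¹ (θ : IrrCharacter H) = _ by
        rw [Subgroup.coe_one, inv_one, cjIrr_one])
      mul_smul := fun v w θ => Subtype.ext (show cjIrr H ((v * w : S) : G)⁻¹ (θ : IrrCharacter H) =
          cjIrr H (v : G)⁻¹ (cjIrr H (w : G)⁻¹ (θ : IrrCharacter H)) by
        rw [Subgroup.coe_mul, mul_inv_rev, cjIrr_mul]) }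
  let w : b → ℕ := fun θ =>
    μ (θ : IrrCharacter H) * charDegree ((θ : IrrCharacter H) : H → ℂ) / p ^ (a - d)
  have hdvd : ∀ θ : b, p ^ (a - d) ∣
      μ (θ : IrrCharacter H) * charDegree ((θ : IrrCharacter H) : H → ℂ) := fun θ =>
    dvd_mul_of_dvd_right ((pow_dvd_pow p (degExp_ge hM hb θ.2)).trans (Nat.ordProj_dvd _ _)) _
  have hwinv : ∀ (v : S) (θ : b), w (v • θ) = w θ := fun v θ => by
    show μ (cjIrr H (v : G)⁻¹ (θ : IrrCharacter H)) *
      charDegree (cjIrr H (v : G)⁻¹ (θ : IrrCharacter H) : H → ℂ) / p ^ (a - d) = _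
    rw [hcj, hdeg]
  have hsumw : p ^ (a - d) * ∑ θ : b, w θ = W := by
    rw [Finset.mul_sum, hW, Finset.sum_subtype (p := (· ∈ b)) _ (fun θ => by simp)]
    exact Finset.sum_congr rfl fun θ _ => Nat.mul_div_cancel' (hdvd θ)
  obtain ⟨θ, hθfix, hθw⟩ : ∃ θ : b, (∀ v : S, v • θ = θ) ∧ ¬ p ∣ w θ := by
    by_contra hne
    push Not at hne
    have hc := sum_fixedPoints_congr (M := M) hM (X := b) hSp (fun θ => (w θ : ℂ))
      (fun v θ => by rw [hwinv]) (fun θ => mem_locRing.1 (natCast_mem (locRing M) _))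
    have hfix : MemLocalIdeal M (∑ θ ∈ Finset.univ.filter (fun θ : b => ∀ v : S, v • θ = θ),
        (w θ : ℂ)) := memLocalIdeal_sum _ _ fun θ hθ =>
      (natCast_memLocalIdeal_iff hM _).2 (hne θ (Finset.mem_filter.1 hθ).2)
    have h1 := MemLocalIdeal.add hc hfix
    rw [sub_add_cancel, ← Nat.cast_sum, natCast_memLocalIdeal_iff hM] at h1
    obtain ⟨c, hc⟩ := h1
    rw [hc, ← mul_assoc, ← pow_succ] at hsumw
    have hW0 : W ≠ 0 := fun h => by
      obtain ⟨θ, hθ⟩ := isPBlock_nonempty hb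
      have : 0 < ∑ θ ∈ Finset.univ.filter (· ∈ b), charDegree (θ : H → ℂ) ^ 2 :=
        Finset.sum_pos (fun ψ _ => pow_pos (charDegree_pos ψ) 2)
          ⟨θ, Finset.mem_filter.2 ⟨Finset.mem_univ _, hθ⟩⟩
      rw [← hWQ, h, zero_mul] at this
      exact this.false
    have := (hM.1.pow_dvd_iff_le_factorization hW0).1 (hsumw ▸ Dvd.intro c rfl)
    omega
  refine ⟨θ, θ.2, ?_, fun hd' => ?_⟩
  · rw [blockHeight, sInf_degExp_eq' hM hb]
    have hge := degExp_ge hM hb θ.2
    by_contra hne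
    refine hθw ?_
    have : p ^ (a - d + 1) ∣ μ (θ : IrrCharacter H) * charDegree ((θ : IrrCharacter H) : H → ℂ) :=
      dvd_mul_of_dvd_right ((pow_dvd_pow p (by omega)).trans (Nat.ordProj_dvd _ _)) _
    exact Nat.dvd_div_of_mul_dvd (by rwa [← pow_succ])
  · have hSle : S ≤ T ⊓ inertia H ((θ : IrrCharacter H) : H → ℂ) := fun v hv => by
      refine ⟨hST hv, ?_⟩
      have h1 : cjIrr H v⁻¹ (θ : IrrCharacter H) = θ := congrArg Subtype.val (hθfix ⟨v, hv⟩)
      refine (inertia H ((θ : IrrCharacter H) : H → ℂ)).inv_mem_iff.1 ?_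
      exact congrArg Subtype.val h1
    refine S₀.not_dvd_index ?_
    have h2 := Subgroup.relIndex_dvd_of_le_left T hSle
    have h3 : S.relIndex T = (S₀ : Subgroup T).index := by
      rw [hS, Subgroup.relIndex, Subgroup.subgroupOf,
        Subgroup.comap_map_eq_self_of_injective T.subtype_injective]
    exact hd'.trans (h3 ▸ h2)

theorem exists_pq_congruence {q : ℕ} (hq : q.Prime) (hpq : p ≠ q) {Mq : Ideal AlgInt} [Mq.IsPrime]
    (hMp : IsPModular p M) (hMq : IsPModular q Mq) (hno : ∀ g : G, orderOf g ≠ p * q)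
    {Bp : Set (IrrCharacter G)} (hBp : IsPBlock M Bp) {Bq : Set (IrrCharacter G)}
    (hBq : IsPBlock Mq Bq) {y : G} (hy : p ∣ orderOf y) :
    ∃ ω : AlgInt, ∑ᶠ χ ∈ Bp ∩ Bq, (charDegree (χ : G → ℂ) : ℂ) * (χ : G → ℂ) y =
      (q : ℂ) ^ (Nat.card G).factorization q * (ω : ℂ) := by
  classical
  haveI : Fact q.Prime := ⟨hq⟩
  haveI : Fact p.Prime := ⟨hMp.1⟩
  let c : IrrCharacter G → ℂ := fun χ => if χ ∈ Bp then (χ : G → ℂ) y else 0
  let F : G → ℂ := ∑ χ : IrrCharacter G, c χ • (χ : G → ℂ)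
  have hF : ∀ u, q ∣ orderOf u → F u = 0 := by
    intro u hu
    obtain ⟨a, ha⟩ := exists_isPPart hMp.1 u
    obtain ⟨z, hz⟩ := exists_isPPart hMp.1 y⁻¹
    have hne : ¬ IsConj a z := by
      intro h
      obtain ⟨k, hk⟩ := isConj_iff.1 h
      obtain ⟨v, hv, hcv, ⟨i, hi⟩, hreg⟩ := id ha
      have hpu : p ∣ orderOf u := by
        by_contra hpu
        have ha1 : a = 1 := isPPart_unique hMp.1 ha ((isPPart_one_iff hMp.1).2 hpu)
        rw [← hk, ha1, mul_one, mul_inv_cancel] at hz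
        exact (isPPart_one_iff hMp.1).1 hz (by rwa [orderOf_inv])
      obtain ⟨e, he⟩ := Nat.Coprime.mul_dvd_of_dvd_of_dvd ((Nat.coprime_primes hMp.1 hq).2 hpq) hpu hu
      refine hno (u ^ e) ?_
      have he0 : e ≠ 0 := fun h => (orderOf_pos u).ne' (by rw [he, h, mul_zero])
      rw [orderOf_pow_of_dvd he0 (he ▸ dvd_mul_left e _), he,
        Nat.mul_div_cancel _ (Nat.pos_of_ne_zero he0)]
    have h0 := blockPair_eq_zero_of_pPart hMp hBp ha hz hne
    rw [blockPair_eq_finsum, finsum_mem_eq_finite_toFinset_sum _ (Set.toFinite _)] at h0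
    simp only [F, c, Finset.sum_apply, Pi.smul_apply, smul_eq_mul, ite_mul, zero_mul]
    rw [← Finset.sum_filter]
    refine Eq.trans ?_ h0
    refine Finset.sum_congr (by ext; simp) fun χ _ => ?_
    rw [← irr_inv, inv_inv, mul_comm]
  have hf : ∀ g, blockPart Bq F g = ∑ χ ∈ Finset.univ.filter (· ∈ Bp ∩ Bq),
      (χ : G → ℂ) y * (χ : G → ℂ) g := by
    intro g
    rw [blockPart_eq_sum]
    simp only [F, classInner_combination, c, ite_mul, zero_mul]
    rw [← Finset.sum_filter, Finset.filter_filter]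
    exact Finset.sum_congr (by ext; simp [and_comm]) fun _ _ => rfl
  obtain ⟨Q⟩ : Nonempty (Sylow q G) := inferInstance
  haveI : Fintype (Q : Subgroup G) := Fintype.ofFinite _
  have hvan : ∀ u : (Q : Subgroup G), u ≠ 1 → blockPart Bq F (u : G) = 0 := by
    intro u hu
    obtain ⟨k, hk⟩ := IsPGroup.iff_orderOf.1 Q.isPGroup' u
    have hku : orderOf (u : G) = q ^ k := by rw [Subgroup.orderOf_coe, hk]
    have hdiv : q ∣ orderOf (u : G) := by
      rw [hku]
      refine dvd_pow_self q fun h => hu ?_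
      rw [h, pow_zero] at hk
      exact orderOf_eq_one_iff.1 hk
    have hpart : IsPPart q (u : G) (u : G) :=
      ⟨1, mul_one _, Commute.one_right _, ⟨k, hku⟩, by simpa using hq.ne_one⟩
    refine blockPart_eq_zero hMq hBq F hpart (IsConj.refl _) fun v z hvz huz => hF v ?_
    by_contra hv
    have hz1 : z = 1 := isPPart_unique hq hvz ((isPPart_one_iff hq).2 hv)
    rw [hz1, isConj_one_left] at huz
    exact hu (Subtype.ext huz)
  choose m hm using exists_sum_subgroup_eq (Q : Subgroup G)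
  have hint : IsIntegral ℤ (∑ χ ∈ Finset.univ.filter (· ∈ Bp ∩ Bq), (χ : G → ℂ) y * (m χ : ℂ)) :=
    IsIntegral.sum _ fun χ _ =>
      (IsCharacter.isIntegral (irr_isCharacter χ) y).mul (isIntegral_natCast _)
  refine ⟨⟨_, hint⟩, ?_⟩
  have hQ : Nat.card (Q : Subgroup G) = q ^ (Nat.card G).factorization q := Q.card_eq_multiplicity
  rw [finsum_mem_eq_finite_toFinset_sum _ (Set.toFinite _)]
  have h1 : ∑ u : (Q : Subgroup G), blockPart Bq F (u : G) = blockPart Bq F 1 := by
    rw [Finset.sum_eq_single (1 : (Q : Subgroup G)) (fun u _ hu => hvan u hu)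
      (fun h => absurd (Finset.mem_univ _) h), Subgroup.coe_one]
  simp only [hf] at h1
  rw [Finset.sum_comm] at h1
  simp only [← Finset.mul_sum, hm, hQ, irr_one_eq_charDegree] at h1
  refine Eq.trans (Finset.sum_congr (by ext; simp) fun χ _ => mul_comm _ _) (h1.symm.trans ?_)
  show _ = _ * (∑ χ ∈ Finset.univ.filter (· ∈ Bp ∩ Bq), (χ : G → ℂ) y * (m χ : ℂ))
  rw [Finset.mul_sum]
  refine Finset.sum_congr rfl fun χ _ => ?_
  push_cast; ring

end Cfsg.Agent.BrauerPairs
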