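/-
The columns on the cyclic part of a semidihedral or quaternion defect group, away from the centre.
-/
import Cfsg.Agent.Lib.BrauerPairs.SDQGroup
import Cfsg.Agent.Lib.BrauerPairs.SDQFourier
import Cfsg.Agent.Lib.BrauerPairs.NilpotentColumns
import Cfsg.Agent.Lib.BrauerPairs.SectionHeight
import Cfsg.Agent.Lib.BrauerPairs.WeightedSums
import Cfsg.Agent.Lib.BrauerPairs.DihedralBlock

set_option linter.unusedSectionVars false
set_option linter.style.haveILetI false

namespace Cfsg.Agent.SDQLocal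

open Cfsg MonoidAlgebra Cfsg.Agent.Blocks Cfsg.Agent.BrauerPairs Cfsg.Agent.Char Cfsg.Agent.Star
  Cfsg.Agent.InertiaHeight Cfsg.Agent.LiftPairs Cfsg.Agent.DihedralLocal
  Cfsg.Agent.NilpotentColumns Cfsg.Agent.KnoerrRobinson
open scoped ComplexConjugate

universe u

variable {G : Type u} [Group G] [Fintype G] {M : Ideal AlgInt} [M.IsPrime]
  {B : Set (IrrCharacter G)}

theorem liftP_cjP {C : Subgroup G} (c : C) (b : Pr (resField M) C) :
    liftP C (cjP c b) = cjP (c : G) (liftP C b) := by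
  refine Prod.ext ?_ (gaExt fun g => ?_)
  · show (cjS c b.1).map C.subtype = cjS (c : G) (b.1.map C.subtype)
    rw [cjS, cjS, Subgroup.map_map, Subgroup.map_map]
    rfl
  · show (emb C (cj c b.2)).coeff g = (cj (c : G) (emb C b.2)).coeff g
    rw [coeff_cj]
    by_cases hg : g ∈ C
    · rw [coeff_emb_mem C _ hg, coeff_cj,
        coeff_emb_mem C _ (mul_mem (mul_mem (inv_mem c.2) hg) c.2)]
      rfl
    · rw [coeff_emb_notMem C _ hg, coeff_emb_notMem C]
      intro hc
      exact hg (by simpa [mul_assoc] using mul_mem (mul_mem c.2 hc) (inv_mem c.2))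

/-- A local block whose defect group is the whole centraliser in the defect group. -/
theorem exists_localMax_eq [CharP (resField M) 2] {a : Pr (resField M) G}
    (hmax : IsMax 2 (Ek M B) a) {u : G} (hu : u ∈ a.1) {b : Set (IrrCharacter (secC u))}
    {aC : Pr (resField M) (secC u)} (L : LocalMax M B a u b aC)
    (hcard : Nat.card aC.1 ≤ Nat.card (a.1 ⊓ secC u : Subgroup G)) :
    ∃ aC' : Pr (resField M) (secC u), IsMax 2 (Ek M b) aC' ∧
      aC'.1.map (secC u).subtype = a.1 ⊓ secC u ∧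
      SubLE 2 ⊤ (liftP (secC u) aC') a ∧
      Subgroup.centralizer ((aC'.1.map (secC u).subtype : Subgroup G) : Set G) ≤ secC u := by
  classical
  haveI : Fact (Nat.Prime 2) := ⟨Nat.prime_two⟩
  set K : Subgroup G := a.1 ⊓ (secC u) with hK
  have huK : u ∈ K := ⟨hu, mem_secC.2 rfl⟩
  obtain ⟨e, he, -⟩ := existsUnique_below hmax.pair (Q := K) inf_le_left
  have hKp : IsPair 2 ⊤ ((K, e) : Pr (resField M) G) := he.left hmax.pair
  obtain ⟨f, hf, -⟩ := existsUnique_below hKp (Q := Subgroup.zpowers u)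
    (Subgroup.zpowers_le.2 huK)
  have hfe : f = zB M (secC u) b := (existsUnique_below hmax.pair (Subgroup.zpowers_le.2 hu)).unique
    (Relation.ReflTransGen.trans hf he) L.below
  rw [hfe] at hf
  have hcentU : (secC u) = Subgroup.centralizer ((Subgroup.zpowers u : Subgroup G) : Set G) := by
    rw [centralizer_zpowers_eq, secC_eq]
  have hNz : (secC u) ≤ Subgroup.normalizer ((Subgroup.zpowers u : Subgroup G) : Set G) :=
    hcentU.le.trans (Subgroup.centralizer_le_normalizer _)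
  have hCK : Subgroup.centralizer (K : Set G) ≤ (secC u) := by
    refine le_of_le_of_eq ?_ hcentU.symm
    exact Subgroup.centralizer_le (Subgroup.zpowers_le.2 huK)
  have hKpair : IsPairOf 2 (secC u) (zB M (secC u) b) ((K, e) : Pr (resField M) G) :=
    ⟨(isPair_sub_iff hCK).2 ⟨hKp, inf_le_right⟩, isBlk_zB (secC u) L.blk,
      (hf.nsub hKp (inf_le_right.trans hNz)).occ⟩
  have hDg : IsDefGrp 2 (secC u) (zB M (secC u) b) (aC.1.map (secC u).subtype) :=
    (isDefectGroup_sub_iff L.blk _).1 ((isDefectGroup_iff L.blk _).2 L.max.isDef)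
  have hno : NoExt 2 (secC u) ((K, e) : Pr (resField M) G) := fun d hd =>
    (Subgroup.eq_of_le_of_card_ge hd.le (by
      refine ((hd.pairOf_right hKpair).card_le hDg).trans ?_
      rw [Nat.card_congr
        (Subgroup.equivMapOfInjective aC.1 (secC u).subtype (secC u).subtype_injective).toEquiv.symm]
      exact hcard)).symm
  have hKD : IsDefGrp 2 (secC u) (zB M (secC u) b) K := hno.isDefGrp hKpair
  have hmapK : (K.subgroupOf (secC u)).map (secC u).subtype = K :=
    Subgroup.map_subgroupOf_eq_of_le inf_le_right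
  have hdf : IsDefectGroup 2 M b (K.subgroupOf (secC u)) :=
    (isDefectGroup_sub_iff L.blk _).2 (by rw [hmapK]; exact hKD)
  obtain ⟨eC, heC⟩ := exists_pairOf_defGrp (isBlk_Ek L.blk) ((isDefectGroup_iff L.blk _).1 hdf)
  have hpair' : IsPairOf 2 (secC u) (zB M (secC u) b) (liftP (secC u) ((K.subgroupOf (secC u), eC) : Pr (resField M) (secC u))) := by
    refine ⟨(isPair_sub_iff (show Subgroup.centralizer
        (((K.subgroupOf (secC u)).map (secC u).subtype : Subgroup G) : Set G) ≤ (secC u) by rw [hmapK]; exact hCK)).2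
      ⟨isPair_liftP heC.pair (by rw [hmapK]; exact hCK), Subgroup.map_subtype_le _⟩,
      isBlk_zB (secC u) L.blk, ?_⟩
    show brTrunc ((K.subgroupOf (secC u)).map (secC u).subtype) (emb (secC u) (Ek M b)) * emb (secC u) eC = emb (secC u) eC
    rw [brTrunc_emb, ← map_mul, heC.occ]
  obtain ⟨c, hc, hce⟩ := exists_conj_defect_pair hKpair hpair' hKD
    (show IsDefGrp 2 (secC u) (zB M (secC u) b) ((K.subgroupOf (secC u)).map (secC u).subtype) by rw [hmapK]; exact hKD)
  refine ⟨cjP (⟨c, hc⟩ : (secC u)) (K.subgroupOf (secC u), eC), isMax_cjP ⟨heC, (isDefectGroup_iff L.blk _).1 hdf⟩ _,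
    ?_, ?_, ?_⟩
  · exact (congrArg Prod.fst (liftP_cjP (⟨c, hc⟩ : (secC u)) (K.subgroupOf (secC u), eC))).trans
      (congrArg Prod.fst hce)
  · rw [liftP_cjP, hce]
    exact he
  · rw [show (cjP (⟨c, hc⟩ : (secC u)) ((K.subgroupOf (secC u), eC) : Pr (resField M) (secC u))).1.map (secC u).subtype = K from
      (congrArg Prod.fst (liftP_cjP (⟨c, hc⟩ : (secC u)) (K.subgroupOf (secC u), eC))).trans
        (congrArg Prod.fst hce)]
    exact hCK

theorem blockHeight_pullB {K K' : Type u} [Group K] [Fintype K] [Group K'] [Fintype K']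
    (e : K ≃* K') (b : Set (IrrCharacter K')) (θ : IrrCharacter K') :
    blockHeight 2 (pullB e b) (pullIrr e θ : K → ℂ) = blockHeight 2 b (θ : K' → ℂ) := by
  have himg : (fun χ : IrrCharacter K => (charDegree (χ : K → ℂ)).factorization 2) '' pullB e b =
      (fun χ : IrrCharacter K' => (charDegree (χ : K' → ℂ)).factorization 2) '' b := by
    ext n
    constructor
    · rintro ⟨χ, hχ, rfl⟩
      exact ⟨pullIrr e.symm χ, hχ, by simp [charDegree, pullIrr_apply]⟩
    · rintro ⟨χ, hχ, rfl⟩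
      exact ⟨pullIrr e χ, (pullIrr_mem_pullB e b χ).2 hχ, by simp [charDegree, pullIrr_apply]⟩
  rw [blockHeight, blockHeight, himg]
  simp [charDegree, pullIrr_apply]

/-- An outer involution of a stable block fixes a character of height zero. -/
theorem exists_fixed_heightZero (hM : IsPModular 2 M) {C : Subgroup G}
    {bC : Set (IrrCharacter C)} (hb : IsPBlock M bC) {y : G} (hC : cjS y C = C) (hy2 : y * y ∈ C)
    (hst : pullB (cjEquiv y hC) bC = bC) :
    ∃ θ ∈ bC, blockHeight 2 bC (θ : C → ℂ) = 0 ∧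
      ∀ c : C, (θ : C → ℂ) (cjEquiv y hC c) = (θ : C → ℂ) c := by
  classical
  set N := Subgroup.normalizer (C : Set G) with hN
  have hCN : C ≤ N := Subgroup.le_normalizer
  set H := C.subgroupOf N with hH
  haveI : H.Normal := Subgroup.normal_in_normalizer
  set yN : N := ⟨y, mem_normalizer_of_cjS_eq hC⟩ with hyN
  set ε : H ≃* C := Subgroup.subgroupOfEquivOfLe hCN with hε
  set b' := pullB ε bC with hb'
  set T := Subgroup.zpowers yN with hT
  have hcj : ∀ θ : IrrCharacter H, ∀ w : H, (cjIrr H yN θ : H → ℂ) w =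
      (θ : H → ℂ) (ε.symm (cjEquiv y hC (ε w))) := by
    intro θ w
    exact congrArg (θ : H → ℂ) (Subtype.ext (Subtype.ext rfl))
  have hy : ∀ θ ∈ b', cjIrr H yN θ ∈ b' := by
    intro θ hθ
    show pullIrr ε.symm (cjIrr H yN θ) ∈ bC
    rw [← hst]
    show pullIrr (cjEquiv y hC).symm (pullIrr ε.symm (cjIrr H yN θ)) ∈ bC
    have e : pullIrr (cjEquiv y hC).symm (pullIrr ε.symm (cjIrr H yN θ)) = pullIrr ε.symm θ :=
      Subtype.ext (funext fun c => by
        rw [pullIrr_apply, pullIrr_apply, hcj, pullIrr_apply, MulEquiv.apply_symm_apply,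
          MulEquiv.apply_symm_apply])
    rw [e]
    exact hθ
  have hmem : ∀ g ∈ H, ∀ θ : IrrCharacter H, cjIrr H g θ = θ := fun g hg θ => Subtype.ext
    (conjChar_of_mem H (IsCharacter.isClassFunction (irr_isCharacter θ)) hg)
  have hy2H : yN * yN ∈ H := hy2
  have hyinv : ∀ θ, cjIrr H yN⁻¹ θ = cjIrr H yN θ := fun θ => by
    conv_rhs => rw [show yN = yN * yN * yN⁻¹ by group, cjIrr_mul, hmem _ hy2H]
  have hT' : ∀ g ∈ T, ∀ θ ∈ b', cjIrr H g⁻¹ θ ∈ b' := by
    suffices hs : ∀ g ∈ T, ∀ θ ∈ b', cjIrr H g θ ∈ b' from fun g hg => hs _ (inv_mem hg)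
    intro g hg
    obtain ⟨i, rfl⟩ := Subgroup.mem_zpowers_iff.1 hg
    induction i with
    | zero => simp [cjIrr_one]
    | succ n ih =>
      intro θ hθ
      rw [zpow_add_one, cjIrr_mul]
      exact hy _ (ih (zpow_mem (Subgroup.mem_zpowers _) _) θ hθ)
    | pred n ih =>
      intro θ hθ
      rw [zpow_sub_one, cjIrr_mul, hyinv]
      exact hy _ (ih (zpow_mem (Subgroup.mem_zpowers _) _) θ hθ)
  obtain ⟨θ, hθ, hθ0, hidx⟩ :=
    exists_heightZero_stable hM H (isPBlock_pullB ε hb) T hT'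
  have hyI : yN ∈ inertia H (θ : H → ℂ) := by
    by_contra hni
    refine hidx ?_
    have hle : ∀ g ∈ T, g * g ∈ T ⊓ inertia H (θ : H → ℂ) := fun g hg => by
      refine ⟨mul_mem hg hg, ?_⟩
      obtain ⟨i, rfl⟩ := Subgroup.mem_zpowers_iff.1 hg
      rw [← zpow_add, ← two_mul, zpow_mul, zpow_two]
      exact zpow_mem (le_inertia H (IsCharacter.isClassFunction (irr_isCharacter θ)) hy2H) _
    have h2 : (T ⊓ inertia H (θ : H → ℂ)).relIndex T = 2 := by
      rw [Subgroup.relIndex, Subgroup.index_eq_two_iff]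
      refine ⟨⟨yN, Subgroup.mem_zpowers _⟩, ?_⟩
      rintro ⟨g, hg⟩
      obtain ⟨i, rfl⟩ := Subgroup.mem_zpowers_iff.1 hg
      simp only [Subgroup.mem_subgroupOf, Subgroup.coe_mul, ← zpow_add_one]
      have key : ∀ j : ℤ, yN ^ j ∈ T ⊓ inertia H (θ : H → ℂ) ↔ Even j := by
        intro j
        rcases Int.even_or_odd' j with ⟨k, rfl | rfl⟩
        · rw [zpow_mul, zpow_two]
          exact iff_of_true (zpow_mem (hle _ (Subgroup.mem_zpowers _)) _) (even_two_mul k)
        · rw [zpow_add_one, zpow_mul, zpow_two]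
          refine iff_of_false (fun h => hni ?_) (Int.not_even_two_mul_add_one k)
          exact ((Subgroup.mul_mem_cancel_left _ (zpow_mem (hle _ (Subgroup.mem_zpowers _)) _)).1 h).2
      rw [key, key]
      rcases Int.even_or_odd i with he | he
      · exact Or.inr ⟨he, fun h => (Int.not_even_iff_odd.2 he.add_one) h⟩
      · exact Or.inl ⟨he.add_one, Int.not_even_iff_odd.2 he⟩
    rw [h2]
  refine ⟨pullIrr ε.symm θ, hθ, ?_, fun c => ?_⟩
  · rw [← blockHeight_pullB ε bC (pullIrr ε.symm θ), pullIrr_pullIrr]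
    exact hθ0
  · rw [pullIrr_apply, pullIrr_apply]
    have h1 := congrFun ((mem_inertia H).1 hyI) (ε.symm c)
    have h2 := hcj θ (ε.symm c)
    rw [cjIrr_apply, MulEquiv.apply_symm_apply] at h2
    exact h2.symm.trans h1

/-- The columns of the cyclic part away from the centre. -/
structure Cols (M : Ideal AlgInt) [M.IsPrime] (B : Set (IrrCharacter G))
    (a : Pr (resField M) G) (d : SDQ.Data a.1) (ν : IrrCharacter G → G → ℂ) : Prop where
  expand : ∀ (χ : IrrCharacter G) (ζ : ℂ), IsPrimitiveRoot ζ (2 * d.h) → ∃ A : ℕ → ℕ,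
    (∀ i : ℤ, ¬ (d.h : ℤ) ∣ i →
      ν χ (d.x ^ i) = ∑ j ∈ Finset.range (2 * d.h), (A j : ℂ) * ζ ^ (i * (j : ℤ))) ∧
    ν χ 1 = ∑ j ∈ Finset.range (2 * d.h), (A j : ℂ)
  sym : ∀ χ (i : ℤ), ¬ (d.h : ℤ) ∣ i → ν χ (d.x ^ (d.τ * i)) = ν χ (d.x ^ i)
  loc : ∀ i : ℤ, ¬ (d.h : ℤ) ∣ i → ∃ b P, LocalData M B a ν (d.x ^ i) b P
  base : ∀ χ ∈ B, MemLocalRing M (ν χ 1 / (2 : ℂ) ^ blockHeight 2 B (χ : G → ℂ)) ∧
    ∀ χ₀ ∈ B, blockHeight 2 B (χ₀ : G → ℂ) = 0 →
      (MemLocalIdeal M (ν χ 1 / (2 : ℂ) ^ blockHeight 2 B (χ : G → ℂ)) ↔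
        MemLocalIdeal M (ν χ₀ 1))

set_option maxHeartbeats 1600000 in
theorem exists_cols (hM : IsPModular 2 M) (hB : IsPBlock M B) [CharP (resField M) 2]
    {a : Pr (resField M) G} (hmax : IsMax 2 (Ek M B) a) (d : SDQ.Data a.1) :
    ∃ ν, Cols M B a d ν := by
  classical
  haveI : Fact (Nat.Prime 2) := ⟨Nat.prime_two⟩
  have hh := d.h_pos
  have hq0 := d.q_pos
  have hhq : (d.h : ℤ) = 2 * (d.q : ℤ) := by rw [d.hq]; push_cast; rfl
  have hqh : ¬ (d.h : ℤ) ∣ (d.q : ℤ) := fun hd => by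
    have := Int.le_of_dvd (by omega) hd
    omega
  obtain ⟨s, hs⟩ := d.h_pow
  set u := d.x ^ (d.q : ℤ) with hu
  have hua : u ∈ a.1 := zpow_mem d.hx _
  set C := secC u with hC
  obtain ⟨b₄, aC₀, L⟩ : ∃ (b₄ : Set (IrrCharacter C)) (aC₀ : Pr (resField M) C),
      LocalMax M B a u b₄ aC₀ := exists_localMax hM hB hmax hua
  have hKC : a.1 ⊓ C = Subgroup.zpowers d.x := d.cent_cyclic hqh
  have hK : Nat.card (a.1 ⊓ C : Subgroup G) = 2 * d.h := d.card_cent_cyclic hqh
  have hcard : Nat.card aC₀.1 ≤ Nat.card (a.1 ⊓ C : Subgroup G) := by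
    obtain ⟨g, hg, hgs⟩ := L.cjg
    have hva : g * u * g⁻¹ ∈ a.1 := hgs.le (mem_cjS_of_eq (Subgroup.mem_zpowers u))
    have h1 : Nat.card aC₀.1 ≤ Nat.card (a.1 ⊓ secC (g * u * g⁻¹) : Subgroup G) := by
      rw [← L.card_map, ← card_cjS g]
      exact Subgroup.card_le_of_le hg
    refine h1.trans ?_
    rw [hK]
    by_cases hvx : g * u * g⁻¹ ∈ Subgroup.zpowers d.x
    · obtain ⟨i, hi⟩ := Subgroup.mem_zpowers_iff.1 hvx
      rw [← hi]
      refine (d.card_cent_cyclic fun hd => hqh ?_).le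
      have h2 : d.x ^ (2 * i) = 1 := by rw [d.zpow_eq_one]; exact mul_dvd_mul_left 2 hd
      rw [mul_comm, zpow_mul, hi, conj_zpow, hu, ← zpow_mul, conj_eq_one_iff, d.zpow_eq_one,
        mul_comm (d.q : ℤ)] at h2
      exact Int.dvd_of_mul_dvd_mul_left two_ne_zero h2
    · rw [d.card_cent_out hva hvx]
      omega
  obtain ⟨aC, hmaxC, hmap, hlift, hCa⟩ := exists_localMax_eq hmax hua L hcard
  rw [hKC] at hmap
  have hnil : IsNilB 2 ⊤ (Ek M b₄) := by
    refine isNilB_of_fix hmaxC fun Q hQ g hg _ hodd => ?_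
    exact SDQ.fix_cyclic (c := d.x) (s := s + 1) (by rw [d.hxo, hs, pow_succ']) (hmap ▸ hQ) hg hodd
  have hpB : IsPairOf 2 ⊤ (Ek M B) (liftP C aC) := hlift.pairOf_iff.2 hmax.pairOf
  -- the action of `y`
  have hyu : d.y * u * d.y⁻¹ = u⁻¹ := by
    rw [hu, ← conj_zpow, d.conj, ← zpow_mul, ← zpow_neg, d.zpow_eq]
    rcases d.τ_cases with h | ⟨h, hq2⟩ <;> rw [h]
    · exact ⟨0, by ring⟩
    · obtain ⟨e, he⟩ := hq2
      refine ⟨(e : ℤ), ?_⟩
      rw [hhq, he]; push_cast; ring
  have hCinv : secC u⁻¹ = C := by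
    ext g
    rw [mem_secC, hC, mem_secC]
    exact ⟨fun h => by
      have := (show Commute g u⁻¹ from h).inv_right
      rwa [inv_inv] at this, fun h => (show Commute g u from h).inv_right.eq⟩
  have hCy : cjS d.y C = C := by rw [hC, cjS_secC, hyu, hCinv, hC]
  have hy2 : d.y * d.y ∈ C := by
    rcases d.y_sq with h | h <;> rw [h]
    · exact one_mem _
    · exact mem_secC.2 (d.z_comm hua).symm
  have hay : cjP d.y a = a := by
    have h := self_le_stabP hmax.pair.blkC d.hy
    exact Prod.ext (cjS_eq_of_mem_normalizer h.1) h.2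
  have hst : pullB (cjEquiv d.y hCy) b₄ = b₄ := by
    have hb' : IsPBlock M (pullB (cjEquiv d.y hCy) b₄) := isPBlock_pullB _ L.blk
    refine zB_injective C hb' L.blk ?_
    have h1 : SubLE 2 ⊤ (cjP d.y⁻¹ ((Subgroup.zpowers u, zB M C b₄) : Pr (resField M) G)) a := by
      have := L.below.cjT d.y⁻¹
      have e := congrArg (cjP d.y⁻¹) hay
      rw [cjP_cjP, inv_mul_cancel, cjP_one] at e
      rwa [← e] at this
    have e2 : cjP d.y⁻¹ ((Subgroup.zpowers u, zB M C b₄) : Pr (resField M) G) =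
        (Subgroup.zpowers u, zB M C (pullB (cjEquiv d.y hCy) b₄)) := by
      refine Prod.ext ?_ ?_
      · show cjS d.y⁻¹ (Subgroup.zpowers u) = Subgroup.zpowers u
        have e3 : d.y⁻¹ * u * d.y⁻¹⁻¹ = u⁻¹ := by
          have h4 := congrArg (fun w => d.y⁻¹ * w⁻¹ * d.y) hyu
          simp only [inv_inv] at h4
          calc d.y⁻¹ * u * d.y⁻¹⁻¹ = d.y⁻¹ * u * d.y := by rw [inv_inv]
            _ = d.y⁻¹ * (d.y * u * d.y⁻¹)⁻¹ * d.y := h4.symm
            _ = u⁻¹ := by group
        rw [cjS_zpowers, e3, Subgroup.zpowers_inv]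
      · show cj d.y⁻¹ (zB M C b₄) = _
        rw [zB_pullB d.y hCy L.blk, cj_inv_cj]
    rw [e2] at h1
    exact (existsUnique_below hmax.pair (Subgroup.zpowers_le.2 hua)).unique h1 L.below
  obtain ⟨χ₀, hχ₀, h00, hfix⟩ := exists_fixed_heightZero hM L.blk hCy hy2 hst
  obtain ⟨ν, hone, hnorm, hexp, hloc⟩ := exists_columns hM hB L.blk hmaxC hnil hCa hpB hχ₀ h00
  set f := extFn C (χ₀ : C → ℂ) with hf
  have hfy : ∀ g, f (d.y * g * d.y⁻¹) = f g := by
    intro g
    by_cases hg : g ∈ C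
    · have e := extFn_coe C (χ₀ : C → ℂ) ⟨g, hg⟩
      rw [show d.y * g * d.y⁻¹ = ((cjEquiv d.y hCy ⟨g, hg⟩ : C) : G) from rfl, hf, extFn_coe,
        hfix]
      exact e.symm
    · have hg' : d.y * g * d.y⁻¹ ∉ C := fun hc => hg (by
        rw [← hCy, mem_cjS] at hc
        simpa [mul_assoc] using hc)
      simp only [hf, extFn]
      rw [dif_neg hg, dif_neg hg']
  -- centralisers
  have hroot : ∀ i : ℤ, ¬ (d.h : ℤ) ∣ i → secC (d.x ^ i) ≤ C := by
    intro i hi g hg
    obtain ⟨k, hk⟩ : ∃ k : ℤ, d.x ^ (i * k) = u := by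
      obtain ⟨s', hs'⟩ := d.q_pow
      have hgd : (Int.gcd i ((2 * d.h : ℕ) : ℤ)) ∣ d.q := by
        obtain ⟨t, ht, hte⟩ := (Nat.dvd_prime_pow Nat.prime_two).1
          (show Int.gcd i ((2 * d.h : ℕ) : ℤ) ∣ 2 ^ (s' + 2) by
            have := Int.gcd_dvd_natAbs_right i ((2 * d.h : ℕ) : ℤ)
            rw [Int.natAbs_natCast, d.hq, hs'] at this
            rw [d.hq, hs']
            convert this using 1; ring)
        rw [hte, hs']
        refine pow_dvd_pow 2 ?_
        by_contra hlt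
        refine hi (dvd_trans ?_ (Int.gcd_dvd_left i ((2 * d.h : ℕ) : ℤ)))
        rw [hte, d.hq, hs', ← pow_succ']
        exact_mod_cast pow_dvd_pow 2 (by omega : s' + 1 ≤ t)
      obtain ⟨m, hm⟩ := hgd
      refine ⟨Int.gcdA i ((2 * d.h : ℕ) : ℤ) * m, ?_⟩
      rw [hu, d.zpow_eq]
      refine ⟨-(Int.gcdB i ((2 * d.h : ℕ) : ℤ) * m), ?_⟩
      have hq' : (d.q : ℤ) = (Int.gcd i ((2 * d.h : ℕ) : ℤ) : ℤ) * (m : ℤ) := by exact_mod_cast hm
      rw [hq', Int.gcd_eq_gcd_ab]
      push_cast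
      ring
    refine mem_secC.2 ?_
    rw [← hk, zpow_mul]
    exact ((show Commute g (d.x ^ i) from mem_secC.1 hg).zpow_right k).eq
  have hmemC : ∀ i : ℤ, d.x ^ i ∈ aC.1.map C.subtype := fun i =>
    hmap ▸ zpow_mem (Subgroup.mem_zpowers d.x) i
  have hloc' : ∀ i : ℤ, ¬ (d.h : ℤ) ∣ i → ∃ b P, LocalData M B a ν (d.x ^ i) b P ∧
      P = blockPart b (secFun (d.x ^ i) (secC (d.x ^ i)) f) := by
    intro i hi
    obtain ⟨b, P, hL, hP⟩ := hloc _ (hmemC i) (hroot i hi)
    refine ⟨b, P, ⟨hL.ind, hL.rank, ?_, hL.sub.trans hlift, hL.cls, hL.intg, hL.unit, hL.self,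
      hL.norm, hL.part⟩, hP⟩
    rw [hL.defect]
    show Nat.card (aC.1.map C.subtype ⊓ secC (d.x ^ i) : Subgroup G) = _
    rw [d.cent_cyclic hi, hmap, inf_eq_left.2]
    exact Subgroup.zpowers_le.2 (mem_secC.2 (Commute.self_zpow d.x i).eq)
  refine ⟨ν, fun χ ζ hζ => ?_, fun χ i hi => ?_,
    fun i hi => let ⟨b, P, hL, _⟩ := hloc' i hi; ⟨b, P, hL⟩, fun χ hχ => ?_⟩
  · have hx1 : d.x ^ (2 * d.h) = 1 := by rw [← d.hxo, pow_orderOf_eq_one]
    obtain ⟨A, hA⟩ := hexp χ d.x (by simpa using hmemC 1) (2 * d.h) (by omega) hx1 ζ hζ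
    refine ⟨A, fun i _ => ?_, ?_⟩
    · set n := (i % (2 * (d.h : ℤ))).toNat with hn
      have hn' : 2 * (d.h : ℤ) ∣ i - (n : ℤ) := by
        rw [hn, Int.toNat_of_nonneg (Int.emod_nonneg _ (by omega))]
        exact ⟨i / (2 * (d.h : ℤ)), by
          linear_combination (-1 : ℤ) * Int.emod_add_mul_ediv i (2 * (d.h : ℤ))⟩
      rw [(d.zpow_eq i (n : ℤ)).2 hn', zpow_natCast, hA n]
      refine Finset.sum_congr rfl fun j _ => ?_
      congr 1
      rw [← zpow_natCast]
      refine SDQFourier.zpow_congr d.h_pos hζ ?_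
      have := dvd_mul_of_dvd_left hn' (j : ℤ)
      push_cast
      rw [show (n : ℤ) * j - i * j = -((i - n) * j) by ring, dvd_neg]
      exact this
    · have := hA 0
      simpa using this
  · -- the symmetry
    set u₁ := d.x ^ i with hu₁
    have hconj : d.y * u₁ * d.y⁻¹ = d.x ^ (d.τ * i) := by
      rw [hu₁, ← conj_zpow, d.conj, ← zpow_mul]
    have hi' : ¬ (d.h : ℤ) ∣ d.τ * i := by
      refine (SDQFourier.Twist.mid_mul (q := d.q) ⟨d.hq, d.q_pow, d.τ_cases⟩) hi
    obtain ⟨b, P, hL, hP⟩ := hloc' i hi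
    obtain ⟨b', P', hL', hP'⟩ := hloc' _ hi'
    have hCu : cjS d.y (secC u₁) = secC (d.x ^ (d.τ * i)) := by rw [cjS_secC, hconj]
    set e := cjEquiv d.y hCu with he
    have hbb : b' = pullB e.symm b := by
      refine zB_injective _ hL'.ind.1 (isPBlock_pullB e.symm hL.ind.1) ?_
      rw [zB_pullB d.y hCu (isPBlock_pullB e.symm hL.ind.1), pullB_pullB]
      have h1 : SubLE 2 ⊤ (cjP d.y ((Subgroup.zpowers u₁, zB M (secC u₁) b) : Pr (resField M) G))
          a := by
        have := hL.sub.cjT d.y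
        rwa [hay] at this
      have e1 : cjP d.y ((Subgroup.zpowers u₁, zB M (secC u₁) b) : Pr (resField M) G) =
          (Subgroup.zpowers (d.x ^ (d.τ * i)), cj d.y (zB M (secC u₁) b)) :=
        Prod.ext ((cjS_zpowers d.y _).trans (congrArg Subgroup.zpowers hconj)) rfl
      rw [e1] at h1
      exact (existsUnique_below hmax.pair (Subgroup.zpowers_le.2 (zpow_mem d.hx _))).unique
        hL'.sub h1
    obtain ⟨t, ht, htP⟩ := DihedralBlock.exists_ne_zero hL
    have hts : ¬ 2 ∣ orderOf (e t) := by rwa [MulEquiv.orderOf_eq]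
    have hsec : ∀ F : G → ℂ, (∀ g, F (d.y * g * d.y⁻¹) = F g) →
        blockPart b' (secFun (d.x ^ (d.τ * i)) (secC (d.x ^ (d.τ * i))) F) (e t) =
          blockPart b (secFun u₁ (secC u₁) F) t := by
      intro F hF
      rw [hbb, ← blockPart_pullB e, pullB_pullB]
      congr 1
      funext w
      show F (d.x ^ (d.τ * i) * (e w : G)) = F (u₁ * (w : G))
      rw [he, coe_cjEquiv, ← hconj, show d.y * u₁ * d.y⁻¹ * (d.y * (w : G) * d.y⁻¹) =
        d.y * (u₁ * (w : G)) * d.y⁻¹ by group, hF]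
    have hPP : P' (e t) = P t := by rw [hP, hP']; exact hsec f hfy
    have hχy := hsec (χ : G → ℂ) fun g => IsCharacter.isClassFunction (irr_isCharacter χ) g d.y
    rw [hL'.part χ _ hts, hL.part χ t ht, hPP] at hχy
    exact mul_right_cancel₀ htP hχy
  · -- the valuation at the identity
    let N₄ : Subgroup G :=
      { carrier := {g | g ∈ C ∨ g * d.y ∈ C}
        one_mem' := Or.inl (one_mem C)
        mul_mem' := fun {g k} hg hk => by
          have hn : ∀ {w : G}, w ∈ C → d.y * w * d.y⁻¹ ∈ C := fun {w} hw => hCy ▸ ⟨w, hw, rfl⟩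
          have hn' : ∀ {w : G}, w ∈ C → d.y⁻¹ * w * d.y ∈ C := fun {w} hw => by
            rw [← hCy, mem_cjS] at hw
            exact hw
          rcases hg with hg | hg <;> rcases hk with hk | hk
          · exact Or.inl (mul_mem hg hk)
          · exact Or.inr (by rw [mul_assoc]; exact mul_mem hg hk)
          · right
            rw [show g * k * d.y = g * d.y * (d.y⁻¹ * k * d.y) by group]
            exact mul_mem hg (hn' hk)
          · left
            rw [show g * k = g * d.y * (d.y⁻¹ * (k * d.y) * d.y) * (d.y * d.y)⁻¹ by group]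
            exact mul_mem (mul_mem hg (hn' hk)) (inv_mem hy2)
        inv_mem' := fun {g} hg => by
          rcases hg with hg | hg
          · exact Or.inl (inv_mem hg)
          · right
            rw [show g⁻¹ * d.y = d.y * (g * d.y)⁻¹ * d.y⁻¹ * (d.y * d.y) by group]
            exact mul_mem (hCy ▸ ⟨_, inv_mem hg, rfl⟩) hy2 }
    have hCN : C ≤ N₄ := fun g hg => Or.inl hg
    have hyC : d.y ∉ C := fun hy => by
      have h1 : d.y * u * d.y⁻¹ = u := mul_inv_eq_iff_eq_mul.2 (mem_secC.1 hy)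
      rw [hyu, hu, ← zpow_neg, d.zpow_eq] at h1
      have h2 : 2 * (d.h : ℤ) ∣ 2 * (d.q : ℤ) := by
        rw [show 2 * (d.q : ℤ) = -(-(d.q : ℤ) - d.q) by ring]
        exact dvd_neg.2 h1
      have := Int.le_of_dvd (show (0 : ℤ) < 2 * (d.q : ℤ) by omega) h2
      omega
    have hcardN : Nat.card N₄ = 2 * Nat.card C := by
      have hidx : (C.subgroupOf N₄).index = 2 := by
        rw [Subgroup.index_eq_two_iff]
        refine ⟨⟨d.y, Or.inr hy2⟩, fun ⟨g, hg⟩ => ?_⟩
        simp only [Subgroup.mem_subgroupOf, Subgroup.coe_mul]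
        by_cases hgC : g ∈ C
        · exact Or.inr ⟨hgC, fun h => hyC ((Subgroup.mul_mem_cancel_left _ hgC).1 h)⟩
        · exact Or.inl ⟨hg.resolve_left hgC, hgC⟩
      have := (C.subgroupOf N₄).card_mul_index
      rw [hidx, Nat.card_congr (Subgroup.subgroupOfEquivOfLe hCN).toEquiv] at this
      omega
    have hfN : ∀ n ∈ N₄, ∀ g, f (n * g * n⁻¹) = f g := by
      have hfC : ∀ n ∈ C, ∀ g, f (n * g * n⁻¹) = f g := by
        intro n hn g
        by_cases hg : g ∈ C
        · rw [hf, show n * g * n⁻¹ = (((⟨n, hn⟩ * ⟨g, hg⟩ * ⟨n, hn⟩⁻¹ : C)) : G) from rfl,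
            extFn_coe, IsCharacter.isClassFunction (irr_isCharacter χ₀)]
          exact (extFn_coe C (χ₀ : C → ℂ) ⟨g, hg⟩).symm
        · simp only [hf, extFn]
          rw [dif_neg hg, dif_neg fun hc => hg (by
            simpa [mul_assoc] using mul_mem (mul_mem (inv_mem hn) hc) hn)]
      rintro n (hn | hn) g
      · exact hfC n hn g
      · rw [show n * g * n⁻¹ = n * d.y * (d.y⁻¹ * g * d.y) * (n * d.y)⁻¹ by group, hfC _ hn]
        conv_rhs => rw [show g = d.y * (d.y⁻¹ * g * d.y) * d.y⁻¹ by group, hfy]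
    set v : G → ℂ := fun g => ∑ q : G ⧸ N₄, f (q.out⁻¹ * g * q.out) with hv
    have hvc : IsClassFunction G v := by
      intro g k
      simp only [hv]
      refine Fintype.sum_equiv (MulAction.toPerm (k⁻¹ : G)) _ _ fun q => ?_
      show _ = f ((k⁻¹ • q).out⁻¹ * g * (k⁻¹ • q).out)
      obtain ⟨n, hn⟩ := QuotientGroup.mk_out_eq_mul N₄ (k⁻¹ * q.out)
      rw [show k⁻¹ • q = ((k⁻¹ * q.out : G) : G ⧸ N₄) by
        conv_lhs => rw [← q.out_eq']
        rfl, hn, show (k⁻¹ * q.out * (n : G))⁻¹ * g * (k⁻¹ * q.out * (n : G)) =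
        (n : G)⁻¹ * (q.out⁻¹ * (k * g * k⁻¹) * q.out) * (n : G)⁻¹⁻¹ by group, hfN _ (inv_mem n.2)]
    have hfint : ∀ g, IsIntegral ℤ (f g) := fun g => by
      simp only [hf, extFn]
      split_ifs
      · exact irr_isIntegral χ₀ _
      · exact isIntegral_zero
    have hvR : ∀ g, MemLocalRing M (conj (v g)) := fun g =>
      mem_locRing_of_isIntegral (map_isIntegral_int (starRingEnd ℂ)
        (IsIntegral.sum _ fun q _ => hfint _))
    have hBd : 2 ^ blockDefect 2 B = 2 * (2 * d.h) := by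
      have h1 := card_defectGroup hM hB ((isDefectGroup_iff hB a.1).2 hmax.isDef)
      rw [d.card] at h1
      exact h1.symm
    have hbd : 2 ^ blockDefect 2 b₄ = 2 * d.h := by
      have h1 := card_defectGroup hM L.blk ((isDefectGroup_iff L.blk _).2 hmaxC.isDef)
      rw [← h1, ← hK, hKC, ← hmap]
      exact Nat.card_congr
        (Subgroup.equivMapOfInjective aC.1 C.subtype C.subtype_injective).toEquiv
    have hpair : ∀ φ : IrrCharacter G,
        regPair 2 (blockScale 2 B) (φ : G → ℂ) v = ν φ 1 := by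
      intro φ
      set S : Finset G := Finset.univ.filter fun g => ¬ 2 ∣ orderOf g with hS
      set SC : Finset C := Finset.univ.filter fun c : C => ¬ 2 ∣ orderOf c with hSC
      have h1 : ∀ q : G ⧸ N₄, ∑ g ∈ S, (φ : G → ℂ) g * conj (f (q.out⁻¹ * g * q.out)) =
          ∑ c ∈ SC, (φ : G → ℂ) (c : G) * conj ((χ₀ : C → ℂ) c) := by
        intro q
        have h2 : ∑ g ∈ S, (φ : G → ℂ) g * conj (f (q.out⁻¹ * g * q.out)) =
            ∑ g ∈ S, (φ : G → ℂ) g * conj (f g) := by
          refine Finset.sum_nbij' (fun g => q.out⁻¹ * g * q.out) (fun g => q.out * g * q.out⁻¹)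
            ?_ ?_ ?_ ?_ ?_
          · intro g hg
            refine Finset.mem_filter.2 ⟨Finset.mem_univ _, ?_⟩
            have := (Finset.mem_filter.1 hg).2
            rwa [show q.out⁻¹ * g * q.out = MulAut.conj q.out⁻¹ g by simp [MulAut.conj_apply],
              MulEquiv.orderOf_eq]
          · intro g hg
            refine Finset.mem_filter.2 ⟨Finset.mem_univ _, ?_⟩
            have := (Finset.mem_filter.1 hg).2
            rwa [← MulAut.conj_apply, MulEquiv.orderOf_eq]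
          · intro g _; group
          · intro g _; group
          · intro g _
            congr 1
            rw [← IsCharacter.isClassFunction (irr_isCharacter φ) g q.out⁻¹, inv_inv]
        rw [h2, ← Finset.sum_subset (Finset.filter_subset (· ∈ C) S) fun g hg hne => by
          have hgC : g ∉ C := fun h => hne (Finset.mem_filter.2 ⟨hg, h⟩)
          simp only [hf, extFn]
          rw [dif_neg hgC, map_zero, mul_zero]]
        symm
        refine Finset.sum_bij (fun (c : C) _ => (c : G)) ?_ ?_ ?_ ?_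
        · intro c hc
          refine Finset.mem_filter.2 ⟨Finset.mem_filter.2 ⟨Finset.mem_univ _, ?_⟩, c.2⟩
          rw [Subgroup.orderOf_coe]
          exact (Finset.mem_filter.1 hc).2
        · exact fun c _ c' _ h => Subtype.ext h
        · intro g hg
          obtain ⟨hgS, hgC⟩ := Finset.mem_filter.1 hg
          refine ⟨⟨g, hgC⟩, Finset.mem_filter.2 ⟨Finset.mem_univ _, ?_⟩, rfl⟩
          rw [← Subgroup.orderOf_coe]
          exact (Finset.mem_filter.1 hgS).2
        · intro c _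
          rw [hf, extFn_coe]
      have hχself : blockPart b₄ (χ₀ : C → ℂ) = (χ₀ : C → ℂ) := by
        rw [← bcomb_single b₄ hχ₀, blockPart_bcomb]
      have h3 : regPair 2 (blockScale 2 b₄) (fun c : C => (φ : G → ℂ) c) (χ₀ : C → ℂ) = ν φ 1 := by
        rw [regPair_blockPart hM L.blk _ _ hχself, DihedralBlock.regPair_smul_left _ (hone φ),
          hnorm, mul_one]
      rw [← h3, regPair_eq_sum, regPair_eq_sum]
      simp only [hv, map_sum, Finset.mul_sum]
      rw [Finset.sum_comm, Finset.sum_congr rfl fun q _ => by rw [← Finset.mul_sum]]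
      rw [← hS, ← hSC, Finset.sum_congr rfl fun q _ => by rw [h1 q], Finset.sum_const,
        Finset.card_univ, ← Nat.card_eq_fintype_card, ← Subgroup.index_eq_card, nsmul_eq_mul,
        ← Finset.mul_sum]
      have hGN := N₄.card_mul_index
      rw [hcardN] at hGN
      have hGN' : ((Nat.card G : ℕ) : ℂ) = 2 * (Nat.card C : ℂ) * (N₄.index : ℂ) := by
        rw [← hGN]; push_cast; rfl
      have hBd' : ((2 : ℕ) : ℝ) ^ blockDefect 2 B = 2 * (2 * (d.h : ℝ)) := by exact_mod_cast hBd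
      have hbd' : ((2 : ℕ) : ℝ) ^ blockDefect 2 b₄ = 2 * (d.h : ℝ) := by exact_mod_cast hbd
      rw [blockScale, blockScale, hBd', hbd']
      push_cast
      rw [hGN']
      have hCn : (Nat.card C : ℂ) ≠ 0 := Nat.cast_ne_zero.2 Nat.card_pos.ne'
      have hin : (N₄.index : ℂ) ≠ 0 := Nat.cast_ne_zero.2 Subgroup.index_ne_zero_of_finite
      field_simp
    obtain ⟨χ', hχ', h0'⟩ := exists_heightZero hM hB
    refine ⟨?_, fun χ₁ hχ₁ h1 => ?_⟩
    · have := (SectionHeight.regPair_global hM hB hχ hχ' h0' hvc hvR).1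
      rwa [hpair, Nat.cast_ofNat] at this
    · have := (SectionHeight.regPair_global hM hB hχ hχ₁ h1 hvc hvR).2
      rwa [hpair, hpair, Nat.cast_ofNat] at this

end Cfsg.Agent.SDQLocal
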