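/-
The integer columns of a block with semidihedral or quaternion defect group and the heights they
detect.
-/
import Cfsg.Agent.Lib.BrauerPairs.SDQLocal
import Cfsg.Agent.Lib.BrauerPairs.SDQClasses
import Cfsg.Agent.Lib.BrauerPairs.MajorSection

set_option linter.unusedSectionVars false
set_option linter.style.haveILetI false

namespace Cfsg.Agent.SDQSetup

open Cfsg MonoidAlgebra Cfsg.Agent.Blocks Cfsg.Agent.BrauerPairs Cfsg.Agent.Char Cfsg.Agent.Star
  Cfsg.Agent.InertiaHeight Cfsg.Agent.LiftPairs Cfsg.Agent.DihedralLocal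
  Cfsg.Agent.SubsectionSum Cfsg.Agent.KnoerrRobinson
open scoped ComplexConjugate

universe u

variable {G : Type u} [Group G] [Fintype G] {M : Ideal AlgInt} [M.IsPrime]
  [CharP (resField M) 2] {B : Set (IrrCharacter G)} {a : Pr (resField M) G}

open scoped Classical in
/-- The characters of a block. -/
noncomputable def chars (B : Set (IrrCharacter G)) : Finset (IrrCharacter G) :=
  Finset.univ.filter (· ∈ B)

open scoped Classical in
/-- The characters of height zero. -/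
noncomputable def zeros (B : Set (IrrCharacter G)) : Finset (IrrCharacter G) :=
  Finset.univ.filter fun χ : IrrCharacter G => χ ∈ B ∧ blockHeight 2 B (χ : G → ℂ) = 0

theorem mem_chars {χ : IrrCharacter G} : χ ∈ chars B ↔ χ ∈ B := by
  classical simp [chars]

theorem mem_zeros {χ : IrrCharacter G} :
    χ ∈ zeros B ↔ χ ∈ B ∧ blockHeight 2 B (χ : G → ℂ) = 0 := by
  classical simp [zeros]

theorem chars_eq [DecidablePred (· ∈ B)] : Finset.univ.filter (· ∈ B) = chars B := by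
  ext χ; simp [mem_chars]

theorem zeros_subset : zeros B ⊆ chars B := fun _ hχ => mem_chars.2 (mem_zeros.1 hχ).1

/-- The root of unity. -/
noncomputable def root (h : ℕ) : ℂ := Complex.exp (2 * Real.pi * Complex.I / ((2 * h : ℕ) : ℂ))

/-- The columns with their expansions. -/
structure Setup (M : Ideal AlgInt) [M.IsPrime] (B : Set (IrrCharacter G))
    (a : Pr (resField M) G) (d : SDQ.Data a.1) where
  ν : IrrCharacter G → G → ℂ
  A : IrrCharacter G → ℕ → ℕ
  cols : SDQLocal.Cols M B a d ν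
  expand : ∀ (χ : IrrCharacter G) (i : ℤ), ¬ (d.h : ℤ) ∣ i →
    ν χ (d.x ^ i) = ∑ j ∈ Finset.range (2 * d.h), (A χ j : ℂ) * root d.h ^ (i * (j : ℤ))
  one : ∀ χ : IrrCharacter G, ν χ 1 = ∑ j ∈ Finset.range (2 * d.h), (A χ j : ℂ)

theorem root_prim {h : ℕ} (hh : 0 < h) : IsPrimitiveRoot (root h) (2 * h) :=
  Complex.isPrimitiveRoot_exp _ (by omega)

theorem nonempty_setup (hM : IsPModular 2 M) (hB : IsPBlock M B) (hmax : IsMax 2 (Ek M B) a)
    (d : SDQ.Data a.1) : Nonempty (Setup M B a d) := by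
  obtain ⟨ν, hc⟩ := SDQLocal.exists_cols hM hB hmax d
  choose A hA hA1 using fun χ => hc.expand χ (root d.h) (root_prim d.h_pos)
  exact ⟨⟨ν, A, hc, hA, hA1⟩⟩

variable {d : SDQ.Data a.1}

namespace Setup

variable (st : Setup M B a d)

/-- The values on the cyclic part. -/
noncomputable def Ψ (χ : IrrCharacter G) (i : ℤ) : ℂ := st.ν χ (d.x ^ i)

/-- The value at the identity. -/
def N (χ : IrrCharacter G) : ℤ := ∑ j ∈ Finset.range (2 * d.h), (st.A χ j : ℤ)

/-- The integer vectors. -/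
def w (χ : IrrCharacter G) (j : ℤ) : ℤ := SDQFourier.w d.h st.A χ j

open scoped Classical in
/-- The characters with a nonzero vector. -/
noncomputable def U : Finset (IrrCharacter G) :=
  (chars B).filter fun χ => ∃ j : ℤ, st.w χ j ≠ 0

theorem exp : SDQFourier.Exp d.h (root d.h) d.τ st.Ψ st.A where
  root := root_prim d.h_pos
  expand χ i hi := st.expand χ i hi
  sym χ i hi := st.cols.sym χ i hi
  periodic χ i j hij := by simp only [Ψ]; rw [(d.zpow_eq i j).2 hij]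

theorem isIntegral_Ψ (χ : IrrCharacter G) {i : ℤ} (hi : ¬ (d.h : ℤ) ∣ i) :
    IsIntegral ℤ (st.Ψ χ i) := by
  rw [Ψ, st.expand χ i hi]
  have hh := d.h_pos
  refine IsIntegral.sum _ fun j _ => (isIntegral_natCast _).mul (IsIntegral.of_pow
    (show 0 < 2 * d.h by omega) ?_)
  rw [← zpow_natCast, ← zpow_mul, mul_comm, zpow_mul, zpow_natCast, (root_prim d.h_pos).pow_eq_one,
    one_zpow]
  exact isIntegral_one

theorem w_congr (χ : IrrCharacter G) {i j : ℤ} (h : 2 * (d.h : ℤ) ∣ i - j) : st.w χ i = st.w χ j :=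
  SDQFourier.w_congr χ h

theorem mem_U {χ : IrrCharacter G} : χ ∈ st.U ↔ χ ∈ B ∧ ∃ j : ℤ, st.w χ j ≠ 0 := by
  classical
  rw [U, Finset.mem_filter, mem_chars]

theorem Ψ_eq_zero {χ : IrrCharacter G} (hχ : χ ∈ B) (hU : χ ∉ st.U) {i : ℤ}
    (hi : ¬ (d.h : ℤ) ∣ i) : st.Ψ χ i = 0 := by
  rw [SDQFourier.expansion d.h_pos st.exp χ hi]
  refine Finset.sum_eq_zero fun j _ => ?_
  have : st.w χ j = 0 := by
    by_contra h
    exact hU (st.mem_U.2 ⟨hχ, _, h⟩)
  rw [show SDQFourier.w d.h st.A χ j = 0 from this, Int.cast_zero, zero_mul]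

theorem N_eq (χ : IrrCharacter G) :
    st.N χ = (∑ j ∈ Finset.range (2 * d.h), st.w χ j) +
      (d.h : ℤ) * ((st.A χ 0 : ℤ) + st.A χ 1) :=
  SDQFourier.sum_w d.h_pos st.A χ

theorem N_cast (χ : IrrCharacter G) : st.ν χ 1 = (st.N χ : ℂ) := by
  rw [st.one χ, N]
  push_cast
  rfl

variable (hM : IsPModular 2 M) (hB : IsPBlock M B) (hmax : IsMax 2 (Ek M B) a)
include hM hB hmax

theorem defect_eq : 2 ^ blockDefect 2 B = 2 * (2 * d.h) := by
  have h1 := card_defectGroup hM hB ((isDefectGroup_iff hB a.1).2 hmax.isDef)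
  rw [d.card] at h1
  exact h1.symm

omit hB in
theorem local_block {i : ℤ} (hi : ¬ (d.h : ℤ) ∣ i) :
    ∃ b P, LocalData M B a st.ν (d.x ^ i) b P ∧ zB M (secC (d.x ^ i)) b = belowAt 2 a (d.x ^ i) ∧
      2 ^ blockDefect 2 b = 2 * d.h := by
  haveI : Fact (Nat.Prime 2) := ⟨Nat.prime_two⟩
  obtain ⟨b, P, hL⟩ := st.cols.loc i hi
  refine ⟨b, P, hL, (existsUnique_below hmax.pair (Subgroup.zpowers_le.2 (zpow_mem d.hx i))).unique
    hL.sub (belowAt_spec hmax.pair (zpow_mem d.hx i)), ?_⟩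
  rw [hL.defect, d.card_cent_cyclic hi]

omit hB in
theorem pc_mid {i : ℤ} (hi : ¬ (d.h : ℤ) ∣ i) (χ ψ : IrrCharacter G) :
    pc 2 a (d.x ^ i) χ ψ = st.Ψ χ i * conj (st.Ψ ψ i) / ((2 * d.h : ℕ) : ℂ) := by
  haveI : Fact (Nat.Prime 2) := ⟨Nat.prime_two⟩
  obtain ⟨b, P, hL, hz, hd⟩ := st.local_block hM hmax hi
  rw [pc_eq hL.ind.1 hz, DihedralBlock.regPair_smul _ (hL.part χ) (hL.part ψ), hL.norm, mul_one,
    ← Nat.cast_pow, hd]
  rfl

/-- The orthogonality of the columns. -/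
theorem gram : ∀ i ∈ SDQFourier.mid d.h, ∀ k ∈ SDQFourier.mid d.h,
    ∑ χ ∈ chars B, st.Ψ χ (i : ℤ) * conj (st.Ψ χ (k : ℤ)) =
      ((2 * d.h : ℕ) : ℂ) * (SDQFourier.ind d.h d.τ (k : ℤ) (i : ℤ) : ℂ) := by
  classical
  haveI : Fact (Nat.Prime 2) := ⟨Nat.prime_two⟩
  intro i hi k hk
  have hi' := SDQFourier.mid_int hi
  have hk' := SDQFourier.mid_int hk
  obtain ⟨b, P, hL, hz, hd⟩ := st.local_block hM hmax hi'
  obtain ⟨t, ht, htP⟩ := DihedralBlock.exists_ne_zero hL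
  have hpow : ∀ j : ℤ, ∃ s, orderOf (d.x ^ j) = 2 ^ s := fun j =>
    pPow_of_mem hmax.pair (zpow_mem d.hx j)
  have hdiag : ∑ χ ∈ chars B, st.Ψ χ (i : ℤ) * conj (st.Ψ χ (i : ℤ)) = ((2 * d.h : ℕ) : ℂ) := by
    have hs := sum_regPair_self hM (hpow i) (secC_eq _) hL.ind
    rw [hL.rank, Nat.cast_one, mul_one, hd, chars_eq] at hs
    rw [Finset.sum_congr rfl fun χ _ => by
      rw [DihedralBlock.regPair_smul _ (hL.part χ) (hL.part χ), hL.norm, mul_one]] at hs
    exact hs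
  have hnd : ¬ 2 * (d.h : ℤ) ∣ (i : ℤ) - d.τ * i := by
    intro hd'
    refine hi' ((d.τ_fix i).1 ((d.zpow_eq _ _).2 ?_))
    rw [show d.τ * (i : ℤ) - i = -((i : ℤ) - d.τ * i) by ring]
    exact dvd_neg.2 hd'
  by_cases h1 : 2 * (d.h : ℤ) ∣ (k : ℤ) - i
  · have h2 : ¬ 2 * (d.h : ℤ) ∣ (k : ℤ) - d.τ * i := fun h2 => hnd (by
      have := dvd_sub h2 h1
      rwa [show (k : ℤ) - d.τ * i - ((k : ℤ) - i) = (i : ℤ) - d.τ * i by ring] at this)
    rw [SDQFourier.ind, if_pos h1, if_neg h2]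
    simp only [st.exp.periodic _ (k : ℤ) (i : ℤ) h1]
    rw [hdiag]
    push_cast
    ring
  by_cases h2 : 2 * (d.h : ℤ) ∣ (k : ℤ) - d.τ * i
  · rw [SDQFourier.ind, if_neg h1, if_pos h2]
    simp only [st.exp.periodic _ (k : ℤ) (d.τ * i) h2, st.exp.sym _ _ hi']
    rw [hdiag]
    push_cast
    ring
  rw [SDQFourier.ind, if_neg h1, if_neg h2]
  simp only [add_zero, Int.cast_zero, mul_zero]
  obtain ⟨b', P', hL', hz', -⟩ := st.local_block hM hmax hk'
  obtain ⟨t', ht', htP'⟩ := DihedralBlock.exists_ne_zero hL'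
  have key : ∀ {c : ℂ} {f g : IrrCharacter G → ℂ}, c ≠ 0 →
      (∀ χ, f χ = c * g χ) → ∑ χ ∈ chars B, f χ = 0 → ∑ χ ∈ chars B, g χ = 0 := by
    intro c f g hc hfg h0
    rw [Finset.sum_congr rfl fun χ _ => hfg χ, ← Finset.mul_sum] at h0
    exact (mul_eq_zero.1 h0).resolve_left hc
  have hc0 : P t * conj (P' t') ≠ 0 := mul_ne_zero htP ((map_ne_zero (starRingEnd ℂ)).2 htP')
  by_cases hconj : IsConj (d.x ^ (i : ℤ)) (d.x ^ (k : ℤ))
  · obtain ⟨g, hg⟩ := isConj_iff.1 hconj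
    have hC : cjS g (secC (d.x ^ (i : ℤ))) = secC (d.x ^ (k : ℤ)) := by rw [cjS_secC, hg]
    set e := cjEquiv g hC with he
    have hb'' : IsPBlock M (pullB e.symm b) := isPBlock_pullB e.symm hL.ind.1
    have hne' : pullB e.symm b ≠ b' := by
      intro heq
      have hzB : zB M (secC (d.x ^ (k : ℤ))) b' = cj g (zB M (secC (d.x ^ (i : ℤ))) b) := by
        rw [← heq, zB_pullB g hC hb'', pullB_pullB]
      rcases SDQClasses.fus_cyclic hmax d hi' (k := (k : ℤ))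
        ⟨g, hg, by rw [← hz, ← hzB, hz']⟩ with e1 | e1
      · exact h1 ((d.zpow_eq _ _).1 e1)
      · exact h2 ((d.zpow_eq _ _).1 e1)
    have hts : ¬ 2 ∣ orderOf (e t) := by rwa [MulEquiv.orderOf_eq]
    have hcr := Abelian.blockPart_secFun_cross hM (hpow k) (secC_eq _) hB hb'' hL'.ind.1 hne' hts ht'
    rw [chars_eq] at hcr
    refine key hc0 (fun χ => ?_) hcr
    rw [hL'.part χ t' ht', map_mul]
    have e2 : blockPart (pullB e.symm b)
        (secFun (d.x ^ (k : ℤ)) (secC (d.x ^ (k : ℤ))) (χ : G → ℂ)) (e t) =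
          st.ν χ (d.x ^ (i : ℤ)) * P t := by
      rw [← blockPart_pullB e, pullB_pullB, ← hL.part χ t ht]
      congr 1
      funext w
      show (χ : G → ℂ) (d.x ^ (k : ℤ) * (e w : G)) = (χ : G → ℂ) (d.x ^ (i : ℤ) * (w : G))
      rw [he, coe_cjEquiv, ← hg, show g * d.x ^ (i : ℤ) * g⁻¹ * (g * (w : G) * g⁻¹) =
        g * (d.x ^ (i : ℤ) * (w : G)) * g⁻¹ by group]
      exact IsCharacter.isClassFunction (irr_isCharacter χ) _ g
    rw [e2]
    simp only [Ψ]
    ring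
  · have hnc := Abelian.blockPart_secFun_nonconj hM (hpow i) (hpow k) (secC_eq _) (secC_eq _) hB
      hL.ind.1 hL'.ind.1 hconj ht ht'
    rw [chars_eq] at hnc
    refine key hc0 (fun χ => ?_) hnc
    rw [hL.part χ t ht, hL'.part χ t' ht', map_mul]
    simp only [Ψ]
    ring

/-- The columns are orthogonal to the values on the regular elements. -/
theorem col_reg {g : G} (hg : ¬ 2 ∣ orderOf g) {i : ℤ} (hi : ¬ (d.h : ℤ) ∣ i) :
    ∑ χ ∈ chars B, st.Ψ χ i * (χ : G → ℂ) g = 0 := by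
  classical
  haveI : Fact (Nat.Prime 2) := ⟨Nat.prime_two⟩
  obtain ⟨b, P, hL, -, -⟩ := st.local_block hM hmax hi
  have hne : d.x ^ i ≠ 1 := fun e => hi ((dvd_mul_left _ _).trans ((d.zpow_eq_one i).1 e))
  have h1 := KleinSigns.sum_conj_regPair_regular hM hB (pPow_of_mem hmax.pair (zpow_mem d.hx i))
    hne (secC_eq _) (blockScale 2 b) P (show ¬ 2 ∣ orderOf g⁻¹ by rwa [orderOf_inv])
  rw [chars_eq] at h1
  rw [Finset.sum_congr rfl fun χ _ => by rw [DihedralBlock.regPair_sec hM hL χ]] at h1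
  have h2 := congrArg conj h1
  rw [map_sum, map_zero] at h2
  rw [← h2]
  refine Finset.sum_congr rfl fun χ _ => ?_
  rw [map_mul, Complex.conj_conj, ← irr_inv, inv_inv]
  rfl

theorem orth {g : G} (hg : ¬ 2 ∣ orderOf g) (j : ℤ) :
    ∑ χ ∈ chars B, (st.w χ j : ℂ) * (χ : G → ℂ) g = 0 :=
  SDQFourier.orth (SDQClasses.twist d) st.exp (chars B) (fun χ => (χ : G → ℂ) g)
    (fun _ hi => st.col_reg hM hB hmax hg (SDQFourier.mid_int hi)) j

theorem deg (j : ℤ) : ∑ χ ∈ chars B, st.w χ j * (charDegree (χ : G → ℂ) : ℤ) = 0 := by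
  have h1 := st.orth hM hB hmax (g := 1) (by simp) j
  simp only [irr_one_eq_charDegree] at h1
  exact_mod_cast h1

/-- The values of height zero characters on the cyclic part are units. -/
theorem Ψ_unit {χ : IrrCharacter G} (hχ : χ ∈ zeros B) {i : ℤ} (hi : ¬ (d.h : ℤ) ∣ i) :
    ¬ MemLocalIdeal M (st.Ψ χ i) := by
  classical
  haveI : Fact (Nat.Prime 2) := ⟨Nat.prime_two⟩
  obtain ⟨hχB, h0⟩ := mem_zeros.1 hχ
  obtain ⟨b, P, hL, -, -⟩ := st.local_block hM hmax hi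
  have hcon := contrib_not_mem hM (pPow_of_mem hmax.pair (zpow_mem d.hx i)) (secC_eq _) hL.ind
    hχB hχB h0 h0
  rw [← MajorSection.mp_eq_contrib, MajorSection.mp,
    DihedralBlock.regPair_smul _ (hL.part χ) (hL.part χ), hL.norm, mul_one] at hcon
  exact fun h => hcon (MemLocalIdeal.mul_right h
    (mem_locRing_of_isIntegral (map_isIntegral_int (starRingEnd ℂ) (st.isIntegral_Ψ χ hi))))

theorem N_odd {χ : IrrCharacter G} (hχ : χ ∈ zeros B) : ¬ (2 : ℤ) ∣ st.N χ := by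
  have hh := d.h_pos
  have hq := d.q_pos
  have h1 : ¬ (d.h : ℤ) ∣ 1 := fun hd => by
    have := Int.le_of_dvd one_pos hd
    have := d.hq
    omega
  intro hN
  refine st.Ψ_unit hM hB hmax hχ h1 ?_
  have hsub : MemLocalIdeal M (st.Ψ χ 1 - (st.N χ : ℂ)) := by
    rw [Ψ, st.expand χ 1 h1, N, Int.cast_sum, ← Finset.sum_sub_distrib]
    refine memLocalIdeal_sum _ _ fun j _ => ?_
    rw [Int.cast_natCast, ← mul_sub_one]
    obtain ⟨s, hs⟩ := d.h_pow
    refine MemLocalIdeal.mul_left (mem_locRing.1 (natCast_mem (locRing M) _))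
      (memLocalIdeal_sub_one_of_pow_eq_one hM (k := s + 1) ?_)
    rw [← zpow_natCast, ← zpow_mul, mul_comm, zpow_mul, zpow_natCast, pow_succ', ← hs,
      (root_prim d.h_pos).pow_eq_one, one_zpow]
  have := MemLocalIdeal.add hsub ((intCast_memLocalIdeal_iff hM _).2 hN)
  simpa using this

theorem N_height {χ : IrrCharacter G} (hχ : χ ∈ B) :
    (2 : ℤ) ^ blockHeight 2 B (χ : G → ℂ) ∣ st.N χ ∧
      ¬ (2 : ℤ) ^ (blockHeight 2 B (χ : G → ℂ) + 1) ∣ st.N χ := by
  obtain ⟨χ₀, hχ₀, h0⟩ := exists_heightZero hM hB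
  obtain ⟨h1, h2⟩ := st.cols.base χ hχ
  have h3 := h2 χ₀ hχ₀ h0
  rw [st.N_cast] at h1 h3
  rw [st.N_cast χ₀] at h3
  refine ⟨DihedralBlock.dvd_of_div hM _ _ h1, DihedralBlock.not_dvd_of_div hM fun hm => ?_⟩
  exact st.N_odd hM hB hmax (mem_zeros.2 ⟨hχ₀, h0⟩) ((intCast_memLocalIdeal_iff hM _).1 (h3.1 hm))

/-- The middle vector is odd exactly at height zero. -/
theorem odd_iff {χ : IrrCharacter G} (hχ : χ ∈ B) :
    ¬ (2 : ℤ) ∣ st.w χ (d.h : ℤ) ↔ blockHeight 2 B (χ : G → ℂ) = 0 := by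
  have hev : (2 : ℤ) ∣ (d.h : ℤ) := ⟨d.q, by rw [d.hq]; push_cast; rfl⟩
  have hpar := SDQFourier.sum_w_parity (SDQClasses.twist d) st.exp χ
  obtain ⟨h1, h2⟩ := st.N_height hM hB hmax hχ
  have hiff : (2 : ℤ) ∣ st.N χ ↔ (2 : ℤ) ∣ st.w χ (d.h : ℤ) := by
    rw [st.N_eq, dvd_add_left (dvd_mul_of_dvd_left hev _)]
    exact ⟨fun h => (dvd_sub_right h).1 hpar, fun h => (dvd_sub_left h).1 hpar⟩
  rw [← hiff]
  constructor
  · intro h
    by_contra hne
    exact h ((dvd_pow_self 2 hne).trans h1)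
  · intro h
    rw [h] at h2
    simpa using h2

theorem zeros_subset_U : zeros B ⊆ st.U := fun χ hχ => by
  obtain ⟨hχB, h0⟩ := mem_zeros.1 hχ
  exact st.mem_U.2 ⟨hχB, (d.h : ℤ), fun e => (st.odd_iff hM hB hmax hχB).2 h0 (e ▸ dvd_zero 2)⟩

/-- A character whose values are one orbit sum has height at most one. -/
theorem height_le_one {χ : IrrCharacter G} (hχ : χ ∈ B) {c c' : ℤ} (hc : c = 1 ∨ c = -1) {j₀ : ℤ}
    (hj : (∃ t : ℕ, 1 ≤ t ∧ t < d.q ∧ j₀ = 2 * t) ∨ (2 ≤ d.q ∧ ∃ t : ℤ, j₀ = 4 * t + 1))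
    (hne : ¬ 2 * (d.h : ℤ) ∣ j₀ - d.τ * j₀)
    (hw : ∀ j : ℕ, j < 2 * d.h →
      st.w χ j = c * SDQFourier.ind d.h d.τ (j : ℤ) j₀ + c' * ((j % 2 : ℕ) : ℤ)) :
    blockHeight 2 B (χ : G → ℂ) ≤ 1 := by
  classical
  haveI : Fact (Nat.Prime 2) := ⟨Nat.prime_two⟩
  have hh := d.h_pos
  have hζ := root_prim d.h_pos
  obtain ⟨i, hi, hpair⟩ := SDQFourier.exists_pair_unit (SDQClasses.twist d) hζ hj
  set ζ := root d.h with hζdef
  -- the value
  have hval : st.Ψ χ i = (c : ℂ) * (ζ ^ (i * j₀) + ζ ^ (i * (d.τ * j₀))) := by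
    rw [SDQFourier.expansion hh st.exp χ hi, Finset.sum_congr rfl fun j hj => by
      rw [show SDQFourier.w d.h st.A χ (j : ℤ) =
        c * SDQFourier.ind d.h d.τ (j : ℤ) j₀ + c' * ((j % 2 : ℕ) : ℤ) from
          hw j (Finset.mem_range.1 hj)]]
    simp only [Int.cast_add, Int.cast_mul, add_mul, Finset.sum_add_distrib]
    have hodd : ∑ j ∈ Finset.range (2 * d.h), ((c' : ℂ) * (((j % 2 : ℕ) : ℤ) : ℂ)) *
        ζ ^ (i * (j : ℤ)) = 0 := by
      have hne1 : ζ ^ (2 * i) ≠ 1 := fun e => hi (by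
        rw [SDQFourier.zpow_eq_one_iff hζ, mul_dvd_mul_iff_left two_ne_zero] at e; exact e)
      have split : ∀ (n : ℕ) (f : ℕ → ℂ), ∑ j ∈ Finset.range (2 * n), f j =
          ∑ t ∈ Finset.range n, (f (2 * t) + f (2 * t + 1)) := by
        intro n f
        induction n with
        | zero => simp
        | succ n ih =>
          rw [show 2 * (n + 1) = 2 * n + 1 + 1 by ring, Finset.sum_range_succ,
            Finset.sum_range_succ, Finset.sum_range_succ, ih]
          ring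
      have hpt : ∀ t : ℕ,
          ((c' : ℂ) * ((((2 * t) % 2 : ℕ) : ℤ) : ℂ)) * ζ ^ (i * ((2 * t : ℕ) : ℤ)) +
          ((c' : ℂ) * ((((2 * t + 1) % 2 : ℕ) : ℤ) : ℂ)) * ζ ^ (i * ((2 * t + 1 : ℕ) : ℤ)) =
          (c' : ℂ) * ζ ^ i * (ζ ^ (2 * i)) ^ t := by
        intro t
        rw [show (2 * t) % 2 = 0 by omega, show (2 * t + 1) % 2 = 1 by omega, ← zpow_natCast,
          ← zpow_mul, mul_assoc _ (ζ ^ i), ← zpow_add₀ (SDQFourier.zeta_ne_zero hh hζ)]
        push_cast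
        ring_nf
      rw [split, Finset.sum_congr rfl fun t _ => hpt t, ← Finset.mul_sum, geom_sum_eq hne1,
        ← zpow_natCast (ζ ^ (2 * i)), ← zpow_mul,
        (SDQFourier.zpow_eq_one_iff hζ (2 * i * (d.h : ℤ))).2 ⟨i, by ring⟩, sub_self, zero_div,
        mul_zero]
    rw [hodd, add_zero]
    simp only [mul_assoc, ← Finset.mul_sum]
    congr 1
    -- the two indices
    have hidx : ∀ b : ℤ, ∑ j ∈ Finset.range (2 * d.h),
        (if 2 * (d.h : ℤ) ∣ (j : ℤ) - b then (1 : ℂ) else 0) * ζ ^ (i * (j : ℤ)) = ζ ^ (i * b) := by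
      intro b
      set r := (b % (2 * (d.h : ℤ))).toNat with hr
      have hr0 : 0 ≤ b % (2 * (d.h : ℤ)) := Int.emod_nonneg _ (by omega)
      have hr1 : b % (2 * (d.h : ℤ)) < 2 * (d.h : ℤ) := Int.emod_lt_of_pos _ (by omega)
      have hrd : 2 * (d.h : ℤ) ∣ (r : ℤ) - b := by
        rw [hr, Int.toNat_of_nonneg hr0]
        exact ⟨-(b / (2 * (d.h : ℤ))), by
          linear_combination Int.emod_add_mul_ediv b (2 * (d.h : ℤ))⟩
      rw [Finset.sum_eq_single_of_mem r (Finset.mem_range.2 (by omega)) fun l hl hne' => ?_,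
        if_pos hrd, one_mul]
      · refine SDQFourier.zpow_congr hh hζ ?_
        rw [← mul_sub]
        exact dvd_mul_of_dvd_right hrd i
      · rw [if_neg, zero_mul]
        intro hd
        refine hne' ?_
        have h3 := Int.eq_zero_of_abs_lt_dvd (dvd_sub hd hrd) (by
          have := Finset.mem_range.1 hl
          rw [abs_lt]; constructor <;> omega)
        omega
    simp only [SDQFourier.ind, Int.cast_add, Int.cast_ite, Int.cast_one, Int.cast_zero, add_mul,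
      Finset.sum_add_distrib, ← hζdef, hidx]
  by_contra hht
  obtain ⟨χ₀, hχ₀, h0⟩ := exists_heightZero hM hB
  obtain ⟨b, P, hL, -, hd⟩ := st.local_block hM hmax hi
  have hBd := defect_eq hM hB hmax (d := d)
  have hdd : blockDefect 2 B = blockDefect 2 b + 1 := by
    have : 2 ^ blockDefect 2 B = 2 ^ (blockDefect 2 b + 1) := by rw [hBd, pow_succ', hd]
    exact Nat.pow_right_injective le_rfl this
  obtain ⟨-, h2⟩ := SectionHeight.regPair_height hM (pPow_of_mem hmax.pair (zpow_mem d.hx i))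
    (secC_eq _) hL.ind (show blockDefect 2 b ≤ blockDefect 2 B by omega) hχ hχ₀ h0 hL.cls
    (fun s => mem_locRing_of_isIntegral (map_isIntegral_int (starRingEnd ℂ) (hL.intg s)))
  rw [DihedralBlock.regPair_sec hM hL, DihedralBlock.regPair_sec hM hL,
    show blockDefect 2 B - blockDefect 2 b = 1 by omega, pow_one, Nat.cast_ofNat] at h2
  have h2M : MemLocalIdeal M (2 : ℂ) := by
    have := (intCast_memLocalIdeal_iff hM 2).2 dvd_rfl
    simpa using this
  have hmem := h2.2 (MemLocalIdeal.mul_right h2M (mem_locRing_of_isIntegral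
    (st.isIntegral_Ψ χ₀ hi)))
  obtain ⟨k, hk⟩ : ∃ k, blockHeight 2 B (χ : G → ℂ) = k + 2 := ⟨_, (Nat.sub_add_cancel (by omega)).symm⟩
  rw [hk] at hmem
  have h2k : MemLocalRing M ((2 : ℂ) ^ k) :=
    mem_locRing_of_isIntegral ((isIntegral_natCast 2).pow k)
  have hhalf : MemLocalIdeal M (st.Ψ χ i / 2) := by
    have := MemLocalIdeal.mul_left h2k hmem
    convert this using 1
    simp only [Ψ, pow_add]
    field_simp
  have hsq : MemLocalIdeal M ((st.Ψ χ i / 2) * (st.Ψ χ i / 2)) :=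
    MemLocalIdeal.mul_left (MemLocalIdeal.memLocalRing hhalf) hhalf
  have hc2 : (c : ℂ) * (c : ℂ) = 1 := by rcases hc with rfl | rfl <;> simp
  have e : st.Ψ χ i / 2 * (st.Ψ χ i / 2) = (ζ ^ (i * j₀) + ζ ^ (i * (d.τ * j₀))) ^ 2 / 4 := by
    rw [hval]
    linear_combination ((ζ ^ (i * j₀) + ζ ^ (i * (d.τ * j₀))) ^ 2 / 4) * hc2
  rw [e] at hsq
  refine not_memLocalIdeal_one (M := M) ?_
  rcases hpair with hp | hp | hp <;> rw [hp] at hsq
  · simpa using hsq
  · have := MemLocalIdeal.mul_left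
      (mem_locRing_of_isIntegral (M := M) (isIntegral_natCast 2)) hsq
    norm_num at this
    exact this
  · have := MemLocalIdeal.mul_left (mem_locRing_of_isIntegral (M := M)
      ((isIntegral_natCast 2).neg)) hsq
    norm_num at this
    exact this

end Setup

end Cfsg.Agent.SDQSetup
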