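/-
Integer vectors of a block with semidihedral or quaternion defect group: the even family looks
like that of a dihedral group, the odd family is a star.
-/
import Cfsg.Agent.Lib.BrauerPairs.DihedralVectors

set_option linter.style.haveILetI false

namespace Cfsg.Agent.SDQVectors

open Cfsg.Agent.DihedralVectors

variable {ι : Type*} [DecidableEq ι]

/-- The even family. -/
theorem eShape (T : Finset ι) (v : ℕ → ι → ℤ) (D : ι → ℕ) {h : ℕ} (h1 : 1 ≤ h)
    (h3 : h = 1 ∨ h = 2 ∨ h = 4 ∨ 8 ≤ h) (hD : ∀ χ ∈ T, 0 < D χ)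
    (gram : ∀ j k, 1 ≤ j → j ≤ h → 1 ≤ k → k ≤ h → ∑ χ ∈ T, v j χ * v k χ =
      2 + (if j = k then 1 else 0) + if j = h ∧ k = h then 1 else 0)
    (deg : ∀ j, 1 ≤ j → j ≤ h → ∑ χ ∈ T, v j χ * (D χ : ℤ) = 0)
    (h0 : ∃ χ ∈ T, ¬ (2 : ℤ) ∣ v h χ) :
    ∃ S : Finset ι, S ⊆ T ∧ S.card = 4 ∧ (∀ χ ∈ S, v h χ = 1 ∨ v h χ = -1) ∧
      (∀ χ ∈ T, χ ∉ S → v h χ = 0) ∧
      ((∃ Q : Finset ι, Q ⊆ T ∧ Disjoint S Q ∧ Q.card = h - 1 ∧
          (∀ χ ∈ T, χ ∉ S → χ ∉ Q → ∀ j, 1 ≤ j → j ≤ h → v j χ = 0) ∧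
          ∀ χ ∈ Q, ∃ j₀, 1 ≤ j₀ ∧ j₀ < h ∧ (v j₀ χ = 1 ∨ v j₀ χ = -1) ∧
            ∀ j, 1 ≤ j → j ≤ h → j ≠ j₀ → v j χ = 0) ∨
        (h = 4 ∧ ∃ T' : Finset ι, S ⊆ T' ∧ T' ⊆ T ∧ T'.card = 5 ∧
          (∀ χ ∈ T, χ ∉ T' → ∀ j, 1 ≤ j → j ≤ h → v j χ = 0) ∧
          ∃ χ₀ ∈ S, ∃ e : ℚ, (e = 1 ∨ e = -1) ∧
            (∑ χ ∈ T', ((6 * (v 1 χ - v 3 χ) ^ 2 * (-v 4 χ) + (-v 4 χ) ^ 3 : ℤ) : ℚ) / (D χ : ℚ) =
                e * 44 / (3 * (D χ₀ : ℚ))) ∧
            ∑ χ ∈ T', ((2 * (v 1 χ - v 3 χ) ^ 3 + 3 * (v 1 χ - v 3 χ) * (-v 4 χ) ^ 2 : ℤ) : ℚ) /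
              (D χ : ℚ) = 0)) := by
  classical
  -- the vector at the middle
  have hnh := gram h h (by omega) le_rfl (by omega) le_rfl
  simp only [if_true, and_self] at hnh
  have hh_le : ∀ χ ∈ T, v h χ * v h χ ≤ 4 := fun χ hχ => by
    have := Finset.single_le_sum (f := fun χ => v h χ * v h χ) (fun y _ => mul_self_nonneg (v h y)) hχ
    simp only [hnh] at this
    simpa using this
  obtain ⟨w, hw, hwodd⟩ := h0
  set S := T.filter fun χ => v h χ ≠ 0 with hS
  have hwS : w ∈ S := Finset.mem_filter.2 ⟨hw, fun e => hwodd (by simp [e])⟩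
  have hsq : ∀ χ ∈ S, v h χ * v h χ = 1 := by
    intro χ hχ
    obtain ⟨hχT, hne⟩ := Finset.mem_filter.1 hχ
    have h4 := hh_le χ hχT
    have hb : -2 ≤ v h χ ∧ v h χ ≤ 2 := ⟨by nlinarith, by nlinarith⟩
    by_contra h1
    have h22 : v h χ * v h χ = 4 := by
      rcases hb with ⟨hb1, hb2⟩
      interval_cases hv : v h χ <;> omega
    have hwχ : w ≠ χ := by
      rintro rfl
      apply hwodd
      rcases hb with ⟨hb1, hb2⟩
      interval_cases hv : v h w <;> omega
    have := Finset.sum_le_sum_of_subset_of_nonneg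
      (show ({w, χ} : Finset ι) ⊆ T from by
        intro y hy
        rcases Finset.mem_insert.1 hy with rfl | hy
        · exact hw
        · rw [Finset.mem_singleton.1 hy]; exact hχT)
      (f := fun y => v h y * v h y) (fun y _ _ => mul_self_nonneg (v h y))
    rw [Finset.sum_pair hwχ, hnh, h22] at this
    have : 0 < v h w * v h w := mul_self_pos.2 fun e => hwodd (by simp [e])
    omega
  have hS4 : S.card = 4 := by
    have e : ∑ χ ∈ S, v h χ * v h χ = ∑ χ ∈ T, v h χ * v h χ :=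
      Finset.sum_filter_of_ne fun χ _ hne => left_ne_zero_of_mul hne
    rw [Finset.sum_congr rfl hsq, hnh, Finset.sum_const, nsmul_eq_mul, mul_one] at e
    exact_mod_cast e
  have hSout : ∀ χ ∈ T, χ ∉ S → v h χ = 0 := fun χ hχ hne => by
    by_contra e
    exact hne (Finset.mem_filter.2 ⟨hχ, e⟩)
  -- the other vectors
  have hshape : ∀ j, 1 ≤ j → j < h → ∃ (P : Finset ι) (q : ι) (τ : ℤ), P ⊆ S ∧ P.card = 2 ∧
      q ∈ T ∧ q ∉ S ∧ (τ = 1 ∨ τ = -1) ∧
      ∀ χ ∈ T, v j χ = (if χ ∈ P then v h χ else 0) + (if χ = q then τ else 0) := by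
    intro j hj hjh
    have hnj := gram j j hj hjh.le hj hjh.le
    rw [if_pos rfl, if_neg (fun e => absurd e.1 hjh.ne), add_zero] at hnj
    have hpm : ∀ χ ∈ T, v j χ = -1 ∨ v j χ = 0 ∨ v j χ = 1 := fun χ hχ => by
      have := Finset.single_le_sum (f := fun χ => v j χ * v j χ)
        (fun y _ => mul_self_nonneg (v j y)) hχ
      simp only [hnj] at this
      have h1 : -2 < v j χ ∧ v j χ < 2 := ⟨by nlinarith, by nlinarith⟩
      omega
    set U := T.filter fun χ => v j χ ≠ 0 with hU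
    have hU3 : U.card = 3 := by
      have e : ∑ χ ∈ U, v j χ * v j χ = ∑ χ ∈ T, v j χ * v j χ :=
        Finset.sum_filter_of_ne fun χ _ hne => left_ne_zero_of_mul hne
      rw [hnj, Finset.sum_congr rfl (g := fun _ => (1 : ℤ)) fun χ hχ => by
        obtain ⟨hχT, hne⟩ := Finset.mem_filter.1 hχ
        rcases hpm χ hχT with e' | e' | e' <;> first | exact absurd e' hne | (rw [e']; norm_num),
        Finset.sum_const, nsmul_eq_mul, mul_one] at e
      exact_mod_cast e
    have hcross := gram j h hj hjh.le (by omega) le_rfl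
    rw [if_neg hjh.ne, if_neg (fun e => absurd e.1 hjh.ne), add_zero, add_zero] at hcross
    set K := U ∩ S with hK
    have hKsum : ∑ χ ∈ K, v j χ * v h χ = 2 := by
      rw [← hcross]
      refine Finset.sum_subset (fun χ hχ => (Finset.mem_filter.1 (Finset.mem_inter.1 hχ).1).1)
        fun χ hχ hne => ?_
      by_contra hne0
      exact hne (Finset.mem_inter.2 ⟨Finset.mem_filter.2 ⟨hχ, left_ne_zero_of_mul hne0⟩,
        Finset.mem_filter.2 ⟨hχ, right_ne_zero_of_mul hne0⟩⟩)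
    have hterm : ∀ χ ∈ K, v j χ * v h χ = 1 ∨ v j χ * v h χ = -1 := fun χ hχ => by
      obtain ⟨hχU, hχS⟩ := Finset.mem_inter.1 hχ
      obtain ⟨hχT, hne⟩ := Finset.mem_filter.1 hχU
      rcases sign_eq (hsq χ hχS) with e | e <;> rcases hpm χ hχT with e' | e' | e' <;>
        first | exact absurd e' hne | (rw [e, e']; norm_num)
    have hKeven : (K.card : ℤ) % 2 = 0 := by
      have : (∑ χ ∈ K, (v j χ * v h χ - 1)) % 2 = 0 := by
        refine Int.emod_eq_zero_of_dvd (Finset.dvd_sum fun χ hχ => ?_)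
        rcases hterm χ hχ with e | e <;> rw [e] <;> norm_num
      rw [Finset.sum_sub_distrib, hKsum, Finset.sum_const, nsmul_eq_mul, mul_one] at this
      omega
    have hKle : (2 : ℤ) ≤ K.card := by
      rw [← hKsum, ← nsmul_one K.card, ← Finset.sum_const]
      exact Finset.sum_le_sum fun χ hχ => by rcases hterm χ hχ with e | e <;> omega
    have hK3 : K.card ≤ 3 := hU3 ▸ Finset.card_le_card Finset.inter_subset_left
    have hK2 : K.card = 2 := by omega
    have hKone : ∀ χ ∈ K, v j χ * v h χ = 1 := by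
      have e : ∑ χ ∈ K, v j χ * v h χ = ∑ _χ ∈ K, (1 : ℤ) := by
        rw [hKsum, Finset.sum_const, nsmul_eq_mul, mul_one, hK2]; norm_num
      exact (Finset.sum_eq_sum_iff_of_le fun χ hχ => by
        rcases hterm χ hχ with e | e <;> omega).1 e
    have hUK : (U \ S).card = 1 := by
      have := Finset.card_sdiff_add_card_inter U S
      rw [← hK, hK2, hU3] at this
      omega
    obtain ⟨q, hq⟩ := Finset.card_eq_one.1 hUK
    obtain ⟨hqU, hqS⟩ := Finset.mem_sdiff.1 (hq.ge (Finset.mem_singleton_self q))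
    obtain ⟨hqT, hq0⟩ := Finset.mem_filter.1 hqU
    refine ⟨K, q, v j q, Finset.inter_subset_right, hK2, hqT, hqS, ?_, fun χ hχ => ?_⟩
    · rcases hpm q hqT with e | e | e <;> omega
    · by_cases hχq : χ = q
      · subst hχq
        rw [if_neg fun e => hqS (Finset.mem_inter.1 e).2, if_pos rfl, zero_add]
      rw [if_neg hχq, add_zero]
      by_cases hχK : χ ∈ K
      · rw [if_pos hχK]
        calc v j χ = v j χ * (v h χ * v h χ) := by
              rw [hsq χ (Finset.mem_inter.1 hχK).2, mul_one]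
          _ = v j χ * v h χ * v h χ := (mul_assoc _ _ _).symm
          _ = v h χ := by rw [hKone χ hχK, one_mul]
      · rw [if_neg hχK]
        by_contra hne
        have hχU : χ ∈ U := Finset.mem_filter.2 ⟨hχ, hne⟩
        by_cases hχS : χ ∈ S
        · exact hχK (Finset.mem_inter.2 ⟨hχU, hχS⟩)
        · exact hχq (Finset.mem_singleton.1 (hq.le (Finset.mem_sdiff.2 ⟨hχU, hχS⟩)))
  haveI : Nonempty ι := ⟨w⟩
  choose! P q τ hPS hP2 hqT hqS hτ hv using hshape
  have hrel : ∀ j k, 1 ≤ j → j < h → 1 ≤ k → k < h → j ≠ k →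
      (P j = P k ∧ q j ≠ q k) ∨ ((P j ∩ P k).card = 1 ∧ q j = q k ∧ τ j = τ k) := by
    intro j k hj hjh hk hkh hjk
    have hg := gram j k hj hjh.le hk hkh.le
    rw [if_neg hjk, if_neg (fun e => absurd e.1 hjh.ne), add_zero, add_zero] at hg
    have e : ∀ χ ∈ T, v j χ * v k χ = (if χ ∈ P j ∩ P k then (1 : ℤ) else 0) +
        (if χ = q j then (if q j = q k then τ j * τ k else 0) else 0) := by
      intro χ hχ
      rw [hv j hj hjh χ hχ, hv k hk hkh χ hχ]
      have hnS : ∀ i, 1 ≤ i → i < h → χ ∈ P i → χ ∈ S ∧ χ ≠ q j ∧ χ ≠ q k := fun i hi hih hm =>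
        ⟨hPS i hi hih hm, fun e => hqS j hj hjh (e ▸ hPS i hi hih hm),
          fun e => hqS k hk hkh (e ▸ hPS i hi hih hm)⟩
      by_cases h1 : χ ∈ P j
      · obtain ⟨hs, hnq, hnq'⟩ := hnS j hj hjh h1
        by_cases h2' : χ ∈ P k
        · rw [if_pos h1, if_pos h2', if_neg hnq, if_neg hnq', if_pos (Finset.mem_inter.2 ⟨h1, h2'⟩),
            if_neg hnq, add_zero, hsq χ hs, add_zero]
        · rw [if_pos h1, if_neg h2', if_neg hnq, if_neg hnq',
            if_neg (fun e => h2' (Finset.mem_inter.1 e).2), if_neg hnq]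
          ring
      · rw [if_neg h1, if_neg (fun e => h1 (Finset.mem_inter.1 e).1)]
        by_cases h2' : χ ∈ P k
        · obtain ⟨-, hnq, hnq'⟩ := hnS k hk hkh h2'
          rw [if_neg hnq, if_neg hnq]
          ring
        · rw [if_neg h2']
          by_cases h3' : χ = q j
          · subst h3'
            rw [if_pos rfl, if_pos rfl]
            split_ifs <;> ring
          · rw [if_neg h3', if_neg h3']
            ring
    rw [Finset.sum_congr rfl e, Finset.sum_add_distrib, Finset.sum_ite_eq' T (q j),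
      if_pos (hqT j hj hjh), pair_sum (fun χ hχ =>
        (Finset.mem_filter.1 (hPS j hj hjh (Finset.mem_inter.1 hχ).1)).1),
      Finset.sum_const, nsmul_eq_mul, mul_one] at hg
    have hle : (P j ∩ P k).card ≤ 2 :=
      hP2 j hj hjh ▸ Finset.card_le_card Finset.inter_subset_left
    have hττ : τ j * τ k = 1 ∨ τ j * τ k = -1 := by
      rcases hτ j hj hjh with e | e <;> rcases hτ k hk hkh with e' | e' <;> rw [e, e'] <;> norm_num
    by_cases hqq : q j = q k
    · rw [if_pos hqq] at hg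
      right
      have h1 : (P j ∩ P k).card = 1 := by omega
      refine ⟨h1, hqq, ?_⟩
      rw [h1] at hg
      rcases hτ j hj hjh with e | e <;> rcases hτ k hk hkh with e' | e' <;> rw [e, e'] at hg ⊢ <;>
        norm_num at hg
    · rw [if_neg hqq] at hg
      left
      refine ⟨?_, hqq⟩
      have h2' : (P j ∩ P k).card = 2 := by omega
      exact (Finset.eq_of_subset_of_card_le Finset.inter_subset_left
        (by rw [h2', hP2 j hj hjh])).symm.trans
        (Finset.eq_of_subset_of_card_le Finset.inter_subset_right (by rw [h2', hP2 k hk hkh]))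
  have hST : ∀ y ∈ S, y ∈ T := fun y hy => (Finset.mem_filter.1 hy).1
  have hzero : ∀ χ ∈ T, χ ∉ S → (∀ j, 1 ≤ j → j < h → χ ≠ q j) →
      ∀ j, 1 ≤ j → j ≤ h → v j χ = 0 := by
    intro χ hχ hχS hne j hj hjh
    rcases hjh.eq_or_lt with rfl | hlt
    · exact hSout χ hχ hχS
    · rw [hv j hj hlt χ hχ, if_neg fun e => hχS (hPS j hj hlt e), if_neg (hne j hj hlt), add_zero]
  refine ⟨S, hST, hS4, fun χ hχ => sign_eq (hsq χ hχ), hSout, ?_⟩
  by_cases hall : ∀ j k, 1 ≤ j → j < h → 1 ≤ k → k < h → P j = P k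
  · left
    have hinj : ∀ j k, 1 ≤ j → j < h → 1 ≤ k → k < h → q j = q k → j = k := by
      intro j k hj hjh hk hkh e
      by_contra hne
      rcases hrel j k hj hjh hk hkh hne with ⟨-, h'⟩ | ⟨h', -, -⟩
      · exact h' e
      · rw [hall j k hj hjh hk hkh, Finset.inter_self, hP2 k hk hkh] at h'
        omega
    refine ⟨(Finset.Ico 1 h).image q, fun χ hχ => ?_, Finset.disjoint_right.2 fun χ hχ hχS => ?_,
      ?_, fun χ hχ hχS hχQ => hzero χ hχ hχS fun j hj hjh e =>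
        hχQ (Finset.mem_image.2 ⟨j, Finset.mem_Ico.2 ⟨hj, hjh⟩, e.symm⟩), fun χ hχ => ?_⟩
    · obtain ⟨j, hj, rfl⟩ := Finset.mem_image.1 hχ
      exact hqT j (Finset.mem_Ico.1 hj).1 (Finset.mem_Ico.1 hj).2
    · obtain ⟨j, hj, rfl⟩ := Finset.mem_image.1 hχ
      exact hqS j (Finset.mem_Ico.1 hj).1 (Finset.mem_Ico.1 hj).2 hχS
    · rw [Finset.card_image_of_injOn, Nat.card_Ico]
      intro j hj k hk e
      simp only [Finset.coe_Ico, Set.mem_Ico] at hj hk
      exact hinj j k hj.1 hj.2 hk.1 hk.2 e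
    · obtain ⟨j, hj, rfl⟩ := Finset.mem_image.1 hχ
      obtain ⟨hj, hjh⟩ := Finset.mem_Ico.1 hj
      have hT := hqT j hj hjh
      have hS' := hqS j hj hjh
      refine ⟨j, hj, hjh, ?_, fun k hk hkh hkj => ?_⟩
      · rw [hv j hj hjh _ hT, if_neg fun e => hS' (hPS j hj hjh e), if_pos rfl, zero_add]
        exact hτ j hj hjh
      · rcases hkh.eq_or_lt with rfl | hlt
        · exact hSout _ hT hS'
        · rw [hv k hk hlt _ hT, if_neg fun e => hS' (hPS k hk hlt e),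
            if_neg fun e => hkj (hinj k j hk hlt hj hjh e.symm), add_zero]
  right
  have hdist : ∀ j k, 1 ≤ j → j < h → 1 ≤ k → k < h → j ≠ k →
      (P j ∩ P k).card = 1 ∧ q j = q k ∧ τ j = τ k := by
    intro j k hj hjh hk hkh hjk
    rcases hrel j k hj hjh hk hkh hjk with ⟨hP, hq⟩ | hgood
    · exfalso
      obtain ⟨l, hl, hlh, hne⟩ : ∃ l, 1 ≤ l ∧ l < h ∧ P l ≠ P j := by
        by_contra hcon
        push Not at hcon
        exact hall fun a b ha hah hb hbh => (hcon a ha hah).trans (hcon b hb hbh).symm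
      have h1 : q l = q j := by
        rcases hrel l j hl hlh hj hjh (fun e => hne (by rw [e])) with ⟨e, -⟩ | ⟨-, e, -⟩
        · exact absurd e hne
        · exact e
      have h2' : q l = q k := by
        rcases hrel l k hl hlh hk hkh (fun e => hne (by rw [e, hP])) with ⟨e, -⟩ | ⟨-, e, -⟩
        · exact absurd (e.trans hP.symm) hne
        · exact e
      exact hq (h1.symm.trans h2')
    · exact hgood
  have hh4 : h = 4 := by
    have hle : (Finset.Ico 1 h).card ≤ (S.powersetCard 2).card := by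
      refine Finset.card_le_card_of_injOn P (fun j hj => ?_) fun j hj k hk e => ?_
      · obtain ⟨hj, hjh⟩ := Finset.mem_Ico.1 hj
        exact Finset.mem_powersetCard.2 ⟨hPS j hj hjh, hP2 j hj hjh⟩
      · simp only [Finset.coe_Ico, Set.mem_Ico] at hj hk
        by_contra hne
        have h1 := (hdist j k hj.1 hj.2 hk.1 hk.2 hne).1
        rw [e, Finset.inter_self, hP2 k hk.1 hk.2] at h1
        omega
    rw [Nat.card_Ico, Finset.card_powersetCard, hS4] at hle
    have : Nat.choose 4 2 = 6 := rfl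
    rcases h3 with e | e | e | e
    · exact absurd (fun a b ha hah hb hbh => by omega) hall
    · exact absurd (fun a b ha hah hb hbh => by
        rw [show a = b by omega]) hall
    · exact e
    · omega
  refine ⟨hh4, ?_⟩
  subst hh4
  obtain ⟨-, hq12, hτ12⟩ := hdist 1 2 le_rfl (by omega) (by omega) (by omega) (by omega)
  obtain ⟨-, hq13, hτ13⟩ := hdist 1 3 le_rfl (by omega) (by omega) (by omega) (by omega)
  set T' := insert (q 1) S with hT'
  have hp := hqS 1 le_rfl (by omega)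
  have hT'T : T' ⊆ T := Finset.insert_subset (hqT 1 le_rfl (by omega)) hST
  have hcard : T'.card = 5 := by rw [hT', Finset.card_insert_of_notMem hp, hS4]
  have hout : ∀ χ ∈ T, χ ∉ T' → ∀ j, 1 ≤ j → j ≤ 4 → v j χ = 0 := by
    intro χ hχ hne
    rw [hT', Finset.mem_insert, not_or] at hne
    refine hzero χ hχ hne.2 fun j hj hjh e => hne.1 ?_
    have : j = 1 ∨ j = 2 ∨ j = 3 := by omega
    rcases this with rfl | rfl | rfl
    exacts [e, e.trans hq12.symm, e.trans hq13.symm]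
  have hsum : ∀ f : ι → ℤ, (∀ χ ∈ T, χ ∉ T' → f χ = 0) → ∑ χ ∈ T', f χ = ∑ χ ∈ T, f χ :=
    fun f hf => Finset.sum_subset hT'T hf
  refine ⟨T', Finset.subset_insert _ _, hT'T, hcard, hout, ?_⟩
  have hgram' : ∀ j k, 1 ≤ j → j ≤ 4 → 1 ≤ k → k ≤ 4 → ∑ χ ∈ T', v j χ * v k χ =
      2 + (if j = k then 1 else 0) + if j = 4 ∧ k = 4 then 1 else 0 := fun j k hj hj' hk hk' => by
    rw [hsum _ fun χ hχ hne => by rw [hout χ hχ hne j hj hj', zero_mul], gram j k hj hj' hk hk']
  have hdeg' : ∀ j, 1 ≤ j → j ≤ 4 → ∑ χ ∈ T', v j χ * (D χ : ℤ) = 0 := fun j hj hj' => by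
    rw [hsum _ fun χ hχ hne => by rw [hout χ hχ hne j hj hj', zero_mul], deg j hj hj']
  have hczp : cz v 4 (q 1) = -2 * τ 1 := by
    have hT1 := hqT 1 le_rfl (by omega)
    rw [cz, hSout _ hT1 hp, show Finset.Ico 1 4 = {1, 2, 3} from rfl, Finset.sum_insert (by decide),
      Finset.sum_pair (by decide), hv 1 le_rfl (by omega) _ hT1, hv 2 (by omega) (by omega) _ hT1,
      hv 3 (by omega) (by omega) _ hT1, if_neg fun e => hp (hPS 1 le_rfl (by omega) e),
      if_neg fun e => hp (hPS 2 (by omega) (by omega) e),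
      if_neg fun e => hp (hPS 3 (by omega) (by omega) e), if_pos rfl, if_pos hq12, if_pos hq13,
      ← hτ12, ← hτ13]
    ring
  have hc' : ∀ χ ∈ T', (2 : ℤ) ^ (if χ ∈ S then 0 else 1) ∣ cz v 4 χ ∧
      ¬ (2 : ℤ) ^ ((if χ ∈ S then 0 else 1) + 1) ∣ cz v 4 χ := by
    intro χ hχ
    by_cases hχS : χ ∈ S
    · rw [if_pos hχS, pow_zero]
      refine ⟨one_dvd _, ?_⟩
      rw [zero_add, pow_one, cz_odd_iff]
      rcases sign_eq (hsq χ hχS) with e | e <;> rw [e] <;> omega
    · rw [if_neg hχS]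
      obtain rfl : χ = q 1 := (Finset.mem_insert.1 hχ).resolve_right hχS
      rw [hczp]
      rcases hτ 1 le_rfl (by omega) with e | e <;> rw [e] <;> norm_num
  rcases DihedralVectors.shape T' v D (fun χ => if χ ∈ S then 0 else 1) (h := 4) (Or.inr (Or.inl rfl))
      (fun χ hχ => hD χ (hT'T hχ)) hgram' hdeg' hc'
      ⟨w, Finset.mem_insert_of_mem hwS, if_pos hwS⟩ with
    ⟨h7, -⟩ | ⟨-, χ₀, hχ₀, h00, e, he, h1, h2⟩
  · omega
  · exact ⟨χ₀, by by_contra hn; rw [if_neg hn] at h00; omega, e, he, h1, h2⟩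

/-- The odd family. -/
theorem oShape (T : Finset ι) (u : ℕ → ι → ℤ) (D : ι → ℕ) {n : ℕ} (hn : 1 ≤ n)
    (hD : ∀ χ ∈ T, 0 < D χ)
    (gram : ∀ j k, 1 ≤ j → j ≤ n → 1 ≤ k → k ≤ n →
      ∑ χ ∈ T, u j χ * u k χ = 1 + if j = k then 1 else 0)
    (deg : ∀ j, 1 ≤ j → j ≤ n → ∑ χ ∈ T, u j χ * (D χ : ℤ) = 0) :
    ∃ e₀ ∈ T, ∃ f : ℕ → ι, ∃ σ : ℤ, (σ = 1 ∨ σ = -1) ∧
      (∀ j, 1 ≤ j → j ≤ n → f j ∈ T ∧ f j ≠ e₀) ∧
      (∀ j k, 1 ≤ j → j ≤ n → 1 ≤ k → k ≤ n → f j = f k → j = k) ∧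
      (∀ j, 1 ≤ j → j ≤ n → ∀ χ ∈ T,
        u j χ = σ * ((if χ = e₀ then 1 else 0) - if χ = f j then 1 else 0)) ∧
      ∀ j, 1 ≤ j → j ≤ n → D (f j) = D e₀ := by
  classical
  have key : ∀ j, 1 ≤ j → j ≤ n → ∃ a b : ι, a ∈ T ∧ b ∈ T ∧ a ≠ b ∧ D a = D b ∧
      ∀ χ ∈ T, u j χ = (if χ = a then 1 else 0) - if χ = b then 1 else 0 := by
    intro j hj hjn
    have hn2 := gram j j hj hjn hj hjn
    rw [if_pos rfl] at hn2
    have hpm : ∀ χ ∈ T, u j χ = -1 ∨ u j χ = 0 ∨ u j χ = 1 := fun χ hχ => by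
      have := Finset.single_le_sum (f := fun χ => u j χ * u j χ)
        (fun y _ => mul_self_nonneg (u j y)) hχ
      simp only [hn2] at this
      have h1 : -2 < u j χ ∧ u j χ < 2 := ⟨by nlinarith, by nlinarith⟩
      omega
    set U := T.filter fun χ => u j χ ≠ 0 with hU
    have hone : ∀ χ ∈ U, u j χ = 1 ∨ u j χ = -1 := fun χ hχ => by
      obtain ⟨hχT, hne⟩ := Finset.mem_filter.1 hχ
      rcases hpm χ hχT with e | e | e
      exacts [Or.inr e, absurd e hne, Or.inl e]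
    have hU2 : U.card = 2 := by
      have e : ∑ χ ∈ U, u j χ * u j χ = ∑ χ ∈ T, u j χ * u j χ :=
        Finset.sum_filter_of_ne fun χ _ hne => left_ne_zero_of_mul hne
      rw [hn2, Finset.sum_congr rfl (g := fun _ => (1 : ℤ)) fun χ hχ => by
        rcases hone χ hχ with e' | e' <;> rw [e'] <;> norm_num,
        Finset.sum_const, nsmul_eq_mul, mul_one] at e
      omega
    obtain ⟨a, b, hab, hUab⟩ := Finset.card_eq_two.1 hU2
    have haU : a ∈ U := hUab.ge (Finset.mem_insert_self _ _)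
    have hbU : b ∈ U := hUab.ge (Finset.mem_insert_of_mem (Finset.mem_singleton_self _))
    have haT := (Finset.mem_filter.1 haU).1
    have hbT := (Finset.mem_filter.1 hbU).1
    have hout : ∀ χ ∈ T, χ ≠ a → χ ≠ b → u j χ = 0 := fun χ hχ h1 h2 => by
      by_contra hne
      have := hUab.le (Finset.mem_filter.2 ⟨hχ, hne⟩)
      simp [h1, h2] at this
    have hd : u j a * (D a : ℤ) + u j b * (D b : ℤ) = 0 := by
      rw [← deg j hj hjn, ← Finset.sum_pair (f := fun χ => u j χ * (D χ : ℤ)) hab]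
      refine Finset.sum_subset (by rw [← hUab]; exact Finset.filter_subset _ _) fun χ hχ hne => ?_
      simp only [Finset.mem_insert, Finset.mem_singleton, not_or] at hne
      rw [hout χ hχ hne.1 hne.2, zero_mul]
    have hDa := hD a haT
    have hDb := hD b hbT
    have mk : ∀ a b : ι, a ≠ b → u j a = 1 → u j b = -1 →
        (∀ χ ∈ T, χ ≠ a → χ ≠ b → u j χ = 0) →
        ∀ χ ∈ T, u j χ = (if χ = a then 1 else 0) - if χ = b then 1 else 0 := by
      intro a b hab ha hb hout χ hχ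
      by_cases h1 : χ = a
      · subst h1; rw [if_pos rfl, if_neg hab, ha]; rfl
      · by_cases h2 : χ = b
        · subst h2; rw [if_neg h1, if_pos rfl, hb]; rfl
        · rw [if_neg h1, if_neg h2, hout χ hχ h1 h2]; rfl
    rcases hone a haU with ea | ea <;> rcases hone b hbU with eb | eb <;> rw [ea, eb] at hd
    · omega
    · exact ⟨a, b, haT, hbT, hab, by omega, mk a b hab ea eb hout⟩
    · exact ⟨b, a, hbT, haT, hab.symm, by omega,
        mk b a hab.symm eb ea fun χ hχ h1 h2 => hout χ hχ h2 h1⟩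
    · omega
  obtain ⟨a₁, -, -⟩ := key 1 le_rfl hn
  haveI : Nonempty ι := ⟨a₁⟩
  choose! a b haT hbT hab hDab hu using key
  have hdot : ∀ j k, 1 ≤ j → j ≤ n → 1 ≤ k → k ≤ n → j ≠ k →
      (a j = a k ∧ b j ≠ b k) ∨ (b j = b k ∧ a j ≠ a k) := by
    intro j k hj hjn hk hkn hne
    have hg := gram j k hj hjn hk hkn
    rw [if_neg hne, add_zero, Finset.sum_congr rfl fun χ hχ => by rw [hu k hk hkn χ hχ]] at hg
    simp only [mul_sub, mul_ite, mul_one, mul_zero, Finset.sum_sub_distrib, Finset.sum_ite_eq',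
      haT k hk hkn, hbT k hk hkn, if_true] at hg
    rw [hu j hj hjn _ (haT k hk hkn), hu j hj hjn _ (hbT k hk hkn)] at hg
    have hj' := hab j hj hjn
    have hk' := hab k hk hkn
    by_cases e1 : a k = a j
    · refine Or.inl ⟨e1.symm, fun e2 => ?_⟩
      rw [if_pos e1, if_neg (fun e => hj' (e1.symm.trans e)), if_neg (fun e => hk' (e1.trans e.symm)),
        if_pos e2.symm] at hg
      omega
    · by_cases e2 : b k = b j
      · exact Or.inr ⟨e2.symm, fun e => e1 e.symm⟩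
      · rw [if_neg e1, if_neg e2] at hg
        split_ifs at hg <;> omega
  by_cases hA : ∀ j k, 1 ≤ j → j ≤ n → 1 ≤ k → k ≤ n → a j = a k
  · refine ⟨a 1, haT 1 le_rfl hn, b, 1, Or.inl rfl, fun j hj hjn => ⟨hbT j hj hjn, ?_⟩,
      fun j k hj hjn hk hkn e => ?_, fun j hj hjn χ hχ => ?_, fun j hj hjn => ?_⟩
    · rw [hA 1 j le_rfl hn hj hjn]; exact (hab j hj hjn).symm
    · by_contra hne
      rcases hdot j k hj hjn hk hkn hne with ⟨-, h⟩ | ⟨-, h⟩
      exacts [h e, h (hA j k hj hjn hk hkn)]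
    · rw [hu j hj hjn χ hχ, hA 1 j le_rfl hn hj hjn, one_mul]
    · rw [hA 1 j le_rfl hn hj hjn]; exact (hDab j hj hjn).symm
  · push Not at hA
    obtain ⟨j₀, k₀, hj₀, hjn₀, hk₀, hkn₀, hne₀⟩ := hA
    have hB : ∀ j, 1 ≤ j → j ≤ n → b j = b j₀ := by
      intro j hj hjn
      by_contra hb
      have hb₀ : b j₀ = b k₀ :=
        ((hdot j₀ k₀ hj₀ hjn₀ hk₀ hkn₀ fun e => hne₀ (congrArg a e)).resolve_left
          fun h => hne₀ h.1).1
      have h1 := ((hdot j j₀ hj hjn hj₀ hjn₀ fun e => hb (congrArg b e)).resolve_right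
        fun h => hb h.1).1
      have hjk : j ≠ k₀ := fun e => hb (by rw [e, hb₀])
      rcases hdot j k₀ hj hjn hk₀ hkn₀ hjk with ⟨h2, -⟩ | ⟨h2, -⟩
      · exact hne₀ (h1.symm.trans h2)
      · exact hb (h2.trans hb₀.symm)
    refine ⟨b j₀, hbT j₀ hj₀ hjn₀, a, -1, Or.inr rfl, fun j hj hjn => ⟨haT j hj hjn, ?_⟩,
      fun j k hj hjn hk hkn e => ?_, fun j hj hjn χ hχ => ?_, fun j hj hjn => ?_⟩
    · rw [← hB j hj hjn]; exact hab j hj hjn
    · by_contra hne
      rcases hdot j k hj hjn hk hkn hne with ⟨-, h⟩ | ⟨-, h⟩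
      exacts [h ((hB j hj hjn).trans (hB k hk hkn).symm), h e]
    · rw [hu j hj hjn χ hχ, hB j hj hjn]; ring
    · rw [← hB j hj hjn]; exact hDab j hj hjn

end Cfsg.Agent.SDQVectors
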