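/-
The supports of the integer vectors of a block with semidihedral or quaternion defect group.
-/
import Cfsg.Agent.Lib.BrauerPairs.SDQSetup
import Cfsg.Agent.Lib.BrauerPairs.SDQVectors

set_option linter.unusedSectionVars false
set_option linter.style.haveILetI false

namespace Cfsg.Agent.SDQSetup

open Cfsg MonoidAlgebra Cfsg.Agent.Blocks Cfsg.Agent.BrauerPairs Cfsg.Agent.Char Cfsg.Agent.Star
  Cfsg.Agent.InertiaHeight Cfsg.Agent.LiftPairs Cfsg.Agent.DihedralLocal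
  Cfsg.Agent.SubsectionSum Cfsg.Agent.KnoerrRobinson Cfsg.Agent.SDQFourier

universe u

variable {G : Type u} [Group G] [Fintype G] {M : Ideal AlgInt} [M.IsPrime]
  [CharP (resField M) 2] {B : Set (IrrCharacter G)} {a : Pr (resField M) G} {d : SDQ.Data a.1}

namespace Setup

variable (st : Setup M B a d)

/-- An orbit sum agreeing with a vector on the representatives agrees everywhere. -/
theorem extend (χ : IrrCharacter G) {c c' : ℤ} {j₀ : ℤ}
    (hE : ∀ t : ℕ, t ≤ d.q → E d.h st.A t χ = c * ind d.h d.τ (2 * (t : ℤ)) j₀)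
    (hO : ∀ t : ℕ, t < d.q → O d.h st.A t χ = c * ind d.h d.τ (4 * (t : ℤ) + 1) j₀ + c')
    (j : ℕ) : st.w χ j = c * ind d.h d.τ (j : ℤ) j₀ + c' * ((j % 2 : ℕ) : ℤ) := by
  have ht := SDQClasses.twist d
  have hcg : ∀ a b : ℤ, 2 * (d.h : ℤ) ∣ a - b → ind d.h d.τ a j₀ = ind d.h d.τ b j₀ ∧
      a % 2 = b % 2 := by
    intro a b hab
    refine ⟨?_, Int.emod_eq_emod_iff_emod_sub_eq_zero.2
      (Int.emod_eq_zero_of_dvd ((dvd_mul_right 2 _).trans hab))⟩
    have e : ∀ k : ℤ, 2 * (d.h : ℤ) ∣ a - k ↔ 2 * (d.h : ℤ) ∣ b - k := fun k => by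
      constructor <;> intro hk
      · have := dvd_sub hk hab; rwa [show a - k - (a - b) = b - k by ring] at this
      · have := dvd_add hk hab; rwa [show b - k + (a - b) = a - k by ring] at this
    simp only [ind, e]
  have hτ : ∀ a : ℤ, ind d.h d.τ (d.τ * a) j₀ = ind d.h d.τ a j₀ ∧ (d.τ * a) % 2 = a % 2 := by
    intro a
    obtain ⟨k, hk⟩ := ht.odd
    refine ⟨?_, by rw [show d.τ * a = a + 2 * (k * a) by linear_combination a * hk,
      Int.add_mul_emod_self_left]⟩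
    have e : ∀ b c' : ℤ, 2 * (d.h : ℤ) ∣ c' - d.τ * b →
        (2 * (d.h : ℤ) ∣ d.τ * a - c' ↔ 2 * (d.h : ℤ) ∣ a - b) := by
      intro b c' hb
      constructor
      · intro hd
        have := dvd_sub (dvd_mul_of_dvd_right (dvd_add hd hb) d.τ) (dvd_mul_of_dvd_left ht.sq (a - b))
        rwa [show d.τ * (d.τ * a - c' + (c' - d.τ * b)) - (d.τ * d.τ - 1) * (a - b) = a - b by ring]
          at this
      · intro hd
        have := dvd_sub (dvd_mul_of_dvd_right hd d.τ) hb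
        rwa [show d.τ * (a - b) - (c' - d.τ * b) = d.τ * a - c' by ring] at this
    have h1 := e (d.τ * j₀) j₀ (by
      have := dvd_mul_of_dvd_left ht.sq j₀
      rw [show j₀ - d.τ * (d.τ * j₀) = -((d.τ * d.τ - 1) * j₀) by ring]
      exact this.neg_right)
    have h2 := e j₀ (d.τ * j₀) (by rw [sub_self]; exact dvd_zero _)
    simp only [ind, h1, h2]
    exact add_comm _ _
  suffices key : ∀ i : ℤ, st.w χ i = c * ind d.h d.τ i j₀ + c' * (i % 2) by
    rw [key]; norm_num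
  intro i
  rcases orbit ht i with ⟨t, htq, hd⟩ | ⟨t, htq, hd⟩
  · have h0 : st.w χ (2 * (t : ℤ)) = c * ind d.h d.τ (2 * (t : ℤ)) j₀ + c' * ((2 * (t : ℤ)) % 2) := by
      rw [Int.mul_emod_right, mul_zero, add_zero]
      exact hE t htq
    rcases hd with hd | hd <;>
      rw [st.w_congr χ hd, (hcg _ _ hd).1, (hcg _ _ hd).2]
    · exact h0
    · rw [show st.w χ (d.τ * (2 * (t : ℤ))) = st.w χ (2 * (t : ℤ)) from w_tau ht st.exp χ _,
        (hτ _).1, (hτ _).2]
      exact h0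
  · have h0 : st.w χ (4 * (t : ℤ) + 1) =
        c * ind d.h d.τ (4 * (t : ℤ) + 1) j₀ + c' * ((4 * (t : ℤ) + 1) % 2) := by
      rw [show (4 * (t : ℤ) + 1) % 2 = 1 by omega, mul_one]
      exact hO t htq
    rcases hd with hd | hd <;>
      rw [st.w_congr χ hd, (hcg _ _ hd).1, (hcg _ _ hd).2]
    · exact h0
    · rw [show st.w χ (d.τ * (4 * (t : ℤ) + 1)) = st.w χ (4 * (t : ℤ) + 1) from w_tau ht st.exp χ _,
        (hτ _).1, (hτ _).2]
      exact h0

/-- A character outside the supports of the representatives has no nonzero vector. -/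
theorem not_mem_U {χ : IrrCharacter G} (hE : ∀ t, 1 ≤ t → t ≤ d.q → E d.h st.A t χ = 0)
    (hO : ∀ t, 1 ≤ t → t < d.q → O d.h st.A t χ = 0) : χ ∉ st.U := fun h => by
  obtain ⟨-, j, hj⟩ := st.mem_U.1 h
  exact hj (SDQFourier.w_eq_zero (SDQClasses.twist d) st.exp χ hE hO j)

variable (hM : IsPModular 2 M) (hB : IsPBlock M B) (hmax : IsMax 2 (Ek M B) a)
include hM hB hmax

theorem gramE {i j : ℕ} (hi0 : 1 ≤ i) (hi : i ≤ d.q) (hj0 : 1 ≤ j) (hj : j ≤ d.q) :
    ∑ χ ∈ chars B, E d.h st.A i χ * E d.h st.A j χ =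
      2 + (if i = j then 1 else 0) + if i = d.q ∧ j = d.q then 1 else 0 :=
  gram_E (SDQClasses.twist d) st.exp (st.gram hM hB hmax) hi0 hi hj0 hj

theorem degE (t : ℕ) : ∑ χ ∈ chars B, E d.h st.A t χ * (charDegree (χ : G → ℂ) : ℤ) = 0 :=
  st.deg hM hB hmax _

theorem E_q (χ : IrrCharacter G) : E d.h st.A d.q χ = st.w χ (d.h : ℤ) := by
  rw [E, w, d.hq]; push_cast; rfl

theorem zeros_spec : (zeros B).card = 4 ∧
    ((∃ Q : Finset (IrrCharacter G), Q ⊆ chars B ∧ Disjoint (zeros B) Q ∧ Q.card = d.q - 1 ∧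
        (∀ χ ∈ chars B, χ ∉ zeros B → χ ∉ Q → ∀ j, 1 ≤ j → j ≤ d.q → E d.h st.A j χ = 0) ∧
        ∀ χ ∈ Q, ∃ j₀, 1 ≤ j₀ ∧ j₀ < d.q ∧ (E d.h st.A j₀ χ = 1 ∨ E d.h st.A j₀ χ = -1) ∧
          ∀ j, 1 ≤ j → j ≤ d.q → j ≠ j₀ → E d.h st.A j χ = 0) ∨
      (d.q = 4 ∧ ∃ T' : Finset (IrrCharacter G), T'.card = 5 ∧
        ∀ χ ∈ chars B, χ ∉ T' → ∀ j, 1 ≤ j → j ≤ d.q → E d.h st.A j χ = 0)) := by
  classical
  obtain ⟨χ₀, hχ₀, h0⟩ := exists_heightZero hM hB
  have hqp : d.q = 1 ∨ d.q = 2 ∨ d.q = 4 ∨ 8 ≤ d.q := by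
    obtain ⟨s, hs⟩ := d.q_pow
    rw [hs]
    rcases (show s = 0 ∨ s = 1 ∨ s = 2 ∨ 3 ≤ s by omega) with rfl | rfl | rfl | h3
    · simp
    · simp
    · simp
    · exact Or.inr (Or.inr (Or.inr (Nat.pow_le_pow_right two_pos h3)))
  obtain ⟨S, hST, hS4, hS1, hS0, hrest⟩ := SDQVectors.eShape (chars B) (fun j => E d.h st.A j)
    (fun χ : IrrCharacter G => charDegree (χ : G → ℂ)) d.q_pos hqp (fun χ _ => charDegree_pos χ)
    (fun j k hj hjq hk hkq => st.gramE hM hB hmax hj hjq hk hkq)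
    (fun j _ _ => st.degE hM hB hmax j)
    ⟨χ₀, mem_chars.2 hχ₀, by rw [st.E_q hM hB hmax]; exact (st.odd_iff hM hB hmax hχ₀).2 h0⟩
  have hSZ : S = zeros B := by
    ext χ
    refine ⟨fun hχ => ?_, fun hχ => ?_⟩
    · have hB' := mem_chars.1 (hST hχ)
      refine mem_zeros.2 ⟨hB', (st.odd_iff hM hB hmax hB').1 ?_⟩
      rw [← st.E_q hM hB hmax]
      rcases hS1 χ hχ with e | e <;> rw [e] <;> norm_num
    · obtain ⟨hB', h0'⟩ := mem_zeros.1 hχ
      by_contra hne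
      have := (st.odd_iff hM hB hmax hB').2 h0'
      rw [← st.E_q hM hB hmax, hS0 χ (mem_chars.2 hB') hne] at this
      exact this (dvd_zero 2)
  subst hSZ
  refine ⟨hS4, ?_⟩
  rcases hrest with h | ⟨hq4, T', -, -, hc, hout, -⟩
  · exact Or.inl h
  · exact Or.inr ⟨hq4, T', hc, hout⟩

include st in
theorem card_zeros : (zeros B).card = 4 := (st.zeros_spec hM hB hmax).1

theorem zeros_sq {χ : IrrCharacter G} (hχ : χ ∈ zeros B) : st.w χ (d.h : ℤ) ≠ 0 := fun e =>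
  (st.odd_iff hM hB hmax (mem_zeros.1 hχ).1).2 (mem_zeros.1 hχ).2 (e ▸ dvd_zero 2)

/-- The smallest case: only the height zero characters have vectors. -/
theorem U_one (hq : d.q = 1) : st.U = zeros B := by
  classical
  refine (Finset.Subset.antisymm ?_ (st.zeros_subset_U hM hB hmax))
  intro χ hχ
  by_contra hne
  refine st.not_mem_U (fun t ht htq => ?_) (fun t ht htq => by omega) hχ
  obtain rfl : t = d.q := by omega
  have hB' := (st.mem_U.1 hχ).1
  obtain ⟨-, hrest⟩ := st.zeros_spec hM hB hmax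
  rcases hrest with ⟨Q, -, -, hQ, hout, -⟩ | ⟨h4, -⟩
  · obtain rfl : Q = ∅ := Finset.card_eq_zero.1 (by omega)
    exact hout χ (mem_chars.2 hB') hne (Finset.notMem_empty _) _ ht le_rfl
  · omega

/-- With enough characters in the supports, these are all of height at most one. -/
theorem U_big (hq : 2 ≤ d.q) (hU : d.h + 2 ≤ st.U.card) :
    st.U.card = d.h + 3 ∧ ∀ χ ∈ st.U, χ ∉ zeros B → blockHeight 2 B (χ : G → ℂ) = 1 := by
  classical
  have ht := SDQClasses.twist d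
  have hh := d.hq
  obtain ⟨e₀, he₀T, f, σ, hσ, hfT, hfinj, hu, -⟩ := SDQVectors.oShape (chars B)
    (fun j => O d.h st.A j) (fun χ : IrrCharacter G => charDegree (χ : G → ℂ))
    (n := d.q - 1) (by omega) (fun χ _ => charDegree_pos χ)
    (fun j k hj hjq hk hkq => gram_O ht st.exp (st.gram hM hB hmax) hj (by omega) hk (by omega))
    (fun j _ _ => st.deg hM hB hmax _)
  replace hu : ∀ j, 1 ≤ j → j ≤ d.q - 1 → ∀ χ ∈ chars B, O d.h st.A j χ =
      σ * ((if χ = e₀ then 1 else 0) - if χ = f j then 1 else 0) := hu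
  set F := insert e₀ ((Finset.Icc 1 (d.q - 1)).image f) with hF
  have hFc : F.card = d.q := by
    rw [hF, Finset.card_insert_of_notMem, Finset.card_image_of_injOn, Nat.card_Icc]
    · omega
    · intro j hj k hk e
      simp only [Finset.coe_Icc, Set.mem_Icc] at hj hk
      exact hfinj j k hj.1 hj.2 hk.1 hk.2 e
    · intro h
      obtain ⟨j, hj, e⟩ := Finset.mem_image.1 h
      exact (hfT j (Finset.mem_Icc.1 hj).1 (Finset.mem_Icc.1 hj).2).2 e
  have hFT : F ⊆ chars B := by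
    intro χ hχ
    rcases Finset.mem_insert.1 hχ with rfl | hχ
    · exact he₀T
    · obtain ⟨j, hj, rfl⟩ := Finset.mem_image.1 hχ
      exact (hfT j (Finset.mem_Icc.1 hj).1 (Finset.mem_Icc.1 hj).2).1
  have hOout : ∀ χ ∈ chars B, χ ∉ F → ∀ t, 1 ≤ t → t < d.q → O d.h st.A t χ = 0 := by
    intro χ hχ hne t ht1 htq
    rw [hu t ht1 (by omega) χ hχ, if_neg (fun e => hne (by rw [e, hF]; exact Finset.mem_insert_self _ _)),
      if_neg (fun e => hne (by
        rw [e, hF]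
        exact Finset.mem_insert_of_mem (Finset.mem_image.2 ⟨t, Finset.mem_Icc.2 ⟨ht1, by omega⟩, rfl⟩))),
      sub_zero, mul_zero]
  obtain ⟨hZ4, hrest⟩ := st.zeros_spec hM hB hmax
  rcases hrest with ⟨Q, hQT, hdis, hQc, hEout, hQv⟩ | ⟨hq4, T', hT', hEout⟩
  swap
  · exfalso
    have hsub : st.U ⊆ T' ∪ F := by
      intro χ hχ
      by_contra hne
      rw [Finset.mem_union, not_or] at hne
      have hB' := mem_chars.2 (st.mem_U.1 hχ).1
      exact st.not_mem_U (hEout χ hB' hne.1) (hOout χ hB' hne.2) hχ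
    have := (Finset.card_le_card hsub).trans (Finset.card_union_le _ _)
    omega
  have hsub : st.U ⊆ (zeros B ∪ Q) ∪ F := by
    intro χ hχ
    by_contra hne
    simp only [Finset.mem_union, not_or] at hne
    have hB' := mem_chars.2 (st.mem_U.1 hχ).1
    exact st.not_mem_U (hEout χ hB' hne.1.1 hne.1.2) (hOout χ hB' hne.2) hχ
  have hcard : (zeros B ∪ Q).card = d.q + 3 := by
    rw [Finset.card_union_of_disjoint hdis, hZ4, hQc]; omega
  -- the two supports are disjoint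
  have hEne : ∀ χ ∈ zeros B ∪ Q, ∃ t, 1 ≤ t ∧ t ≤ d.q ∧ E d.h st.A t χ ≠ 0 := by
    intro χ hχ
    rcases Finset.mem_union.1 hχ with hχ | hχ
    · exact ⟨d.q, d.q_pos, le_rfl, by rw [st.E_q hM hB hmax]; exact st.zeros_sq hM hB hmax hχ⟩
    · obtain ⟨j₀, hj, hjq, hv, -⟩ := hQv χ hχ
      exact ⟨j₀, hj, hjq.le, by rcases hv with e | e <;> rw [e] <;> norm_num⟩
  have hEQ : ∀ χ ∈ chars B, χ ∉ zeros B ∪ Q → ∀ t, 1 ≤ t → t ≤ d.q → E d.h st.A t χ = 0 := by
    intro χ hχ hne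
    rw [Finset.mem_union, not_or] at hne
    exact hEout χ hχ hne.1 hne.2
  have hlink : ∀ t b, 1 ≤ b → b ≤ d.q - 1 → E d.h st.A t e₀ = E d.h st.A t (f b) := by
    intro t b hb hbq
    have h1 := gram_EO ht st.exp (st.gram hM hB hmax) t b
    rw [Finset.sum_congr rfl fun χ hχ => by
      rw [hu b hb hbq χ hχ]] at h1
    simp only [mul_sub, mul_ite, mul_one, mul_zero, Finset.sum_sub_distrib, Finset.sum_ite_eq',
      he₀T, (hfT b hb hbq).1, if_true] at h1
    rw [← sub_mul, mul_eq_zero] at h1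
    exact sub_eq_zero.1 (h1.resolve_right (by rcases hσ with rfl | rfl <;> norm_num))
  have hdisj : Disjoint (zeros B ∪ Q) F := by
    by_contra hnd
    obtain ⟨χ, hχ, hχF⟩ := Finset.not_disjoint_iff.1 hnd
    -- two overlaps
    have he₀S : e₀ ∈ zeros B ∪ Q := by
      by_contra hne
      obtain ⟨t, ht1, htq, htne⟩ := hEne χ hχ
      rcases Finset.mem_insert.1 hχF with rfl | hχF
      · exact hne hχ
      obtain ⟨b, hb, rfl⟩ := Finset.mem_image.1 hχF
      obtain ⟨hb1, hb2⟩ := Finset.mem_Icc.1 hb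
      exact htne ((hlink t b hb1 hb2).symm.trans (hEQ e₀ he₀T hne t ht1 htq))
    have hf1 : f 1 ∈ zeros B ∪ Q := by
      by_contra hne
      obtain ⟨t, ht1, htq, htne⟩ := hEne e₀ he₀S
      exact htne ((hlink t 1 le_rfl (by omega)).trans
        (hEQ (f 1) (hfT 1 le_rfl (by omega)).1 hne t ht1 htq))
    have hf1F : f 1 ∈ F := Finset.mem_insert_of_mem
      (Finset.mem_image.2 ⟨1, Finset.mem_Icc.2 ⟨le_rfl, by omega⟩, rfl⟩)
    have h2 : ({e₀, f 1} : Finset (IrrCharacter G)) ⊆ (zeros B ∪ Q) ∩ F := by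
      intro y hy
      rcases Finset.mem_insert.1 hy with rfl | hy
      · exact Finset.mem_inter.2 ⟨he₀S, Finset.mem_insert_self _ _⟩
      · rw [Finset.mem_singleton.1 hy]; exact Finset.mem_inter.2 ⟨hf1, hf1F⟩
    have h3 := Finset.card_le_card h2
    rw [Finset.card_pair (hfT 1 le_rfl (by omega)).2.symm] at h3
    have h4 := Finset.card_union_add_card_inter (zeros B ∪ Q) F
    have h5 := Finset.card_le_card hsub
    omega
  -- the supports are everything
  have hQ0 : ∀ χ ∈ F, ∀ t, 1 ≤ t → t ≤ d.q → E d.h st.A t χ = 0 := fun χ hχ =>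
    hEQ χ (hFT hχ) (Finset.disjoint_right.1 hdisj hχ)
  have hO0 : ∀ χ ∈ zeros B ∪ Q, ∀ t, 1 ≤ t → t < d.q → O d.h st.A t χ = 0 := fun χ hχ =>
    hOout χ (Finset.union_subset zeros_subset hQT hχ) (Finset.disjoint_left.1 hdisj hχ)
  have hEall : ∀ χ, (∀ t, 1 ≤ t → t ≤ d.q → E d.h st.A t χ = 0) →
      ∀ t : ℕ, t ≤ d.q → E d.h st.A t χ = 0 := by
    intro χ h t htq
    rcases Nat.eq_zero_or_pos t with rfl | hp
    · simp [E, SDQFourier.w_zero]
    · exact h t hp htq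
  -- the shapes
  have hFu : ∀ χ ∈ F, ∃ c c' : ℤ, (c = 1 ∨ c = -1) ∧ ∃ j₀ : ℤ,
      (∃ t : ℤ, j₀ = 4 * t + 1) ∧
      (∀ j : ℕ, st.w χ j = c * ind d.h d.τ (j : ℤ) j₀ + c' * ((j % 2 : ℕ) : ℤ)) := by
    intro χ hχF
    have hE0 := hEall χ (hQ0 χ hχF)
    have hone : ∀ {t : ℕ}, t < d.q →
        ind d.h d.τ (4 * (t : ℤ) + 1) 1 = if t = 0 then 1 else 0 := fun {t} htq => by
      have e := ind_odd ht htq d.q_pos
      rwa [Nat.cast_zero, mul_zero, zero_add] at e
    rcases Finset.mem_insert.1 hχF with rfl | hχF'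
    · refine ⟨-σ, σ, by omega, 1, ⟨0, rfl⟩, st.extend χ (fun t htq => ?_) fun t htq => ?_⟩
      · rw [hE0 t htq, ind_mixed ht (by omega), mul_zero]
      · rcases Nat.eq_zero_or_pos t with rfl | hp
        · rw [O, show ((4 : ℤ) * ((0 : ℕ) : ℤ) + 1) = 1 by norm_num, SDQFourier.w_one d.h_pos,
            show ind d.h d.τ 1 1 = 1 by simpa using hone d.q_pos]
          ring
        · rw [hu t hp (by omega) χ he₀T, if_pos rfl, if_neg (hfT t hp (by omega)).2.symm,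
            hone htq, if_neg (by omega)]
          ring
    · obtain ⟨b, hb, rfl⟩ := Finset.mem_image.1 hχF'
      obtain ⟨hb1, hb2⟩ := Finset.mem_Icc.1 hb
      refine ⟨-σ, 0, by omega, 4 * (b : ℤ) + 1, ⟨b, rfl⟩,
        st.extend (f b) (fun t htq => ?_) fun t htq => ?_⟩
      · rw [hE0 t htq, ind_mixed ht (by omega), mul_zero]
      · rw [ind_odd ht htq (by omega), add_zero]
        rcases Nat.eq_zero_or_pos t with rfl | hp
        · rw [O, show ((4 : ℤ) * ((0 : ℕ) : ℤ) + 1) = 1 by norm_num, SDQFourier.w_one d.h_pos,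
            if_neg (by omega), mul_zero]
        · rw [hu t hp (by omega) _ (hfT b hb1 hb2).1, if_neg (hfT b hb1 hb2).2]
          by_cases e : t = b
          · subst e; rw [if_pos rfl, if_pos rfl]; ring
          · rw [if_neg fun e' => e (hfinj t b hp (by omega) hb1 hb2 e'.symm), if_neg e]; ring
  have hFU : F ⊆ st.U := by
    intro χ hχF
    refine st.mem_U.2 ⟨mem_chars.1 (hFT hχF), ?_⟩
    rcases Finset.mem_insert.1 hχF with rfl | hχF'
    · refine ⟨4 * ((1 : ℕ) : ℤ) + 1, ?_⟩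
      show O d.h st.A 1 χ ≠ 0
      rw [hu 1 le_rfl (by omega) χ he₀T, if_pos rfl, if_neg (hfT 1 le_rfl (by omega)).2.symm]
      rcases hσ with rfl | rfl <;> norm_num
    · obtain ⟨b, hb, rfl⟩ := Finset.mem_image.1 hχF'
      obtain ⟨hb1, hb2⟩ := Finset.mem_Icc.1 hb
      refine ⟨4 * (b : ℤ) + 1, ?_⟩
      show O d.h st.A b (f b) ≠ 0
      rw [hu b hb1 hb2 _ (hfT b hb1 hb2).1, if_neg (hfT b hb1 hb2).2, if_pos rfl]
      rcases hσ with rfl | rfl <;> norm_num
  have hSQU : zeros B ∪ Q ⊆ st.U := by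
    intro χ hχ
    obtain ⟨t, -, -, hne⟩ := hEne χ hχ
    exact st.mem_U.2 ⟨mem_chars.1 (Finset.union_subset zeros_subset hQT hχ), _, hne⟩
  have hUeq : st.U = (zeros B ∪ Q) ∪ F := Finset.Subset.antisymm hsub (Finset.union_subset hSQU hFU)
  refine ⟨by rw [hUeq, Finset.card_union_of_disjoint hdisj, hcard, hFc]; omega, fun χ hχ hne => ?_⟩
  have hB' := (st.mem_U.1 hχ).1
  have hpos : blockHeight 2 B (χ : G → ℂ) ≠ 0 := fun e => hne (mem_zeros.2 ⟨hB', e⟩)
  suffices h : blockHeight 2 B (χ : G → ℂ) ≤ 1 by omega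
  have hnd : ∀ j₀ : ℤ, ¬ (d.h : ℤ) ∣ j₀ → ¬ 2 * (d.h : ℤ) ∣ j₀ - d.τ * j₀ := fun j₀ hj hd =>
    hj ((d.τ_fix j₀).1 ((d.zpow_eq _ _).2 (by rwa [← dvd_neg, neg_sub] at hd)))
  rw [hUeq, Finset.mem_union, Finset.mem_union] at hχ
  rcases hχ with (hχ | hχ) | hχ
  · exact absurd hχ hne
  · obtain ⟨j₀, hj1, hjq, hv, hv0⟩ := hQv χ hχ
    have hO := hO0 χ (Finset.mem_union_right _ hχ)
    have hw := st.extend χ (c := E d.h st.A j₀ χ) (c' := 0) (j₀ := 2 * (j₀ : ℤ))
      (fun t htq => by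
        rw [ind_even ht htq hjq.le, if_neg (show ¬ ((t = d.q ∧ j₀ = d.q) ∨ (t = 0 ∧ j₀ = 0)) by omega),
          add_zero]
        by_cases e : t = j₀
        · subst e; rw [if_pos rfl, mul_one]
        · rw [if_neg e, mul_zero]
          rcases Nat.eq_zero_or_pos t with rfl | hp
          · simp [E, SDQFourier.w_zero]
          · exact hv0 t hp htq e)
      (fun t htq => by
        rw [ind_mixed ht (by omega), mul_zero, add_zero]
        rcases Nat.eq_zero_or_pos t with rfl | hp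
        · simp [O, SDQFourier.w_one d.h_pos]
        · exact hO t hp htq)
    refine st.height_le_one hM hB hmax hB' hv (Or.inl ⟨j₀, hj1, hjq, rfl⟩) (hnd _ fun hd => ?_)
      fun j _ => hw j
    have := Int.le_of_dvd (by omega) hd
    omega
  · obtain ⟨c, c', hc, j₀, ⟨t, rfl⟩, hw⟩ := hFu χ hχ
    refine st.height_le_one hM hB hmax hB' hc (Or.inr ⟨hq, t, rfl⟩) (hnd _ fun hd => ?_)
      fun j _ => hw j
    have : (2 : ℤ) ∣ 4 * t + 1 := dvd_trans ⟨d.q, by rw [hh]; push_cast; rfl⟩ hd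
    omega

end Setup

end Cfsg.Agent.SDQSetup
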