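/-
Counting the characters of a block with semidihedral or quaternion defect group.
-/
import Cfsg.Agent.Lib.BrauerPairs.SDQShape

set_option linter.unusedSectionVars false
set_option linter.style.haveILetI false

namespace Cfsg.Agent.SDQSetup

open Cfsg MonoidAlgebra Cfsg.Agent.Blocks Cfsg.Agent.BrauerPairs Cfsg.Agent.Char Cfsg.Agent.Star
  Cfsg.Agent.InertiaHeight Cfsg.Agent.LiftPairs Cfsg.Agent.DihedralLocal
  Cfsg.Agent.SubsectionSum Cfsg.Agent.KnoerrRobinson
open scoped ComplexConjugate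

universe u

variable {G : Type u} [Group G] [Fintype G] {M : Ideal AlgInt} [M.IsPrime]
  [CharP (resField M) 2] {B : Set (IrrCharacter G)} {a : Pr (resField M) G}

/-- The integral form of a major subsection of an involution or of the identity. -/
structure Form (M : Ideal AlgInt) [M.IsPrime] (B : Set (IrrCharacter G))
    (a : Pr (resField M) G) (u : G) where
  b : Set (IrrCharacter (secC u))
  m : IrrCharacter G → IrrCharacter G → ℤ
  ind : IsInducedBlock M (secC u) b B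
  below : zB M (secC u) b = belowAt 2 a u
  defect : blockDefect 2 b = blockDefect 2 B
  pc_eq : ∀ χ ψ, pc 2 a u χ ψ = (m χ ψ : ℂ) / (2 : ℂ) ^ blockDefect 2 B
  symm : ∀ χ ψ, m χ ψ = m ψ χ
  dvd : ∀ χ ∈ B, ∀ ψ, (2 : ℤ) ^ blockHeight 2 B (χ : G → ℂ) ∣ m χ ψ
  dvd_succ : ∀ χ ∈ B, ∀ ψ ∈ B, blockHeight 2 B (ψ : G → ℂ) ≠ 0 →
    (2 : ℤ) ^ (blockHeight 2 B (χ : G → ℂ) + 1) ∣ m χ ψ
  odd : ∀ χ ∈ B, ∀ ψ ∈ B, blockHeight 2 B (ψ : G → ℂ) = 0 →
    ¬ (2 : ℤ) ^ (blockHeight 2 B (χ : G → ℂ) + 1) ∣ m χ ψ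
  psd : ∀ χ ψ, ∀ ε : ℤ, ε * ε = 1 → 0 ≤ m χ χ + 2 * ε * m χ ψ + m ψ ψ ∧
    (m χ χ + 2 * ε * m χ ψ + m ψ ψ = 0 → ∀ φ, m χ φ + ε * m ψ φ = 0)
  trace : ∑ χ ∈ chars B, pc 2 a u χ χ = (blockRank 2 b : ℂ)
  indep : ∀ S : Finset (IrrCharacter G),
    (∀ c : IrrCharacter G → ℂ, (∀ ψ ∈ S, ∑ χ ∈ S, c χ * (m χ ψ : ℂ) = 0) → ∀ χ ∈ S, c χ = 0) →
      S.card ≤ blockRank 2 b

theorem nonempty_form (hM : IsPModular 2 M) (hB : IsPBlock M B) (hmax : IsMax 2 (Ek M B) a)
    {u : G} (hu : u ∈ a.1) (huc : a.1 ≤ secC u) (huu : u * u = 1) : Nonempty (Form M B a u) := by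
  classical
  haveI : Fact (Nat.Prime 2) := ⟨Nat.prime_two⟩
  obtain ⟨b, hind, hz, hd⟩ := SDQClasses.exists_major hmax hM hB hu huc
  obtain ⟨m, hm, hsymm⟩ := MajorSection.exists_int_mp (p := 2) hM hind.1 huu
  have hpow := pPow_of_mem (p := 2) hmax.pair hu
  obtain ⟨χ₀, hχ₀, h0⟩ := exists_heightZero hM hB
  have hpc : ∀ χ ψ, pc 2 a u χ ψ = (m χ ψ : ℂ) / (2 : ℂ) ^ blockDefect 2 B := fun χ ψ => by
    rw [SubsectionSum.pc_eq hind.1 hz, hd, Nat.cast_ofNat, ← hm]
    rfl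
  have hH := fun χ (hχ : χ ∈ B) ψ =>
    MajorSection.mp_height hM hpow hind hd hχ hχ₀ h0 ψ
  have hdvd : ∀ χ ∈ B, ∀ ψ, (2 : ℤ) ^ blockHeight 2 B (χ : G → ℂ) ∣ m χ ψ := fun χ hχ ψ => by
    have h1 := (hH χ hχ ψ).1
    rw [hm, Nat.cast_ofNat] at h1
    exact DihedralBlock.dvd_of_div hM _ _ h1
  have hcon : ∀ ψ ∈ B, blockHeight 2 B (ψ : G → ℂ) = 0 → ¬ MemLocalIdeal M (m χ₀ ψ : ℂ) := by
    intro ψ hψ hψ0
    have := contrib_not_mem hM hpow (secC_eq _) hind hχ₀ hψ h0 hψ0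
    rwa [← MajorSection.mp_eq_contrib, hm] at this
  let f : IrrCharacter G → secC u → ℂ := fun χ =>
    blockPart b (secFun u (secC u) (χ : G → ℂ))
  have hf : ∀ χ ψ, regPair 2 (blockScale 2 b) (f χ) (f ψ) = (m χ ψ : ℂ) := hm
  refine ⟨⟨b, m, hind, hz, hd, hpc, hsymm, hdvd, fun χ hχ ψ hψ hne => ?_,
    fun χ hχ ψ hψ hψ0 => ?_, fun χ ψ ε hε => ?_, ?_, fun S hS => ?_⟩⟩
  · have h2 := (hH χ hχ ψ).2
    rw [hm, hm, Nat.cast_ofNat] at h2
    have h4 : (2 : ℤ) ∣ m χ₀ ψ := by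
      rw [hsymm]
      exact (dvd_pow_self 2 hne).trans (hdvd ψ hψ χ₀)
    have h3 := h2.2 ((intCast_memLocalIdeal_iff hM _).2 h4)
    obtain ⟨k, hk⟩ := hdvd χ hχ ψ
    rw [hk] at h3 ⊢
    push_cast at h3
    rw [mul_div_cancel_left₀ _ (pow_ne_zero _ two_ne_zero), intCast_memLocalIdeal_iff hM] at h3
    rw [pow_succ]
    exact mul_dvd_mul_left _ h3
  · have h2 := (hH χ hχ ψ).2
    rw [hm, hm, Nat.cast_ofNat] at h2
    exact DihedralBlock.not_dvd_of_div hM fun h => hcon ψ hψ hψ0 (h2.1 h)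
  · set g : secC u → ℂ := fun w => ∑ i : Bool, (if i then (1 : ℂ) else (ε : ℂ)) *
      (if i then f χ else f ψ) w with hg
    have hl : ∀ φ, regPair 2 (blockScale 2 b) g (f φ) = ((m χ φ + ε * m ψ φ : ℤ) : ℂ) := fun φ => by
      rw [hg, regPair_sum_left, Fintype.sum_bool]
      simp only [if_true, Bool.false_eq_true, if_false, hf]
      push_cast; ring
    have hgg : regPair 2 (blockScale 2 b) g g =
        ((m χ χ + 2 * ε * m χ ψ + m ψ ψ : ℤ) : ℂ) := by
      conv_lhs => arg 4; rw [hg]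
      rw [regPair_sum_right, Fintype.sum_bool]
      simp only [if_true, Bool.false_eq_true, if_false, hl, map_one, map_intCast]
      push_cast
      have e2 : (ε : ℂ) * (ε : ℂ) = 1 := by exact_mod_cast hε
      rw [hsymm ψ χ]
      linear_combination (m ψ ψ : ℂ) * e2
    constructor
    · have h1 := MajorSection.regPair_self_re_nonneg (p := 2) (blockScale_nonneg (p := 2) b) g
      rw [hgg, Complex.intCast_re] at h1
      exact_mod_cast h1
    · intro h0' φ
      rw [h0', Int.cast_zero] at hgg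
      have hz' := MajorSection.eq_zero_of_regPair_self
        (MajorSection.blockScale_ne_zero Nat.prime_two b) hgg
      have e := hl φ
      rw [show regPair 2 (blockScale 2 b) g (f φ) = 0 by simp [regPair, hz']] at e
      exact_mod_cast e.symm
  · have h := sum_regPair_self hM hpow (secC_eq _) hind
    rw [Finset.sum_congr rfl (g := fun χ => pc 2 a u χ χ * (2 : ℂ) ^ blockDefect 2 B) fun χ _ => by
      rw [hpc, div_mul_cancel₀ _ (pow_ne_zero _ two_ne_zero), ← hf],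
      chars_eq, ← Finset.sum_mul, hd, Nat.cast_pow, Nat.cast_ofNat, mul_comm] at h
    exact mul_left_cancel₀ (pow_ne_zero _ two_ne_zero) h
  · set W := Submodule.span ℂ
      ((fun φ : IrrCharacter (secC u) => pRegularPart 2 (φ : secC u → ℂ)) '' b) with hW
    have hfW : ∀ χ, pRegularPart 2 (f χ) ∈ W := by
      intro χ
      have e : pRegularPart 2 (f χ) = ∑ φ ∈ Finset.univ.filter (· ∈ b),
          classInner (secFun u (secC u) (χ : G → ℂ)) (φ : secC u → ℂ) •
            pRegularPart 2 (φ : secC u → ℂ) := by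
        funext w
        simp only [f, Finset.sum_apply, Pi.smul_apply, smul_eq_mul, pRegularPart_apply]
        split_ifs with hw
        · simp
        · exact blockPart_eq_sum b _ w
      rw [e]
      exact Submodule.sum_mem _ fun φ hφ => Submodule.smul_mem _ _
        (Submodule.subset_span ⟨φ, (Finset.mem_filter.1 hφ).2, rfl⟩)
    have hli : LinearIndependent ℂ (fun χ : S => (⟨pRegularPart 2 (f χ), hfW χ⟩ : W)) := by
      rw [Fintype.linearIndependent_iff]
      intro c hc i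
      set c' : IrrCharacter G → ℂ := fun χ => if h : χ ∈ S then c ⟨χ, h⟩ else 0 with hc'
      have hsum : ∀ w, ∑ χ ∈ S, c' χ * pRegularPart 2 (f χ) w = 0 := by
        intro w
        have h1 := congrFun (congrArg Subtype.val hc) w
        simp only [AddSubmonoidClass.coe_finsetSum, SetLike.val_smul, Finset.sum_apply,
          Pi.smul_apply, smul_eq_mul, ZeroMemClass.coe_zero, Pi.zero_apply] at h1
        rw [← h1, ← Finset.sum_coe_sort S]
        exact Finset.sum_congr rfl fun χ _ => by simp [hc', χ.2]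
      have hk : ∀ ψ ∈ S, ∑ χ ∈ S, c' χ * (m χ ψ : ℂ) = 0 := by
        intro ψ _
        calc ∑ χ ∈ S, c' χ * (m χ ψ : ℂ)
            = ∑ χ ∈ S, c' χ * regPair 2 (blockScale 2 b) (f χ) (f ψ) := by simp only [hf]
          _ = (blockScale 2 b : ℂ) * ∑ w, (∑ χ ∈ S, c' χ * pRegularPart 2 (f χ) w) *
              conj (pRegularPart 2 (f ψ) w) := by
            simp only [regPair, Finset.mul_sum, Finset.sum_mul]
            rw [Finset.sum_comm]
            exact Finset.sum_congr rfl fun w _ => Finset.sum_congr rfl fun χ _ => by ring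
          _ = 0 := by simp [hsum]
      have := hS c' hk i i.2
      simpa [hc', i.2] using this
    have := hli.fintype_card_le_finrank
    rwa [Fintype.card_coe] at this

/-- At a central element the block part of the section is the section itself. -/
theorem pc_central (hM : IsPModular 2 M) (hB : IsPBlock M B) (hmax : IsMax 2 (Ek M B) a)
    [DecidablePred fun g : G => ¬ 2 ∣ orderOf g]
    {u : G} (hu : u ∈ a.1) (huc : u ∈ Subgroup.center G) {χ ψ : IrrCharacter G}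
    (hχ : χ ∈ B) (hψ : ψ ∈ B) :
    pc 2 a u χ ψ = (Nat.card G : ℂ)⁻¹ * ∑ g ∈ Finset.univ.filter (fun g : G => ¬ 2 ∣ orderOf g),
      (χ : G → ℂ) (u * g) * conj ((ψ : G → ℂ) (u * g)) := by
  classical
  haveI : Fact (Nat.Prime 2) := ⟨Nat.prime_two⟩
  have hall : ∀ g, g ∈ secC u := fun g => mem_secC.2 (Subgroup.mem_center_iff.1 huc g)
  obtain ⟨b, aC, L⟩ := NilpotentColumns.exists_localMax hM hB hmax hu
  have hzB : zB M (secC u) b = belowAt 2 a u :=
    (existsUnique_below hmax.pair (Subgroup.zpowers_le.2 hu)).unique L.below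
      (belowAt_spec hmax.pair hu)
  have hpart : ∀ φ ∈ B, ∀ s : secC u, ¬ 2 ∣ orderOf s →
      blockPart b (secFun u (secC u) ((φ : IrrCharacter G) : G → ℂ)) s =
        (φ : G → ℂ) (u * (s : G)) := by
    intro φ hφ s hs
    have hcl : IsClassFunction (secC u) (secFun u (secC u) (φ : G → ℂ)) :=
      isClassFunction_secFun (secC_eq u) (IsCharacter.isClassFunction (irr_isCharacter φ))
    have h1 := sum_blockPart (M := M) hcl s
    rw [Finset.sum_eq_single_of_mem b (mem_blocks.2 L.blk) fun b' hb' hne => ?_] at h1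
    · exact h1
    refine blockPart_eq_zero_of_not_pair hM hB (pPow_of_mem hmax.pair hu) hφ (mem_blocks.1 hb')
      (fun hp => hne (zB_injective _ (mem_blocks.1 hb') L.blk ?_)) hs
    obtain ⟨g, hg⟩ := exists_subLE_of_pairOf hmax hp
    have e : cjP g ((Subgroup.zpowers u, zB M (secC u) b') : Pr (resField M) G) =
        (Subgroup.zpowers u, zB M (secC u) b') := Prod.ext
      (by show cjS g (Subgroup.zpowers u) = _
          rw [cjS_zpowers, Subgroup.mem_center_iff.1 huc g, mul_inv_cancel_right])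
      (cj_eq_of_inZ (isBlk_zB (secC u) (mem_blocks.1 hb')).inZ (hall g))
    rw [e] at hg
    exact (existsUnique_below hmax.pair (Subgroup.zpowers_le.2 hu)).unique hg L.below
  rw [pc, ← hzB, sec_eq L.blk]
  have hcard : Nat.card (secC u) = Nat.card G := by
    rw [show secC u = (⊤ : Subgroup G) from eq_top_iff.2 fun g _ => hall g, Subgroup.card_top]
  rw [hcard]
  congr 1
  refine Finset.sum_bij' (fun s _ => (s : G)) (fun g _ => ⟨g, hall g⟩) (fun s hs => ?_)
    (fun g hg => ?_) (fun s _ => rfl) (fun g _ => rfl) fun s hs => ?_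
  · exact Finset.mem_filter.2 ⟨Finset.mem_univ _, by
      rw [Subgroup.orderOf_coe]; exact (Finset.mem_filter.1 hs).2⟩
  · exact Finset.mem_filter.2 ⟨Finset.mem_univ _, by
      rw [Subgroup.orderOf_mk]; exact (Finset.mem_filter.1 hg).2⟩
  · rw [hpart χ hχ s (Finset.mem_filter.1 hs).2, hpart ψ hψ s (Finset.mem_filter.1 hs).2]

theorem rank_one (hM : IsPModular 2 M) (hB : IsPBlock M B) (hmax : IsMax 2 (Ek M B) a)
    (F : Form M B a (1 : G)) : blockRank 2 F.b = blockRank 2 B := by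
  classical
  have h := F.trace
  rw [Finset.sum_congr rfl fun χ hχ =>
    pc_central hM hB hmax (one_mem _) (one_mem _) (mem_chars.1 hχ) (mem_chars.1 hχ)] at h
  simp only [one_mul, Finset.mul_sum] at h
  rw [Finset.sum_comm] at h
  have h' := blockRank_eq hM hB
  simp only [blockPair, Finset.mul_sum, chars_eq] at h'
  exact_mod_cast h.symm.trans h'.symm

variable {d : SDQ.Data a.1}

namespace Setup

variable (st : Setup M B a d)
variable (hM : IsPModular 2 M) (hB : IsPBlock M B) (hmax : IsMax 2 (Ek M B) a)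
include hM hB hmax

theorem card_midRep : 2 * (SDQClasses.midRep d).card + 2 = 2 * d.h := by
  classical
  have h1 := SDQClasses.sum_midRep d (fun _ => 1) fun _ _ => rfl
  simp only [Finset.sum_const, smul_eq_mul, mul_one] at h1
  have h2 : SDQFourier.mid d.h = Finset.range (2 * d.h) \ {0, d.h} := by
    ext i
    simp [SDQFourier.mem_mid]
  have := d.h_pos
  rw [h2, Finset.card_sdiff_of_subset (fun i hi => Finset.mem_range.2 (by
      rcases Finset.mem_insert.1 hi with rfl | hi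
      · omega
      · rw [Finset.mem_singleton.1 hi]; omega)),
    Finset.card_range, Finset.card_pair (by omega)] at h1
  omega

include st

theorem trace_mid {i : ℕ} (hi : i ∈ SDQFourier.mid d.h) :
    ∑ χ ∈ chars B, pc 2 a (d.x ^ (i : ℤ)) χ χ = 1 := by
  have hne : ((2 * d.h : ℕ) : ℂ) ≠ 0 := Nat.cast_ne_zero.2 (by have := d.h_pos; omega)
  rw [Finset.sum_congr rfl fun χ _ => st.pc_mid hM hmax (SDQFourier.mid_int hi) χ χ,
    ← Finset.sum_div, st.gram hM hB hmax i hi i hi]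
  have hnd : ¬ 2 * (d.h : ℤ) ∣ (i : ℤ) - d.τ * i := fun hd =>
    SDQFourier.mid_int hi ((d.τ_fix i).1 ((d.zpow_eq _ _).2 (by rwa [← dvd_neg, neg_sub] at hd)))
  rw [SDQFourier.ind, if_pos (by simp), if_neg hnd]
  simp [d.h_pos.ne']

theorem trace_out {v : G} (hv : v ∈ SDQClasses.out d) :
    ∑ χ ∈ chars B, pc 2 a v χ χ = 1 := by
  classical
  haveI : Fact (Nat.Prime 2) := ⟨Nat.prime_two⟩
  obtain ⟨hva, hvx, hU⟩ := SDQClasses.mem_out d hv
  obtain ⟨b, hind, hz, hl, hd⟩ := SDQClasses.exists_outer hmax d hM hB hva hvx hU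
  have h := sum_regPair_self hM (pPow_of_mem (p := 2) hmax.pair hva) (secC_eq _) hind
  rw [hl, chars_eq] at h
  rw [Finset.sum_congr rfl fun χ _ => SubsectionSum.pc_eq hind.1 hz χ χ, ← Finset.sum_div, h,
    Nat.cast_one, mul_one, Nat.cast_pow, div_self (pow_ne_zero _ (by norm_num))]

/-- Away from height zero the outer subsections contribute nothing. -/
theorem pc_out_zero {v : G} (hv : v ∈ SDQClasses.out d) {χ ψ : IrrCharacter G} (hχ : χ ∈ B)
    (hne : χ ∉ zeros B) (hψ : ψ ∈ B) : pc 2 a v χ ψ = 0 := by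
  classical
  haveI : Fact (Nat.Prime 2) := ⟨Nat.prime_two⟩
  obtain ⟨hva, hvx, hU⟩ := SDQClasses.mem_out d hv
  obtain ⟨b, hind, hz, hl, hd⟩ := SDQClasses.exists_outer hmax d hM hB hva hvx hU
  have h4 := st.card_zeros hM hB hmax
  have hfull : (Finset.univ.filter fun φ : IrrCharacter G =>
      φ ∈ B ∧ blockHeight 2 B (φ : G → ℂ) = 0).card ^ 2 =
        2 ^ (2 * blockDefect 2 b) * blockRank 2 b := by
    rw [hd, hl, show (Finset.univ.filter fun φ : IrrCharacter G =>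
      φ ∈ B ∧ blockHeight 2 B (φ : G → ℂ) = 0) = zeros B from rfl, h4]
    norm_num
  rw [SubsectionSum.pc_eq hind.1 hz]
  have := MajorSection.mp_eq_zero_of_full hM (pPow_of_mem (p := 2) hmax.pair hva) hind hfull hχ hψ
    fun e => hne (mem_zeros.2 ⟨hχ, e⟩)
  rw [MajorSection.mp] at this
  rw [this, zero_div]

/-- The number of characters of the block. -/
theorem count (Fz : Form M B a d.z) : (chars B).card =
    blockRank 2 B + blockRank 2 Fz.b + (d.h - 1) + (SDQClasses.out d).card := by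
  classical
  obtain ⟨F1⟩ := nonempty_form hM hB hmax (one_mem _) (fun g _ => mem_secC.2 (by simp)) (one_mul 1)
  have h : ((chars B).card : ℂ) = (blockRank 2 B : ℂ) + (blockRank 2 Fz.b : ℂ) +
      ((SDQClasses.midRep d).card : ℂ) + ((SDQClasses.out d).card : ℂ) := by
    rw [Finset.card_eq_sum_ones, Nat.cast_sum, Nat.cast_one,
      Finset.sum_congr rfl fun χ hχ => (if_pos rfl).symm.trans
        (SDQClasses.sum_reps hmax d hM hB (χ := χ) (ψ := χ) (mem_chars.1 hχ))]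
    simp only [Finset.sum_add_distrib]
    rw [F1.trace, Fz.trace, rank_one hM hB hmax F1, Finset.sum_comm,
      Finset.sum_congr (s₁ := SDQClasses.midRep d) rfl fun i hi =>
        st.trace_mid hM hB hmax (Finset.mem_filter.1 hi).1,
      Finset.sum_comm, Finset.sum_congr rfl fun v hv => st.trace_out hM hB hmax hv]
    simp
  have := card_midRep hM hB hmax (d := d)
  have : (chars B).card = blockRank 2 B + blockRank 2 Fz.b + (SDQClasses.midRep d).card +
      (SDQClasses.out d).card := by exact_mod_cast h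
  omega

theorem rest_rel (F1 : Form M B a (1 : G)) (Fz : Form M B a d.z) {χ ψ : IrrCharacter G}
    (hχ : χ ∈ B) (hU : χ ∉ st.U) (hψ : ψ ∈ B) [Decidable (χ = ψ)] :
    F1.m χ ψ + Fz.m χ ψ = if χ = ψ then 4 * (d.h : ℤ) else 0 := by
  classical
  have h := SDQClasses.sum_reps hmax d hM hB (χ := χ) (ψ := ψ) hχ
  rw [Finset.sum_eq_zero (s := SDQClasses.midRep d) fun i hi => ?_,
    Finset.sum_eq_zero fun v hv => st.pc_out_zero hM hB hmax hv hχ
      (fun e => hU (st.zeros_subset_U hM hB hmax e)) hψ,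
    add_zero, add_zero, F1.pc_eq, Fz.pc_eq, ← add_div,
    eq_div_iff (pow_ne_zero _ two_ne_zero)] at h
  · have e : (2 : ℂ) ^ blockDefect 2 B = ((4 * (d.h : ℤ) : ℤ) : ℂ) := by
      have := congrArg (fun n : ℕ => (n : ℂ)) (defect_eq hM hB hmax (d := d))
      push_cast at this ⊢
      rw [this]; ring
    rw [e] at h
    by_cases hcase : χ = ψ
    · rw [if_pos hcase, one_mul] at h
      rw [if_pos hcase]
      exact_mod_cast h.symm
    · rw [if_neg hcase, zero_mul] at h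
      rw [if_neg hcase]
      exact_mod_cast h.symm
  · rw [st.pc_mid hM hmax (SDQFourier.mid_int (Finset.mem_filter.1 hi).1),
      st.Ψ_eq_zero hχ hU (SDQFourier.mid_int (Finset.mem_filter.1 hi).1), zero_mul, zero_div]

/-- The characters without vectors have the largest height. -/
theorem rest_height {χ : IrrCharacter G} (hχ : χ ∈ B) (hU : χ ∉ st.U) :
    2 ^ blockHeight 2 B (χ : G → ℂ) = d.h := by
  obtain ⟨s, hs⟩ := d.h_pow
  have hne : blockHeight 2 B (χ : G → ℂ) ≠ 0 := fun e =>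
    hU (st.zeros_subset_U hM hB hmax (mem_zeros.2 ⟨hχ, e⟩))
  have hB2 := height_add_two_le hM hB hχ hne
  have hd2 : blockDefect 2 B = s + 2 := Nat.pow_right_injective le_rfl
    (show 2 ^ blockDefect 2 B = 2 ^ (s + 2) by
      rw [defect_eq hM hB hmax (d := d), hs]; ring)
  obtain ⟨-, h2⟩ := st.N_height hM hB hmax hχ
  have hN : (2 : ℤ) ^ s ∣ st.N χ := by
    refine ⟨(st.A χ 0 : ℤ) + st.A χ 1, ?_⟩
    rw [st.N_eq, Finset.sum_eq_zero (fun j _ => by
      by_contra hj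
      exact hU (st.mem_U.2 ⟨hχ, _, hj⟩)), zero_add, hs]
    push_cast
    rfl
  have : s ≤ blockHeight 2 B (χ : G → ℂ) := by
    by_contra hlt
    exact h2 ((pow_dvd_pow 2 (by omega)).trans hN)
  rw [hs]
  congr 1
  omega

/-- The forms on the characters without vectors. -/
theorem rest_form (F1 : Form M B a (1 : G)) (Fz : Form M B a d.z) {χ : IrrCharacter G}
    (hχ : χ ∈ B) (hU : χ ∉ st.U) :
    (F1.m χ χ = 2 * (d.h : ℤ) ∧ Fz.m χ χ = 2 * (d.h : ℤ)) ∧
      ∀ ψ ∈ B, ψ ∉ st.U → ψ ≠ χ → F1.m χ ψ = 0 ∧ Fz.m χ ψ = 0 := by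
  classical
  obtain ⟨χ₀, hχ₀, h0⟩ := exists_heightZero hM hB
  have hh := d.h_pos
  have hneU : ∀ φ ∈ B, φ ∉ st.U → blockHeight 2 B (φ : G → ℂ) ≠ 0 := fun φ hφ hφU e =>
    hφU (st.zeros_subset_U hM hB hmax (mem_zeros.2 ⟨hφ, e⟩))
  have h2h : ∀ φ ∈ B, φ ∉ st.U →
      (2 : ℤ) ^ (blockHeight 2 B (φ : G → ℂ) + 1) = 2 * (d.h : ℤ) := fun φ hφ hφU => by
    rw [pow_succ']
    congr 1
    exact_mod_cast st.rest_height hM hB hmax hφ hφU
  have hdiag : ∀ φ ∈ B, φ ∉ st.U →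
      F1.m φ φ = 2 * (d.h : ℤ) ∧ Fz.m φ φ = 2 * (d.h : ℤ) := by
    intro φ hφ hφU
    have hpos : ∀ {u : G} (F : Form M B a u), 0 < F.m φ φ := by
      intro u F
      obtain ⟨h1, -⟩ := F.psd φ φ 1 (one_mul 1)
      refine lt_of_le_of_ne (by linarith) fun e => F.odd φ hφ χ₀ hχ₀ h0 ?_
      have h3 := (F.psd φ φ 1 (one_mul 1)).2 (by linarith) χ₀
      rw [show F.m φ χ₀ = 0 by linarith]
      exact dvd_zero _
    have hsum := st.rest_rel hM hB hmax F1 Fz hφ hφU hφ
    rw [if_pos rfl] at hsum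
    obtain ⟨k1, hk1⟩ := F1.dvd_succ φ hφ φ hφ (hneU φ hφ hφU)
    obtain ⟨k2, hk2⟩ := Fz.dvd_succ φ hφ φ hφ (hneU φ hφ hφU)
    rw [h2h φ hφ hφU] at hk1 hk2
    have p1 := hpos F1
    have p2 := hpos Fz
    have hk1' : 0 < k1 := by
      rw [hk1] at p1
      exact (pos_iff_pos_of_mul_pos p1).1 (by omega)
    have hk2' : 0 < k2 := by
      rw [hk2] at p2
      exact (pos_iff_pos_of_mul_pos p2).1 (by omega)
    have hk : k1 + k2 = 2 := mul_left_cancel₀ (show (2 * (d.h : ℤ)) ≠ 0 by omega)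
      (by linear_combination hsum - hk1 - hk2)
    obtain ⟨rfl, rfl⟩ : k1 = 1 ∧ k2 = 1 := by omega
    rw [hk1, hk2]
    omega
  refine ⟨hdiag χ hχ hU, fun ψ hψ hψU hne => ?_⟩
  have hr := st.rest_rel hM hB hmax F1 Fz hχ hU hψ
  rw [if_neg hne.symm] at hr
  obtain ⟨k, hk⟩ := F1.dvd_succ χ hχ ψ hψ (hneU ψ hψ hψU)
  rw [h2h χ hχ hU] at hk
  obtain ⟨d1, dz⟩ := hdiag χ hχ hU
  obtain ⟨e1, ez⟩ := hdiag ψ hψ hψU
  have b1 := (F1.psd χ ψ 1 (one_mul 1)).1
  have b2 := (F1.psd χ ψ (-1) (by norm_num)).1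
  rw [d1, e1, hk] at b1 b2
  have hk1 : k ≤ 1 := le_of_mul_le_mul_left (a := 2 * (d.h : ℤ)) (by linarith) (by omega)
  have hk2 : -1 ≤ k := le_of_mul_le_mul_left (a := 2 * (d.h : ℤ)) (by linarith) (by omega)
  suffices hk0 : k = 0 by
    rw [hk0, mul_zero] at hk
    exact ⟨hk, by linarith⟩
  by_contra hk0
  have hkk : k * k = 1 := by
    rcases (show k = 1 ∨ k = -1 by omega) with rfl | rfl <;> norm_num
  have q1 := (F1.psd χ ψ (-k) (by rw [neg_mul_neg]; exact hkk)).2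
    (by rw [d1, e1, hk]; linear_combination (-4 * (d.h : ℤ)) * hkk) χ₀
  have q2 := (Fz.psd χ ψ k hkk).2
    (by rw [dz, ez, show Fz.m χ ψ = -F1.m χ ψ by linarith, hk]
        linear_combination (-4 * (d.h : ℤ)) * hkk) χ₀
  have r1 := st.rest_rel hM hB hmax F1 Fz hχ hU hχ₀
  have r2 := st.rest_rel hM hB hmax F1 Fz hψ hψU hχ₀
  rw [if_neg (fun e => hneU χ hχ hU (by rw [e]; exact h0))] at r1
  rw [if_neg (fun e => hneU ψ hψ hψU (by rw [e]; exact h0))] at r2
  refine F1.odd χ hχ χ₀ hχ₀ h0 ?_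
  have : 2 * F1.m χ χ₀ = 0 := by linear_combination q1 + r1 - q2 + k * r2
  rw [show F1.m χ χ₀ = 0 by linarith]
  exact dvd_zero _

/-- The characters without vectors bound the ranks at the two central subsections. -/
theorem rest_le {u : G} (F : Form M B a u) (hR : ∀ χ ∈ B, χ ∉ st.U →
      F.m χ χ = 2 * (d.h : ℤ) ∧ ∀ ψ ∈ B, ψ ∉ st.U → ψ ≠ χ → F.m χ ψ = 0) :
    (chars B \ st.U).card ≤ blockRank 2 F.b ∧
      (4 ≤ d.h → (chars B \ st.U).card + 1 ≤ blockRank 2 F.b) := by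
  classical
  have hh := d.h_pos
  have h2 : ((2 * (d.h : ℤ) : ℤ) : ℂ) ≠ 0 := Int.cast_ne_zero.2 (by omega)
  have hmem : ∀ χ ∈ chars B \ st.U, χ ∈ B ∧ χ ∉ st.U := fun χ hχ =>
    ⟨mem_chars.1 (Finset.mem_sdiff.1 hχ).1, (Finset.mem_sdiff.1 hχ).2⟩
  have hcol : ∀ (c : IrrCharacter G → ℂ), ∀ ψ ∈ chars B \ st.U,
      ∑ χ ∈ chars B \ st.U, c χ * (F.m χ ψ : ℂ) = c ψ * ((2 * (d.h : ℤ) : ℤ) : ℂ) := by
    intro c ψ hψ
    rw [Finset.sum_eq_single_of_mem ψ hψ fun χ hχ hne => ?_, (hR ψ (hmem ψ hψ).1 (hmem ψ hψ).2).1]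
    rw [(hR χ (hmem χ hχ).1 (hmem χ hχ).2).2 ψ (hmem ψ hψ).1 (hmem ψ hψ).2 hne.symm,
      Int.cast_zero, mul_zero]
  constructor
  · refine F.indep _ fun c hc χ hχ => ?_
    have := hc χ hχ
    rw [hcol c χ hχ] at this
    exact (mul_eq_zero.1 this).resolve_right h2
  · intro h4
    obtain ⟨χ₀, hχ₀, h0⟩ := exists_heightZero hM hB
    have hnot : χ₀ ∉ chars B \ st.U := fun hc =>
      (hmem χ₀ hc).2 (st.zeros_subset_U hM hB hmax (mem_zeros.2 ⟨hχ₀, h0⟩))
    have := F.indep (insert χ₀ (chars B \ st.U)) fun c hc => ?_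
    · rwa [Finset.card_insert_of_notMem hnot] at this
    have hrow : ∀ ψ ∈ chars B \ st.U,
        c χ₀ * (F.m χ₀ ψ : ℂ) + c ψ * ((2 * (d.h : ℤ) : ℤ) : ℂ) = 0 := fun ψ hψ => by
      rw [← hcol c ψ hψ, ← Finset.sum_insert (f := fun χ => c χ * (F.m χ ψ : ℂ)) hnot]
      exact hc ψ (Finset.mem_insert_of_mem hψ)
    have h00 := hc χ₀ (Finset.mem_insert_self _ _)
    rw [Finset.sum_insert hnot] at h00
    have hc0 : c χ₀ = 0 := by
      have hdiv : ∀ ψ ∈ chars B \ st.U, (d.h : ℤ) ∣ F.m χ₀ ψ := fun ψ hψ => by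
        have := F.dvd ψ (hmem ψ hψ).1 χ₀
        rw [F.symm, show (2 : ℤ) ^ blockHeight 2 B (ψ : G → ℂ) = (d.h : ℤ) by
          exact_mod_cast st.rest_height hM hB hmax (hmem ψ hψ).1 (hmem ψ hψ).2] at this
        exact this
      choose! k hk using hdiv
      set K := ∑ ψ ∈ chars B \ st.U, k ψ * k ψ with hK
      have key : c χ₀ * ((2 * (d.h : ℤ) * F.m χ₀ χ₀ - (d.h : ℤ) ^ 2 * K : ℤ) : ℂ) = 0 := by
        have e : ∑ ψ ∈ chars B \ st.U,
            (c ψ * ((2 * (d.h : ℤ) : ℤ) : ℂ)) * (F.m ψ χ₀ : ℂ) =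
            -(c χ₀ * (((d.h : ℤ) ^ 2 * K : ℤ) : ℂ)) := by
          rw [hK, Finset.mul_sum, Int.cast_sum, Finset.mul_sum, ← Finset.sum_neg_distrib]
          refine Finset.sum_congr rfl fun ψ hψ => ?_
          rw [eq_neg_of_add_eq_zero_right (hrow ψ hψ), F.symm ψ χ₀, hk ψ hψ]
          push_cast; ring
        have e' : ∑ ψ ∈ chars B \ st.U,
            (c ψ * ((2 * (d.h : ℤ) : ℤ) : ℂ)) * (F.m ψ χ₀ : ℂ) =
            ((2 * (d.h : ℤ) : ℤ) : ℂ) * ∑ ψ ∈ chars B \ st.U, c ψ * (F.m ψ χ₀ : ℂ) := by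
          rw [Finset.mul_sum]
          exact Finset.sum_congr rfl fun ψ _ => by ring
        rw [e'] at e
        push_cast at e h00 ⊢
        linear_combination (2 * (d.h : ℂ)) * h00 - e
      refine (mul_eq_zero.1 key).resolve_right (Int.cast_ne_zero.2 fun e => ?_)
      refine F.odd χ₀ hχ₀ χ₀ hχ₀ h0 ?_
      rw [h0, zero_add, pow_one]
      obtain ⟨s, hs⟩ := d.h_pow
      have h2' : 2 * F.m χ₀ χ₀ = (d.h : ℤ) * K :=
        mul_left_cancel₀ (show (d.h : ℤ) ≠ 0 by omega) (by linear_combination e)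
      obtain ⟨t, ht⟩ : (4 : ℤ) ∣ (d.h : ℤ) := by
        have : 2 ^ 2 ∣ d.h := hs ▸ pow_dvd_pow 2 (by
          by_contra hlt
          have : 2 ^ s ≤ 2 ^ 1 := Nat.pow_le_pow_right two_pos (by omega)
          omega)
        exact_mod_cast this
      exact ⟨t * K, by rw [ht] at h2'; linarith⟩
    intro χ hχ
    rcases Finset.mem_insert.1 hχ with rfl | hχ
    · exact hc0
    · have := hrow χ hχ
      rw [hc0, zero_mul, zero_add] at this
      exact (mul_eq_zero.1 this).resolve_right h2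

end Setup

end Cfsg.Agent.SDQSetup
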