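/-
The characters trivial on a central involution of a semidihedral or quaternion defect group: they
form a block of the quotient with dihedral defect group.
-/
import Cfsg.Agent.Lib.BrauerPairs.SDQGroup
import Cfsg.Agent.Lib.BrauerPairs.CentralQuotientRank
import Cfsg.Agent.Lib.BrauerPairs.DihedralCentral
import Cfsg.Agent.Lib.BrauerPairs.DihedralBlock
import Cfsg.Agent.Lib.BrauerPairs.KleinBlock

set_option linter.unusedSectionVars false
set_option linter.style.haveILetI false

namespace Cfsg.Agent.SDQQuotient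

open Cfsg MonoidAlgebra Cfsg.Agent.Blocks Cfsg.Agent.Char Cfsg.Agent.BrauerPairs Cfsg.Agent.TwoFus

universe u

variable {G : Type u} [Group G] [Fintype G] {M : Ideal AlgInt} [M.IsPrime]

/-- A character of the quotient below a member of the block is in the quotient block. -/
theorem mem_of_infl_mem {p : ℕ} (hM : IsPModular p M) (N : Subgroup G) [N.Normal]
    [Fintype (G ⧸ N)] (hN : IsPGroup p N)
    (hsup : N ⊔ Subgroup.centralizer (N : Set G) = ⊤) {B : Set (IrrCharacter G)}
    (hB : IsPBlock M B) {bbar : Set (IrrCharacter (G ⧸ N))} (hbb : IsPBlock M bbar)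
    (hinfl : ∀ χ ∈ bbar, Cfsg.Agent.CharX.infl N χ ∈ B) {φ : IrrCharacter (G ⧸ N)}
    (hφ : Cfsg.Agent.CharX.infl N φ ∈ B) : φ ∈ bbar := by
  classical
  obtain ⟨ψ, hψ⟩ := isPBlock_nonempty hbb
  haveI : Finite (ConjClasses (G ⧸ N)) := Finite.of_surjective _ ConjClasses.mk_surjective
  haveI : Fintype (ConjClasses (G ⧸ N)) := Fintype.ofFinite _
  have h := isPBlock_sameBlock hB (hinfl ψ hψ) hφ
  have hx := isClassElt_blockEltR (M := M) bbar
  have hdiff : MemLocalIdeal M (omegaR ψ (blockEltR M bbar) - omegaR φ (blockEltR M bbar)) := by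
    rw [omegaR_eq_sum _ hx, omegaR_eq_sum _ hx, ← Finset.sum_sub_distrib]
    refine memLocalIdeal_sum _ _ fun C _ => ?_
    rw [← mul_sub]
    by_cases hC : p ∣ orderOf C.out
    · rw [coeff_blockEltR hbb, blockCoeff_eq_zero_of_singular hM hbb hC, zero_mul]
      exact memLocalIdeal_zero
    · refine MemLocalIdeal.mul_left (Subtype.prop _) ?_
      obtain ⟨g, hg, e⟩ := exists_regular_lift N hM.1 hC
      rw [← e]
      have h1 := h g
      simp only [centralChar, Cfsg.Agent.CharX.infl_apply, QuotientGroup.mk_one,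
        ← index_centralizer_regular N hM.1 hN hsup hg] at h1
      simpa [centralChar] using h1
  rw [omegaR_blockEltR hbb, omegaR_blockEltR hbb, if_pos hψ] at hdiff
  by_contra hn
  rw [if_neg hn, sub_zero] at hdiff
  exact not_memLocalIdeal_one hdiff

open CentralQuotientRank in
/-- The characters trivial on a central involution of the defect group. -/
theorem card_trivSet (hM : IsPModular 2 M) {B : Set (IrrCharacter G)} (hB : IsPBlock M B)
    {D : Subgroup G} (hD : IsDefectGroup 2 M B D) (d : SDQ.Data D)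
    (hz : d.z ∈ Subgroup.center G) :
    (trivSet d.z B).card = d.q + 3 ∧
      ∃ χ ∈ trivSet d.z B, blockHeight 2 B (χ : G → ℂ) = 0 := by
  classical
  haveI : Fact (Nat.Prime 2) := ⟨Nat.prime_two⟩
  haveI : CharP (resField M) 2 := resField_charP hM
  have ho := d.orderOf_z
  have hh := d.h_pos
  have hhq := d.hq
  set N := Subgroup.zpowers d.z with hN
  haveI : N.Normal := ⟨fun a ha g => by
    obtain ⟨i, rfl⟩ := Subgroup.mem_zpowers_iff.1 ha
    rw [Subgroup.mem_center_iff.1 (zpow_mem hz i) g, mul_inv_cancel_right]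
    exact ha⟩
  haveI : Fintype (G ⧸ N) := Fintype.ofFinite _
  have hN2 : Nat.card N = 2 := by rw [hN, Nat.card_zpowers, ho]
  have hNp : IsPGroup 2 N := IsPGroup.of_card (n := 1) (by rw [hN2, pow_one])
  have hsup : N ⊔ Subgroup.centralizer (N : Set G) = ⊤ := by
    refine eq_top_iff.2 (le_trans ?_ le_sup_right)
    intro g _
    refine Subgroup.mem_centralizer_iff.2 fun a ha => ?_
    obtain ⟨i, rfl⟩ := Subgroup.mem_zpowers_iff.1 ha
    exact (Subgroup.mem_center_iff.1 (zpow_mem hz i) g).symm
  obtain ⟨bbar, hbb, hinfl, hdef⟩ := exists_quotient_block (N := N) hM hNp hB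
  set π := QuotientGroup.mk' N with hπ
  have hπ1 : ∀ g : G, π g = 1 ↔ g ∈ N := fun g => QuotientGroup.eq_one_iff g
  have hDb : IsDefectGroup 2 M bbar (D.map π) := (hdef _).2 ⟨D, hD, rfl⟩
  have hND : N ≤ D := Subgroup.zpowers_le.2 d.z_mem
  have hNi : ∀ i : ℤ, d.x ^ i ∈ N ↔ (d.h : ℤ) ∣ i := fun i => by
    constructor
    · intro hi
      obtain ⟨c, hc⟩ := Subgroup.mem_zpowers_iff.1 hi
      rw [SDQ.Data.z, ← zpow_mul, d.zpow_eq] at hc
      have := dvd_sub (dvd_mul_right (d.h : ℤ) c) ((dvd_mul_left (d.h : ℤ) 2).trans hc)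
      rwa [sub_sub_cancel] at this
    · rintro ⟨c, rfl⟩
      rw [zpow_mul]
      exact zpow_mem (Subgroup.mem_zpowers _) c
  have hxm : orderOf (π d.x) = d.h := by
    have key : ∀ i : ℕ, π d.x ^ i = 1 ↔ d.h ∣ i := fun i => by
      rw [← map_pow, hπ1, ← zpow_natCast, hNi, Int.natCast_dvd_natCast]
    refine Nat.dvd_antisymm (orderOf_dvd_of_pow_eq_one ((key _).2 dvd_rfl)) ((key _).1 ?_)
    exact pow_orderOf_eq_one _
  have hcardb : Nat.card (D.map π) = 2 * d.h := by
    have h1 := (π.comp D.subtype).ker.card_mul_index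
    rw [Subgroup.index_ker, MonoidHom.range_comp, Subgroup.range_subtype, d.card] at h1
    have h2 : Nat.card (π.comp D.subtype).ker = 2 := by
      rw [← hN2, show (π.comp D.subtype).ker = N.subgroupOf D by
        ext a; rw [MonoidHom.mem_ker, Subgroup.mem_subgroupOf]; exact hπ1 _]
      exact Nat.card_congr (Subgroup.subgroupOfEquivOfLe hND).toEquiv
    rw [h2] at h1
    omega
  have hev : 2 ∣ d.h := ⟨d.q, hhq⟩
  let d' : Dih (D.map π) :=
    { m := d.h
      x := π d.x
      y := π d.y
      even := hev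
      two_le := by have := d.q_pos; omega
      hm := hxm
      hx := Subgroup.mem_map_of_mem π d.hx
      hy := Subgroup.mem_map_of_mem π d.hy
      yy := by
        rw [← map_mul, hπ1]
        rcases d.y_sq with e | e <;> rw [e]
        · exact one_mem _
        · exact Subgroup.mem_zpowers _
      inv := eq_inv_of_mul_eq_one_left (by
        rw [← map_inv, ← map_mul, ← map_mul, ← map_mul, hπ1, d.conj, ← zpow_add_one, hNi]
        rcases d.τ_cases with e | ⟨e, -⟩ <;> rw [e] <;> simp)
      ynot := by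
        intro h
        obtain ⟨i, hi⟩ := Subgroup.mem_zpowers_iff.1 h
        have h1 : d.y⁻¹ * d.x ^ i ∈ N := by
          rw [← hπ1, map_mul, map_inv, map_zpow, hi, inv_mul_cancel]
        have h2 : d.y⁻¹ * d.x ^ i ∈ Subgroup.zpowers d.x :=
          (Subgroup.zpowers_le.2 (zpow_mem (Subgroup.mem_zpowers _) _)) h1
        exact d.ynot (inv_mem_iff.1
          ((Subgroup.mul_mem_cancel_right _ (zpow_mem (Subgroup.mem_zpowers d.x) i)).1 h2))
      card := hcardb
      cases := by
        rintro _ ⟨a, ha, rfl⟩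
        rcases d.cases a ha with ⟨i, rfl⟩ | ⟨i, rfl⟩
        · exact Or.inl ⟨i, map_zpow π d.x i⟩
        · exact Or.inr ⟨i, by rw [map_mul, map_zpow]⟩ }
  obtain ⟨s, hs⟩ := d.q_pow
  have hk : (Finset.univ.filter (· ∈ bbar)).card = d.q + 3 := by
    rcases Nat.eq_zero_or_pos s with rfl | hs0
    · rw [pow_zero] at hs
      have hV : IsKleinFour (D.map π) := by
        haveI : Nontrivial (D.map π) := Finite.one_lt_card_iff_nontrivial.1 (by rw [hcardb]; omega)
        refine ⟨by rw [hcardb]; omega, (Monoid.exponent_eq_prime_iff Nat.prime_two).2 fun g hg =>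
          orderOf_eq_prime ?_ hg⟩
        obtain ⟨a, ha⟩ := g
        refine Subtype.ext ?_
        show a ^ 2 = 1
        rw [pow_two]
        rcases d'.cases a ha with ⟨i, rfl⟩ | ⟨i, rfl⟩
        · rw [← zpow_add, d'.zpow_eq_one, show d'.m = 2 by show d.h = 2; omega]
          exact ⟨i, by push_cast; ring⟩
        · exact d'.form_sq i
      obtain ⟨e, he⟩ := exists_pairOf_defGrp (isBlk_Ek hbb) ((isDefectGroup_iff hbb _).1 hDb)
      obtain ⟨c, hcb, hce⟩ := exists_eq_zB he.pair.blkC
      replace hce : zB M (Subgroup.centralizer (D.map π : Set (G ⧸ N))) c = e := hce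
      have hDC : D.map π ≤ Subgroup.centralizer (D.map π : Set (G ⧸ N)) :=
        le_centralizer_of_card_le_four ((isDefectGroup_iff hbb _).1 hDb).pgroup hV.card_four.le
      have hpC : IsPairOf 2 (Subgroup.centralizer (D.map π : Set (G ⧸ N)))
          (zB M (Subgroup.centralizer (D.map π : Set (G ⧸ N))) c) (D.map π, e) := by
        have hsb := pairOf_self (M := M) hcb he.pair.pgroup hDC rfl
        rw [hce] at hsb ⊢
        exact hsb
      obtain ⟨-, h4, -⟩ := klein_block hM hbb hDb hV
        (induced_of_pairOf hM hcb hbb hpC le_rfl he)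
      rw [← Fintype.card_subtype, ← Nat.card_eq_fintype_card]
      rw [hs]
      exact h4
    · obtain ⟨h1, -⟩ := DihedralBlock.dihedral_block hM hbb hDb (n := s + 2) (by omega) d'
        (by show d.h = _; rw [hhq, hs, show s + 2 - 1 = s + 1 by omega, pow_succ'])
      rw [h1, hs, show s + 2 - 2 = s by omega]
  obtain ⟨ψb, hψb, hψ0⟩ := exists_heightZero hM hbb
  have htriv : ∀ φ ∈ bbar, Cfsg.Agent.CharX.infl N φ ∈ trivSet d.z B := fun φ hφ =>
    mem_trivSet.2 ⟨hinfl φ hφ, Cfsg.Agent.CharX.infl_trivialOn N φ d.z (Subgroup.mem_zpowers _)⟩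
  constructor
  · rw [← hk]
    symm
    refine Finset.card_bij (fun φ _ => Cfsg.Agent.CharX.infl N φ)
      (fun φ hφ => htriv φ (Finset.mem_filter.1 hφ).2) (fun φ _ φ' _ e => ?_) fun φ hφ => ?_
    · refine Subtype.ext (funext fun w => ?_)
      obtain ⟨g, rfl⟩ := QuotientGroup.mk_surjective w
      simpa using congrArg (fun f : IrrCharacter G => (f : G → ℂ) g) e
    · obtain ⟨hφB, hφz⟩ := mem_trivSet.1 hφ
      have hker : ∀ x ∈ N, (φ : G → ℂ) x = (φ : G → ℂ) 1 := by
        intro x hx
        obtain ⟨c, -, hc, hc2⟩ := IsIrrCharacter.exists_central_scalar φ.2 hz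
        obtain ⟨i, rfl⟩ := (mem_powers_iff_mem_zpowers (x := d.z)).2 hx
        have hc1 := hc2.2 hφz
        clear hx
        induction i with
        | zero => simp
        | succ i ih => simp only [pow_succ'] at ih ⊢; rw [hc, hc1, one_mul, ih]
      obtain ⟨φb, hφb⟩ : ∃ φb, Cfsg.Agent.CharX.infl N φb = φ :=
        ⟨(Cfsg.Agent.CharX.quotEquiv N).symm ⟨φ, hker⟩,
          congrArg Subtype.val ((Cfsg.Agent.CharX.quotEquiv N).apply_symm_apply ⟨φ, hker⟩)⟩
      exact ⟨φb, Finset.mem_filter.2 ⟨Finset.mem_univ _,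
        mem_of_infl_mem hM N hNp hsup hB hbb hinfl (hφb ▸ hφB)⟩, hφb⟩
  · refine ⟨_, htriv ψb hψb, ?_⟩
    have hcardG : (Nat.card G).factorization 2 = (Nat.card (G ⧸ N)).factorization 2 + 1 := by
      rw [← N.index_eq_card, ← N.card_mul_index, Nat.factorization_mul Nat.card_pos.ne'
        Subgroup.index_ne_zero_of_finite, Finsupp.add_apply, hN2,
        Nat.prime_two.factorization_self, add_comm]
    have hd : blockDefect 2 B = blockDefect 2 bbar + 1 := by
      have h1 := card_defectGroup hM hB hD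
      have h2 := card_defectGroup hM hbb hDb
      rw [hcardb] at h2
      rw [d.card, h2, ← pow_succ'] at h1
      exact (Nat.pow_right_injective le_rfl h1).symm
    have hdeg : charDegree (Cfsg.Agent.CharX.infl N ψb : G → ℂ) =
        charDegree (ψb : G ⧸ N → ℂ) := by
      simp [charDegree, Cfsg.Agent.CharX.infl_apply, QuotientGroup.mk_one]
    rw [blockHeight_eq_zero_iff hM hB (hinfl ψb hψb), hdeg,
      (blockHeight_eq_zero_iff hM hbb hψb).1 hψ0]
    have := blockDefect_le (p := 2) bbar
    omega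

end Cfsg.Agent.SDQQuotient
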