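/-
The subsections of a block with semidihedral or quaternion defect group whose central involution
is central in the group.
-/
import Cfsg.Agent.Lib.BrauerPairs.SDQCount
import Cfsg.Agent.Lib.BrauerPairs.SDQQuotient

set_option linter.unusedSectionVars false
set_option linter.style.haveILetI false

namespace Cfsg.Agent.SDQSetup

open Cfsg MonoidAlgebra Cfsg.Agent.Blocks Cfsg.Agent.BrauerPairs Cfsg.Agent.Char Cfsg.Agent.Star
  Cfsg.Agent.InertiaHeight Cfsg.Agent.LiftPairs Cfsg.Agent.DihedralLocal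
  Cfsg.Agent.SubsectionSum Cfsg.Agent.KnoerrRobinson Cfsg.Agent.CentralQuotientRank
open scoped ComplexConjugate

universe u

variable {G : Type u} [Group G] [Fintype G] {M : Ideal AlgInt} [M.IsPrime]
  [CharP (resField M) 2] {B : Set (IrrCharacter G)} {a : Pr (resField M) G}

theorem blockPart_mul {H : Type u} [Group H] [Fintype H] (b : Set (IrrCharacter H)) (c : ℂ)
    (f : H → ℂ) (s : H) : blockPart b (fun w => c * f w) s = c * blockPart b f s := by
  classical
  rw [blockPart_eq_sum, blockPart_eq_sum, Finset.mul_sum]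
  refine Finset.sum_congr rfl fun θ _ => ?_
  simp only [classInner, Finset.mul_sum, Finset.sum_mul]
  exact Finset.sum_congr rfl fun g _ => by ring

/-- A central element shifts a section by the signs of the two characters. -/
theorem sec_central_mul {u z : G} (hz : z ∈ Subgroup.center G) {χ ψ : IrrCharacter G} {cχ cψ : ℂ}
    (hχ : ∀ g, (χ : G → ℂ) (z * g) = cχ * (χ : G → ℂ) g)
    (hψ : ∀ g, (ψ : G → ℂ) (z * g) = cψ * (ψ : G → ℂ) g) (f : MonoidAlgebra (resField M) G) :
    sec 2 M (u * z) f χ ψ = cχ * conj cψ * sec 2 M u f χ ψ := by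
  classical
  have hzc : ∀ g, g * z = z * g := fun g => Subgroup.mem_center_iff.1 hz g
  have hC : cjS 1 (secC u) = secC (u * z) := by
    rw [cjS_secC, one_mul, inv_one, mul_one]
    ext g
    rw [mem_secC, mem_secC]
    constructor
    · intro h; rw [← mul_assoc, h, mul_assoc, hzc, ← mul_assoc]
    · intro h; rw [← mul_assoc, mul_assoc u, ← hzc, ← mul_assoc] at h; exact mul_right_cancel h
  set e := cjEquiv 1 hC with he
  have hzB : ∀ b, IsPBlock M b → zB M (secC (u * z)) b = zB M (secC u) (pullB e b) := fun b hb => by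
    rw [zB_pullB 1 hC hb, cj_one]
  unfold sec
  rw [Finset.mul_sum]
  refine Finset.sum_nbij' (fun b => pullB e b) (fun b => pullB e.symm b)
    (fun b hb => mem_blocks.2 (isPBlock_pullB e (mem_blocks.1 hb)))
    (fun b hb => mem_blocks.2 (isPBlock_pullB e.symm (mem_blocks.1 hb)))
    (fun b _ => pullB_symm_pullB e b) (fun b _ => pullB_pullB e b) fun b hb => ?_
  simp only [hzB b (mem_blocks.1 hb)]
  split_ifs with h
  · have hpt : ∀ (φ : IrrCharacter G) (c : ℂ), (∀ g, (φ : G → ℂ) (z * g) = c * (φ : G → ℂ) g) →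
        ∀ t : secC u, blockPart b (secFun (u * z) (secC (u * z)) (φ : G → ℂ)) (e t) =
          c * blockPart (pullB e b) (secFun u (secC u) (φ : G → ℂ)) t := by
      intro φ c hφ t
      rw [← blockPart_mul, ← blockPart_pullB e]
      congr 1
      funext w
      show (φ : G → ℂ) (u * z * (e w : G)) = c * (φ : G → ℂ) (u * (w : G))
      rw [he, coe_cjEquiv, one_mul, inv_one, mul_one, hzc u, mul_assoc, hφ]
    rw [Finset.mul_sum]
    refine Finset.sum_nbij' e.symm e (fun s hs => ?_) (fun s hs => ?_)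
      (fun s _ => e.apply_symm_apply s) (fun s _ => e.symm_apply_apply s) fun s _ => ?_
    · exact Finset.mem_filter.2 ⟨Finset.mem_univ _, by
        rw [MulEquiv.orderOf_eq]; exact (Finset.mem_filter.1 hs).2⟩
    · exact Finset.mem_filter.2 ⟨Finset.mem_univ _, by
        rw [MulEquiv.orderOf_eq]; exact (Finset.mem_filter.1 hs).2⟩
    · have e1 := hpt χ cχ hχ (e.symm s)
      have e2 := hpt ψ cψ hψ (e.symm s)
      rw [e.apply_symm_apply] at e1 e2
      rw [e1, e2, map_mul]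
      ring
  · rw [mul_zero]

variable {d : SDQ.Data a.1}

namespace Setup

variable (st : Setup M B a d)
variable (hM : IsPModular 2 M) (hB : IsPBlock M B) (hmax : IsMax 2 (Ek M B) a)
include hM hB hmax

omit hM hB in
/-- The shift by the central involution on the columns. -/
theorem shift (hz : d.z ∈ Subgroup.center G) {i : ℤ} (hi : ¬ (d.h : ℤ) ∣ i)
    {χ ψ : IrrCharacter G} {cχ cψ : ℂ}
    (hχ : ∀ g, (χ : G → ℂ) (d.z * g) = cχ * (χ : G → ℂ) g)
    (hψ : ∀ g, (ψ : G → ℂ) (d.z * g) = cψ * (ψ : G → ℂ) g) :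
    pc 2 a (d.x ^ (i + (d.h : ℤ))) χ ψ = cχ * conj cψ * pc 2 a (d.x ^ i) χ ψ := by
  haveI : Fact (Nat.Prime 2) := ⟨Nat.prime_two⟩
  have hmemz : ∀ j : ℤ, ¬ (d.h : ℤ) ∣ j → d.z ∈ Subgroup.zpowers (d.x ^ j) := by
    intro j hj
    obtain ⟨k, hk⟩ := pPow_of_mem (p := 2) hmax.pair (zpow_mem d.hx j)
    rcases k with _ | k
    · rw [pow_zero, orderOf_eq_one_iff, d.zpow_eq_one] at hk
      exact absurd ((dvd_mul_left _ _).trans hk) hj
    set w := d.x ^ j with hw
    have hpow : w ^ (2 ^ k) ∈ Subgroup.zpowers w := Subgroup.npow_mem_zpowers _ _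
    have h1 : w ^ (2 ^ k) ≠ 1 := pow_ne_one_of_lt_orderOf (by positivity)
      (by rw [hk]; exact Nat.pow_lt_pow_right one_lt_two (by omega))
    have h2 : (w ^ (2 ^ k)) * (w ^ (2 ^ k)) = 1 := by
      rw [← pow_two, ← pow_mul, ← pow_succ, ← hk, pow_orderOf_eq_one]
    suffices e : w ^ (2 ^ k) = d.z by rw [← e]; exact hpow
    have e : w ^ (2 ^ k) = d.x ^ (j * (2 ^ k : ℕ)) := by rw [hw, zpow_mul, zpow_natCast]
    rw [e] at h1 h2 ⊢
    rw [← zpow_add, d.zpow_eq_one, ← two_mul, mul_dvd_mul_iff_left two_ne_zero] at h2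
    obtain ⟨c, hc⟩ := h2
    rw [SDQ.Data.z, d.zpow_eq, hc]
    rcases Int.even_or_odd' c with ⟨e', rfl | rfl⟩
    · refine absurd ?_ h1
      rw [hc, d.zpow_eq_one]
      exact ⟨e', by ring⟩
    · exact ⟨e', by ring⟩
  have e : d.x ^ (i + (d.h : ℤ)) = d.x ^ i * d.z := by rw [zpow_add]; rfl
  have hi' : ¬ (d.h : ℤ) ∣ i + (d.h : ℤ) := fun hd => hi (by simpa using dvd_sub hd (dvd_refl _))
  have hzp : Subgroup.zpowers (d.x ^ i * d.z) = Subgroup.zpowers (d.x ^ i) := by
    refine le_antisymm (Subgroup.zpowers_le.2 (mul_mem (Subgroup.mem_zpowers _) (hmemz i hi)))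
      (Subgroup.zpowers_le.2 ?_)
    have h1 : d.z ∈ Subgroup.zpowers (d.x ^ i * d.z) := e ▸ hmemz _ hi'
    have := mul_mem (Subgroup.mem_zpowers (d.x ^ i * d.z)) h1
    rwa [mul_assoc, d.zz, mul_one] at this
  have hcard : Nat.card (secC (d.x ^ i * d.z)) = Nat.card (secC (d.x ^ i)) := by
    have hCC : secC (d.x ^ i * d.z) = secC (d.x ^ i) := by
      rw [secC_eq, secC_eq, ← centralizer_zpowers_eq, ← centralizer_zpowers_eq, hzp]
    rw [hCC]
  rw [e, pc, pc, hcard, belowAt_congr hmax.pair (zpow_mem d.hx i) hzp, sec_central_mul hz hχ hψ]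
  ring

include st

/-- The rank and the outer subsections together. -/
theorem central_count (hz : d.z ∈ Subgroup.center G) :
    blockRank 2 B + (SDQClasses.out d).card = 3 := by
  classical
  haveI : Fact (Nat.Prime 2) := ⟨Nat.prime_two⟩
  have ho := d.orderOf_z
  have hh := d.h_pos
  have hhq : (d.h : ℤ) = 2 * (d.q : ℤ) := by rw [d.hq]; push_cast; rfl
  obtain ⟨hP3, χ₀, hχ₀P, h00⟩ := SDQQuotient.card_trivSet hM hB
    ((isDefectGroup_iff hB a.1).2 hmax.isDef) d hz
  set P := trivSet d.z B with hP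
  have hPB : ∀ χ ∈ P, χ ∈ B := fun χ hχ => (mem_trivSet.1 hχ).1
  have hPc : P ⊆ chars B := fun χ hχ => mem_chars.2 (hPB χ hχ)
  choose c _ hc hc2 using fun φ : IrrCharacter G =>
    IsIrrCharacter.exists_central_scalar φ.2 hz
  have hcsign : ∀ φ, c φ = 1 ∨ c φ = -1 := fun φ => by
    have h1 := hc φ (d.z * 1)
    rw [← mul_assoc, d.zz, one_mul, hc φ, ← mul_assoc] at h1
    exact mul_self_eq_one_iff.1 ((mul_eq_right₀ (irr_one_ne_zero φ)).1 h1.symm)
  have hconj : ∀ φ, conj (c φ) = c φ := fun φ => by rcases hcsign φ with e | e <;> rw [e] <;> simp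
  have hP1 : ∀ χ ∈ P, c χ = 1 := fun χ hχ => (hc2 χ).2 (mem_trivSet.1 hχ).2
  have hnotP : ∀ χ ∈ B, χ ∉ P → c χ = -1 := fun χ hχ hne =>
    (hcsign χ).resolve_left fun e => hne (mem_trivSet.2 ⟨hχ, (hc2 χ).1 e⟩)
  have hc0 := hP1 χ₀ hχ₀P
  have hχ₀B := hPB χ₀ hχ₀P
  have hχ₀Z : χ₀ ∈ zeros B := mem_zeros.2 ⟨hχ₀B, h00⟩
  -- the special orbit
  have hiff : ∀ i : ℤ, 2 * (d.h : ℤ) ∣ i + (d.h : ℤ) - d.τ * i ↔ (d.h : ℤ) ∣ i - (d.q : ℤ) := by
    intro i
    rcases d.τ_cases with e | ⟨e, g, hg⟩ <;> rw [e]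
    · rw [show i + (d.h : ℤ) - -1 * i = 2 * (i + (d.q : ℤ)) by linear_combination hhq,
        mul_dvd_mul_iff_left two_ne_zero]
      constructor <;> intro hd
      · have := dvd_sub hd (dvd_refl (d.h : ℤ))
        rwa [show i + (d.q : ℤ) - (d.h : ℤ) = i - d.q by linear_combination -hhq] at this
      · have := dvd_add hd (dvd_refl (d.h : ℤ))
        rwa [show i - (d.q : ℤ) + (d.h : ℤ) = i + d.q by linear_combination hhq] at this
    · have hg' : (d.q : ℤ) = 2 * (g : ℤ) := by rw [hg]; push_cast; rfl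
      constructor
      · rintro ⟨k, hk⟩
        have h1 : i - (d.q : ℤ) * i + d.q = 2 * d.q * k := by
          refine mul_left_cancel₀ (two_ne_zero (α := ℤ)) ?_
          rw [hhq] at hk
          linear_combination hk
        refine ⟨(g : ℤ) * (i - 1 + 2 * k) + k - 1, ?_⟩
        rw [hhq]
        linear_combination h1 + ((d.q : ℤ) * (i - 1 + 2 * k)) * hg' +
          (d.q : ℤ) * h1
      · rintro ⟨k, hk⟩
        rw [hhq] at hk ⊢
        refine ⟨k + 1 - (g : ℤ) * (1 + 2 * k), ?_⟩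
        have hi' : i = (d.q : ℤ) + 2 * d.q * k := by linear_combination hk
        subst hi'
        linear_combination (-2 * (d.q : ℤ) * (1 + 2 * k)) * hg'
  -- the shifted columns
  have hΨ : ∀ (i : ℤ), ¬ (d.h : ℤ) ∣ i → ∀ χ ψ : IrrCharacter G,
      st.Ψ χ (i + d.h) * conj (st.Ψ ψ (i + d.h)) = c χ * c ψ * (st.Ψ χ i * conj (st.Ψ ψ i)) := by
    intro i hi χ ψ
    have hi' : ¬ (d.h : ℤ) ∣ i + (d.h : ℤ) := fun hd => hi (by simpa using dvd_sub hd (dvd_refl _))
    have h1 := shift (d := d) hmax hz hi (hc χ) (hc ψ)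
    rw [st.pc_mid hM hmax hi', st.pc_mid hM hmax hi, hconj] at h1
    have hne : ((2 * d.h : ℕ) : ℂ) ≠ 0 := Nat.cast_ne_zero.2 (by omega)
    rw [← mul_div_assoc, div_left_inj' hne] at h1
    exact h1
  have hspec : ∀ i : ℤ, ¬ (d.h : ℤ) ∣ i → (d.h : ℤ) ∣ i - (d.q : ℤ) → ∀ χ ∈ B,
      st.Ψ χ i ≠ 0 → χ ∈ P := by
    intro i hi hs χ hχ hne
    have e : ∀ φ, st.Ψ φ (i + d.h) = st.Ψ φ i := fun φ => by
      rw [st.exp.periodic φ _ _ ((hiff i).2 hs)]
      exact st.exp.sym φ i hi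
    have h1 := hΨ i hi χ χ₀
    rw [e, e, hc0, mul_one] at h1
    have h0 : conj (st.Ψ χ₀ i) ≠ 0 := (map_ne_zero _).2 fun h =>
      st.Ψ_unit hM hB hmax hχ₀Z hi (h ▸ memLocalIdeal_zero)
    have hc1 : c χ = 1 := (mul_eq_right₀ (mul_ne_zero hne h0)).1 h1.symm
    exact mem_trivSet.2 ⟨hχ, (hc2 χ).1 hc1⟩
  have hqn : ¬ (d.h : ℤ) ∣ (d.q : ℤ) := fun hd => by
    have := Int.le_of_dvd (by have := d.q_pos; omega) hd
    have := d.q_pos
    omega
  have hZP : ∀ χ ∈ zeros B, χ ∈ P := fun χ hχ =>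
    hspec d.q hqn (by simp) χ (mem_zeros.1 hχ).1
      fun h => st.Ψ_unit hM hB hmax hχ hqn (h ▸ memLocalIdeal_zero)
  -- the two central subsections
  have htop : ∑ χ ∈ P, (pc 2 a 1 χ χ + pc 2 a d.z χ χ) = (blockRank 2 B : ℂ) := by
    rw [blockRank_eq hM hB, Finset.sum_congr rfl fun χ hχ => by
      rw [pc_central hM hB hmax (one_mem _) (one_mem _) (hPB χ hχ) (hPB χ hχ),
        pc_central hM hB hmax d.z_mem hz (hPB χ hχ) (hPB χ hχ)]]
    simp only [one_mul, hc]
    rw [Finset.mul_sum]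
    simp only [Finset.mul_sum, ← Finset.sum_add_distrib]
    rw [Finset.sum_comm]
    refine Finset.sum_congr rfl fun g hg => ?_
    rw [blockPair_central hM hB hz ho (Finset.mem_filter.1 hg).2 (Finset.mem_filter.1 hg).2,
      Finset.mul_sum, Finset.mul_sum]
    refine Finset.sum_congr rfl fun χ hχ => ?_
    rw [hP1 χ hχ, one_mul]
    push_cast
    ring
  -- the middle subsections
  have hmid : ∀ i ∈ SDQFourier.mid d.h, ∑ χ ∈ P, pc 2 a (d.x ^ (i : ℤ)) χ χ =
      (1 / 2 : ℂ) + if (d.h : ℤ) ∣ (i : ℤ) - (d.q : ℤ) then (1 / 2 : ℂ) else 0 := by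
    intro i hi
    have hi' := SDQFourier.mid_int hi
    have hne : ((2 * d.h : ℕ) : ℂ) ≠ 0 := Nat.cast_ne_zero.2 (by omega)
    have htot := st.trace_mid hM hB hmax hi
    rw [Finset.sum_congr rfl fun χ _ => st.pc_mid hM hmax hi' χ χ, ← Finset.sum_div] at htot ⊢
    rw [div_eq_one_iff_eq hne] at htot
    split_ifs with hs
    · rw [Finset.sum_subset hPc fun χ hχ hne' => ?_, htot, div_self hne]
      · norm_num
      · have : st.Ψ χ (i : ℤ) = 0 := by
          by_contra h
          exact hne' (hspec _ hi' hs χ (mem_chars.1 hχ) h)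
        rw [this, zero_mul]
    · set k := (((i : ℤ) + d.h) % (2 * (d.h : ℤ))).toNat with hk
      have hk0 : 0 ≤ ((i : ℤ) + d.h) % (2 * (d.h : ℤ)) := Int.emod_nonneg _ (by omega)
      have hkd : 2 * (d.h : ℤ) ∣ (k : ℤ) - ((i : ℤ) + d.h) := by
        rw [hk, Int.toNat_of_nonneg hk0]
        exact ⟨-(((i : ℤ) + d.h) / (2 * (d.h : ℤ))), by
          linear_combination Int.emod_add_mul_ediv ((i : ℤ) + d.h) (2 * (d.h : ℤ))⟩
      have hkm : k ∈ SDQFourier.mid d.h := by
        refine Finset.mem_filter.2 ⟨Finset.mem_range.2 ?_, fun hd => hi' ?_⟩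
        · have := Int.emod_lt_of_pos ((i : ℤ) + d.h) (show (0 : ℤ) < 2 * (d.h : ℤ) by omega)
          omega
        · have := dvd_sub (dvd_sub (Int.natCast_dvd_natCast.2 hd)
            ((dvd_mul_left (d.h : ℤ) 2).trans hkd)) (dvd_refl (d.h : ℤ))
          simpa using this
      have hcross := st.gram hM hB hmax i hi k hkm
      have hn1 : ¬ 2 * (d.h : ℤ) ∣ (k : ℤ) - i := fun hd => by
        have := dvd_sub hd hkd
        rw [show (k : ℤ) - i - ((k : ℤ) - (i + d.h)) = d.h by ring] at this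
        have := Int.le_of_dvd (by omega) this
        omega
      have hn2 : ¬ 2 * (d.h : ℤ) ∣ (k : ℤ) - d.τ * i := fun hd => hs ((hiff i).1 (by
        have := dvd_sub hd hkd
        rwa [show (k : ℤ) - d.τ * i - ((k : ℤ) - (i + d.h)) = i + d.h - d.τ * i by ring] at this))
      rw [SDQFourier.ind, if_neg hn1, if_neg hn2, add_zero, Int.cast_zero, mul_zero] at hcross
      have hk' : ∀ φ, st.Ψ φ (k : ℤ) = st.Ψ φ (i + d.h) := fun φ => st.exp.periodic φ _ _ hkd
      have hnk : ¬ (d.h : ℤ) ∣ (i : ℤ) + d.h := fun hd => hi' (by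
        simpa using dvd_sub hd (dvd_refl (d.h : ℤ)))
      have h0k : conj (st.Ψ χ₀ ((i : ℤ) + d.h)) ≠ 0 := (map_ne_zero _).2 fun h =>
        st.Ψ_unit hM hB hmax hχ₀Z hnk (h ▸ memLocalIdeal_zero)
      have h0i : st.Ψ χ₀ (i : ℤ) ≠ 0 := fun h =>
        st.Ψ_unit hM hB hmax hχ₀Z hi' (h ▸ memLocalIdeal_zero)
      have hzero : ∑ χ ∈ chars B, c χ * (st.Ψ χ i * conj (st.Ψ χ i)) = 0 := by
        refine (mul_eq_zero.1 (?_ : st.Ψ χ₀ (i : ℤ) * _ = 0)).resolve_left h0i
        calc st.Ψ χ₀ (i : ℤ) * ∑ χ ∈ chars B, c χ * (st.Ψ χ i * conj (st.Ψ χ i))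
            = ∑ χ ∈ chars B, st.Ψ χ₀ ((i : ℤ) + d.h) *
              (st.Ψ χ i * conj (st.Ψ χ ((i : ℤ) + d.h))) := by
              rw [Finset.mul_sum]
              refine Finset.sum_congr rfl fun χ _ => ?_
              have := hΨ i hi' χ₀ χ
              rw [hc0, one_mul] at this
              linear_combination -(st.Ψ χ (i : ℤ)) * this
          _ = 0 := by
              rw [← Finset.mul_sum, Finset.sum_congr rfl fun χ _ => by rw [← hk'], hcross, mul_zero]
      rw [← Finset.sum_sdiff hPc, Finset.sum_congr rfl fun χ hχ => by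
          rw [hnotP χ (mem_chars.1 (Finset.mem_sdiff.1 hχ).1) (Finset.mem_sdiff.1 hχ).2],
        Finset.sum_congr (s₁ := P) rfl fun χ hχ => by rw [hP1 χ hχ, one_mul]] at hzero
      simp only [neg_mul, one_mul, Finset.sum_neg_distrib] at hzero
      rw [← Finset.sum_sdiff hPc] at htot
      rw [div_eq_iff hne]
      linear_combination (1 / 2 : ℂ) * htot + (1 / 2 : ℂ) * hzero
  -- the outer subsections
  have hout : ∀ v ∈ SDQClasses.out d, ∑ χ ∈ P, pc 2 a v χ χ = 1 := fun v hv => by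
    rw [← st.trace_out hM hB hmax hv]
    refine Finset.sum_subset hPc fun χ hχ hne => ?_
    exact st.pc_out_zero hM hB hmax hv (mem_chars.1 hχ) (fun h => hne (hZP χ h)) (mem_chars.1 hχ)
  -- the special orbit has one representative
  have horb : ((SDQClasses.midRep d).filter
      fun i : ℕ => (d.h : ℤ) ∣ (i : ℤ) - (d.q : ℤ)).card = 1 := by
    have hcl : ∀ i ∈ SDQFourier.mid d.h,
        ((d.h : ℤ) ∣ (SDQClasses.tw d i : ℤ) - d.q ↔ (d.h : ℤ) ∣ (i : ℤ) - d.q) := by
      intro i _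
      rw [← hiff, ← hiff]
      have e : 2 * (d.h : ℤ) ∣ ((SDQClasses.tw d i : ℤ) + d.h - d.τ * SDQClasses.tw d i) +
          ((i : ℤ) + d.h - d.τ * i) := by
        have h1 := dvd_sub (dvd_sub (dvd_mul_of_dvd_left (SDQClasses.tw_congr d i) (1 - d.τ))
          (dvd_mul_of_dvd_left d.τ_sq (i : ℤ))) (dvd_mul_right (2 * (d.h : ℤ)) (-1))
        convert h1 using 1 <;> first | rfl | ring
      exact ⟨fun h => (dvd_add_right h).1 e, fun h => (dvd_add_left h).1 e⟩
    have h2 := SDQClasses.sum_midRep d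
      (fun i : ℕ => if (d.h : ℤ) ∣ (i : ℤ) - (d.q : ℤ) then 1 else 0)
      fun i hi => if_congr (hcl i hi) rfl rfl
    rw [← Finset.card_filter, ← Finset.card_filter] at h2
    have e : (SDQFourier.mid d.h).filter (fun i : ℕ => (d.h : ℤ) ∣ (i : ℤ) - (d.q : ℤ)) =
        {d.q, 3 * d.q} := by
      ext i
      simp only [Finset.mem_filter, SDQFourier.mem_mid, Finset.mem_insert, Finset.mem_singleton]
      have := d.q_pos
      constructor
      · rintro ⟨⟨h1, -, -⟩, ⟨k, hk⟩⟩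
        have hk0 : -1 < k := by
          by_contra hneg
          have : (d.h : ℤ) * k ≤ (d.h : ℤ) * (-1) := mul_le_mul_of_nonneg_left (by omega) (by omega)
          omega
        have hk2 : k < 2 := by
          by_contra hbig
          have : (d.h : ℤ) * 2 ≤ (d.h : ℤ) * k := mul_le_mul_of_nonneg_left (by omega) (by omega)
          omega
        rcases (show k = 0 ∨ k = 1 by omega) with rfl | rfl <;> omega
      · rintro (rfl | rfl)
        · exact ⟨⟨by omega, by omega, by omega⟩, by simp⟩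
        · exact ⟨⟨by omega, by omega, by omega⟩, ⟨1, by push_cast; omega⟩⟩
    rw [e, Finset.card_pair (by have := d.q_pos; omega)] at h2
    omega
  -- the total
  have hcm := card_midRep hM hB hmax (d := d)
  have htotal : (P.card : ℂ) = (blockRank 2 B : ℂ) +
      (((SDQClasses.midRep d).card : ℂ) / 2 + 1 / 2) + ((SDQClasses.out d).card : ℂ) := by
    rw [Finset.card_eq_sum_ones, Nat.cast_sum, Nat.cast_one,
      Finset.sum_congr rfl fun χ hχ => (if_pos rfl).symm.trans
        (SDQClasses.sum_reps hmax d hM hB (χ := χ) (ψ := χ) (hPB χ hχ))]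
    simp only [Finset.sum_add_distrib (g := fun χ => ∑ v ∈ SDQClasses.out d, pc 2 a v χ χ),
      Finset.sum_add_distrib (g := fun χ => ∑ i ∈ SDQClasses.midRep d, pc 2 a (d.x ^ (i : ℤ)) χ χ)]
    rw [htop, Finset.sum_comm,
      Finset.sum_congr (s₁ := SDQClasses.midRep d) rfl fun i hi =>
        hmid i (Finset.mem_filter.1 hi).1,
      Finset.sum_comm, Finset.sum_congr rfl hout, Finset.sum_add_distrib, ← Finset.sum_filter,
      Finset.sum_const, Finset.sum_const, Finset.sum_const, horb]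
    simp only [nsmul_eq_mul]
    push_cast
    ring
  have hm : (SDQClasses.midRep d).card + 1 = 2 * d.q := by have := d.hq; omega
  rw [hP3] at htotal
  have hmC : ((SDQClasses.midRep d).card : ℂ) + 1 = 2 * (d.q : ℂ) := by exact_mod_cast hm
  have : ((blockRank 2 B + (SDQClasses.out d).card : ℕ) : ℂ) = ((3 : ℕ) : ℂ) := by
    push_cast at htotal ⊢
    linear_combination -htotal - (1 / 2 : ℂ) * hmC
  exact_mod_cast this

end Setup

end Cfsg.Agent.SDQSetup
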