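/-
The outer subsections of a block with semidihedral or quaternion defect group, compared with those
of the block at the central involution.
-/
import Cfsg.Agent.Lib.BrauerPairs.SDQCentral

set_option linter.unusedSectionVars false
set_option linter.style.haveILetI false

namespace Cfsg.Agent.SDQSetup

open Cfsg MonoidAlgebra Cfsg.Agent.Blocks Cfsg.Agent.BrauerPairs Cfsg.Agent.Char Cfsg.Agent.Star
  Cfsg.Agent.InertiaHeight Cfsg.Agent.LiftPairs Cfsg.Agent.SubsectionSum

universe u

variable {G : Type u} [Group G] [Fintype G] {M : Ideal AlgInt} [M.IsPrime]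
  [CharP (resField M) 2] {B : Set (IrrCharacter G)} {a : Pr (resField M) G} (d : SDQ.Data a.1)

theorem inv_eq_z {j : ℤ} (h1 : d.x ^ j * d.x ^ j = 1) (h2 : d.x ^ j ≠ 1) : d.x ^ j = d.z := by
  rw [← zpow_add, d.zpow_eq_one, ← two_mul, mul_dvd_mul_iff_left two_ne_zero] at h1
  obtain ⟨c, rfl⟩ := h1
  rw [SDQ.Data.z, d.zpow_eq]
  rcases Int.even_or_odd' c with ⟨e, rfl | rfl⟩
  · exact absurd ((d.zpow_eq_one _).2 ⟨e, by ring⟩) h2
  · exact ⟨e, by ring⟩

open scoped Classical in
theorem card_out :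
    (SDQClasses.out d).card = (if SDQClasses.Unf d d.y then 1 else 0) +
      if SDQClasses.Unf d (d.x * d.y) ∧ ¬ Fus 2 a d.y (d.x * d.y) then 1 else 0 := by
  have hne : d.y ≠ d.x * d.y := fun e => by
    have h1 : d.x = 1 := mul_eq_right.1 e.symm
    have := d.hxo
    rw [h1, orderOf_one] at this
    have := d.h_pos
    omega
  rw [SDQClasses.out, Finset.card_union_of_disjoint]
  · split_ifs <;> simp
  · split_ifs <;> simp [hne]

theorem xy_sq : d.x * d.y * (d.x * d.y) = d.z := by
  have h := d.form_sq 1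
  rw [zpow_one, one_mul] at h
  rw [h]
  rcases d.kind with ⟨e, e'⟩ | ⟨e, e', -⟩ <;> rw [e, e']
  · rw [add_neg_cancel, zpow_zero, one_mul]; rfl
  · rw [mul_one, add_sub_cancel]; rfl

/-- The rank at the central involution together with the outer subsections. -/
theorem outer_count (hM : IsPModular 2 M) (hB : IsPBlock M B) (hmax : IsMax 2 (Ek M B) a)
    (Fz : Form M B a d.z) :
    (d.y * d.y = d.z → blockRank 2 Fz.b + (SDQClasses.out d).card = 3) ∧
      (d.y * d.y = 1 → (blockRank 2 Fz.b + (SDQClasses.out d).card = 3 ∨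
        blockRank 2 Fz.b + (SDQClasses.out d).card = 2) ∧ blockRank 2 Fz.b ≤ 2) := by
  classical
  haveI : Fact (Nat.Prime 2) := ⟨Nat.prime_two⟩
  obtain ⟨b, aC₀, L⟩ := NilpotentColumns.exists_localMax hM hB hmax d.z_mem
  have hb : b = Fz.b := by
    refine zB_injective _ L.blk Fz.ind.1 ?_
    rw [Fz.below]
    exact (existsUnique_below hmax.pair (Subgroup.zpowers_le.2 d.z_mem)).unique L.below
      (belowAt_spec hmax.pair d.z_mem)
  subst hb
  have haC : a.1 ≤ secC d.z := fun g hg => mem_secC.2 (d.z_comm hg)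
  have hinf : a.1 ⊓ secC d.z = a.1 := inf_eq_left.2 haC
  have hcard : Nat.card aC₀.1 ≤ Nat.card (a.1 ⊓ secC d.z : Subgroup G) := by
    obtain ⟨g, hg, -⟩ := L.cjg
    rw [hinf, ← L.card_map, ← card_cjS g]
    exact Subgroup.card_le_of_le (hg.trans inf_le_left)
  obtain ⟨aC, hmaxC, hmap, hlift, -⟩ :=
    SDQLocal.exists_localMax_eq hmax d.z_mem L hcard
  rw [hinf] at hmap
  have hmem : ∀ g : secC d.z, g ∈ aC.1 ↔ (g : G) ∈ a.1 := fun g => by
    exact (Subgroup.mem_map_iff_mem (secC d.z).subtype_injective).symm.trans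
      (SetLike.ext_iff.1 hmap (g : G))
  let d' : SDQ.Data aC.1 :=
    { h := d.h
      q := d.q
      τ := d.τ
      x := ⟨d.x, haC d.hx⟩
      y := ⟨d.y, haC d.hy⟩
      hq := d.hq
      q_pow := d.q_pow
      hxo := by rw [Subgroup.orderOf_mk]; exact d.hxo
      hx := (hmem _).2 d.hx
      hy := (hmem _).2 d.hy
      conj := Subtype.ext (by push_cast; exact d.conj)
      ynot := fun h => by
        obtain ⟨i, hi⟩ := Subgroup.mem_zpowers_iff.1 h
        exact d.ynot ⟨i, by simpa using congrArg Subtype.val hi⟩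
      card := by
        exact (Nat.card_congr (Subgroup.equivMapOfInjective aC.1 (secC d.z).subtype
          (secC d.z).subtype_injective).toEquiv).trans
            ((congrArg (fun K : Subgroup G => Nat.card K) hmap).trans d.card)
      cases := fun g hg => by
        rcases d.cases (g : G) ((hmem g).1 hg) with ⟨i, hi⟩ | ⟨i, hi⟩
        · exact Or.inl ⟨i, Subtype.ext (by push_cast; exact hi)⟩
        · exact Or.inr ⟨i, Subtype.ext (by push_cast; exact hi)⟩
      kind := by
        rcases d.kind with ⟨e, e'⟩ | ⟨e, e', e''⟩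
        · exact Or.inl ⟨e, Subtype.ext (by push_cast; exact e')⟩
        · exact Or.inr ⟨e, Subtype.ext (by push_cast; exact e'), e''⟩ }
  have hz' : (d'.z : G) = d.z := by show (((⟨d.x, haC d.hx⟩ : secC d.z) ^ (d.h : ℤ) : secC d.z) : G) = _; push_cast; rfl
  have hzc : d'.z ∈ Subgroup.center (secC d.z) := Subgroup.mem_center_iff.2 fun g => Subtype.ext (by
    push_cast
    rw [hz']
    exact mem_secC.1 g.2)
  obtain ⟨st'⟩ := nonempty_setup hM L.blk hmaxC d'
  have hC3 := st'.central_count hM L.blk hmaxC hzc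
  -- fusion of the elements squaring to the central involution
  have hsub : ∀ {u : G}, u * u = d.z → secC u ≤ secC d.z := fun {u} hu g hg => by
    refine mem_secC.2 ?_
    rw [← hu]
    exact ((show Commute g u from mem_secC.1 hg).mul_right (mem_secC.1 hg)).eq
  have hbel : ∀ u' : secC d.z, u' ∈ aC.1 → (u' : G) * u' = d.z →
      belowAt 2 a (u' : G) = emb (secC d.z) (belowAt 2 aC u') := by
    intro u' hu' hu2
    have hmapu : (Subgroup.zpowers u').map (secC d.z).subtype = Subgroup.zpowers (u' : G) :=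
      MonoidHom.map_zpowers _ _
    have h := subLE_liftP (C := secC d.z) (belowAt_spec hmaxC.pair hu') (by
      rw [hmapu, centralizer_zpowers_eq, ← secC_eq]; exact hsub hu2)
    rw [show liftP (secC d.z) ((Subgroup.zpowers u', belowAt 2 aC u') : Pr (resField M) (secC d.z)) =
      (Subgroup.zpowers (u' : G), emb (secC d.z) (belowAt 2 aC u')) from Prod.ext hmapu rfl] at h
    exact (existsUnique_below hmax.pair (Subgroup.zpowers_le.2 ((hmem u').1 hu'))).unique
      (belowAt_spec hmax.pair ((hmem u').1 hu')) (Relation.ReflTransGen.trans h hlift)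
  have hemb : ∀ (c : secC d.z) (f : MonoidAlgebra (resField M) (secC d.z)),
      emb (secC d.z) (cj c f) = cj (c : G) (emb (secC d.z) f) := fun c f =>
    congrArg Prod.snd (SDQLocal.liftP_cjP c ((⊥, f) : Pr (resField M) (secC d.z)))
  have hFus : ∀ u' v' : secC d.z, u' ∈ aC.1 → v' ∈ aC.1 → (u' : G) * u' = d.z →
      (v' : G) * v' = d.z → (Fus 2 aC u' v' ↔ Fus 2 a (u' : G) (v' : G)) := by
    intro u' v' hu' hv' hu2 hv2
    constructor
    · rintro ⟨c, hc, hcf⟩
      refine ⟨(c : G), by rw [← hc]; push_cast; rfl, ?_⟩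
      rw [hbel u' hu' hu2, hbel v' hv' hv2, ← hemb, hcf]
    · rintro ⟨g, hg, hgf⟩
      have hgC : g ∈ secC d.z := by
        refine mem_secC.2 ?_
        have : g * ((u' : G) * u') * g⁻¹ = (v' : G) * v' := by rw [← hg]; group
        rw [hu2, hv2] at this
        exact mul_inv_eq_iff_eq_mul.1 this
      refine ⟨⟨g, hgC⟩, Subtype.ext (by push_cast; exact hg), emb_injective (secC d.z) ?_⟩
      rw [hemb, ← hbel u' hu' hu2, ← hbel v' hv' hv2]
      exact hgf
  have hxi : ∀ i : ℤ, ((d'.x ^ i : secC d.z) : G) = d.x ^ i := fun i => by push_cast; rfl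
  have hUnf : ∀ u' : secC d.z, u' ∈ aC.1 → (u' : G) * u' = d.z →
      (SDQClasses.Unf d' u' ↔ SDQClasses.Unf d (u' : G)) := by
    intro u' hu' hu2
    simp only [SDQClasses.Unf, not_iff_not]
    constructor
    · rintro ⟨i, hi⟩
      refine ⟨i, ?_⟩
      have hv2 : ((d'.x ^ i : secC d.z) : G) * (d'.x ^ i : secC d.z) = d.z := by
        obtain ⟨c, hc, -⟩ := hi
        rw [← hc]
        push_cast
        rw [show (c : G) * u' * (c : G)⁻¹ * ((c : G) * u' * (c : G)⁻¹) =
          (c : G) * ((u' : G) * u') * (c : G)⁻¹ by group, hu2, mem_secC.1 c.2,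
          mul_inv_cancel_right]
      rw [← hxi]
      exact (hFus u' _ hu' (zpow_mem d'.hx i) hu2 hv2).1 hi
    · rintro ⟨i, hi⟩
      refine ⟨i, ?_⟩
      have hv2 : d.x ^ i * d.x ^ i = d.z := by
        rw [← zpow_add]
        refine inv_eq_z d ?_ ?_
        · obtain ⟨g, hg, -⟩ := hi
          rw [zpow_add, ← hg, show g * (u' : G) * g⁻¹ * (g * u' * g⁻¹) *
            (g * u' * g⁻¹ * (g * u' * g⁻¹)) = g * ((u' : G) * u' * ((u' : G) * u')) * g⁻¹ by group,
            hu2, d.zz]
          group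
        · obtain ⟨g, hg, -⟩ := hi
          rw [zpow_add, ← hg, show g * (u' : G) * g⁻¹ * (g * u' * g⁻¹) =
            g * ((u' : G) * u') * g⁻¹ by group, hu2, Ne, conj_eq_one_iff]
          exact d.z_ne
      rw [← hxi] at hi hv2
      exact (hFus u' _ hu' (zpow_mem d'.hx i) hu2 hv2).2 hi
  have hxy' : ((d'.x * d'.y : secC d.z) : G) = d.x * d.y := rfl
  have hy' : (d'.y : G) = d.y := rfl
  have hxyU : SDQClasses.Unf d' (d'.x * d'.y) ↔ SDQClasses.Unf d (d.x * d.y) := by
    rw [← hxy']
    exact hUnf _ (mul_mem d'.hx d'.hy) (by rw [hxy']; exact xy_sq d)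
  rw [card_out d] at *
  rw [card_out d'] at hC3
  refine ⟨fun hyy => ?_, fun hyy => ?_⟩
  · have e1 : SDQClasses.Unf d' d'.y ↔ SDQClasses.Unf d d.y := hUnf _ d'.hy hyy
    have e2 : Fus 2 aC d'.y (d'.x * d'.y) ↔ Fus 2 a d.y (d.x * d.y) := by
      have := hFus d'.y (d'.x * d'.y) d'.hy (mul_mem d'.hx d'.hy) hyy (by rw [hxy']; exact xy_sq d)
      rwa [hy', hxy'] at this
    simp only [e1, e2, hxyU] at hC3
    exact hC3
  · have hU : SDQClasses.Unf d' d'.y := by
      rintro ⟨i, c, hc, -⟩
      have hc' : (c : G) * d.y * (c : G)⁻¹ = d.x ^ i := by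
        rw [← hxi, ← hy', ← hc]; push_cast; rfl
      have hy1 : d.y ≠ 1 := fun e => d.ynot (e ▸ one_mem _)
      have hiz : d.x ^ i = d.z := by
        refine inv_eq_z d ?_ ?_
        · rw [← hc', show (c : G) * d.y * (c : G)⁻¹ * ((c : G) * d.y * (c : G)⁻¹) =
            (c : G) * (d.y * d.y) * (c : G)⁻¹ by group, hyy]
          group
        · rw [← hc', Ne, conj_eq_one_iff]; exact hy1
      rw [hiz] at hc'
      have : d.y = d.z := by
        have h1 := mem_secC.1 c.2
        calc d.y = (c : G)⁻¹ * ((c : G) * d.y * (c : G)⁻¹) * c := by group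
          _ = d.z := by rw [hc', mul_assoc, ← h1, inv_mul_cancel_left]
      exact d.ynot (this ▸ zpow_mem (Subgroup.mem_zpowers _) _)
    have hnf : ¬ Fus 2 a d.y (d.x * d.y) := fun h =>
      d.z_ne ((xy_sq d).symm.trans ((SDQClasses.sq_of_fus h).1 hyy))
    have hnf' : ¬ Fus 2 aC d'.y (d'.x * d'.y) := fun h => by
      have h1 := congrArg (fun g : secC d.z => (g : G))
        ((SDQClasses.sq_of_fus h).1 (Subtype.ext (by push_cast; exact hyy)))
      simp only [Subgroup.coe_mul, Subgroup.coe_one] at h1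
      exact d.z_ne ((xy_sq d).symm.trans h1)
    simp only [hU, hnf', hxyU, not_false_eq_true, and_true, if_true] at hC3
    simp only [hnf, not_false_eq_true, and_true]
    refine ⟨?_, by omega⟩
    split_ifs at hC3 ⊢ <;> omega

end Cfsg.Agent.SDQSetup
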