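/-
The invariants of a block with semidihedral or quaternion defect group.
-/
import Cfsg.Agent.Lib.BrauerPairs.SDQTransfer

set_option linter.unusedSectionVars false
set_option linter.style.haveILetI false

namespace Cfsg.Agent.SDQSetup

open Cfsg MonoidAlgebra Cfsg.Agent.Blocks Cfsg.Agent.BrauerPairs Cfsg.Agent.Char Cfsg.Agent.Star
  Cfsg.Agent.InertiaHeight Cfsg.Agent.LiftPairs Cfsg.Agent.SubsectionSum

universe u

variable {G : Type u} [Group G] [Fintype G] {M : Ideal AlgInt} [M.IsPrime]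
  {B : Set (IrrCharacter G)}

/-- The invariants of the block. -/
theorem invariants (hM : IsPModular 2 M) (hB : IsPBlock M B) [CharP (resField M) 2]
    {a : Pr (resField M) G} (hmax : IsMax 2 (Ek M B) a) (d : SDQ.Data a.1) :
    1 ≤ blockRank 2 B ∧ blockRank 2 B ≤ 3 ∧
      Nat.card {χ : IrrCharacter G // χ ∈ B ∧ blockHeight 2 B (χ : G → ℂ) = 0} = 4 ∧
      (∀ χ ∈ B, blockHeight 2 B (χ : G → ℂ) = 0 ∨ blockHeight 2 B (χ : G → ℂ) = 1 ∨
        2 ^ blockHeight 2 B (χ : G → ℂ) = d.h) ∧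
      (2 ≤ d.q → Nat.card {χ : IrrCharacter G // χ ∈ B ∧ blockHeight 2 B (χ : G → ℂ) = 1} =
        d.h - 1) ∧
      (d.y * d.y = d.z → Nat.card B = blockRank 2 B + d.h + 2) ∧
      (d.y * d.y = 1 → (Nat.card B = d.h + 3 ∨ Nat.card B = d.h + 4) ∧
        (blockRank 2 B = 3 → Nat.card B = d.h + 4) ∧
        (blockRank 2 B = 1 → Nat.card B = d.h + 3)) := by
  classical
  obtain ⟨st⟩ := nonempty_setup hM hB hmax d
  obtain ⟨F1⟩ := nonempty_form hM hB hmax (one_mem _) (fun g _ => mem_secC.2 (by simp)) (one_mul 1)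
  obtain ⟨Fz⟩ := nonempty_form hM hB hmax d.z_mem (fun g hg => mem_secC.2 (d.z_comm hg)) d.zz
  obtain ⟨hQ, hS⟩ := outer_count d hM hB hmax Fz
  have hl1 := one_le_blockRank hM hB
  have hlz1 := one_le_blockRank hM Fz.ind.1
  have hl := rank_one hM hB hmax F1
  have hcount := st.count hM hB hmax Fz
  have hBc : Nat.card B = (chars B).card := by
    rw [Nat.card_eq_fintype_card, ← Set.toFinset_card]
    congr 1
    ext χ; simp [mem_chars]
  have hUc : st.U ⊆ chars B := fun χ hχ => mem_chars.2 (st.mem_U.1 hχ).1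
  have hsplit : (chars B \ st.U).card + st.U.card = (chars B).card :=
    Finset.card_sdiff_add_card_eq_card hUc
  have hR : ∀ χ ∈ B, χ ∉ st.U → ((F1.m χ χ = 2 * (d.h : ℤ) ∧ Fz.m χ χ = 2 * (d.h : ℤ)) ∧
      ∀ ψ ∈ B, ψ ∉ st.U → ψ ≠ χ → F1.m χ ψ = 0 ∧ Fz.m χ ψ = 0) :=
    fun χ hχ hU => st.rest_form hM hB hmax F1 Fz hχ hU
  obtain ⟨r1, r1'⟩ := st.rest_le hM hB hmax F1 fun χ hχ hU =>
    ⟨(hR χ hχ hU).1.1, fun ψ hψ hψU hne => ((hR χ hχ hU).2 ψ hψ hψU hne).1⟩
  obtain ⟨rz, rz'⟩ := st.rest_le hM hB hmax Fz fun χ hχ hU =>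
    ⟨(hR χ hχ hU).1.2, fun ψ hψ hψU hne => ((hR χ hχ hU).2 ψ hψ hψU hne).2⟩
  rw [hl] at r1 r1'
  have h4 := st.card_zeros hM hB hmax
  have hyy : d.y * d.y = 1 ∨ d.y * d.y = d.z := d.y_sq
  have hq0 := d.q_pos
  have hhq := d.hq
  have hzero : Nat.card {χ : IrrCharacter G // χ ∈ B ∧ blockHeight 2 B (χ : G → ℂ) = 0} = 4 := by
    rw [Nat.card_eq_fintype_card, Fintype.card_subtype, ← h4]
    rfl
  rcases (show d.q = 1 ∨ 2 ≤ d.q by omega) with hq | hq
  · have hU := st.U_one hM hB hmax hq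
    have hnot : d.y * d.y ≠ 1 := fun e => by
      rcases d.kind with ⟨-, e'⟩ | ⟨-, -, e'⟩
      · exact d.z_ne (e'.symm.trans e)
      · omega
    have hyz := hyy.resolve_left hnot
    have := hQ hyz
    rw [hU] at hsplit r1 rz
    rw [h4] at hsplit
    refine ⟨hl1, by omega, hzero, fun χ hχ => ?_, fun h => by omega, fun _ => by omega,
      fun h => absurd h hnot⟩
    by_cases hχU : χ ∈ st.U
    · rw [hU] at hχU
      exact Or.inl (mem_zeros.1 hχU).2
    · exact Or.inr (Or.inr (st.rest_height hM hB hmax hχ hχU))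
  have h44 : 4 ≤ d.h := by omega
  have hr1 := r1' h44
  have hrz := rz' h44
  have hout : 2 ≤ blockRank 2 Fz.b + (SDQClasses.out d).card := by
    rcases hyy with e | e
    · have := (hS e).1; omega
    · have := hQ e; omega
  obtain ⟨hU3, hUht⟩ := st.U_big hM hB hmax hq (by omega)
  refine ⟨hl1, ?_, hzero, fun χ hχ => ?_, fun _ => ?_, fun e => ?_, fun e => ?_⟩
  · rcases hyy with e | e
    · obtain ⟨e1, e2⟩ := hS e; omega
    · have := hQ e; omega
  · by_cases hχU : χ ∈ st.U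
    · by_cases hz : χ ∈ zeros B
      · exact Or.inl (mem_zeros.1 hz).2
      · exact Or.inr (Or.inl (hUht χ hχU hz))
    · exact Or.inr (Or.inr (st.rest_height hM hB hmax hχ hχU))
  · rw [Nat.card_eq_fintype_card, Fintype.card_subtype,
      show (Finset.univ.filter fun χ : IrrCharacter G =>
        χ ∈ B ∧ blockHeight 2 B (χ : G → ℂ) = 1) = st.U \ zeros B from ?_,
      Finset.card_sdiff_of_subset (st.zeros_subset_U hM hB hmax), hU3, h4]
    · omega
    · ext χ
      simp only [Finset.mem_filter, Finset.mem_univ, true_and, Finset.mem_sdiff]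
      constructor
      · rintro ⟨hχ, h1⟩
        refine ⟨?_, fun hz => by rw [(mem_zeros.1 hz).2] at h1; omega⟩
        by_contra hχU
        have := st.rest_height hM hB hmax hχ hχU
        rw [h1, pow_one] at this
        omega
      · rintro ⟨hχU, hz⟩
        exact ⟨(st.mem_U.1 hχU).1, hUht χ hχU hz⟩
  · have := hQ e
    omega
  · obtain ⟨e1, e2⟩ := hS e
    omega

/-- The defect group carries the pair and the data. -/
theorem exists_max (hM : IsPModular 2 M) (hB : IsPBlock M B) {D : Subgroup G}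
    (hD : IsDefectGroup 2 M B D) : ∃ e, IsMax 2 (Ek M B) (D, e) := by
  haveI : CharP (resField M) 2 := resField_charP hM
  obtain ⟨e, he⟩ := exists_pairOf_defGrp (isBlk_Ek hB) ((isDefectGroup_iff hB D).1 hD)
  exact ⟨e, he, (isDefectGroup_iff hB D).1 hD⟩

end Cfsg.Agent.SDQSetup
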