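import Cfsg.Agent.Lib.Char.Galois
import Cfsg.Agent.Lib.Char.Integral
import Cfsg.Prelude.Def_Blocks

/-!
The number of zeros of an irreducible character.
-/

set_option linter.unusedSectionVars false

namespace Cfsg.Agent.BrauerPairs

open Cfsg Cfsg.Agent.Char Cfsg.Agent.CharGalois

universe u

variable {G : Type u} [Group G] [Fintype G]

theorem zero_count [DecidableEq G] {χ : G → ℂ} (hχ : IsIrrCharacter G χ) :
    (charDegree χ ^ 2 - 1) *
        (Finset.univ.filter (fun g : G => ‖χ g‖ = (charDegree χ : ℝ))).card ≤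
      (Finset.univ.filter (fun g : G => χ g = 0)).card ∧
    ((∀ g : G, ‖χ g‖ = 0 ∨ ‖χ g‖ = 1 ∨ ‖χ g‖ = (charDegree χ : ℝ)) →
      (charDegree χ ^ 2 - 1) *
        (Finset.univ.filter (fun g : G => ‖χ g‖ = (charDegree χ : ℝ))).card =
      (Finset.univ.filter (fun g : G => χ g = 0)).card) := by
  classical
  obtain ⟨n, ρ, hρ, hc⟩ := hχ
  haveI := hρ
  have hirr : IsIrrCharacter G χ := ⟨n, ρ, hρ, hc⟩
  have h1 : χ 1 = (n : ℂ) := by simp [← hc, Representation.char_one]
  have hd : charDegree χ = n := by simp [charDegree, h1]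
  rw [hd]
  have hn : 0 < n := Nat.pos_of_ne_zero fun h => IsIrrCharacter.one_ne_zero hirr (by rw [h1, h, Nat.cast_zero])
  set S := Finset.univ.filter (fun g : G => ‖χ g‖ = (n : ℝ)) with hS
  set Z := Finset.univ.filter (fun g : G => χ g = 0) with hZ
  set T := Finset.univ.filter (fun g : G => χ g ≠ 0 ∧ ‖χ g‖ ≠ (n : ℝ)) with hT
  have hdis : Disjoint S Z := Finset.disjoint_left.2 fun g h1 h2 => by
    have := (Finset.mem_filter.1 h1).2
    rw [(Finset.mem_filter.1 h2).2, norm_zero] at this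
    exact hn.ne' (by exact_mod_cast this.symm)
  have hdis2 : Disjoint (S ∪ Z) T := Finset.disjoint_left.2 fun g h1 h2 => by
    obtain ⟨-, h3, h4⟩ := Finset.mem_filter.1 h2
    rcases Finset.mem_union.1 h1 with h | h
    · exact h4 (Finset.mem_filter.1 h).2
    · exact h3 (Finset.mem_filter.1 h).2
  have hall : S ∪ Z ∪ T = Finset.univ := Finset.eq_univ_iff_forall.2 fun g => by
    simp only [S, Z, T, Finset.mem_union, Finset.mem_filter, Finset.mem_univ, true_and]
    tauto
  have hcard : S.card + Z.card + T.card = Nat.card G := by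
    rw [← Finset.card_union_of_disjoint hdis, ← Finset.card_union_of_disjoint hdis2, hall,
      Finset.card_univ, Nat.card_eq_fintype_card]
  have hsum : (n : ℝ) ^ 2 * S.card + ∑ g ∈ T, ‖χ g‖ ^ 2 = Nat.card G := by
    have h := classInner_self_eq χ
    rw [classInner_self_irr hirr] at h
    have h' : (1 : ℝ) = (Nat.card G : ℝ)⁻¹ * ∑ g : G, ‖χ g‖ ^ 2 := by exact_mod_cast h
    have hne : (Nat.card G : ℝ) ≠ 0 := Nat.cast_ne_zero.2 Nat.card_pos.ne'
    field_simp at h'
    rw [h', ← hall, Finset.sum_union hdis2, Finset.sum_union hdis,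
      Finset.sum_eq_zero (s := Z) (fun g hg => by rw [(Finset.mem_filter.1 hg).2, norm_zero]; ring),
      add_zero, Finset.sum_congr rfl (s₁ := S) fun g hg => by rw [(Finset.mem_filter.1 hg).2],
      Finset.sum_const, nsmul_eq_mul, mul_comm]
  have hstable : ∀ g ∈ T, ∀ k : ℕ, k.Coprime (Nat.card G) → g ^ k ∈ T := by
    intro g hg k hk
    obtain ⟨-, h3, h4⟩ := Finset.mem_filter.1 hg
    obtain ⟨σ, hσ⟩ := exists_galoisAut (Nat.card_pos (α := G)).ne' hk
    have hmap := map_char (IsIrrCharacter.isCharacter hirr) σ.toRingHom hσ g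
    simp only [RingEquiv.toRingHom_eq_coe, RingEquiv.coe_toRingHom] at hmap
    refine Finset.mem_filter.2 ⟨Finset.mem_univ _, fun h => h3 ?_, fun h => h4 ?_⟩
    · rw [← hmap] at h
      exact (map_eq_zero σ).1 h
    · obtain ⟨i, hi⟩ := exists_pow_eq_self_of_coprime (n := k) (x := g)
        (hk.coprime_dvd_right (orderOf_dvd_natCard g))
      have hnd : (n : ℝ) = (Module.finrank ℂ (Fin n → ℂ) : ℝ) := by simp
      rw [← hc, hnd] at h ⊢
      obtain ⟨ω, hω⟩ := (norm_char_eq_iff ρ _).1 h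
      refine (norm_char_eq_iff ρ _).2 ⟨ω ^ i, ?_⟩
      conv_lhs => rw [← hi]
      rw [map_pow, hω, smul_pow, ← Module.End.one_eq_id, one_pow]
  have hle := card_le_sum_normSq_char (IsIrrCharacter.isCharacter hirr) T hstable
    fun g hg => (Finset.mem_filter.1 hg).2.1
  have hn2 : 1 ≤ n ^ 2 := Nat.one_le_pow _ _ hn
  refine ⟨?_, fun hvals => ?_⟩
  · have : n ^ 2 * S.card + T.card ≤ Nat.card G := by
      have : ((n ^ 2 * S.card + T.card : ℕ) : ℝ) ≤ (Nat.card G : ℝ) := by push_cast; linarith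
      exact_mod_cast this
    rw [Nat.sub_mul, one_mul]
    omega
  · have h5 : ∑ g ∈ T, ‖χ g‖ ^ 2 = (T.card : ℝ) := by
      rw [Finset.sum_congr rfl fun g hg => by
        obtain ⟨-, h3, h4⟩ := Finset.mem_filter.1 hg
        rcases hvals g with h | h | h
        · exact absurd (norm_eq_zero.1 h) h3
        · rw [h, one_pow]
        · exact absurd (hd ▸ h) h4, Finset.sum_const, nsmul_eq_mul, mul_one]
    have : n ^ 2 * S.card + T.card = Nat.card G := by
      have : ((n ^ 2 * S.card + T.card : ℕ) : ℝ) = (Nat.card G : ℝ) := by push_cast; linarith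
      exact_mod_cast this
    rw [Nat.sub_mul, one_mul]
    omega

end Cfsg.Agent.BrauerPairs
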